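import Groth.Agent.S9496
import Groth.Agent.Lib.Lead.QCohLocal
import Groth.Agent.Lib.Lead.PullbackAff4

/-!
# Kernels and cokernels of morphisms of quasi-coherent modules are quasi-coherent

* `preservesFiniteLimits_restrictFunctor`: restriction along an open immersion is left exact.
* `isQuasicoherent_restrict`: restriction of a quasi-coherent module is quasi-coherent.
* `isQuasicoherent_kernel`, `isQuasicoherent_cokernel` on an arbitrary scheme.
-/

set_option autoImplicit false
set_option linter.style.haveILetI false
universe u

open AlgebraicGeometry CategoryTheory Opposite TopologicalSpace Limits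

namespace Groth.Agent.Lib.Helper21.QCohKernel

set_option backward.isDefEq.respectTransparency.types false

section Restrict

variable {X Y : Scheme.{u}} (f : X ⟶ Y) [IsOpenImmersion f]

/-- Restriction commutes with the forgetful functors to presheaves of abelian groups. -/
noncomputable def restrictCompToPresheaf :
    Scheme.Modules.restrictFunctor f ⋙ Scheme.Modules.toPresheaf X ≅
      Scheme.Modules.toPresheaf Y ⋙ (Functor.whiskeringLeft _ _ _).obj f.opensFunctor.op :=
  NatIso.ofComponents (fun M => Iso.refl _) (fun φ => by
    ext U
    rfl)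

theorem preservesFiniteLimits_toPresheaf (Y : Scheme.{u}) :
    PreservesFiniteLimits (Scheme.Modules.toPresheaf Y) :=
  PreservesLimitsOfSize.preservesFiniteLimits _

theorem preservesFiniteLimits_whiskeringLeft :
    PreservesFiniteLimits ((Functor.whiskeringLeft _ _ Ab.{u}).obj f.opensFunctor.op) := by
  constructor
  intro J _ _
  infer_instance

theorem reflectsFiniteLimits_toPresheaf (X : Scheme.{u}) :
    ReflectsFiniteLimits (Scheme.Modules.toPresheaf X) := by
  constructor
  intro J _ _
  exact reflectsLimitsOfShape_of_reflectsIsomorphisms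

instance preservesFiniteLimits_restrictFunctor :
    PreservesFiniteLimits (Scheme.Modules.restrictFunctor f) := by
  have := preservesFiniteLimits_toPresheaf Y
  have := preservesFiniteLimits_whiskeringLeft f
  have := reflectsFiniteLimits_toPresheaf X
  have : PreservesFiniteLimits (Scheme.Modules.toPresheaf Y ⋙
      (Functor.whiskeringLeft _ _ Ab.{u}).obj f.opensFunctor.op) := comp_preservesFiniteLimits _ _
  have : PreservesFiniteLimits
      (Scheme.Modules.restrictFunctor f ⋙ Scheme.Modules.toPresheaf X) :=
    preservesFiniteLimits_of_natIso (restrictCompToPresheaf f).symm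
  exact preservesFiniteLimits_of_reflects_of_preserves _ (Scheme.Modules.toPresheaf X)

instance preservesFiniteColimits_restrictFunctor :
    PreservesFiniteColimits (Scheme.Modules.restrictFunctor f) := by
  have : PreservesColimitsOfSize.{0, 0} (Scheme.Modules.restrictFunctor f) :=
    (Scheme.Modules.restrictAdjunction f).leftAdjoint_preservesColimits
  exact PreservesColimitsOfSize.preservesFiniteColimits _

open Groth.Agent.Lib.Lead.PullbackAff in
instance isQuasicoherent_restrict (M : Y.Modules) [M.IsQuasicoherent] :
    (M.restrict f).IsQuasicoherent :=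
  isQuasicoherent_of_iso ((Scheme.Modules.restrictFunctorIsoPullback f).app M).symm

end Restrict

section Kernel

variable {X : Scheme.{u}} {M N : X.Modules} (φ : M ⟶ N)

open Groth.Agent.Lib.Lead.PullbackAff Groth.Agent.Lib.Lead.QCohLocal

theorem isQuasicoherent_kernel [M.IsQuasicoherent] [N.IsQuasicoherent] :
    (kernel φ).IsQuasicoherent := by
  apply isQuasicoherent_of_forall_affine
  intro x
  obtain ⟨_, ⟨U, hU, rfl⟩, hxU, -⟩ :=
    X.isBasis_affineOpens.exists_subset_of_mem_open (Set.mem_univ x) isOpen_univ
  refine ⟨U, hU, hxU, ?_⟩
  let r := Scheme.Modules.restrictFunctor hU.fromSpec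
  have e : r.obj (kernel φ) ≅ kernel (r.map φ) := PreservesKernel.iso r φ
  have hq : (kernel (r.map φ)).IsQuasicoherent :=
    Groth.Agent.S9496.isQuasicoherent_kernel (R := Γ(X, U)) (r.map φ)
  exact isQuasicoherent_of_iso e.symm

theorem isQuasicoherent_cokernel [M.IsQuasicoherent] [N.IsQuasicoherent] :
    (cokernel φ).IsQuasicoherent := by
  apply isQuasicoherent_of_forall_affine
  intro x
  obtain ⟨_, ⟨U, hU, rfl⟩, hxU, -⟩ :=
    X.isBasis_affineOpens.exists_subset_of_mem_open (Set.mem_univ x) isOpen_univ
  refine ⟨U, hU, hxU, ?_⟩
  let r := Scheme.Modules.restrictFunctor hU.fromSpec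
  have e : r.obj (cokernel φ) ≅ cokernel (r.map φ) := PreservesCokernel.iso r φ
  have hq : (cokernel (r.map φ)).IsQuasicoherent :=
    Groth.Agent.S9496.isQuasicoherent_cokernel (R := Γ(X, U)) (r.map φ)
  exact isQuasicoherent_of_iso e.symm

end Kernel

end Groth.Agent.Lib.Helper21.QCohKernel
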