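import Groth.Agent.Lib.Helper55.TildeEpi
import Mathlib.AlgebraicGeometry.AffineScheme
import Mathlib.Algebra.Homology.ShortComplex.Ab
import Mathlib.CategoryTheory.Preadditive.FunctorCategory
import Mathlib.CategoryTheory.Limits.FunctorCategory.Basic
import Mathlib.Tactic

/-!
# Sections of quasi-coherent modules over affine opens: exactness
-/

set_option autoImplicit false
universe u

open AlgebraicGeometry CategoryTheory Opposite TopologicalSpace Limits

namespace Groth.Agent.Lib.Helper21.QCohSections

set_option backward.isDefEq.respectTransparency.types false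

open Groth.Agent.Lib.Helper55.TildeEpi

variable {X : Scheme.{u}}

/-- The sections functor over an open. -/
noncomputable def secF (U : X.Opens) : X.Modules ⥤ Ab.{u} :=
  Scheme.Modules.toPresheaf X ⋙ (evaluation _ _).obj (op U)

instance (U : X.Opens) : PreservesFiniteLimits (secF U) := by
  unfold secF
  have : PreservesFiniteLimits (Scheme.Modules.toPresheaf X) := inferInstance
  have : PreservesFiniteLimits ((evaluation (Opens X)ᵒᵖ Ab.{u}).obj (op U)) := inferInstance
  exact comp_preservesFiniteLimits _ _

instance (U : X.Opens) : (secF U).PreservesZeroMorphisms := by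
  apply Functor.preservesZeroMorphisms_of_preserves_terminal_object

theorem secF_map {M N : X.Modules} (φ : M ⟶ N) (U : X.Opens) : (secF U).map φ = φ.app U := rfl

/-- Sections of a short exact sequence are exact in the middle. -/
theorem sections_exact (E : ShortComplex X.Modules) (hE : E.ShortExact) (U : X.Opens) :
    Function.Exact (E.f.app U) (E.g.app U) := by
  have h : (E.map (secF U)).Exact :=
    hE.exact.map_of_mono_of_preservesKernel (secF U) hE.mono_f inferInstance
  exact (ShortComplex.ab_exact_iff_function_exact _).mp h

/-- A monomorphism of modules is injective on sections. -/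
theorem app_injective_of_mono {M N : X.Modules} (φ : M ⟶ N) [Mono φ] (U : X.Opens) :
    Function.Injective (φ.app U) := by
  have : Mono ((secF U).map φ) := inferInstance
  exact (AddCommGrpCat.mono_iff_injective _).mp this

theorem app_top_surjective_of_epi_Spec {R : CommRingCat.{u}} {M N : (Spec R).Modules}
    [M.IsQuasicoherent] [N.IsQuasicoherent] (φ : M ⟶ N) [Epi φ] :
    Function.Surjective (φ.app ⊤) := by
  have h := epi_Γ_map_of_epi φ
  rw [ModuleCat.epi_iff_surjective] at h
  exact h

theorem app_surjective_of_epi_chart {R : CommRingCat.{u}} (j : Spec R ⟶ X)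
    [IsOpenImmersion j] {M N : X.Modules} [M.IsQuasicoherent] [N.IsQuasicoherent]
    (φ : M ⟶ N) [Epi φ] (V : X.Opens) (hV : j ''ᵁ ⊤ = V) : Function.Surjective (φ.app V) := by
  subst hV
  have : Epi ((Scheme.Modules.restrictFunctor j).map φ) := inferInstance
  exact app_top_surjective_of_epi_Spec ((Scheme.Modules.restrictFunctor j).map φ)

/-- An epimorphism of quasi-coherent modules is surjective on sections over affine opens. -/
theorem app_surjective_of_epi {M N : X.Modules} [M.IsQuasicoherent]
    [N.IsQuasicoherent] (φ : M ⟶ N) [Epi φ] {U : X.Opens} (hU : IsAffineOpen U) :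
    Function.Surjective (φ.app U) :=
  app_surjective_of_epi_chart hU.fromSpec φ U
    (hU.fromSpec.image_top_eq_opensRange.trans hU.opensRange_fromSpec)

/-- The map on sections as a linear map. -/
noncomputable def appL {M N : X.Modules} (φ : M ⟶ N) (U : X.Opens) :
    Γ(M, U) →ₗ[Γ(X, U)] Γ(N, U) where
  toFun x := φ.app U x
  map_add' a b := map_add _ a b
  map_smul' r x := Scheme.Modules.Hom.app_smul φ r x

@[simp] theorem appL_apply {M N : X.Modules} (φ : M ⟶ N) (U : X.Opens) (x : Γ(M, U)) :
    appL φ U x = φ.app U x := rfl

end Groth.Agent.Lib.Helper21.QCohSections
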