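import Groth.Agent.Lib.Lead.CohAff4
import Groth.Agent.Lib.Helper21.QCohSections
import Mathlib.AlgebraicGeometry.Noetherian

/-!
# Coherent modules on locally Noetherian schemes
-/

set_option autoImplicit false
set_option linter.style.haveILetI false
universe u

open AlgebraicGeometry CategoryTheory Opposite TopologicalSpace Limits

namespace Groth.Agent.Lib.Helper21.CohNoeth

open Groth.Agent.Lib.Lead.CohAff Groth.Agent.Lib.Helper21.QCohSections

variable {X : Scheme.{u}}

/-- On a locally Noetherian scheme, a quasi-coherent submodule of a quasi-coherent module of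
finite type is of finite type. -/
theorem isFiniteType_of_mono [IsLocallyNoetherian X] {M N : X.Modules} (i : N ⟶ M) [Mono i]
    [M.IsQuasicoherent] [N.IsQuasicoherent]
    (hM : SheafOfModules.IsFiniteType (R := X.ringCatSheaf) M) :
    SheafOfModules.IsFiniteType (R := X.ringCatSheaf) N := by
  rw [isFiniteType_iff_finite_sections]
  intro U hU
  haveI : IsNoetherianRing Γ(X, U) := IsLocallyNoetherian.component_noetherian ⟨U, hU⟩
  haveI : Module.Finite Γ(X, U) Γ(M, U) := finite_sections_of_isFiniteType M hM hU
  haveI : IsNoetherian Γ(X, U) Γ(M, U) := isNoetherian_of_isNoetherianRing_of_finite _ _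
  exact Module.Finite.of_injective (appL i U) (app_injective_of_mono i U)

/-- A quasi-coherent quotient of a quasi-coherent module of finite type is of finite type. -/
theorem isFiniteType_of_epi {M N : X.Modules} (p : M ⟶ N) [Epi p]
    [M.IsQuasicoherent] [N.IsQuasicoherent]
    (hM : SheafOfModules.IsFiniteType (R := X.ringCatSheaf) M) :
    SheafOfModules.IsFiniteType (R := X.ringCatSheaf) N := by
  rw [isFiniteType_iff_finite_sections]
  intro U hU
  haveI : Module.Finite Γ(X, U) Γ(M, U) := finite_sections_of_isFiniteType M hM hU
  exact Module.Finite.of_surjective (appL p U) (app_surjective_of_epi p hU)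

end Groth.Agent.Lib.Helper21.CohNoeth
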