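import Groth.Agent.Lib.Helper21.GraphClosure
import Groth.Agent.Lib.Lead.PullbackAff2
import Groth.Agent.Lib.Lead.QCohAff4

/-!
# Spreading out a linear map of stalks of coherent modules (helper21)

`exists_spread`: for coherent `A`, `B` on a locally Noetherian scheme and an `O_{X,x}`-linear map
`a : A_x → B_x` there is a coherent `H` with jointly monic `p₁ : H ⟶ A`, `p₂ : H ⟶ B`, such that `p₁`
is an isomorphism near `x` and `p₂ = c • a ∘ p₁` on stalks at `x`, with `c` a unit.
-/

set_option autoImplicit false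
set_option linter.style.haveILetI false
set_option backward.isDefEq.respectTransparency.types false
universe u
open AlgebraicGeometry CategoryTheory Opposite TopologicalSpace Limits

namespace Groth.Agent.Lib.Helper21.SpreadOut
open Scheme.Modules Groth.Agent.Lib.Lead.PullbackAff Groth.Agent.Lib.Helper21.ClImmUnit

section Spec
variable {R : CommRingCat.{u}} (M N : (Spec R).Modules) [hM : M.IsQuasicoherent]
  [hN : N.IsQuasicoherent]

/-- The morphism of quasi-coherent modules on `Spec R` with prescribed map on global sections. -/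
noncomputable def homOfΓ (φ : moduleSpecΓFunctor.obj M ⟶ moduleSpecΓFunctor.obj N) : M ⟶ N :=
  ((tildeEquiv (R := R)).fullyFaithfulInverse.preimage
    (X := ⟨M, hM⟩) (Y := ⟨N, hN⟩) φ).hom

lemma Γ_homOfΓ (φ : moduleSpecΓFunctor.obj M ⟶ moduleSpecΓFunctor.obj N) :
    moduleSpecΓFunctor.map (homOfΓ M N φ) = φ :=
  (tildeEquiv (R := R)).fullyFaithfulInverse.map_preimage (X := ⟨M, hM⟩) (Y := ⟨N, hN⟩) φ

lemma homOfΓ_app_top (φ : moduleSpecΓFunctor.obj M ⟶ moduleSpecΓFunctor.obj N)
    (z : moduleSpecΓFunctor.obj M) :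
    (homOfΓ M N φ).app ⊤ z = φ.hom z := by
  have h := Γ_homOfΓ M N φ
  exact congr(($h).hom z)

end Spec

section Affine

variable {X : Scheme.{u}} {U : X.Opens} (hU : IsAffineOpen U) (A B : X.Modules)
  [A.IsQuasicoherent] [B.IsQuasicoherent] (φ : Γ(A, U) →ₗ[Γ(X, U)] Γ(B, U))

/-- The map on global sections over `Spec Γ(X, U)` induced by `φ`. -/
noncomputable def φΓ : moduleSpecΓFunctor.obj (A.restrict hU.fromSpec) ⟶
    moduleSpecΓFunctor.obj (B.restrict hU.fromSpec) :=
  let f : (moduleSpecΓFunctor.obj (A.restrict hU.fromSpec) : Type u) →ₗ[Γ(X, U)]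
      (moduleSpecΓFunctor.obj (B.restrict hU.fromSpec) : Type u) :=
    (secEquiv hU B).symm.toLinearMap ∘ₗ φ ∘ₗ (secEquiv hU A).toLinearMap
  ModuleCat.ofHom (X := (moduleSpecΓFunctor.obj (A.restrict hU.fromSpec) : Type u))
    (Y := (moduleSpecΓFunctor.obj (B.restrict hU.fromSpec) : Type u)) f

/-- The morphism `A|_U ⟶ B|_U` (over `Spec Γ(X, U)`) induced by `φ`. -/
noncomputable def αOf : A.restrict hU.fromSpec ⟶ B.restrict hU.fromSpec :=
  homOfΓ _ _ (φΓ hU A B φ)

lemma αOf_app_top (z : moduleSpecΓFunctor.obj (A.restrict hU.fromSpec)) :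
    (αOf hU A B φ).app ⊤ z = (secEquiv hU B).symm (φ (secEquiv hU A z)) :=
  homOfΓ_app_top _ _ _ z

end Affine
end Groth.Agent.Lib.Helper21.SpreadOut

namespace Groth.Agent.Lib.Helper21.SpreadOut
open Scheme.Modules Groth.Agent.Lib.Lead.PullbackAff Groth.Agent.Lib.Helper21.ClImmUnit
  Groth.Agent.Lib.Lead.QCohAff

section Affine2

variable {X : Scheme.{u}} {U : X.Opens} (hU : IsAffineOpen U) (A B : X.Modules)
  [A.IsQuasicoherent] [B.IsQuasicoherent] (φ : Γ(A, U) →ₗ[Γ(X, U)] Γ(B, U))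

lemma restrict_presheaf_map {Y : Scheme.{u}} (j : Y ⟶ X) [IsOpenImmersion j] (F : X.Modules)
    {W W' : Y.Opens} (i : W' ⟶ W) (t : Γ(F.restrict j, W)) :
    (F.restrict j).presheaf.map i.op t = F.presheaf.map (j.opensFunctor.map i).op t := rfl

lemma αOf_app_preimage (m : Γ(A, U)) :
    (αOf hU A B φ).app (hU.fromSpec ⁻¹ᵁ U)
      (A.presheaf.map (homOfLE (hU.fromSpec.image_preimage_le U)).op m) =
    B.presheaf.map (homOfLE (hU.fromSpec.image_preimage_le U)).op (φ m) := by
  have h1 := app_naturality_apply (αOf hU A B φ)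
    (homOfLE (le_top : hU.fromSpec ⁻¹ᵁ U ≤ ⊤)) ((secEquiv hU A).symm m)
  rw [αOf_app_top, LinearEquiv.apply_symm_apply] at h1
  rw [restrict_presheaf_map, restrict_presheaf_map] at h1
  have e1 : A.presheaf.map (hU.fromSpec.opensFunctor.map
      (homOfLE (le_top : hU.fromSpec ⁻¹ᵁ U ≤ ⊤))).op ((secEquiv hU A).symm m) =
      A.presheaf.map (homOfLE (hU.fromSpec.image_preimage_le U)).op m := by
    change A.presheaf.map _ (A.presheaf.map (homOfLE (fromSpec_image_top hU).le).op m) = _
    rw [← ConcreteCategory.comp_apply, ← Functor.map_comp]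
    rfl
  have e2 : B.presheaf.map (hU.fromSpec.opensFunctor.map
      (homOfLE (le_top : hU.fromSpec ⁻¹ᵁ U ≤ ⊤))).op ((secEquiv hU B).symm (φ m)) =
      B.presheaf.map (homOfLE (hU.fromSpec.image_preimage_le U)).op (φ m) := by
    change B.presheaf.map _ (B.presheaf.map (homOfLE (fromSpec_image_top hU).le).op (φ m)) = _
    rw [← ConcreteCategory.comp_apply, ← Functor.map_comp]
    rfl
  rw [e1, e2] at h1
  exact h1

end Affine2
end Groth.Agent.Lib.Helper21.SpreadOut

namespace Groth.Agent.Lib.Helper21.SpreadOut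
open Scheme.Modules Groth.Agent.Lib.Lead.PullbackAff Groth.Agent.Lib.Helper21.ClImmUnit
  Groth.Agent.Lib.Lead.QCohAff Groth.Agent.Lib.Helper21.GraphClosure

section Affine3

variable {X : Scheme.{u}} {U : X.Opens} (hU : IsAffineOpen U) (A B : X.Modules)
  [A.IsQuasicoherent] [B.IsQuasicoherent] (φ : Γ(A, U) →ₗ[Γ(X, U)] Γ(B, U))

/-- The graph closure of the morphism `A|_U ⟶ B|_U` induced by `φ`. -/
noncomputable abbrev HOf : X.Modules := H hU.fromSpec A B (αOf hU A B φ)
noncomputable abbrev q₁ : HOf hU A B φ ⟶ A := p₁ hU.fromSpec A B (αOf hU A B φ)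
noncomputable abbrev q₂ : HOf hU A B φ ⟶ B := p₂ hU.fromSpec A B (αOf hU A B φ)

lemma q₂_app_eq (h : Γ(HOf hU A B φ, U)) :
    (q₂ hU A B φ).app U h = φ ((q₁ hU A B φ).app U h) := by
  have hc := condition_app hU.fromSpec A B (αOf hU A B φ) U h
  have e1 : (u hU.fromSpec A B (αOf hU A B φ)).app U ((q₁ hU A B φ).app U h) =
      (αOf hU A B φ).app (hU.fromSpec ⁻¹ᵁ U)
        (A.presheaf.map (homOfLE (hU.fromSpec.image_preimage_le U)).op
          ((q₁ hU A B φ).app U h)) := by
    rw [u, Hom.comp_app, restrictAdjunction_unit_app_app]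
    rfl
  have e2 : (ηB hU.fromSpec B).app U ((q₂ hU A B φ).app U h) =
      B.presheaf.map (homOfLE (hU.fromSpec.image_preimage_le U)).op ((q₂ hU A B φ).app U h) := by
    rw [restrictAdjunction_unit_app_app]
    rfl
  rw [e1, e2, αOf_app_preimage] at hc
  have e : hU.fromSpec ''ᵁ (hU.fromSpec ⁻¹ᵁ U) = U := by
    rw [Scheme.Hom.image_preimage_eq_opensRange_inf, hU.opensRange_fromSpec, inf_idem]
  have hiso := isIso_presheaf_map_of_eq B e (homOfLE (hU.fromSpec.image_preimage_le U))
  have hinj := ((ConcreteCategory.isIso_iff_bijective _).mp hiso).1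
  exact (hinj hc).symm

end Affine3
end Groth.Agent.Lib.Helper21.SpreadOut

namespace Groth.Agent.Lib.Helper21.SpreadOut
open Scheme.Modules Groth.Agent.Lib.Lead.PullbackAff Groth.Agent.Lib.Helper21.ClImmUnit
  Groth.Agent.Lib.Lead.QCohAff Groth.Agent.Lib.Helper21.GraphClosure
  Groth.Agent.Lib.Helper78.ModStalk

section Stalk

variable {X : Scheme.{u}}

theorem stalkMap_surjective_of_app_surjective_of_le {M N : X.Modules} (φ : M ⟶ N) (V : X.Opens)
    (h : ∀ W : X.Opens, W ≤ V → Function.Surjective (φ.app W)) (x : X) (hx : x ∈ V) :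
    Function.Surjective (stalkMap φ x) := by
  intro s
  obtain ⟨W, hxW, t, rfl⟩ := N.presheaf.exists_germ_eq (x := x) s
  obtain ⟨t', ht'⟩ := h (W ⊓ V) inf_le_right
    (N.presheaf.map (homOfLE (inf_le_left : W ⊓ V ≤ W)).op t)
  refine ⟨M.presheaf.germ (W ⊓ V) x ⟨hxW, hx⟩ t', ?_⟩
  rw [stalkMap_germ, ht']
  exact TopCat.Presheaf.germ_res_apply N.presheaf _ x _ t

variable {U : X.Opens} (hU : IsAffineOpen U) (A B : X.Modules)
  [A.IsQuasicoherent] [B.IsQuasicoherent] (φ : Γ(A, U) →ₗ[Γ(X, U)] Γ(B, U))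

theorem stalkMap_q₁_bijective (x : X) (hx : x ∈ U) :
    Function.Bijective (stalkMap (q₁ hU A B φ) x) := by
  have key : ∀ W : X.Opens, W ≤ U → Function.Bijective ((q₁ hU A B φ).app W) := by
    intro W hW
    have := isIso_p₁_app hU.fromSpec A B (αOf hU A B φ) W (by rwa [hU.opensRange_fromSpec])
    exact (ConcreteCategory.isIso_iff_bijective _).mp this
  exact ⟨Groth.Agent.Lib.Helper21.CohSplit.stalkMap_injective_of_app_injective_of_le _ U
      (fun W hW => (key W hW).1) x hx,
    stalkMap_surjective_of_app_surjective_of_le _ U (fun W hW => (key W hW).2) x hx⟩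

theorem stalkMap_q₂_eq [IsLocallyNoetherian X] (x : X) (hx : x ∈ U)
    (a : A.presheaf.stalk x →ₗ[X.presheaf.stalk x] B.presheaf.stalk x) (c : X.presheaf.stalk x)
    (hc : ∀ m : Γ(A, U), B.presheaf.germ U x hx (φ m) = c • a (A.presheaf.germ U x hx m))
    (h : (HOf hU A B φ).presheaf.stalk x) :
    stalkMap (q₂ hU A B φ) x h = c • a (stalkMap (q₁ hU A B φ) x h) := by
  obtain ⟨r, h', hxr, hrh⟩ := exists_germ_smul_eq_germ (HOf hU A B φ) hU x hx h
  have hu : IsUnit (X.presheaf.germ U x hx r) := isUnit_germ_of_mem_basicOpen r x hx hxr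
  apply (hu.smul_left_cancel).1
  have e1 : X.presheaf.germ U x hx r • stalkMap (q₂ hU A B φ) x h =
      c • a (A.presheaf.germ U x hx ((q₁ hU A B φ).app U h')) := by
    rw [← LinearMap.map_smul, hrh, stalkMap_germ, q₂_app_eq, hc]
  have e2 : X.presheaf.germ U x hx r • (c • a (stalkMap (q₁ hU A B φ) x h)) =
      c • a (A.presheaf.germ U x hx ((q₁ hU A B φ).app U h')) := by
    have e3 : X.presheaf.germ U x hx r • stalkMap (q₁ hU A B φ) x h =
        A.presheaf.germ U x hx ((q₁ hU A B φ).app U h') := by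
      rw [← LinearMap.map_smul, hrh, stalkMap_germ]
    rw [smul_comm, ← e3, LinearMap.map_smul]
  rw [e1, e2]

end Stalk
end Groth.Agent.Lib.Helper21.SpreadOut

namespace Groth.Agent.Lib.Helper21.SpreadOut
open Scheme.Modules Groth.Agent.Lib.Lead.PullbackAff Groth.Agent.Lib.Helper21.ClImmUnit
  Groth.Agent.Lib.Lead.QCohAff Groth.Agent.Lib.Helper21.GraphClosure
  Groth.Agent.Lib.Helper78.ModStalk

section Main

variable {X : Scheme.{u}} [IsLocallyNoetherian X]

/-- Clearing denominators: a linear map of stalks of coherent modules is, up to a unit, induced by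
a linear map of sections over any affine open neighbourhood. -/
theorem exists_linearMap_germ {U : X.Opens} (hU : IsAffineOpen U) (A B : X.Modules)
    [A.IsQuasicoherent] [B.IsQuasicoherent]
    (hA : SheafOfModules.IsFiniteType (R := X.ringCatSheaf) A) (x : X) (hx : x ∈ U)
    (a : A.presheaf.stalk x →ₗ[X.presheaf.stalk x] B.presheaf.stalk x) :
    ∃ (φ : Γ(A, U) →ₗ[Γ(X, U)] Γ(B, U)) (c : X.presheaf.stalk x), IsUnit c ∧
      ∀ m : Γ(A, U), B.presheaf.germ U x hx (φ m) = c • a (A.presheaf.germ U x hx m) := by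
  haveI : IsNoetherianRing Γ(X, U) := IsLocallyNoetherian.component_noetherian ⟨U, hU⟩
  haveI : Module.Finite Γ(X, U) Γ(A, U) :=
    Groth.Agent.Lib.Lead.CohAff.finite_sections_of_isFiniteType A hA hU
  haveI : Module.FinitePresentation Γ(X, U) Γ(A, U) := Module.finitePresentation_of_finite _ _
  let g : Γ(A, U) →ₗ[Γ(X, U)] StalkOver B U x hx :=
    { toFun := fun m => StalkOver.ofStalk hx (a (A.presheaf.germ U x hx m))
      map_add' := fun m m' => by
        show a (A.presheaf.germ U x hx (m + m')) = a _ + a _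
        rw [map_add, map_add]
      map_smul' := fun r m => by
        show a (A.presheaf.germ U x hx (r • m)) = X.presheaf.germ U x hx r • a _
        rw [Groth.Agent.Lib.Lead.QCohAff.germ_smul, LinearMap.map_smul] }
  obtain ⟨φ, s, hφ⟩ := Module.FinitePresentation.exists_lift_of_isLocalizedModule
    (hU.primeIdealOf ⟨x, hx⟩).asIdeal.primeCompl (germL B U x hx) g
  refine ⟨φ, X.presheaf.germ U x hx s.1, ?_, fun m => ?_⟩
  · exact isUnit_germ_of_mem_basicOpen s.1 x hx
      ((mem_basicOpen_iff_notMem_primeIdealOf hU x hx s.1).2 s.2)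
  · exact congr($hφ m)

end Main
end Groth.Agent.Lib.Helper21.SpreadOut

namespace Groth.Agent.Lib.Helper21.SpreadOut
open Scheme.Modules Groth.Agent.Lib.Lead.PullbackAff Groth.Agent.Lib.Helper21.ClImmUnit
  Groth.Agent.Lib.Lead.QCohAff Groth.Agent.Lib.Helper21.GraphClosure
  Groth.Agent.Lib.Helper78.ModStalk

section Main2

variable {X : Scheme.{u}} [IsLocallyNoetherian X]

/-- **Spreading out a map of stalks.** For coherent `A`, `B` on a locally Noetherian scheme and a
linear map `a : A_x → B_x`, there are a coherent `H` and `p₁ : H ⟶ A`, `p₂ : H ⟶ B`, jointly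
monic, such that `p₁` is bijective on stalks at `x` (indeed on sections over small opens around
`x`), and on stalks at `x` one has `p₂ = c • a ∘ p₁` for a unit `c`. -/
theorem exists_spread (A B : X.Modules) [A.IsQuasicoherent] [B.IsQuasicoherent]
    (hA : SheafOfModules.IsFiniteType (R := X.ringCatSheaf) A)
    (hB : SheafOfModules.IsFiniteType (R := X.ringCatSheaf) B) (x : X)
    (a : A.presheaf.stalk x →ₗ[X.presheaf.stalk x] B.presheaf.stalk x) :
    ∃ (H : X.Modules) (p₁ : H ⟶ A) (p₂ : H ⟶ B) (c : X.presheaf.stalk x),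
      H.IsQuasicoherent ∧ SheafOfModules.IsFiniteType (R := X.ringCatSheaf) H ∧ IsUnit c ∧
      Function.Bijective (stalkMap p₁ x) ∧
      (∀ h, stalkMap p₂ x h = c • a (stalkMap p₁ x h)) ∧
      (∀ (T : X.Modules) (g h : T ⟶ H), g ≫ p₁ = h ≫ p₁ → g ≫ p₂ = h ≫ p₂ → g = h) ∧
      CohB1.support H ⊆ CohB1.support A ∪ CohB1.support B ∧
      ∃ U : X.Opens, x ∈ U ∧ ∀ W : X.Opens, W ≤ U → Function.Bijective (p₁.app W) := by
  obtain ⟨_, ⟨U, hU : IsAffineOpen U, rfl⟩, hxU, -⟩ :=
    (X.isBasis_affineOpens).exists_subset_of_mem_open (Set.mem_univ x) isOpen_univ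
  obtain ⟨φ, c, hc, hφ⟩ := exists_linearMap_germ hU A B hA x hxU a
  refine ⟨HOf hU A B φ, q₁ hU A B φ, q₂ hU A B φ, c, inferInstance,
    isFiniteType_H _ _ _ _ hA hB, hc, stalkMap_q₁_bijective hU A B φ x hxU,
    stalkMap_q₂_eq hU A B φ x hxU a c hφ, fun T g h h1 h2 => hom_ext _ _ _ _ g h h1 h2, support_H_subset _ _ _ _,
    U, hxU, fun W hW => ?_⟩
  have := isIso_p₁_app hU.fromSpec A B (αOf hU A B φ) W (by rwa [hU.opensRange_fromSpec])
  exact (ConcreteCategory.isIso_iff_bijective _).mp this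

end Main2
end Groth.Agent.Lib.Helper21.SpreadOut
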