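import Groth.Agent.Lib.Helper21.CohSupport
import Groth.Agent.Lib.Helper21.QCohKernel
import Groth.Agent.Lib.Helper21.CohNoeth

/-!
# Stalk-local properties of coherent modules spread to neighbourhoods
-/

set_option autoImplicit false
set_option linter.style.haveILetI false
universe u

open AlgebraicGeometry CategoryTheory Opposite TopologicalSpace Limits

namespace Groth.Agent.Lib.Helper21.CohStalkLocal

set_option backward.isDefEq.respectTransparency.types false

open Groth.Agent.Lib.Helper21.CohSupport Groth.Agent.Lib.Helper78.ModStalk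

variable {X : Scheme.{u}}

/-- A quasi-coherent module of finite type with zero stalk at `x` has no nonzero sections over
the opens contained in a suitable neighbourhood of `x`. -/
theorem exists_open_sections_subsingleton (F : X.Modules) [F.IsQuasicoherent]
    (hft : SheafOfModules.IsFiniteType (R := X.ringCatSheaf) F) (x : X)
    (hs : Subsingleton (F.presheaf.stalk x)) :
    ∃ U : X.Opens, x ∈ U ∧ ∀ W : X.Opens, W ≤ U → Subsingleton Γ(F, W) := by
  obtain ⟨_, ⟨U, hU, rfl⟩, hxU, -⟩ :=
    X.isBasis_affineOpens.exists_subset_of_mem_open (Set.mem_univ x) isOpen_univ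
  have hfin := Groth.Agent.Lib.Helper21.QCohFinite.finite_sections_of_isFiniteType F hft hU
  obtain ⟨a, hxa, hsub⟩ := exists_basicOpen_subsingleton F hU hfin x hxU hs
  refine ⟨X.basicOpen a, hxa, fun W hW => ⟨fun s t => ?_⟩⟩
  refine TopCat.Presheaf.section_ext ⟨F.presheaf, F.isSheaf⟩ W s t (fun y hy => ?_)
  haveI := subsingleton_stalk_of_subsingleton_sections F (hU.basicOpen a) hsub y (hW hy)
  exact Subsingleton.elim _ _

/-- A module all of whose sections over opens inside `U` vanish restricts to zero on `U`. -/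
theorem isZero_restrict_of_sections_subsingleton (F : X.Modules) (U : X.Opens)
    (h : ∀ W : X.Opens, W ≤ U → Subsingleton Γ(F, W)) :
    IsZero ((Scheme.Modules.restrictFunctor U.ι).obj F) := by
  rw [IsZero.iff_id_eq_zero]
  ext W s
  haveI : Subsingleton Γ(F, U.ι ''ᵁ W) := h _ (by
    intro y hy
    obtain ⟨z, -, rfl⟩ := hy
    exact z.2)
  exact Subsingleton.elim (α := Γ(F, U.ι ''ᵁ W)) _ _

theorem isZero_restrict_of_le (F : X.Modules) {U U' : X.Opens} (hUU' : U' ≤ U)
    (h : ∀ W : X.Opens, W ≤ U → Subsingleton Γ(F, W)) :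
    ∀ W : X.Opens, W ≤ U' → Subsingleton Γ(F, W) :=
  fun W hW => h W (hW.trans hUU')

theorem stalkMap_comp_eq_zero {A B C : X.Modules} (f : A ⟶ B) (g : B ⟶ C) (w : f ≫ g = 0)
    (x : X) (a : A.presheaf.stalk x) : stalkMap g x (stalkMap f x a) = 0 := by
  obtain ⟨W, hxW, t, rfl⟩ := A.presheaf.exists_germ_eq (x := x) a
  rw [stalkMap_germ, stalkMap_germ]
  have h0 : g.app W (f.app W t) = 0 := by
    have h1 := congrArg (fun ψ => Scheme.Modules.Hom.app ψ W) w
    simp only [Scheme.Modules.Hom.comp_app, Scheme.Modules.Hom.zero_app] at h1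
    exact congr($h1 t)
  rw [h0]
  exact map_zero _

open Groth.Agent.Lib.Helper78.ModStalkExact in
theorem stalkMap_surjective_of_epi {M N : X.Modules} (p : M ⟶ N) [Epi p] (x : X) :
    Function.Surjective (stalkMap p x) := by
  have h0 : Epi ((toSh X).map p) := inferInstance
  have h1 : Epi ((TopCat.Sheaf.forget Ab.{u} X ⋙ TopCat.Presheaf.stalkFunctor Ab.{u} x).map
      ((toSh X).map p)) := inferInstance
  exact (AddCommGrpCat.epi_iff_surjective _).mp h1

/-- If the stalk map of `φ` at `x` is injective, the stalk of the kernel vanishes. -/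
theorem subsingleton_stalk_kernel {G F : X.Modules} (φ : G ⟶ F) (x : X)
    (hinj : Function.Injective (stalkMap φ x)) :
    Subsingleton ((kernel φ).presheaf.stalk x) := by
  refine ⟨fun k k' => ?_⟩
  suffices h0 : ∀ k : (kernel φ).presheaf.stalk x, k = 0 by rw [h0 k, h0 k']
  intro k
  apply stalkMap_injective_of_mono (kernel.ι φ) x
  apply hinj
  rw [stalkMap_comp_eq_zero (kernel.ι φ) φ (kernel.condition φ), map_zero, map_zero]

/-- If the stalk map of `φ` at `x` is surjective, the stalk of the cokernel vanishes. -/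
theorem subsingleton_stalk_cokernel {G F : X.Modules} (φ : G ⟶ F) (x : X)
    (hsurj : Function.Surjective (stalkMap φ x)) :
    Subsingleton ((cokernel φ).presheaf.stalk x) := by
  refine ⟨fun c c' => ?_⟩
  suffices h0 : ∀ c : (cokernel φ).presheaf.stalk x, c = 0 by rw [h0 c, h0 c']
  intro c
  obtain ⟨f, rfl⟩ := stalkMap_surjective_of_epi (cokernel.π φ) x c
  obtain ⟨g, rfl⟩ := hsurj f
  exact stalkMap_comp_eq_zero φ (cokernel.π φ) (cokernel.condition φ) x g

section Spread

variable [IsLocallyNoetherian X] {G F : X.Modules} [G.IsQuasicoherent] [F.IsQuasicoherent]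
  (hG : SheafOfModules.IsFiniteType (R := X.ringCatSheaf) G)
  (hF : SheafOfModules.IsFiniteType (R := X.ringCatSheaf) F) (φ : G ⟶ F) (x : X)

open Groth.Agent.Lib.Helper21.QCohKernel Groth.Agent.Lib.Helper21.CohNoeth

include hG in
theorem exists_open_kernel_sections_subsingleton (hinj : Function.Injective (stalkMap φ x)) :
    ∃ U : X.Opens, x ∈ U ∧ ∀ W : X.Opens, W ≤ U → Subsingleton Γ(kernel φ, W) := by
  haveI : (kernel φ).IsQuasicoherent := isQuasicoherent_kernel φ
  exact exists_open_sections_subsingleton (kernel φ) (isFiniteType_of_mono (kernel.ι φ) hG) x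
    (subsingleton_stalk_kernel φ x hinj)

include hF in
theorem exists_open_cokernel_sections_subsingleton (hsurj : Function.Surjective (stalkMap φ x)) :
    ∃ U : X.Opens, x ∈ U ∧ ∀ W : X.Opens, W ≤ U → Subsingleton Γ(cokernel φ, W) := by
  haveI : (cokernel φ).IsQuasicoherent := isQuasicoherent_cokernel φ
  exact exists_open_sections_subsingleton (cokernel φ) (isFiniteType_of_epi (cokernel.π φ) hF) x
    (subsingleton_stalk_cokernel φ x hsurj)

theorem mono_restrict_of_kernel_sections_subsingleton (U : X.Opens)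
    (h : ∀ W : X.Opens, W ≤ U → Subsingleton Γ(kernel φ, W)) :
    Mono ((Scheme.Modules.restrictFunctor U.ι).map φ) := by
  let r := Scheme.Modules.restrictFunctor U.ι
  have e : r.obj (kernel φ) ≅ kernel (r.map φ) := PreservesKernel.iso r φ
  have hz : IsZero (kernel (r.map φ)) :=
    (isZero_restrict_of_sections_subsingleton (kernel φ) U h).of_iso e.symm
  exact Preadditive.mono_of_kernel_zero (hz.eq_of_src _ _)

theorem epi_restrict_of_cokernel_sections_subsingleton (U : X.Opens)
    (h : ∀ W : X.Opens, W ≤ U → Subsingleton Γ(cokernel φ, W)) :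
    Epi ((Scheme.Modules.restrictFunctor U.ι).map φ) := by
  let r := Scheme.Modules.restrictFunctor U.ι
  have e : r.obj (cokernel φ) ≅ cokernel (r.map φ) := PreservesCokernel.iso r φ
  have hz : IsZero (cokernel (r.map φ)) :=
    (isZero_restrict_of_sections_subsingleton (cokernel φ) U h).of_iso e.symm
  exact Preadditive.epi_of_cokernel_zero (hz.eq_of_tgt _ _)

end Spread

end Groth.Agent.Lib.Helper21.CohStalkLocal
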