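import Groth.Agent.Lib.Helper21.CohSupport
import Groth.Agent.Lib.Helper21.CohStalkLocal
import Groth.Agent.Lib.Helper21.CohNoeth
import Groth.Agent.Lib.Helper21.QCohKernel
import Groth.Agent.Lib.Helper78.ModStalkExact
import Groth.Prelude.Def_CohB1
import Mathlib.RingTheory.Length

/-!
# Lengths of stalks, kernels and cokernels of coherent modules (helper21)
-/

set_option autoImplicit false
set_option linter.style.haveILetI false
universe u
open AlgebraicGeometry CategoryTheory Opposite TopologicalSpace Limits

namespace Groth.Agent.Lib.Helper21.StalkLen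

open Groth.Agent.Lib.Helper78.ModStalk Groth.Agent.Lib.Helper78.ModStalkExact
  Groth.Agent.Lib.Helper21.CohStalkLocal

variable {X : Scheme.{u}}

theorem stalkMap_bijective_of_isIso {M N : X.Modules} (φ : M ⟶ N) [IsIso φ] (x : X) :
    Function.Bijective (stalkMap φ x) :=
  ⟨stalkMap_injective_of_mono φ x, stalkMap_surjective_of_epi φ x⟩

/-- The stalk of an isomorphism, as a linear equivalence. -/
noncomputable def stalkEquiv {M N : X.Modules} (e : M ≅ N) (x : X) :
    M.presheaf.stalk x ≃ₗ[X.presheaf.stalk x] N.presheaf.stalk x :=
  LinearEquiv.ofBijective (stalkMap e.hom x) (stalkMap_bijective_of_isIso e.hom x)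

theorem length_stalk_eq_of_iso {M N : X.Modules} (e : M ≅ N) (x : X) :
    Module.length (X.presheaf.stalk x) (M.presheaf.stalk x) =
      Module.length (X.presheaf.stalk x) (N.presheaf.stalk x) :=
  (stalkEquiv e x).length_eq

theorem support_eq_of_iso {M N : X.Modules} (e : M ≅ N) : CohB1.support M = CohB1.support N := by
  ext x
  simp only [CohB1.support, Set.mem_setOf_eq]
  exact not_congr (stalkEquiv e x).toEquiv.subsingleton_congr

/-- Length of stalks is additive in short exact sequences. -/
theorem length_stalk_shortExact (S : ShortComplex X.Modules) (hS : S.ShortExact) (x : X) :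
    Module.length (X.presheaf.stalk x) (S.X₂.presheaf.stalk x) =
      Module.length (X.presheaf.stalk x) (S.X₁.presheaf.stalk x) +
        Module.length (X.presheaf.stalk x) (S.X₃.presheaf.stalk x) :=
  Module.length_eq_add_of_exact (stalkMap S.f x) (stalkMap S.g x) (stalk_injective S hS x)
    (stalk_surjective S hS x) (stalk_function_exact S hS x)

section KerCoker

variable {M N : X.Modules} (f : M ⟶ N)

/-- `0 → ker f → M → coim f → 0`. -/
noncomputable def kerSeq : ShortComplex X.Modules :=
  ShortComplex.mk (kernel.ι f) (cokernel.π (kernel.ι f)) (cokernel.condition _)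

theorem kerSeq_shortExact : (kerSeq f).ShortExact :=
  ShortComplex.ShortExact.mk' (ShortComplex.exact_cokernel (kernel.ι f))
    (inferInstanceAs (Mono (kernel.ι f))) (inferInstanceAs (Epi (cokernel.π (kernel.ι f))))

/-- `0 → im f → N → coker f → 0`. -/
noncomputable def cokerSeq : ShortComplex X.Modules :=
  ShortComplex.mk (kernel.ι (cokernel.π f)) (cokernel.π f) (kernel.condition _)

theorem cokerSeq_shortExact : (cokerSeq f).ShortExact :=
  ShortComplex.ShortExact.mk' (ShortComplex.exact_kernel (cokernel.π f))
    (inferInstanceAs (Mono (kernel.ι (cokernel.π f)))) (inferInstanceAs (Epi (cokernel.π f)))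

/-- `coim f ≅ im f`. -/
noncomputable def coimIsoIm : (kerSeq f).X₃ ≅ (cokerSeq f).X₁ :=
  Abelian.coimageIsoImage f

/-- The Euler characteristic identity on stalks. -/
theorem length_stalk_cokernel_add (x : X) :
    Module.length (X.presheaf.stalk x) ((cokernel f).presheaf.stalk x) +
        Module.length (X.presheaf.stalk x) (M.presheaf.stalk x) =
      Module.length (X.presheaf.stalk x) (N.presheaf.stalk x) +
        Module.length (X.presheaf.stalk x) ((kernel f).presheaf.stalk x) := by
  have h1 : Module.length (X.presheaf.stalk x) (M.presheaf.stalk x) =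
      Module.length (X.presheaf.stalk x) ((kernel f).presheaf.stalk x) +
        Module.length (X.presheaf.stalk x) ((kerSeq f).X₃.presheaf.stalk x) :=
    length_stalk_shortExact _ (kerSeq_shortExact f) x
  have h2 : Module.length (X.presheaf.stalk x) (N.presheaf.stalk x) =
      Module.length (X.presheaf.stalk x) ((cokerSeq f).X₁.presheaf.stalk x) +
        Module.length (X.presheaf.stalk x) ((cokernel f).presheaf.stalk x) :=
    length_stalk_shortExact _ (cokerSeq_shortExact f) x
  have h3 := length_stalk_eq_of_iso (coimIsoIm f) x
  rw [h1, h2, h3]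
  ring

theorem support_kernel_subset : CohB1.support (kernel f) ⊆ CohB1.support M := by
  intro x hx hM
  exact hx (stalkMap_injective_of_mono (kernel.ι f) x).subsingleton

theorem support_cokernel_subset : CohB1.support (cokernel f) ⊆ CohB1.support N := by
  intro x hx hN
  exact hx (stalkMap_surjective_of_epi (cokernel.π f) x).subsingleton

theorem support_of_mono [Mono f] : CohB1.support M ⊆ CohB1.support N := by
  intro x hx hN
  exact hx (stalkMap_injective_of_mono f x).subsingleton

theorem support_of_epi [Epi f] : CohB1.support N ⊆ CohB1.support M := by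
  intro x hx hM
  exact hx (stalkMap_surjective_of_epi f x).subsingleton

end KerCoker

end Groth.Agent.Lib.Helper21.StalkLen
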