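import Mathlib.AlgebraicGeometry.Modules.Sheaf

/-!
# Base change of the unit of `pullback ⊣ pushforward` along open immersions (helper21)

Given a commutative square `j' ≫ f = f' ≫ j` with `j`, `j'` open immersions, the section of the unit
`F ⟶ f_* f^* F` over an open `U ≤ range j` with `f⁻¹ U ≤ range j'` is an isomorphism as soon as the
unit of `f'` at `F|_W` is an isomorphism on sections over `j⁻¹ U`.
-/

set_option autoImplicit false
set_option backward.isDefEq.respectTransparency.types false

universe u

open AlgebraicGeometry CategoryTheory Opposite TopologicalSpace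

namespace Groth.Agent.Lib.Helper21.ClImmUnit

open Scheme.Modules

variable {Z X W W' : Scheme.{u}} (f : Z ⟶ X) (j : W ⟶ X) (j' : W' ⟶ Z) (f' : W' ⟶ W)
  [IsOpenImmersion j] [IsOpenImmersion j'] (comm : j' ≫ f = f' ≫ j)

/-- The adjunction `restrict j ⋙ pullback f' ⊣ pushforward f' ⋙ pushforward j`. -/
noncomputable def adjA :
    restrictFunctor j ⋙ Scheme.Modules.pullback f' ⊣
      Scheme.Modules.pushforward f' ⋙ Scheme.Modules.pushforward j :=
  (restrictAdjunction j).comp (pullbackPushforwardAdjunction f')

/-- The adjunction `pullback f ⋙ restrict j' ⊣ pushforward j' ⋙ pushforward f`. -/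
noncomputable def adjB :
    Scheme.Modules.pullback f ⋙ restrictFunctor j' ⊣
      Scheme.Modules.pushforward j' ⋙ Scheme.Modules.pushforward f :=
  (pullbackPushforwardAdjunction f).comp (restrictAdjunction j')

/-- The comparison of right adjoints. -/
noncomputable def rIso :
    Scheme.Modules.pushforward j' ⋙ Scheme.Modules.pushforward f ≅
      Scheme.Modules.pushforward f' ⋙ Scheme.Modules.pushforward j :=
  pushforwardComp j' f ≪≫ pushforwardCongr comm ≪≫ (pushforwardComp f' j).symm

/-- `(f^* F)|_{W'} ≅ f'^* (F|_W)`, as an isomorphism of functors. -/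
noncomputable def lIso :
    restrictFunctor j ⋙ Scheme.Modules.pullback f' ≅
      Scheme.Modules.pullback f ⋙ restrictFunctor j' :=
  (adjA j f').leftAdjointUniq ((adjB f j').ofNatIsoRight (rIso f j j' f' comm))

lemma unit_eq (F : X.Modules) :
    (adjA j f').unit.app F ≫
      (Scheme.Modules.pushforward f' ⋙ Scheme.Modules.pushforward j).map
        ((lIso f j j' f' comm).hom.app F) =
    (adjB f j').unit.app F ≫ (rIso f j j' f' comm).hom.app _ := by
  have := Adjunction.unit_leftAdjointUniq_hom_app (adjA j f')
    ((adjB f j').ofNatIsoRight (rIso f j j' f' comm)) F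
  rw [lIso, this]
  simp

/-- Sections over `U` as a functor. -/
noncomputable def secF (U : X.Opens) : X.Modules ⥤ Ab :=
  toPresheaf X ⋙ (evaluation _ _).obj (op U)

lemma secF_map {M N : X.Modules} (φ : M ⟶ N) (U : X.Opens) : (secF U).map φ = φ.app U := rfl

lemma isIso_presheaf_map_of_eq (F : X.Modules) {U V : X.Opens} (e : U = V) (h : U ⟶ V) :
    IsIso (F.presheaf.map h.op) := by
  subst e
  have : h = 𝟙 _ := Subsingleton.elim _ _
  rw [this, op_id, F.presheaf.map_id]
  infer_instance

lemma isIso_restrictAdjunction_unit_app_app (F : X.Modules) (U : X.Opens)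
    (hU : U ≤ j.opensRange) : IsIso (((restrictAdjunction j).unit.app F).app U) := by
  rw [restrictAdjunction_unit_app_app]
  have e : j ''ᵁ (j ⁻¹ᵁ U) = U := by
    rw [Scheme.Hom.image_preimage_eq_opensRange_inf]
    exact inf_eq_right.mpr hU
  exact isIso_presheaf_map_of_eq F e _

include comm in
/-- **Base change of the unit along open immersions**: if the unit of `f'` at `F|_W` is an
isomorphism on sections over `j⁻¹ U`, then the unit of `f` at `F` is an isomorphism on sections
over `U` (for `U ≤ range j`, `f⁻¹ U ≤ range j'`). -/
lemma isIso_unit_app_of_restrict (F : X.Modules) (U : X.Opens) (hU : U ≤ j.opensRange)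
    (hU' : f ⁻¹ᵁ U ≤ j'.opensRange)
    (h : IsIso (((pullbackPushforwardAdjunction f').unit.app (F.restrict j)).app (j ⁻¹ᵁ U))) :
    IsIso (((pullbackPushforwardAdjunction f).unit.app F).app U) := by
  have key := congr((secF U).map $(unit_eq f j j' f' comm F))
  simp only [adjA, adjB, Adjunction.comp_unit_app, Functor.map_comp] at key
  have h1 : IsIso ((secF U).map ((restrictAdjunction j).unit.app F)) :=
    isIso_restrictAdjunction_unit_app_app j F U hU
  have h2 : IsIso ((secF U).map ((Scheme.Modules.pushforward f).map
      ((restrictAdjunction j').unit.app ((Scheme.Modules.pullback f).obj F)))) :=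
    isIso_restrictAdjunction_unit_app_app j' ((Scheme.Modules.pullback f).obj F) _ hU'
  have h3 : IsIso ((secF U).map ((Scheme.Modules.pushforward j).map
      ((pullbackPushforwardAdjunction f').unit.app ((restrictFunctor j).obj F)))) := h
  have h4 : IsIso (((secF U).map ((pullbackPushforwardAdjunction f).unit.app F) ≫
        (secF U).map ((Scheme.Modules.pushforward f).map
          ((restrictAdjunction j').unit.app ((Scheme.Modules.pullback f).obj F)))) ≫
      (secF U).map ((rIso f j j' f' comm).hom.app
        ((Scheme.Modules.pullback f ⋙ restrictFunctor j').obj F))) := by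
    rw [← key]
    infer_instance
  have h5 := IsIso.of_isIso_comp_right ((secF U).map ((pullbackPushforwardAdjunction f).unit.app F) ≫
        (secF U).map ((Scheme.Modules.pushforward f).map
          ((restrictAdjunction j').unit.app ((Scheme.Modules.pullback f).obj F))))
      ((secF U).map ((rIso f j j' f' comm).hom.app
        ((Scheme.Modules.pullback f ⋙ restrictFunctor j').obj F)))
  exact IsIso.of_isIso_comp_right ((secF U).map ((pullbackPushforwardAdjunction f).unit.app F))
        ((secF U).map ((Scheme.Modules.pushforward f).map
          ((restrictAdjunction j').unit.app ((Scheme.Modules.pullback f).obj F))))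

end Groth.Agent.Lib.Helper21.ClImmUnit
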