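import Groth.Agent.Lib.Lead.PullbackAff1
import Groth.Agent.Lib.Helper21.ClImmUnit1
import Mathlib.RingTheory.TensorProduct.Basic
import Mathlib.RingTheory.Ideal.Maps
import Mathlib.AlgebraicGeometry.AffineScheme
import Mathlib.Topology.Sheaves.Stalks

/-!
# The unit `N ⟶ (Spec φ)_* (Spec φ)^* N` on global sections, affine case (helper21)

For `φ : R ⟶ S` surjective and `N` quasi-coherent on `Spec R` whose global sections are killed by
`ker φ`, the unit of `pullback ⊣ pushforward` along `Spec φ` is an isomorphism on global sections.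
Also: a morphism of `O_X`-modules which is bijective on sections over affine opens is an isomorphism.
-/

set_option autoImplicit false
set_option backward.isDefEq.respectTransparency.types false
set_option linter.style.haveILetI false

universe u

open AlgebraicGeometry CategoryTheory Opposite TopologicalSpace TensorProduct

namespace Groth.Agent.Lib.Helper21.ClImmUnit

open Scheme.Modules Groth.Agent.Lib.Lead.PullbackAff

/-- For a surjective ring map `f : R → S` and an `R`-module `M` killed by `ker f`, `m ↦ 1 ⊗ m` is a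
bijection `M → S ⊗[R] M`. -/
lemma mk_one_bijective_of_surjective {R S : Type u} [CommRing R] [CommRing S] (f : R →+* S)
    (hf : Function.Surjective f) (M : Type u) [AddCommGroup M] [Module R M]
    (hk : ∀ r ∈ RingHom.ker f, ∀ m : M, r • m = 0) :
    letI := f.toAlgebra
    Function.Bijective (TensorProduct.mk R S M 1) := by
  letI := f.toAlgebra
  refine ⟨?_, TensorProduct.mk_surjective R M S hf⟩
  letI : SMul S M := ⟨fun s m => (hf s).choose • m⟩
  have hsmul : ∀ (c : R) (x : M), f c • x = c • x := fun c x => by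
    show (hf (f c)).choose • x = c • x
    have h1 : (hf (f c)).choose - c ∈ RingHom.ker f := by
      simp [RingHom.mem_ker, (hf (f c)).choose_spec]
    have h2 := hk _ h1 x
    rwa [sub_smul, sub_eq_zero] at h2
  letI : Module S M := hf.moduleLeft f hsmul
  haveI : IsScalarTower R S M := IsScalarTower.of_algebraMap_smul (fun r m => hsmul r m)
  haveI : TensorProduct.CompatibleSMul R S S M :=
    TensorProduct.CompatibleSMul.of_algebraMap_surjective (R := R) (A := S) (M := S) (N := M) hf
  intro m m' h
  have := congr(TensorProduct.lidOfCompatibleSMul R S M $h)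
  simpa [TensorProduct.lidOfCompatibleSMul_tmul] using this

lemma isIso_extendRestrict_unit {R S : CommRingCat.{u}} (φ : R ⟶ S) (M : ModuleCat.{u} R)
    (hφ : Function.Surjective φ.hom)
    (hk : ∀ r ∈ RingHom.ker φ.hom, ∀ m : M, r • m = 0) :
    IsIso ((ModuleCat.extendRestrictScalarsAdj φ.hom).unit.app M) := by
  rw [ConcreteCategory.isIso_iff_bijective]
  exact mk_one_bijective_of_surjective φ.hom hφ M hk

lemma isIso_of_sandwich {C : Type*} [Category C] {A B D E : C} (a : A ⟶ B) (b : B ⟶ D)
    (c : D ⟶ E) (r : A ⟶ E) (h : (a ≫ b) ≫ c = r) (ha : IsIso a) (hc : IsIso c) (hr : IsIso r) :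
    IsIso b := by
  have h2 : IsIso ((a ≫ b) ≫ c) := by rw [h]; exact hr
  have h3 : IsIso (a ≫ b) := IsIso.of_isIso_comp_right (a ≫ b) c
  exact IsIso.of_isIso_comp_left a b

lemma isIso_of_comp_eq {C : Type*} [Category C] {A B D : C} (a : A ⟶ B) (b : B ⟶ D)
    (r : A ⟶ D) (h : a ≫ b = r) (ha : IsIso a) (hr : IsIso r) : IsIso b := by
  have h2 : IsIso (a ≫ b) := by rw [h]; exact hr
  exact IsIso.of_isIso_comp_left a b

section Affine

variable {R S : CommRingCat.{u}} (φ : R ⟶ S)

/-- The adjunction `tilde ⋙ (Spec φ)^* ⊣ (Spec φ)_* ⋙ Γ`. -/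
noncomputable def adj1 := (tilde.adjunction (R := R)).comp
    (Scheme.Modules.pullbackPushforwardAdjunction (Spec.map φ))

/-- The adjunction `(S ⊗ -) ⋙ tilde ⊣ (Spec φ)_* ⋙ Γ`. -/
noncomputable def adj2 := ((ModuleCat.extendRestrictScalarsAdj φ.hom).comp
    (tilde.adjunction (R := S))).ofNatIsoRight (pushforwardΓIso φ).symm

lemma isIso_Γ_unit_tilde (M : ModuleCat.{u} R)
    (h : IsIso ((ModuleCat.extendRestrictScalarsAdj φ.hom).unit.app M)) :
    IsIso (moduleSpecΓFunctor.map
      ((pullbackPushforwardAdjunction (Spec.map φ)).unit.app ((tilde.functor R).obj M))) := by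
  have key := Adjunction.unit_leftAdjointUniq_hom_app (adj1 φ) (adj2 φ) M
  simp only [adj1, adj2, Adjunction.comp_unit_app, Adjunction.ofNatIsoRight_unit,
    NatTrans.comp_app, Functor.whiskerLeft_app] at key
  have h0 : IsIso ((tilde.adjunction (R := R)).unit.app M) := inferInstance
  have h1 : IsIso ((tilde.adjunction (R := S)).unit.app
    ((ModuleCat.extendScalars φ.hom).obj M)) := inferInstance
  refine isIso_of_sandwich _ _ _ _ key h0 ?_ ?_
  · exact Functor.map_isIso _ _
  · have h4 : IsIso ((ModuleCat.restrictScalars (CommRingCat.Hom.hom φ)).map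
          (tilde.adjunction.unit.app ((ModuleCat.extendScalars (CommRingCat.Hom.hom φ)).obj M))) :=
      Functor.map_isIso _ _
    have h5 : IsIso ((pushforwardΓIso φ).symm.hom.app
      ((ModuleCat.extendScalars (CommRingCat.Hom.hom φ) ⋙ tilde.functor S).obj M)) :=
      inferInstance
    have h6 := @IsIso.comp_isIso _ _ _ _ _ _ _ h h4
    exact @IsIso.comp_isIso _ _ _ _ _ _ _ h6 h5

lemma isIso_Γ_unit_of_qcoh (N : (Spec R).Modules) [N.IsQuasicoherent]
    (h : IsIso ((ModuleCat.extendRestrictScalarsAdj φ.hom).unit.app (moduleSpecΓFunctor.obj N))) :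
    IsIso (moduleSpecΓFunctor.map ((pullbackPushforwardAdjunction (Spec.map φ)).unit.app N)) := by
  have hiso : IsIso N.fromTildeΓ := inferInstance
  have nat := (pullbackPushforwardAdjunction (Spec.map φ)).unit.naturality N.fromTildeΓ
  have nat' := congr(moduleSpecΓFunctor.map $nat)
  simp only [Functor.map_comp] at nat'
  refine isIso_of_comp_eq _ _ _ nat' ?_ ?_
  · exact Functor.map_isIso _ _
  · have := isIso_Γ_unit_tilde φ _ h
    have h2 : IsIso (moduleSpecΓFunctor.map ((Scheme.Modules.pullback (Spec.map φ) ⋙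
      Scheme.Modules.pushforward (Spec.map φ)).map N.fromTildeΓ)) := Functor.map_isIso _ _
    exact @IsIso.comp_isIso _ _ _ _ _ _ _ this h2

lemma forget₂_moduleSpecΓFunctor_map {M N : (Spec R).Modules} (ψ : M ⟶ N) :
    (forget₂ (ModuleCat R) Ab).map (moduleSpecΓFunctor.map ψ) = ψ.app ⊤ := rfl

lemma isIso_app_top_of_isIso_Γ {M N : (Spec R).Modules} (ψ : M ⟶ N)
    (h : IsIso (moduleSpecΓFunctor.map ψ)) : IsIso (ψ.app ⊤) := by
  rw [← forget₂_moduleSpecΓFunctor_map]
  haveI := h
  exact Functor.map_isIso (forget₂ (ModuleCat R) Ab) (moduleSpecΓFunctor.map ψ)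

/-- **Affine case**: `φ` surjective, `N` quasi-coherent on `Spec R` with global sections killed by
`ker φ`: the unit `N ⟶ (Spec φ)_* (Spec φ)^* N` is an isomorphism on global sections. -/
theorem isIso_unit_app_top (hφ : Function.Surjective φ.hom) (N : (Spec R).Modules)
    [N.IsQuasicoherent]
    (hk : ∀ r ∈ RingHom.ker φ.hom, ∀ m : moduleSpecΓFunctor.obj N, r • m = 0) :
    IsIso (((pullbackPushforwardAdjunction (Spec.map φ)).unit.app N).app ⊤) :=
  isIso_app_top_of_isIso_Γ _ (isIso_Γ_unit_of_qcoh φ N (isIso_extendRestrict_unit φ _ hφ hk))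

end Affine

section Basis

variable {X : Scheme.{u}}

lemma exists_affine_germ_eq (M : X.Modules) (x : X) (s : M.presheaf.stalk x) :
    ∃ (U : X.Opens) (_ : IsAffineOpen U) (hx : x ∈ U) (t : Γ(M, U)),
      M.presheaf.germ U x hx t = s := by
  obtain ⟨U, hxU, t, rfl⟩ := M.presheaf.exists_germ_eq (x := x) s
  obtain ⟨V, hV, hxV, hVU⟩ := Opens.isBasis_iff_nbhd.mp X.isBasis_affineOpens hxU
  exact ⟨V, hV, hxV, M.presheaf.map (homOfLE hVU).op t,
    TopCat.Presheaf.germ_res_apply _ _ _ _ _⟩

lemma app_naturality_apply {M N : X.Modules} (φ : M ⟶ N) {U V : X.Opens} (i : V ⟶ U)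
    (t : Γ(M, U)) :
    φ.app V (M.presheaf.map i.op t) = N.presheaf.map i.op (φ.app U t) :=
  congr($(φ.mapPresheaf.naturality i.op) t)

/-- A morphism of `O_X`-modules which is bijective on sections over all affine opens is an
isomorphism. -/
theorem isIso_of_app_bijective_of_isAffineOpen {M N : X.Modules} (φ : M ⟶ N)
    (h : ∀ U : X.Opens, IsAffineOpen U → Function.Bijective (φ.app U)) : IsIso φ := by
  have h1 : IsIso ((Scheme.Modules.toPresheaf X).map φ) := by
    let F : TopCat.Sheaf Ab X := ⟨M.presheaf, M.isSheaf⟩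
    let G : TopCat.Sheaf Ab X := ⟨N.presheaf, N.isSheaf⟩
    let f : F ⟶ G := ⟨(Scheme.Modules.toPresheaf X).map φ⟩
    have hf : ∀ x : X, IsIso ((TopCat.Presheaf.stalkFunctor Ab x).map f.1) := by
      intro x
      refine (ConcreteCategory.isIso_iff_bijective _).2 ⟨?_, ?_⟩
      · rw [injective_iff_map_eq_zero]
        intro s hs
        obtain ⟨U, hU, hxU, t, rfl⟩ := exists_affine_germ_eq M x s
        erw [TopCat.Presheaf.stalkFunctor_map_germ_apply U x hxU φ.mapPresheaf t] at hs
        rw [Scheme.Modules.mapPresheaf_app] at hs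
        have hs' : N.presheaf.germ U x hxU (φ.app U t) = N.presheaf.germ U x hxU 0 :=
          hs.trans (map_zero _).symm
        obtain ⟨W, hxW, iU, iV, hW⟩ := TopCat.Presheaf.germ_eq N.presheaf x hxU hxU _ _ hs'
        obtain ⟨V, hV, hxV, hVW⟩ := Opens.isBasis_iff_nbhd.mp X.isBasis_affineOpens hxW
        have e1 : φ.app V (M.presheaf.map (homOfLE hVW ≫ iU).op t) = 0 := by
          rw [app_naturality_apply, op_comp, Functor.map_comp, ConcreteCategory.comp_apply, hW,
            map_zero, map_zero]
        have e2 := (h V hV).1 (e1.trans (map_zero _).symm)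
        have e3 := TopCat.Presheaf.germ_res_apply M.presheaf (homOfLE hVW ≫ iU) x hxV t
        rw [e2, map_zero] at e3
        exact e3.symm
      · intro s
        obtain ⟨U, hU, hxU, t, rfl⟩ := exists_affine_germ_eq N x s
        obtain ⟨t', rfl⟩ := (h U hU).2 t
        exact ⟨M.presheaf.germ U x hxU t',
          TopCat.Presheaf.stalkFunctor_map_germ_apply U x hxU φ.mapPresheaf t'⟩
    have := TopCat.Presheaf.isIso_of_stalkFunctor_map_iso f
    exact (TopCat.Sheaf.forget Ab X).map_isIso f
  exact isIso_of_reflects_iso φ (Scheme.Modules.toPresheaf X)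

end Basis

end Groth.Agent.Lib.Helper21.ClImmUnit
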