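import Groth.Agent.Lib.Helper21.CohStalkLocal
import Groth.Agent.Lib.Helper21.ClImmUnit2
import Groth.Agent.Lib.Helper2.KerSec
import Mathlib.AlgebraicGeometry.Noetherian

/-!
# Splitting the support of a coherent module (helper21)

For `M` coherent on a locally Noetherian scheme and `Z'` closed, the kernel `G'` of
`M ⟶ j_* j^* M` (`j : X ∖ Z' ⟶ X`) is coherent with support in `Z'`, and `M / G'` is coherent with
support in the closure of `supp M ∖ Z'`.
-/

set_option autoImplicit false
set_option backward.isDefEq.respectTransparency.types false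

universe u

open AlgebraicGeometry CategoryTheory Opposite TopologicalSpace Limits

namespace Groth.Agent.Lib.Helper21.CohSplit

open Groth.Agent.Lib.Helper78.ModStalk Groth.Agent.Lib.Helper21.CohStalkLocal
  Groth.Agent.Lib.Helper21.ClImmUnit

variable {X : Scheme.{u}}

theorem subsingleton_sections_of_forall_subsingleton_stalk (M : X.Modules) (W : X.Opens)
    (h : ∀ y ∈ W, Subsingleton (M.presheaf.stalk y)) : Subsingleton Γ(M, W) :=
  ⟨fun s t => TopCat.Presheaf.section_ext ⟨M.presheaf, M.isSheaf⟩ W s t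
    (fun y hy => (h y hy).elim _ _)⟩

theorem subsingleton_stalk_of_sections (M : X.Modules) (x : X) (U : X.Opens) (hx : x ∈ U)
    (h : ∀ W : X.Opens, W ≤ U → Subsingleton Γ(M, W)) : Subsingleton (M.presheaf.stalk x) := by
  refine ⟨fun a b => ?_⟩
  suffices h0 : ∀ a : M.presheaf.stalk x, a = 0 by rw [h0 a, h0 b]
  intro a
  obtain ⟨W, hxW, t, rfl⟩ := M.presheaf.exists_germ_eq (x := x) a
  have h1 := TopCat.Presheaf.germ_res_apply M.presheaf
    (homOfLE (inf_le_left : W ⊓ U ≤ W)) x ⟨hxW, hx⟩ t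
  rw [← h1]
  haveI := h (W ⊓ U) inf_le_right
  have h2 : M.presheaf.map (homOfLE (inf_le_left : W ⊓ U ≤ W)).op t = (0 : Γ(M, W ⊓ U)) :=
    Subsingleton.elim _ _
  rw [h2, map_zero]

theorem stalkMap_injective_of_app_injective_of_le {M N : X.Modules} (φ : M ⟶ N) (V : X.Opens)
    (h : ∀ W : X.Opens, W ≤ V → Function.Injective (φ.app W)) (x : X) (hx : x ∈ V) :
    Function.Injective (stalkMap φ x) := by
  rw [injective_iff_map_eq_zero]
  intro s hs
  obtain ⟨U, hxU, t, rfl⟩ := M.presheaf.exists_germ_eq (x := x) s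
  rw [stalkMap_germ] at hs
  have hs' : N.presheaf.germ U x hxU (φ.app U t) = N.presheaf.germ U x hxU 0 :=
    hs.trans (map_zero _).symm
  obtain ⟨W, hxW, iU, iV, hW⟩ := TopCat.Presheaf.germ_eq N.presheaf x hxU hxU _ _ hs'
  have e1 : φ.app (W ⊓ V) (M.presheaf.map (homOfLE (inf_le_left : W ⊓ V ≤ W) ≫ iU).op t) = 0 := by
    rw [app_naturality_apply, op_comp, Functor.map_comp, ConcreteCategory.comp_apply, hW,
      map_zero, map_zero]
  have e2 := h (W ⊓ V) inf_le_right (e1.trans (map_zero _).symm)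
  have e3 := TopCat.Presheaf.germ_res_apply M.presheaf
    (homOfLE (inf_le_left : W ⊓ V ≤ W) ≫ iU) x ⟨hxW, hx⟩ t
  rw [e2, map_zero] at e3
  exact e3.symm

section Main

variable (M : X.Modules) (V : X.Opens)

/-- The unit `M ⟶ j_* (M|_V)`. -/
noncomputable abbrev η : M ⟶ (Scheme.Modules.pushforward V.ι).obj (M.restrict V.ι) :=
  (Scheme.Modules.restrictAdjunction V.ι).unit.app M

theorem subsingleton_stalk_kernel_η (x : X) (hx : x ∈ V) :
    Subsingleton ((kernel (η M V)).presheaf.stalk x) := by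
  apply subsingleton_stalk_kernel
  refine stalkMap_injective_of_app_injective_of_le _ V (fun W hW => ?_) x hx
  have := isIso_restrictAdjunction_unit_app_app V.ι M W (by rwa [Scheme.Opens.opensRange_ι])
  exact ((ConcreteCategory.isIso_iff_bijective _).mp this).1

theorem support_kernel_η_subset : CohB1.support (kernel (η M V)) ⊆ (V : Set X)ᶜ := by
  intro x hx hxV
  exact hx (subsingleton_stalk_kernel_η M V x hxV)

theorem subsingleton_stalk_target (x : X) (U : X.Opens) (hxU : x ∈ U)
    (h : ∀ y ∈ U, y ∈ V → Subsingleton (M.presheaf.stalk y)) :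
    Subsingleton (((Scheme.Modules.pushforward V.ι).obj (M.restrict V.ι)).presheaf.stalk x) := by
  apply subsingleton_stalk_of_sections _ x U hxU
  intro W hW
  show Subsingleton Γ(M, V.ι ''ᵁ (V.ι ⁻¹ᵁ W))
  apply subsingleton_sections_of_forall_subsingleton_stalk
  rintro y ⟨z, hz, rfl⟩
  exact h _ (hW hz) z.2

theorem support_coimage_η_subset (Z : Set X) (hZ : IsClosed Z)
    (h : ∀ y ∈ V, y ∉ Z → Subsingleton (M.presheaf.stalk y)) :
    CohB1.support (cokernel (kernel.ι (η M V))) ⊆ Z := by
  intro x hx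
  by_contra hxZ
  apply hx
  have hT := subsingleton_stalk_target M V x ⟨Zᶜ, hZ.isOpen_compl⟩ hxZ
    (fun y hy hyV => h y hyV hy)
  have hinj := stalkMap_injective_of_mono (Abelian.factorThruCoimage (η M V)) x
  exact hinj.subsingleton

end Main

end Groth.Agent.Lib.Helper21.CohSplit
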