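import Groth.Agent.Lib.Helper21.SimpleAlg
import Groth.Agent.Lib.Helper21.StalkLen
import Groth.Agent.Lib.Helper21.SpreadOut
import Groth.Agent.Lib.Helper64.CohSupport
import Groth.Agent.S0049

/-!
# Dévissage of coherent modules on Noetherian schemes (helper21)

* `noetherian_induction`: Noetherian induction on supports, reducing to irreducible supports.
* `four_term`: with two-out-of-three, `P M ↔ P N` when kernel and cokernel of `M ⟶ N` satisfy `P`.
* `two_of_three_step`: the inductive step over an irreducible closed set with a coherent `G`,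
  `P G`, whose stalk at the generic point is simple.
-/

set_option autoImplicit false
set_option linter.style.haveILetI false
universe u
open AlgebraicGeometry CategoryTheory Opposite TopologicalSpace Limits

namespace Groth.Agent.Lib.Helper21.Devissage

open Groth.Agent.Lib.Helper78.ModStalk Groth.Agent.Lib.Helper78.ModStalkExact
  Groth.Agent.Lib.Helper21.CohStalkLocal Groth.Agent.Lib.Helper21.StalkLen
  Groth.Agent.Lib.Helper21.SimpleAlg Groth.Agent.Lib.Helper21.SpreadOut

variable {X : Scheme.{u}}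

theorem isZero_of_support_eq_empty (F : X.Modules) (h : CohB1.support F = ∅) : IsZero F := by
  rw [IsZero.iff_id_eq_zero]
  ext W s
  haveI : Subsingleton Γ(F, W) :=
    Groth.Agent.Lib.Helper21.CohSplit.subsingleton_sections_of_forall_subsingleton_stalk F W
      (fun y _ => by
        by_contra hy
        have : y ∈ CohB1.support F := hy
        rw [h] at this
        exact this)
  exact Subsingleton.elim (α := Γ(F, W)) _ _

theorem isCoh_kernel [IsLocallyNoetherian X] {M N : X.Modules} (f : M ⟶ N) (hM : Coh.IsCoh M)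
    (hN : Coh.IsCoh N) : Coh.IsCoh (kernel f) := by
  haveI : M.IsQuasicoherent := hM.1
  haveI : N.IsQuasicoherent := hN.1
  haveI : (kernel f).IsQuasicoherent :=
    Groth.Agent.Lib.Helper21.QCohKernel.isQuasicoherent_kernel f
  exact ⟨inferInstance, Groth.Agent.Lib.Helper21.CohNoeth.isFiniteType_of_mono (kernel.ι f) hM.2⟩

theorem isCoh_cokernel {M N : X.Modules} (f : M ⟶ N) (hM : Coh.IsCoh M)
    (hN : Coh.IsCoh N) : Coh.IsCoh (cokernel f) := by
  haveI : M.IsQuasicoherent := hM.1
  haveI : N.IsQuasicoherent := hN.1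
  haveI : (cokernel f).IsQuasicoherent :=
    Groth.Agent.Lib.Helper21.QCohKernel.isQuasicoherent_cokernel f
  exact ⟨inferInstance, Groth.Agent.Lib.Helper21.CohNoeth.isFiniteType_of_epi (cokernel.π f) hN.2⟩

theorem length_stalk_lt_top_of_support_subset [IsLocallyNoetherian X] (F : X.Modules)
    (hF : Coh.IsCoh F) (ξ : X) (hs : CohB1.support F ⊆ closure {ξ}) :
    Module.length (X.presheaf.stalk ξ) (F.presheaf.stalk ξ) < ⊤ := by
  haveI : F.IsQuasicoherent := hF.1
  refine Groth.Agent.Lib.Helper64.CohSupport.length_stalk_lt_top F hF.2 ξ (fun x hx hxξ => ?_)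
  have h1 : x ∈ CohB1.support F := not_subsingleton_iff_nontrivial.mpr hx
  have h2 : ξ ⤳ x := specializes_iff_mem_closure.mpr (hs h1)
  exact (hxξ.antisymm h2).eq

theorem isClosed_support_of_isCoh {F : X.Modules} (hF : Coh.IsCoh F) :
    IsClosed (CohB1.support F) := by
  haveI : F.IsQuasicoherent := hF.1
  exact Groth.Agent.Lib.Helper21.CohSupport.isClosed_support F hF.2

/-- **Noetherian induction on supports.** -/
theorem noetherian_induction [IsNoetherian X] (X' : Set X) (P : X.Modules → Prop)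
    (hP : ∀ M N : X.Modules, Nonempty (M ≅ N) → P M → P N)
    (hzero : ∀ M : X.Modules, IsZero M → P M)
    (hext : ∀ S : ShortComplex X.Modules, S.ShortExact → Coh.IsCoh S.X₁ → Coh.IsCoh S.X₂ →
      Coh.IsCoh S.X₃ → CohB1.support S.X₂ ⊆ X' → P S.X₁ → P S.X₃ → P S.X₂)
    (hirr : ∀ Z₀ : Set X, IsClosed Z₀ → IsIrreducible Z₀ → Z₀ ⊆ X' →
      (∀ F : X.Modules, Coh.IsCoh F → CohB1.support F ⊆ Z₀ → CohB1.support F ≠ Z₀ → P F) →
      ∀ F : X.Modules, Coh.IsCoh F → CohB1.support F ⊆ Z₀ → P F)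
    (F : X.Modules) (hF : Coh.IsCoh F) (hs : CohB1.support F ⊆ X') : P F := by
  suffices key : ∀ T : Closeds X, ∀ F : X.Modules, Coh.IsCoh F → CohB1.support F ⊆ X' →
      CohB1.support F = T → P F from key ⟨_, isClosed_support_of_isCoh hF⟩ F hF hs rfl
  intro T
  induction T using WellFoundedLT.induction with
  | ind T IH =>
    intro F hF hs hT
    have hlt : ∀ (A : Set X) (hA : IsClosed A), A ⊆ CohB1.support F → A ≠ CohB1.support F →
        (⟨A, hA⟩ : Closeds X) < T := by
      intro A hA hsub hne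
      refine lt_of_le_of_ne (fun x hx => ?_) (fun h => hne ?_)
      · have : x ∈ CohB1.support F := hsub hx
        rw [hT] at this
        exact this
      · rw [hT, ← h]
        rfl
    by_cases hemp : CohB1.support F = ∅
    · exact hzero F (isZero_of_support_eq_empty F hemp)
    by_cases hir : IsIrreducible (CohB1.support F)
    · refine hirr _ (isClosed_support_of_isCoh hF) hir hs (fun F' hF' hs' hne => ?_) F hF le_rfl
      exact IH ⟨_, isClosed_support_of_isCoh hF'⟩ (hlt _ _ hs' hne) F' hF' (hs'.trans hs) rfl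
    · have hne : (CohB1.support F).Nonempty := Set.nonempty_iff_ne_empty.mpr hemp
      have hpre : ¬ IsPreirreducible (CohB1.support F) := fun h => hir ⟨hne, h⟩
      rw [isPreirreducible_iff_isClosed_union_isClosed] at hpre
      push Not at hpre
      obtain ⟨z₁, z₂, hz₁, hz₂, hsub, hn₁, hn₂⟩ := hpre
      have hcl := isClosed_support_of_isCoh hF
      obtain ⟨S, hS, ⟨e⟩, hS₁, hS₃, hs₁, hs₃⟩ := Groth.Agent.S0049.result X F hF
        (CohB1.support F ∩ z₁) (CohB1.support F ∩ z₂) (hcl.inter hz₁) (hcl.inter hz₂) (by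
          rw [← Set.inter_union_distrib_left]
          exact (Set.inter_eq_left.mpr hsub).symm)
      have hS₂ : Coh.IsCoh S.X₂ := by
        refine ⟨?_, ?_⟩
        · exact (SheafOfModules.isQuasicoherent X.ringCatSheaf).prop_of_iso e.symm hF.1
        · haveI : F.IsQuasicoherent := hF.1
          haveI : S.X₂.IsQuasicoherent :=
            (SheafOfModules.isQuasicoherent X.ringCatSheaf).prop_of_iso e.symm hF.1
          exact Groth.Agent.Lib.Helper21.CohNoeth.isFiniteType_of_epi e.inv hF.2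
      have hsupp₂ : CohB1.support S.X₂ = CohB1.support F := support_eq_of_iso e
      refine hP _ _ ⟨e⟩ (hext S hS hS₁ hS₂ hS₃ (hsupp₂ ▸ hs) ?_ ?_)
      · refine IH ⟨_, isClosed_support_of_isCoh hS₁⟩ (hlt _ _ (hs₁.trans Set.inter_subset_left)
          (fun h => hn₂ ?_)) _ hS₁ ((hs₁.trans Set.inter_subset_left).trans hs) rfl
        have : CohB1.support F ⊆ CohB1.support F ∩ z₂ := h ▸ hs₁
        exact this.trans Set.inter_subset_right
      · refine IH ⟨_, isClosed_support_of_isCoh hS₃⟩ (hlt _ _ (hs₃.trans Set.inter_subset_left)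
          (fun h => hn₁ ?_)) _ hS₃ ((hs₃.trans Set.inter_subset_left).trans hs) rfl
        have : CohB1.support F ⊆ CohB1.support F ∩ z₁ := h ▸ hs₃
        exact this.trans Set.inter_subset_right

section FourTerm

variable [IsLocallyNoetherian X] (Z₀ : Set X) (P : X.Modules → Prop)
  (hP : ∀ M N : X.Modules, Nonempty (M ≅ N) → P M → P N)
  (h₁ : ∀ S : ShortComplex X.Modules, S.ShortExact → Coh.IsCoh S.X₁ → Coh.IsCoh S.X₂ →
    Coh.IsCoh S.X₃ → CohB1.support S.X₂ ⊆ Z₀ →
    (P S.X₁ → P S.X₂ → P S.X₃) ∧ (P S.X₁ → P S.X₃ → P S.X₂) ∧ (P S.X₂ → P S.X₃ → P S.X₁))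

include hP h₁ in
/-- If the kernel and cokernel of `f : M ⟶ N` satisfy `P` then `P M ↔ P N` (two-out-of-three). -/
theorem four_term {M N : X.Modules} (f : M ⟶ N) (hM : Coh.IsCoh M) (hN : Coh.IsCoh N)
    (hMs : CohB1.support M ⊆ Z₀) (hNs : CohB1.support N ⊆ Z₀)
    (hK : P (kernel f)) (hC : P (cokernel f)) : P M ↔ P N := by
  have hcoim : Coh.IsCoh (kerSeq f).X₃ := isCoh_cokernel (kernel.ι f) (isCoh_kernel f hM hN) hM
  have him : Coh.IsCoh (cokerSeq f).X₁ := isCoh_kernel (cokernel.π f) hN (isCoh_cokernel f hM hN)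
  have s1 := h₁ (kerSeq f) (kerSeq_shortExact f) (isCoh_kernel f hM hN) hM hcoim hMs
  have s2 := h₁ (cokerSeq f) (cokerSeq_shortExact f) him hN (isCoh_cokernel f hM hN) hNs
  constructor
  · intro hPM
    have h3 : P (kerSeq f).X₃ := s1.1 hK hPM
    have h4 : P (cokerSeq f).X₁ := hP _ _ ⟨coimIsoIm f⟩ h3
    exact s2.2.1 h4 hC
  · intro hPN
    have h4 : P (cokerSeq f).X₁ := s2.2.2 hPN hC
    have h3 : P (kerSeq f).X₃ := hP _ _ ⟨(coimIsoIm f).symm⟩ h4
    exact s1.2.1 hK h3

include hP h₁ in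
/-- **Two-out-of-three dévissage, one irreducible step.** -/
theorem two_of_three_step (ξ : X) (hξ : closure {ξ} = Z₀)
    (IH : ∀ F : X.Modules, Coh.IsCoh F → CohB1.support F ⊆ Z₀ → ξ ∉ CohB1.support F → P F)
    (G : X.Modules) (hG : Coh.IsCoh G) (hGs : CohB1.support G ⊆ Z₀)
    (hsimple : IsSimpleModule (X.presheaf.stalk ξ) (G.presheaf.stalk ξ)) (hPG : P G)
    (F : X.Modules) (hF : Coh.IsCoh F) (hFs : CohB1.support F ⊆ Z₀) : P F := by
  obtain ⟨n, hn⟩ := ENat.ne_top_iff_exists.mp
    (ne_of_lt (length_stalk_lt_top_of_support_subset F hF ξ (hξ ▸ hFs)))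
  induction n generalizing F with
  | zero =>
    refine IH F hF hFs (fun hmem => hmem ?_)
    exact Module.length_eq_zero_iff.mp hn.symm
  | succ n ih =>
    haveI : G.IsQuasicoherent := hG.1
    haveI : F.IsQuasicoherent := hF.1
    have hfl : IsFiniteLength (X.presheaf.stalk ξ) (F.presheaf.stalk ξ) := by
      rw [← Module.length_ne_top_iff, ← hn]
      exact ENat.coe_ne_top _
    haveI : IsArtinian (X.presheaf.stalk ξ) (F.presheaf.stalk ξ) :=
      (isFiniteLength_iff_isNoetherian_isArtinian.mp hfl).2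
    haveI : Nontrivial (F.presheaf.stalk ξ) := by
      rw [← Module.length_pos_iff (R := X.presheaf.stalk ξ), ← hn]
      exact_mod_cast Nat.succ_pos n
    obtain ⟨a, ha⟩ := exists_injective_of_simple (R := X.presheaf.stalk ξ)
      (G.presheaf.stalk ξ) (F.presheaf.stalk ξ)
    obtain ⟨H, p₁, p₂, c, hHq, hHf, hc, hb, hrel, -, hHsub, -⟩ :=
      exists_spread G F hG.2 hF.2 ξ a
    have hH : Coh.IsCoh H := ⟨hHq, hHf⟩
    have hHs : CohB1.support H ⊆ Z₀ := hHsub.trans (Set.union_subset hGs hFs)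
    -- `P H` from `P G`
    have hK₁ : P (kernel p₁) := IH _ (isCoh_kernel p₁ hH hG)
      ((support_kernel_subset p₁).trans hHs) (fun h => h (subsingleton_stalk_kernel p₁ ξ hb.1))
    have hC₁ : P (cokernel p₁) := IH _ (isCoh_cokernel p₁ hH hG)
      ((support_cokernel_subset p₁).trans hGs) (fun h => h (subsingleton_stalk_cokernel p₁ ξ hb.2))
    have hPH : P H := (four_term Z₀ P hP h₁ p₁ hH hG hHs hGs hK₁ hC₁).mpr hPG
    -- `p₂` is injective on stalks at `ξ`
    have hinj : Function.Injective (stalkMap p₂ ξ) := by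
      intro h h' hh'
      rw [hrel, hrel] at hh'
      exact hb.1 (ha (hc.smul_left_cancel.mp hh'))
    have hK₂s := subsingleton_stalk_kernel p₂ ξ hinj
    have hK₂ : P (kernel p₂) := IH _ (isCoh_kernel p₂ hH hF)
      ((support_kernel_subset p₂).trans hHs) (fun h => h hK₂s)
    have hlen : Module.length (X.presheaf.stalk ξ) ((cokernel p₂).presheaf.stalk ξ) = n := by
      have h1 := length_stalk_cokernel_add p₂ ξ
      have h2 : Module.length (X.presheaf.stalk ξ) (H.presheaf.stalk ξ) = 1 := by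
        rw [(LinearEquiv.ofBijective (stalkMap p₁ ξ) hb).length_eq]
        exact Module.length_eq_one_iff.mpr hsimple
      have h3 : Module.length (X.presheaf.stalk ξ) ((kernel p₂).presheaf.stalk ξ) = 0 :=
        Module.length_eq_zero_iff.mpr hK₂s
      rw [h2, h3, ← hn, add_zero] at h1
      have h4 : Module.length (X.presheaf.stalk ξ) ((cokernel p₂).presheaf.stalk ξ) + 1 =
          (n : ℕ∞) + 1 := by rw [h1]; push_cast; rfl
      exact ENat.add_left_injective_of_ne_top ENat.one_ne_top h4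
    have hC₂ : P (cokernel p₂) := ih _ (isCoh_cokernel p₂ hH hF)
      ((support_cokernel_subset p₂).trans hFs) hlen.symm
    exact (four_term Z₀ P hP h₁ p₂ hH hF hHs hFs hK₂ hC₂).mp hPH

end FourTerm

theorem isCoh_of_iso {M N : X.Modules} (e : M ≅ N) (hM : Coh.IsCoh M) : Coh.IsCoh N := by
  haveI : M.IsQuasicoherent := hM.1
  haveI : N.IsQuasicoherent := (SheafOfModules.isQuasicoherent X.ringCatSheaf).prop_of_iso e hM.1
  exact ⟨inferInstance, Groth.Agent.Lib.Helper21.CohNoeth.isFiniteType_of_epi e.hom hM.2⟩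

theorem subsingleton_sections_of_isZero {M : X.Modules} (hM : IsZero M) (U : X.Opens) :
    Subsingleton Γ(M, U) := by
  refine ⟨fun s t => ?_⟩
  have h : (𝟙 M : M ⟶ M) = 0 := hM.eq_of_src _ _
  have h1 : (𝟙 M : M ⟶ M).app U s = (0 : M ⟶ M).app U s := by rw [h]
  have h2 : (𝟙 M : M ⟶ M).app U t = (0 : M ⟶ M).app U t := by rw [h]
  rw [Scheme.Modules.Hom.id_app] at h1 h2
  rw [Scheme.Modules.Hom.zero_app] at h1 h2
  exact h1.trans h2.symm

theorem isCoh_of_isZero {M : X.Modules} (hM : IsZero M) : Coh.IsCoh M := by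
  haveI hq : M.IsQuasicoherent := by
    rw [Groth.Agent.Lib.Lead.QCohCrit.isQuasicoherent_iff_locOn]
    intro U hU
    refine ⟨fun f s _ => ⟨0, ?_⟩, fun f t => ⟨0, 0, ?_⟩⟩
    · haveI := subsingleton_sections_of_isZero hM U
      exact Subsingleton.elim _ _
    · haveI := subsingleton_sections_of_isZero hM (X.basicOpen f)
      exact Subsingleton.elim _ _
  refine ⟨hq, ?_⟩
  rw [Groth.Agent.Lib.Lead.CohAff.isFiniteType_iff_finite_sections]
  intro U hU
  haveI := subsingleton_sections_of_isZero hM U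
  infer_instance

/-- The short exact sequence `0 → G → G → 0 → 0`. -/
theorem shortExact_id_zero (G M : X.Modules) (hM : IsZero M) :
    (ShortComplex.mk (𝟙 G) (0 : G ⟶ M) (by simp)).ShortExact := by
  refine ShortComplex.ShortExact.mk' ?_ (inferInstanceAs (Mono (𝟙 G))) ⟨fun g h _ => hM.eq_of_src g h⟩
  rw [ShortComplex.exact_iff_epi _ rfl]
  exact inferInstanceAs (Epi (𝟙 G))

end Groth.Agent.Lib.Helper21.Devissage
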