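import Groth.Agent.Lib.Helper21.RelFP6
import Mathlib.RingTheory.RingHom.FinitePresentation
import Mathlib.Tactic

/-!
# Relative finite presentation through an explicit ring homomorphism
-/

set_option autoImplicit false
set_option linter.style.haveILetI false
universe u

namespace Groth.Agent.Lib.Helper21

open MvPolynomial FlatCA

/-- `N` is finitely presented relative to `B`, the `B`-algebra structure on `A` being given by
the ring homomorphism `ψ`. -/
def RelFPHom {B A : Type u} [CommRing B] [CommRing A] (ψ : B →+* A) (N : Type u)
    [AddCommGroup N] [Module A N] : Prop :=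
  @FlatCA.RelFinitePresentation B A _ _ ψ.toAlgebra N _ _

section

variable {B A : Type u} [CommRing B] [CommRing A] {N : Type u} [AddCommGroup N] [Module A N]

theorem RelFPHom.congr {ψ ψ' : B →+* A} (h : ψ = ψ') (hN : RelFPHom ψ N) : RelFPHom ψ' N := by
  subst h
  exact hN

theorem RelFPHom.finiteType {ψ : B →+* A} (hN : RelFPHom ψ N) : ψ.FiniteType := by
  letI := ψ.toAlgebra
  exact RelFinitePresentation.finiteType (R := B) (S := A) (N := N) hN

/-- Localization of the source away from an element. -/
theorem RelFPHom.of_away {A' : Type u} [CommRing A'] (ψ : B →+* A) (ρ : A →+* A') (a : A)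
    (hρ : @IsLocalization.Away A _ a A' _ ρ.toAlgebra)
    {N' : Type u} [AddCommGroup N'] [Module A' N']
    (r : @LinearMap A A _ _ (RingHom.id A) N N' _ _ _ (Module.compHom N' ρ))
    (hr : letI : Module A N' := Module.compHom N' ρ
      IsLocalizedModule (Submonoid.powers a) r)
    (h : RelFPHom ψ N) : RelFPHom (ρ.comp ψ) N' := by
  letI := ψ.toAlgebra
  letI := ρ.toAlgebra
  letI := (ρ.comp ψ).toAlgebra
  letI : Module A N' := Module.compHom N' ρ
  have : IsScalarTower B A A' := IsScalarTower.of_algebraMap_eq' rfl
  have : IsScalarTower A A' N' := IsScalarTower.of_algebraMap_smul fun _ _ => rfl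
  exact RelFinitePresentation.of_isLocalizedModule_away (R := B) (S := A) a r h

/-- Transfer from an abstract localization to the concrete one. -/
theorem RelFPHom.to_localization {A' : Type u} [CommRing A'] (ψ : B →+* A) (ρ : A →+* A') (a : A)
    (hρ : @IsLocalization.Away A _ a A' _ ρ.toAlgebra)
    {N' : Type u} [AddCommGroup N'] [Module A' N']
    (r : @LinearMap A A _ _ (RingHom.id A) N N' _ _ _ (Module.compHom N' ρ))
    (hr : letI : Module A N' := Module.compHom N' ρ
      IsLocalizedModule (Submonoid.powers a) r)
    (h : RelFPHom (ρ.comp ψ) N') :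
    letI := ψ.toAlgebra
    RelFinitePresentation B (Localization.Away a) (LocalizedModule (Submonoid.powers a) N) := by
  letI := ψ.toAlgebra
  letI := ρ.toAlgebra
  letI := (ρ.comp ψ).toAlgebra
  letI : Module A N' := Module.compHom N' ρ
  have : IsScalarTower B A A' := IsScalarTower.of_algebraMap_eq' rfl
  have : IsScalarTower A A' N' := IsScalarTower.of_algebraMap_smul fun _ _ => rfl
  let e : A' ≃ₐ[B] Localization.Away a :=
    (IsLocalization.algEquiv (Submonoid.powers a) A' (Localization.Away a)).restrictScalars B
  let iso := IsLocalizedModule.iso (Submonoid.powers a) r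
  -- the `A'`-module structure on the concrete localized module
  letI modL : Module A' (LocalizedModule (Submonoid.powers a) N) :=
    Module.compHom _ (e : A' →+* Localization.Away a)
  have hst : IsScalarTower A A' (LocalizedModule (Submonoid.powers a) N) :=
    IsScalarTower.of_algebraMap_smul fun c l => by
      change e (algebraMap A A' c) • l = c • l
      have : e (algebraMap A A' c) = algebraMap A (Localization.Away a) c :=
        (IsLocalization.algEquiv (Submonoid.powers a) A' (Localization.Away a)).commutes c
      rw [this, algebraMap_smul]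
  let isoA' : LocalizedModule (Submonoid.powers a) N →ₗ[A'] N' :=
    LinearMap.extendScalarsOfIsLocalization (Submonoid.powers a) A' iso.toLinearMap
  refine RelFinitePresentation.of_equiv (R := B) e iso.symm.toAddEquiv ?_ h
  intro s x
  have h1 := isoA'.map_smul s (iso.symm x)
  have h2 : isoA' (iso.symm x) = x := iso.apply_symm_apply x
  have h3 : isoA' (s • iso.symm x) = iso (s • iso.symm x) := rfl
  rw [h2, h3] at h1
  change iso.symm (s • x) = e s • iso.symm x
  rw [← h1, iso.symm_apply_apply]
  rfl

/-- Change of base ring along a ring homomorphism of finite presentation. -/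
theorem RelFPHom.comp_iff {B' : Type u} [CommRing B'] (χ : B →+* B') (hχ : χ.FinitePresentation)
    (ψ' : B' →+* A) : RelFPHom (ψ'.comp χ) N ↔ RelFPHom ψ' N := by
  letI := χ.toAlgebra
  letI := ψ'.toAlgebra
  letI := (ψ'.comp χ).toAlgebra
  have : IsScalarTower B B' A := IsScalarTower.of_algebraMap_eq' rfl
  have : Algebra.FinitePresentation B B' := hχ
  exact (relFinitePresentation_change_base_iff (R := B) (R' := B') (S := A) (N := N)).symm

/-- Gluing for relative finite presentation in terms of the concrete localizations. -/
theorem RelFPHom.of_localizationSpan (ψ : B →+* A) (hψ : ψ.FiniteType) (s : Set A)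
    (hs : Ideal.span s = ⊤)
    (h : ∀ a ∈ s, letI := ψ.toAlgebra
      RelFinitePresentation B (Localization.Away a) (LocalizedModule (Submonoid.powers a) N)) :
    RelFPHom ψ N := by
  letI := ψ.toAlgebra
  have : Algebra.FiniteType B A := hψ
  exact relFinitePresentation_of_localizationSpan (R := B) s hs h

end

end Groth.Agent.Lib.Helper21
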