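import Groth.Prelude.Def_Flatn
import Groth.Agent.Lib.Helper21.RelFP7
import Groth.Agent.Lib.Lead.QCohAff
import Mathlib.AlgebraicGeometry.Morphisms.FiniteType
import Mathlib.Tactic

/-!
# Relative finite presentation of quasi-coherent modules: affine-local nature
-/

set_option autoImplicit false
set_option linter.style.haveILetI false
universe u

open AlgebraicGeometry CategoryTheory Opposite TopologicalSpace

namespace Groth.Agent.Lib.Helper21.RelFPSch

set_option backward.isDefEq.respectTransparency.types false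

open Groth.Agent.Lib.Lead.QCohAff Groth.Agent.Lib.Helper21

variable {X S : Scheme.{u}}

/-- Restriction of functions as a ring homomorphism. -/
noncomputable def resRing (X : Scheme.{u}) {U V : X.Opens} (h : V ≤ U) : Γ(X, U) →+* Γ(X, V) :=
  (X.presheaf.map (homOfLE h).op).hom

/-- Restriction of sections as a linear map. -/
noncomputable def resL (F : X.Modules) {U V : X.Opens} (h : V ≤ U) :
    @LinearMap Γ(X, U) Γ(X, U) _ _ (RingHom.id _) Γ(F, U) Γ(F, V) _ _ _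
      (Module.compHom Γ(F, V) (resRing X h)) :=
  letI : Module Γ(X, U) Γ(F, V) := Module.compHom Γ(F, V) (resRing X h)
  { toFun := fun s => F.presheaf.map (homOfLE h).op s
    map_add' := fun a b => map_add _ a b
    map_smul' := fun r s => res_smul F h r s }

theorem isLocalizedModule_resL (F : X.Modules) [F.IsQuasicoherent] {U : X.Opens}
    (hU : IsAffineOpen U) (a : Γ(X, U)) :
    letI : Module Γ(X, U) Γ(F, X.basicOpen a) :=
      Module.compHom _ (resRing X (X.basicOpen_le a))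
    IsLocalizedModule (Submonoid.powers a) (resL F (X.basicOpen_le a)) := by
  letI : Module Γ(X, U) Γ(F, X.basicOpen a) :=
    Module.compHom _ (resRing X (X.basicOpen_le a))
  refine ⟨?_, ?_, ?_⟩
  · rintro ⟨_, n, rfl⟩
    rw [Module.End.isUnit_iff]
    have hu : IsUnit (resRing X (X.basicOpen_le a) (a ^ n)) := by
      rw [map_pow]
      exact (X.toRingedSpace.isUnit_res_basicOpen a).pow n
    obtain ⟨u, hu⟩ := hu
    refine ⟨fun x y hxy => ?_, fun y => ⟨(↑u⁻¹ : Γ(X, X.basicOpen a)) • y, ?_⟩⟩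
    · have hxy' : resRing X (X.basicOpen_le a) (a ^ n) • x =
          resRing X (X.basicOpen_le a) (a ^ n) • y := hxy
      have := congrArg (fun z => (↑u⁻¹ : Γ(X, X.basicOpen a)) • z) hxy'
      simp only [← hu, smul_smul, Units.inv_mul, one_smul] at this
      exact this
    · change resRing X (X.basicOpen_le a) (a ^ n) • ((↑u⁻¹ : Γ(X, X.basicOpen a)) • y) = y
      rw [← hu, smul_smul, Units.mul_inv, one_smul]
  · intro t
    obtain ⟨n, s, hs⟩ := exists_res_eq_pow_smul F hU a t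
    refine ⟨(s, ⟨a ^ n, n, rfl⟩), ?_⟩
    change resRing X (X.basicOpen_le a) (a ^ n) • t = F.presheaf.map _ s
    rw [hs, map_pow]
    rfl
  · intro x₁ x₂ h
    have h0 : F.presheaf.map (homOfLE (X.basicOpen_le a)).op (x₁ - x₂) = 0 := by
      rw [map_sub, sub_eq_zero]
      exact h
    obtain ⟨n, hn⟩ := exists_pow_smul_eq_zero F hU a (x₁ - x₂) h0
    refine ⟨⟨a ^ n, n, rfl⟩, ?_⟩
    rw [smul_sub, sub_eq_zero] at hn
    exact hn

/-- `Γ(F, U)` is finitely presented relative to `Γ(S, V)` (for arbitrary opens). -/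
def P (f : X ⟶ S) (F : X.Modules) (U : X.Opens) (V : S.Opens) (h : U ≤ f ⁻¹ᵁ V) : Prop :=
  RelFPHom (f.appLE V U h).hom Γ(F, U)

theorem relFPOn_iff_P (f : X ⟶ S) (F : X.Modules) (U : X.affineOpens) (V : S.affineOpens)
    (h : (U : X.Opens) ≤ f ⁻¹ᵁ (V : S.Opens)) :
    Flatn.RelFPOn f F U V h ↔ P f F U V h := Iff.rfl

theorem resRing_comp_appLE (f : X ⟶ S) {U U' : X.Opens} {V : S.Opens} (h : U ≤ f ⁻¹ᵁ V)
    (hU' : U' ≤ U) :
    (resRing X hU').comp (f.appLE V U h).hom = (f.appLE V U' (hU'.trans h)).hom := by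
  rw [← f.appLE_map h (homOfLE hU').op]
  rfl

theorem appLE_comp_resRing (f : X ⟶ S) {U : X.Opens} {V V' : S.Opens} (h' : U ≤ f ⁻¹ᵁ V')
    (hV' : V' ≤ V) (h : U ≤ f ⁻¹ᵁ V) :
    (f.appLE V' U h').hom.comp (resRing S hV') = (f.appLE V U h).hom := by
  have := f.map_appLE h' (homOfLE hV').op
  exact congrArg CommRingCat.Hom.hom this

/-- Relative finite presentation passes to basic opens of the source. -/
theorem P_basicOpen (f : X ⟶ S) (F : X.Modules) [F.IsQuasicoherent] {U : X.Opens}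
    (hU : IsAffineOpen U) {V : S.Opens} (h : U ≤ f ⁻¹ᵁ V) (a : Γ(X, U))
    (U' : X.Opens) (hU' : U' = X.basicOpen a) (h' : U' ≤ f ⁻¹ᵁ V)
    (hP : P f F U V h) : P f F U' V h' := by
  subst hU'
  have h1 := RelFPHom.of_away (f.appLE V U h).hom (resRing X (X.basicOpen_le a)) a
    (hU.isLocalization_basicOpen a) (resL F (X.basicOpen_le a)) (isLocalizedModule_resL F hU a) hP
  exact h1.congr (resRing_comp_appLE f h (X.basicOpen_le a))

/-- Relative finite presentation can be checked on a cover by basic opens of the source. -/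
theorem P_of_basicOpen_cover (f : X ⟶ S) (F : X.Modules) [F.IsQuasicoherent] {U : X.Opens}
    (hU : IsAffineOpen U) {V : S.Opens} (h : U ≤ f ⁻¹ᵁ V)
    (hft : (f.appLE V U h).hom.FiniteType) (s : Set Γ(X, U)) (hs : Ideal.span s = ⊤)
    (hP : ∀ a ∈ s, P f F (X.basicOpen a) V ((X.basicOpen_le a).trans h)) : P f F U V h := by
  refine RelFPHom.of_localizationSpan _ hft s hs (fun a ha => ?_)
  refine RelFPHom.to_localization (f.appLE V U h).hom (resRing X (X.basicOpen_le a)) a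
    (hU.isLocalization_basicOpen a) (resL F (X.basicOpen_le a))
    (isLocalizedModule_resL F hU a) ?_
  exact (hP a ha).congr (resRing_comp_appLE f h (X.basicOpen_le a)).symm

/-- The base may be shrunk to (or enlarged from) a basic open. -/
theorem P_change_base (f : X ⟶ S) (F : X.Modules) {V V' : S.Opens} (hV : IsAffineOpen V)
    (b : Γ(S, V)) (hV' : V' = S.basicOpen b) {U : X.Opens} (hU' : U ≤ f ⁻¹ᵁ V')
    (hU : U ≤ f ⁻¹ᵁ V) : P f F U V' hU' ↔ P f F U V hU := by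
  subst hV'
  have hχ : (resRing S (S.basicOpen_le b)).FinitePresentation := by
    exact @IsLocalization.Away.finitePresentation _ _ b _ _
      (resRing S (S.basicOpen_le b)).toAlgebra (hV.isLocalization_basicOpen b)
  have h1 := RelFPHom.comp_iff (N := Γ(F, U)) (resRing S (S.basicOpen_le b)) hχ
    (f.appLE (S.basicOpen b) U hU').hom
  rw [appLE_comp_resRing f hU' (S.basicOpen_le b) hU] at h1
  exact h1.symm

theorem exists_common_basicOpen {U₀ U₁ : X.Opens} (h₀ : IsAffineOpen U₀) (h₁ : IsAffineOpen U₁)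
    (W : X.Opens) (x : X) (hx₀ : x ∈ U₀) (hx₁ : x ∈ U₁) (hxW : x ∈ W) :
    ∃ (a₀ : Γ(X, U₀)) (a₁ : Γ(X, U₁)), X.basicOpen a₀ = X.basicOpen a₁ ∧
      x ∈ X.basicOpen a₀ ∧ X.basicOpen a₀ ≤ W := by
  obtain ⟨f, hf₁, hf₂⟩ := h₀.exists_basicOpen_le (V := U₁ ⊓ W) ⟨x, ⟨hx₁, hxW⟩⟩ hx₀
  obtain ⟨g, hg₁, hg₂⟩ := h₁.exists_basicOpen_le (V := X.basicOpen f) ⟨x, hf₂⟩ hx₁
  obtain ⟨f', hf'⟩ := h₀.basicOpen_basicOpen_is_basicOpen f
    (X.presheaf.map (homOfLE (hf₁.trans inf_le_left) : _ ⟶ U₁).op g)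
  replace hf' := (hf'.trans (RingedSpace.basicOpen_res _ _ _)).trans (inf_eq_right.mpr hg₁)
  exact ⟨f', g, hf', hf'.symm ▸ hg₂, hf'.le.trans (hg₁.trans (hf₁.trans inf_le_right))⟩

/-- If `F` is finitely presented relative to `S` (on some covers), then it is so on every pair
of affine opens. -/
theorem P_of_isRelFP (f : X ⟶ S) [LocallyOfFiniteType f] (F : X.Modules) [F.IsQuasicoherent]
    (hF : Flatn.IsRelFP f F) {U₀ : X.Opens} (hU₀ : IsAffineOpen U₀) {V₀ : S.Opens}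
    (hV₀ : IsAffineOpen V₀) (h₀ : U₀ ≤ f ⁻¹ᵁ V₀) : P f F U₀ V₀ h₀ := by
  obtain ⟨𝒱, h𝒱, H⟩ := hF
  have hft : (f.appLE V₀ U₀ h₀).hom.FiniteType := f.finiteType_appLE hV₀ hU₀ h₀
  let s : Set Γ(X, U₀) := {a | P f F (X.basicOpen a) V₀ ((X.basicOpen_le a).trans h₀)}
  refine P_of_basicOpen_cover f F hU₀ h₀ hft s ?_ (fun a ha => ha)
  rw [← hU₀.self_le_iSup_basicOpen_iff]
  intro x hx
  have hfx : f x ∈ (⊤ : S.Opens) := trivial
  rw [← h𝒱] at hfx
  simp only [Opens.mem_iSup] at hfx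
  obtain ⟨V₁, hV₁mem, hfxV₁⟩ := hfx
  obtain ⟨𝒰, h𝒰, H'⟩ := H V₁ hV₁mem
  have hx1 : x ∈ f ⁻¹ᵁ (V₁ : S.Opens) := hfxV₁
  rw [← h𝒰] at hx1
  simp only [Opens.mem_iSup] at hx1
  obtain ⟨U₁, hU₁mem, hxU₁⟩ := hx1
  have hU₁V₁ : (U₁ : X.Opens) ≤ f ⁻¹ᵁ (V₁ : S.Opens) := by
    rw [← h𝒰]
    exact le_iSup₂ (f := fun (U : X.affineOpens) (_ : U ∈ 𝒰) => (U : X.Opens)) U₁ hU₁mem
  have hP₁ : P f F U₁ V₁ hU₁V₁ := H' U₁ hU₁mem hU₁V₁
  obtain ⟨b₀, b₁, hb, hfxb⟩ :=
    exists_basicOpen_le_affine_inter hV₀ V₁.2 (f x) ⟨h₀ hx, hfxV₁⟩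
  obtain ⟨a₀, a₁, ha, hxa, haW⟩ :=
    exists_common_basicOpen hU₀ U₁.2 (f ⁻¹ᵁ S.basicOpen b₀) x hx hxU₁ hfxb
  rw [Opens.mem_iSup]
  refine ⟨⟨a₀, ?_⟩, hxa⟩
  change P f F (X.basicOpen a₀) V₀ _
  have hle1 : X.basicOpen a₀ ≤ f ⁻¹ᵁ (V₁ : S.Opens) := by
    rw [ha]
    exact (X.basicOpen_le a₁).trans hU₁V₁
  have h2 : P f F (X.basicOpen a₀) V₁ hle1 :=
    P_basicOpen f F U₁.2 hU₁V₁ a₁ (X.basicOpen a₀) ha hle1 hP₁
  have h3 : P f F (X.basicOpen a₀) (S.basicOpen b₀) haW :=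
    (P_change_base f F V₁.2 b₁ hb haW hle1).mpr h2
  exact (P_change_base f F hV₀ b₀ rfl haW _).mp h3

/-- The converse: the test on all pairs of affine opens gives covers. -/
theorem isRelFP_of_forall (f : X ⟶ S) (F : X.Modules)
    (H : ∀ (U : X.affineOpens) (V : S.affineOpens) (h : (U : X.Opens) ≤ f ⁻¹ᵁ (V : S.Opens)),
      Flatn.RelFPOn f F U V h) : Flatn.IsRelFP f F := by
  refine ⟨Set.univ, ?_, fun V _ =>
    ⟨{U | (U : X.Opens) ≤ f ⁻¹ᵁ (V : S.Opens)}, ?_, fun U _ h => H U V h⟩⟩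
  · rw [eq_top_iff]
    intro y _
    obtain ⟨_, ⟨V, hV, rfl⟩, hyV, -⟩ :=
      S.isBasis_affineOpens.exists_subset_of_mem_open (Set.mem_univ y) isOpen_univ
    simp only [Opens.mem_iSup]
    exact ⟨⟨V, hV⟩, Set.mem_univ _, hyV⟩
  · apply le_antisymm
    · exact iSup₂_le fun U hU => hU
    · intro x hx
      obtain ⟨_, ⟨U, hU, rfl⟩, hxU, hUle⟩ :=
        X.isBasis_affineOpens.exists_subset_of_mem_open hx (f ⁻¹ᵁ (V : S.Opens)).2
      simp only [Opens.mem_iSup]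
      exact ⟨⟨U, hU⟩, hUle, hxU⟩

theorem isRelFP_iff_forall (f : X ⟶ S) [LocallyOfFiniteType f] (F : X.Modules)
    [F.IsQuasicoherent] :
    Flatn.IsRelFP f F ↔
      ∀ (U : X.affineOpens) (V : S.affineOpens) (h : (U : X.Opens) ≤ f ⁻¹ᵁ (V : S.Opens)),
        Flatn.RelFPOn f F U V h :=
  ⟨fun hF U V h => P_of_isRelFP f F hF U.2 V.2 h, isRelFP_of_forall f F⟩

end Groth.Agent.Lib.Helper21.RelFPSch
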