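import Groth.Agent.Lib.Helper21.RelFP4
import Mathlib.RingTheory.LocalProperties.FinitePresentation
import Mathlib.RingTheory.Localization.Away.Basic
import Mathlib.Tactic

/-!
# Relative finite presentation is local on the source
-/

set_option autoImplicit false
universe u

namespace Groth.Agent.Lib.Helper21

open MvPolynomial

/-- Gluing: if `s ⊆ P` spans the unit ideal and for every `g ∈ s` the localization `M_{α g}` is
finitely presented over `P_g` (through a ring map `φ g : P_g → A_{α g}` compatible with `α`), then
`M` is finitely presented over `P` through `α`. -/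
theorem fp_compHom_of_localizationSpan {P A : Type*} [CommRing P] [CommRing A] (α : P →+* A)
    (M : Type*) [AddCommGroup M] [Module A M] (s : Set P) (hs : Ideal.span s = ⊤)
    (φ : ∀ g : P, Localization.Away g →+* Localization.Away (α g))
    (hφ : ∀ g x, φ g (algebraMap P _ x) = algebraMap A _ (α x))
    (h : ∀ g ∈ s, @Module.FinitePresentation (Localization.Away g)
        (LocalizedModule (Submonoid.powers (α g)) M) _ _ (Module.compHom _ (φ g))) :
    @Module.FinitePresentation P M _ _ (Module.compHom M α) := by
  letI : Algebra P A := α.toAlgebra
  letI : Module P M := Module.compHom M α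
  have : IsScalarTower P A M := IsScalarTower.of_algebraMap_smul fun _ _ => rfl
  letI modPg : ∀ g : s, Module (Localization.Away g.1)
      (LocalizedModule (Submonoid.powers (α g.1)) M) := fun g => Module.compHom _ (φ g.1)
  have : ∀ g : s, IsScalarTower P (Localization.Away g.1)
      (LocalizedModule (Submonoid.powers (α g.1)) M) := fun g =>
    IsScalarTower.of_algebraMap_smul fun p x => by
      change φ g.1 (algebraMap P _ p) • x = p • x
      rw [hφ, algebraMap_smul]
      induction x using LocalizedModule.induction_on with
      | h m t =>
        rw [LocalizedModule.smul'_mk, LocalizedModule.smul'_mk]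
        rfl
  have : ∀ g : s, IsLocalizedModule (Submonoid.powers g.1)
      ((LocalizedModule.mkLinearMap (Submonoid.powers (α g.1)) M).restrictScalars P) := fun g =>
    IsLocalizedModule.restrictScalars_powers (R := P) (A := A) g.1
      (LocalizedModule.mkLinearMap (Submonoid.powers (α g.1)) M)
      (h := (inferInstance : IsLocalizedModule (Submonoid.powers (α g.1))
        (LocalizedModule.mkLinearMap (Submonoid.powers (α g.1)) M)))
  exact Module.FinitePresentation.of_localizationSpan' s hs
    (Rₚ := fun g => Localization.Away g.1)
    (Mₚ := fun g => LocalizedModule (Submonoid.powers (α g.1)) M)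
    (fun g => (LocalizedModule.mkLinearMap (Submonoid.powers (α g.1)) M).restrictScalars P)
    (fun g => h g.1 g.2)

/-- Passing from a presentation `γ : R[z] ↠ A_{α G}` to the canonical surjection
`P_G ↠ A_{α G}` where `P = R[x]`. -/
theorem relFP_away_of_relFP {R A : Type u} [CommRing R] [CommRing A] [Algebra R A]
    {σ τ : Type*} [Finite σ] [Finite τ]
    (α : MvPolynomial σ R →ₐ[R] A) (hα : Function.Surjective α) (G : MvPolynomial σ R)
    (N : Type*) [AddCommGroup N] [Module (Localization.Away (α G)) N]
    (γ : MvPolynomial τ R →ₐ[R] Localization.Away (α G)) (hγ : Function.Surjective γ)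
    (h : @Module.FinitePresentation (MvPolynomial τ R) N _ _ (Module.compHom N γ.toRingHom)) :
    @Module.FinitePresentation (Localization.Away G) N _ _
      (Module.compHom N (Localization.awayMapₐ α G).toRingHom) := by
  have : Algebra.FinitePresentation R (Localization.Away G) := inferInstance
  obtain ⟨m, ψ, hψ, hker⟩ := Algebra.FinitePresentation.out (R := R) (A := Localization.Away G)
  have hφ : Function.Surjective (Localization.awayMapₐ α G) :=
    IsLocalization.Away.mapₐ_surjective_of_surjective G hα
  have h1 := (relFP_indep N γ hγ ((Localization.awayMapₐ α G).comp ψ) (hφ.comp hψ)).mp h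
  exact (compHom_comp_iff ψ.toRingHom hψ hker (Localization.awayMapₐ α G).toRingHom).mp h1

end Groth.Agent.Lib.Helper21
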