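import Groth.Agent.Lib.Helper21.RelFP

set_option autoImplicit false
universe u

namespace Groth.Agent.Lib.Helper21

section FiniteFP

variable {S C M : Type*} [CommRing S] [CommRing C] [Algebra S C] [Module.Finite S C]
  [Module.FinitePresentation S C] [AddCommGroup M] [Module S M] [Module C M] [IsScalarTower S C M]

theorem fp_iff_of_finite_fp : Module.FinitePresentation C M ↔ Module.FinitePresentation S M := by
  constructor
  · intro h
    exact Module.FinitePresentation.trans S M C
  · intro h
    have : Module.Finite C M := Module.Finite.of_restrictScalars_finite S C M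
    obtain ⟨m, g, hg⟩ := Module.Finite.exists_fin' C M
    refine Module.finitePresentation_of_surjective g hg ?_
    apply Submodule.FG.of_restrictScalars S
    have : (LinearMap.ker g).restrictScalars S = LinearMap.ker (g.restrictScalars S) := rfl
    rw [this]
    exact Module.FinitePresentation.fg_ker (g.restrictScalars S) hg

end FiniteFP

section LemmaX

open MvPolynomial

theorem relFP_of_finite {R S B : Type u} [CommRing R] [CommRing S] [CommRing B]
    [Algebra R S] [Algebra S B] [Algebra R B] [IsScalarTower R S B]
    [Algebra.FinitePresentation R S] [Module.Finite S B]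
    {M : Type*} [AddCommGroup M] [Module B M] [Module S M] [IsScalarTower S B M]
    {τ : Type*} [Finite τ]
    (β : MvPolynomial τ R →ₐ[R] B) (hβ : Function.Surjective β) :
    Module.FinitePresentation S M ↔
      @Module.FinitePresentation (MvPolynomial τ R) M _ _ (Module.compHom M β.toRingHom) := by
  obtain ⟨C, _, _, _, _, _, f, hf⟩ := Module.Finite.exists_free_surjective S B
  letI : Module C M := Module.compHom M f.toRingHom
  haveI : IsScalarTower S C M := by
    refine ⟨fun s c m => ?_⟩
    change f (s • c) • m = s • (f c • m)
    rw [map_smul, smul_assoc]
  haveI : Module.FinitePresentation S C := Module.finitePresentation_of_projective S C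
  have h1 : Module.FinitePresentation C M ↔ Module.FinitePresentation S M :=
    fp_iff_of_finite_fp
  letI : Algebra R C := ((algebraMap S C).comp (algebraMap R S)).toAlgebra
  haveI : IsScalarTower R S C := IsScalarTower.of_algebraMap_eq' rfl
  haveI : Algebra.FinitePresentation R C := Algebra.FinitePresentation.trans R S C
  obtain ⟨l, π, hπ, hkπ⟩ := Algebra.FinitePresentation.out (R := R) (A := C)
  let γ : MvPolynomial (Fin l) R →ₐ[R] B := (f.restrictScalars R).comp π
  have hγ : Function.Surjective γ := hf.comp hπ
  have h2 := compHom_comp_iff (M := M) π.toRingHom hπ hkπ f.toRingHom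
  have h3 := relFP_indep M γ hγ β hβ
  rw [← h1, ← h3]
  exact h2.symm

end LemmaX

end Groth.Agent.Lib.Helper21
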