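import Groth.Agent.Lib.Helper21.RelFP
import Mathlib.LinearAlgebra.TensorProduct.Quotient
import Mathlib.LinearAlgebra.TensorProduct.Tower
import Mathlib.RingTheory.Finiteness.Ideal
import Mathlib.RingTheory.Ideal.Quotient.Operations
import Mathlib.Tactic

set_option autoImplicit false
universe u

namespace Groth.Agent.Lib.Helper21

open TensorProduct

section BC

variable {P A S A' : Type u} [CommRing P] [CommRing A] [CommRing S] [CommRing A']
  [Algebra P A] [Algebra P S] [Algebra S A'] [Algebra A A'] [Algebra P A']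
  [IsScalarTower P A A'] [IsScalarTower P S A']
  (M : Type u) [AddCommGroup M] [Module A M] [Module P M] [IsScalarTower P A M]

theorem map_ker_smul_top_eq_bot :
    Ideal.map (algebraMap P S) (RingHom.ker (algebraMap P A)) • (⊤ : Submodule S (S ⊗[P] M)) = ⊥ := by
  have hle : Ideal.map (algebraMap P S) (RingHom.ker (algebraMap P A)) ≤
      Module.annihilator S (S ⊗[P] M) := by
    rw [Ideal.map_le_iff_le_comap]
    intro k hk
    rw [Ideal.mem_comap, Module.mem_annihilator]
    intro n
    induction n using TensorProduct.induction_on with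
    | zero => simp
    | add x y hx hy => rw [smul_add, hx, hy, add_zero]
    | tmul s m =>
      rw [TensorProduct.smul_tmul', smul_eq_mul, ← Algebra.smul_def, TensorProduct.smul_tmul,
        ← algebraMap_smul A k m, (RingHom.mem_ker.mp hk), zero_smul, TensorProduct.tmul_zero]
  rw [eq_bot_iff, Submodule.smul_le]
  intro r hr n _
  rw [Module.mem_annihilator.mp (hle hr) n]
  exact zero_mem _

theorem fp_tensor_of_surjective
    (hPA : Function.Surjective (algebraMap P A)) (hSA' : Function.Surjective (algebraMap S A'))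
    [Module.FinitePresentation P M]
    (I₀ : Ideal S) (hI₀ : I₀.FG)
    (hker : RingHom.ker (algebraMap S A') =
      I₀ ⊔ Ideal.map (algebraMap P S) (RingHom.ker (algebraMap P A))) :
    @Module.FinitePresentation S (A' ⊗[A] M) _ _
      (Module.compHom (A' ⊗[A] M) (algebraMap S A')) := by
  have hJ : RingHom.ker (Algebra.ofId S A') = RingHom.ker (algebraMap S A') := rfl
  have h1 : (RingHom.ker (Algebra.ofId S A') • (⊤ : Submodule S (S ⊗[P] M))) = I₀ • ⊤ := by
    rw [hJ, hker, Submodule.sup_smul, map_ker_smul_top_eq_bot, sup_bot_eq]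
  have hfg : (RingHom.ker (Algebra.ofId S A') • (⊤ : Submodule S (S ⊗[P] M))).FG := by
    rw [h1]
    exact Submodule.FG.smul hI₀ Module.Finite.fg_top
  have hQ : Module.FinitePresentation S
      ((S ⊗[P] M) ⧸ (RingHom.ker (Algebra.ofId S A') • (⊤ : Submodule S (S ⊗[P] M)))) :=
    Module.finitePresentation_of_surjective (Submodule.mkQ _) (Submodule.mkQ_surjective _)
      (by rw [Submodule.ker_mkQ]; exact hfg)
  haveI : TensorProduct.CompatibleSMul P A A' M := ⟨fun a x m => by
    obtain ⟨p, rfl⟩ := hPA a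
    rw [algebraMap_smul, algebraMap_smul, TensorProduct.smul_tmul]⟩
  let e₁ := TensorProduct.quotTensorEquivQuotSMul (S ⊗[P] M) (RingHom.ker (Algebra.ofId S A'))
  let e₂ : (S ⧸ RingHom.ker (Algebra.ofId S A')) ≃ₗ[S] A' :=
    (Ideal.quotientKerAlgEquivOfSurjective (f := Algebra.ofId S A') hSA').toLinearEquiv
  let e₂' : (S ⧸ RingHom.ker (Algebra.ofId S A')) ⊗[S] (S ⊗[P] M) ≃ₗ[S] A' ⊗[S] (S ⊗[P] M) :=
    TensorProduct.congr e₂ (LinearEquiv.refl S _)
  let e₃ : A' ⊗[S] (S ⊗[P] M) ≃ₗ[A'] A' ⊗[P] M :=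
    TensorProduct.AlgebraTensorModule.cancelBaseChange P S A' A' M
  let e₄ : A' ⊗[A] M ≃ₗ[A'] A' ⊗[P] M := TensorProduct.equivOfCompatibleSMul P A A' A' M
  have hFP : Module.FinitePresentation S (A' ⊗[A] M) :=
    Module.FinitePresentation.of_equiv
      (e₁.symm ≪≫ₗ e₂' ≪≫ₗ e₃.restrictScalars S ≪≫ₗ (e₄.symm.restrictScalars S))
  have hinst : (inferInstance : Module S (A' ⊗[A] M)) =
      Module.compHom (A' ⊗[A] M) (algebraMap S A') :=
    Module.ext' _ _ (fun s y => (algebraMap_smul A' s y).symm)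
  rw [← hinst]
  exact hFP

end BC

end Groth.Agent.Lib.Helper21
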