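import Groth.Prelude.Def_FlatCA
import Groth.Agent.S7005
import Groth.Agent.S6992
import Groth.Agent.Lib.Helper21.RelFP5
import Mathlib.Tactic

/-!
# API for the prelude's `FlatCA.RelFinitePresentation`
-/

set_option autoImplicit false
universe u

namespace Groth.Agent.Lib.Helper21

open MvPolynomial FlatCA

section Basic

variable {R S : Type u} [CommRing R] [CommRing S] [Algebra R S]
  {N : Type u} [AddCommGroup N] [Module S N]

theorem RelFinitePresentation.finiteType (h : RelFinitePresentation R S N) :
    Algebra.FiniteType R S := by
  obtain ⟨n, φ, hφ, -⟩ := h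
  exact Algebra.FiniteType.of_surjective φ hφ

/-- Relative finite presentation can be tested on any presentation. -/
theorem RelFinitePresentation.forall (h : RelFinitePresentation R S N) {τ : Type*} [Finite τ]
    (γ : MvPolynomial τ R →ₐ[R] S) (hγ : Function.Surjective γ) :
    @Module.FinitePresentation (MvPolynomial τ R) N _ _ (Module.compHom N γ.toRingHom) := by
  obtain ⟨n, φ, hφ, hfp⟩ := h
  exact (relFP_indep N φ hφ γ hγ).mp hfp

theorem relFinitePresentation_of {n : ℕ} (γ : MvPolynomial (Fin n) R →ₐ[R] S)
    (hγ : Function.Surjective γ)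
    (h : @Module.FinitePresentation (MvPolynomial (Fin n) R) N _ _
      (Module.compHom N γ.toRingHom)) : RelFinitePresentation R S N :=
  ⟨n, γ, hγ, h⟩

/-- Transfer along an isomorphism of algebras and a compatible isomorphism of modules. -/
theorem RelFinitePresentation.of_equiv {S' N' : Type u} [CommRing S'] [Algebra R S']
    [AddCommGroup N'] [Module S' N'] (e : S ≃ₐ[R] S') (eN : N ≃+ N')
    (he : ∀ (s : S) (x : N), eN (s • x) = e s • eN x) (h : RelFinitePresentation R S N) :
    RelFinitePresentation R S' N' := by
  obtain ⟨n, φ, hφ, hfp⟩ := h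
  refine ⟨n, (e : S →ₐ[R] S').comp φ, e.surjective.comp hφ, ?_⟩
  letI : Module (MvPolynomial (Fin n) R) N := Module.compHom N φ.toRingHom
  letI : Module (MvPolynomial (Fin n) R) N' :=
    Module.compHom N' ((e : S →ₐ[R] S').comp φ).toRingHom
  have : Module.FinitePresentation (MvPolynomial (Fin n) R) N := hfp
  let e' : N ≃ₗ[MvPolynomial (Fin n) R] N' :=
    { eN with
      map_smul' := fun p x => he (φ p) x }
  exact Module.FinitePresentation.of_equiv e'

/-- Base change along an algebra of finite presentation. -/
theorem RelFinitePresentation.of_isBaseChange {S' N' : Type u} [CommRing S'] [Algebra S S']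
    [Algebra R S'] [IsScalarTower R S S'] [Algebra.FinitePresentation S S']
    [AddCommGroup N'] [Module S' N'] [Module S N'] [IsScalarTower S S' N']
    (φ : N →ₗ[S] N') (hφ : IsBaseChange S' φ) (h : RelFinitePresentation R S N) :
    RelFinitePresentation R S' N' := by
  have hft : Algebra.FiniteType R S := RelFinitePresentation.finiteType h
  obtain ⟨n, α, hα, hM⟩ := h
  have hft' : Algebra.FiniteType R S' := Algebra.FiniteType.trans hft inferInstance
  obtain ⟨k, γ, hγ⟩ := Algebra.FiniteType.iff_quotient_mvPolynomial''.mp hft'
  have h1 := Groth.Agent.S7005.relFP_tensor (A' := S') N α hα hM γ hγ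
  exact ⟨k, γ, hγ, fp_compHom_of_linearEquiv γ.toRingHom hφ.equiv h1⟩

/-- Localization away from an element. -/
theorem RelFinitePresentation.of_isLocalizedModule_away (a : S) {S' N' : Type u} [CommRing S']
    [Algebra S S'] [Algebra R S'] [IsScalarTower R S S'] [IsLocalization.Away a S']
    [AddCommGroup N'] [Module S' N'] [Module S N'] [IsScalarTower S S' N']
    (φ : N →ₗ[S] N') [IsLocalizedModule (Submonoid.powers a) φ]
    (h : RelFinitePresentation R S N) : RelFinitePresentation R S' N' := by
  have : Algebra.FinitePresentation S S' := IsLocalization.Away.finitePresentation a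
  exact RelFinitePresentation.of_isBaseChange φ
    (IsLocalizedModule.isBaseChange (Submonoid.powers a) S' φ) h

end Basic

section ChangeBase

variable {R R' S : Type u} [CommRing R] [CommRing R'] [CommRing S] [Algebra R R'] [Algebra R' S]
  [Algebra R S] [IsScalarTower R R' S] {N : Type u} [AddCommGroup N] [Module S N]

/-- The base ring may be changed along an algebra of finite presentation. -/
theorem RelFinitePresentation.restrictScalars [Algebra.FinitePresentation R R']
    (h : RelFinitePresentation R' S N) : RelFinitePresentation R S N := by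
  have hft : Algebra.FiniteType R' S := RelFinitePresentation.finiteType h
  obtain ⟨n, α, hα, hM⟩ := h
  have hft' : Algebra.FiniteType R S := Algebra.FiniteType.trans inferInstance hft
  obtain ⟨k, γ, hγ⟩ := Algebra.FiniteType.iff_quotient_mvPolynomial''.mp hft'
  exact ⟨k, γ, hγ, (relFP_change_base N α hα γ hγ).mp hM⟩

theorem RelFinitePresentation.extendScalars [Algebra.FinitePresentation R R']
    (h : RelFinitePresentation R S N) : RelFinitePresentation R' S N := by
  have hft : Algebra.FiniteType R S := RelFinitePresentation.finiteType h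
  obtain ⟨n, γ, hγ, hM⟩ := h
  have hft' : Algebra.FiniteType R' S := Algebra.FiniteType.of_restrictScalars_finiteType R R' S
  obtain ⟨k, α, hα⟩ := Algebra.FiniteType.iff_quotient_mvPolynomial''.mp hft'
  exact ⟨k, α, hα, (relFP_change_base N α hα γ hγ).mpr hM⟩

theorem relFinitePresentation_change_base_iff [Algebra.FinitePresentation R R'] :
    RelFinitePresentation R' S N ↔ RelFinitePresentation R S N :=
  ⟨fun h => RelFinitePresentation.restrictScalars h,
    fun h => RelFinitePresentation.extendScalars h⟩

end ChangeBase

section Glue

variable {R S : Type u} [CommRing R] [CommRing S] [Algebra R S]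
  {N : Type u} [AddCommGroup N] [Module S N]

/-- Relative finite presentation is local on the source. -/
theorem relFinitePresentation_of_localizationSpan [Algebra.FiniteType R S] (s : Set S)
    (hs : Ideal.span s = ⊤)
    (h : ∀ a ∈ s, RelFinitePresentation R (Localization.Away a)
      (LocalizedModule (Submonoid.powers a) N)) : RelFinitePresentation R S N := by
  obtain ⟨n, α, hα⟩ := Algebra.FiniteType.iff_quotient_mvPolynomial''.mp
    (inferInstance : Algebra.FiniteType R S)
  refine ⟨n, α, hα, ?_⟩
  let t : Set (MvPolynomial (Fin n) R) := {g | α g ∈ s ∨ α g = 0}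
  have ht : Ideal.span t = ⊤ := by
    have hker : RingHom.ker α.toRingHom ≤ Ideal.span t := fun g hg =>
      Ideal.subset_span (Or.inr hg)
    have hmap : Ideal.map α.toRingHom (Ideal.span t) = ⊤ := by
      rw [eq_top_iff, ← hs, Ideal.span_le]
      intro a ha
      obtain ⟨g, rfl⟩ := hα a
      exact Ideal.mem_map_of_mem _ (Ideal.subset_span (Or.inl ha))
    have h2 := Ideal.comap_map_of_surjective α.toRingHom hα (Ideal.span t)
    rw [hmap, Ideal.comap_top] at h2
    have h3 : Ideal.comap α.toRingHom ⊥ = RingHom.ker α.toRingHom := rfl
    rw [h3, sup_eq_left.mpr hker] at h2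
    exact h2.symm
  refine fp_compHom_of_localizationSpan α.toRingHom N t ht
    (fun g => (Localization.awayMapₐ α g).toRingHom) ?_ ?_
  · intro g x
    change IsLocalization.Away.map (Localization.Away g) (Localization.Away (α g))
      α.toRingHom g (algebraMap _ _ x) = _
    rw [IsLocalization.Away.map, IsLocalization.map_eq]
    rfl
  · rintro g (hg | hg)
    · obtain ⟨k, γ, hγ, hfp⟩ := h (α g) hg
      exact relFP_away_of_relFP α hα g _ γ hγ hfp
    · have hsub : Subsingleton (LocalizedModule (Submonoid.powers (α.toRingHom g)) N) :=
        LocalizedModule.subsingleton (by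
          change (0 : S) ∈ Submonoid.powers (α g)
          rw [hg]
          exact ⟨1, pow_one 0⟩)
      exact @Module.FinitePresentation.of_subsingleton _ _ _ _ (_) hsub

end Glue

end Groth.Agent.Lib.Helper21
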