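import Groth.Agent.Lib.Helper21.QCohFinite
import Groth.Agent.Lib.Helper78.ModStalkExact
import Groth.Prelude.Def_CohB1

/-!
# Support of quasi-coherent modules of finite type

* `isClosed_support`: the support of a quasi-coherent module of finite type is closed.
* `support_shortExact`: the support of the middle term of a short exact sequence is the union of
  the supports of the outer terms.
-/

set_option autoImplicit false
set_option linter.style.haveILetI false
universe u

open AlgebraicGeometry CategoryTheory Opposite TopologicalSpace Limits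

namespace Groth.Agent.Lib.Helper21.CohSupport

set_option backward.isDefEq.respectTransparency.types false

open Groth.Agent.Lib.Helper21.RelFPSch

variable {X : Scheme.{u}}

theorem subsingleton_of_isLocalizedModule {R : Type*} [CommRing R] (S : Submonoid R)
    {M M' : Type*} [AddCommGroup M] [AddCommGroup M'] [Module R M] [Module R M']
    (f : M →ₗ[R] M') [IsLocalizedModule S f] [Subsingleton M] : Subsingleton M' := by
  refine ⟨fun y z => ?_⟩
  suffices h : ∀ y : M', y = 0 by rw [h y, h z]
  intro y
  obtain ⟨⟨m, s⟩, hs⟩ := IsLocalizedModule.surj S f y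
  have hm : m = 0 := Subsingleton.elim _ _
  rw [hm, map_zero] at hs
  have hu := IsLocalizedModule.map_units f s
  have hinj : Function.Injective (algebraMap R (Module.End R M') s) :=
    ((Module.End.isUnit_iff _).mp hu).injective
  apply hinj
  rw [map_zero]
  exact hs

theorem subsingleton_basicOpen (M : X.Modules) [M.IsQuasicoherent] {U : X.Opens}
    (hU : IsAffineOpen U) (a : Γ(X, U)) (h : Subsingleton Γ(M, U)) :
    Subsingleton Γ(M, X.basicOpen a) := by
  letI : Module Γ(X, U) Γ(M, X.basicOpen a) :=
    Module.compHom _ (resRing X (X.basicOpen_le a))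
  haveI := isLocalizedModule_resL M hU a
  exact subsingleton_of_isLocalizedModule (Submonoid.powers a) (resL M (X.basicOpen_le a))

theorem subsingleton_stalk_of_subsingleton_sections (M : X.Modules) [M.IsQuasicoherent]
    {U : X.Opens} (hU : IsAffineOpen U) (h : Subsingleton Γ(M, U)) (y : X) (hy : y ∈ U) :
    Subsingleton (M.presheaf.stalk y) := by
  refine ⟨fun m m' => ?_⟩
  suffices h0 : ∀ m : M.presheaf.stalk y, m = 0 by rw [h0 m, h0 m']
  intro m
  obtain ⟨W, hyW, t, rfl⟩ := M.presheaf.exists_germ_eq (x := y) m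
  obtain ⟨b, hbW, hyb⟩ := hU.exists_basicOpen_le (V := W) ⟨y, hyW⟩ hy
  have hsub := subsingleton_basicOpen M hU b h
  have h1 := TopCat.Presheaf.germ_res_apply M.presheaf (homOfLE hbW) y hyb t
  rw [← h1]
  have h2 : M.presheaf.map (homOfLE hbW).op t = (0 : Γ(M, X.basicOpen b)) :=
    Subsingleton.elim _ _
  rw [h2]
  exact map_zero _

theorem presheaf_map_map (M : X.Modules) {U V W : X.Opens} (hVU : V ≤ U) (hWV : W ≤ V)
    (s : Γ(M, U)) :
    M.presheaf.map (homOfLE hWV).op (M.presheaf.map (homOfLE hVU).op s) =
      M.presheaf.map (homOfLE (hWV.trans hVU)).op s := by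
  rw [← ConcreteCategory.comp_apply, ← Functor.map_comp]
  rfl

theorem exists_open_res_eq_zero (M : X.Modules) {U : X.Opens} (x : X) (hx : x ∈ U)
    (hs : Subsingleton (M.presheaf.stalk x)) (S : Finset Γ(M, U)) :
    ∃ (V : X.Opens) (hV : V ≤ U), x ∈ V ∧ ∀ s ∈ S, M.presheaf.map (homOfLE hV).op s = 0 := by
  classical
  induction S using Finset.induction_on with
  | empty => exact ⟨U, le_rfl, hx, by simp⟩
  | insert s S hs' ih =>
    obtain ⟨V, hV, hxV, hS⟩ := ih
    have h0 : M.presheaf.germ U x hx s = M.presheaf.germ U x hx 0 := Subsingleton.elim _ _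
    obtain ⟨W, hxW, iU, iV, hW⟩ := TopCat.Presheaf.germ_eq M.presheaf x hx hx s 0 h0
    have hWU : W ≤ U := leOfHom iU
    refine ⟨V ⊓ W, inf_le_left.trans hV, ⟨hxV, hxW⟩, ?_⟩
    intro t ht
    rw [Finset.mem_insert] at ht
    rcases ht with rfl | ht
    · rw [← presheaf_map_map M hWU inf_le_right t]
      have : M.presheaf.map (homOfLE hWU).op t = 0 := by
        have h1 : M.presheaf.map (homOfLE hWU).op t = M.presheaf.map iU.op t := rfl
        rw [h1, hW]
        exact map_zero _
      rw [this]
      exact map_zero _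
    · rw [← presheaf_map_map M hV inf_le_left t, hS t ht]
      exact map_zero _

theorem exists_basicOpen_subsingleton (M : X.Modules) [M.IsQuasicoherent] {U : X.Opens}
    (hU : IsAffineOpen U) (hfin : Module.Finite Γ(X, U) Γ(M, U)) (x : X) (hx : x ∈ U)
    (hs : Subsingleton (M.presheaf.stalk x)) :
    ∃ a : Γ(X, U), x ∈ X.basicOpen a ∧ Subsingleton Γ(M, X.basicOpen a) := by
  obtain ⟨S, hS⟩ := hfin.fg_top
  obtain ⟨V, hV, hxV, hres⟩ := exists_open_res_eq_zero M x hx hs S
  obtain ⟨a, haV, hxa⟩ := hU.exists_basicOpen_le (V := V) ⟨x, hxV⟩ hx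
  refine ⟨a, hxa, ?_⟩
  letI : Module Γ(X, U) Γ(M, X.basicOpen a) :=
    Module.compHom _ (resRing X (X.basicOpen_le a))
  haveI := isLocalizedModule_resL M hU a
  have hker : LinearMap.ker (resL M (X.basicOpen_le a)) = ⊤ := by
    rw [eq_top_iff, ← hS, Submodule.span_le]
    intro s hs
    rw [SetLike.mem_coe, LinearMap.mem_ker]
    change M.presheaf.map (homOfLE (X.basicOpen_le a)).op s = 0
    rw [← presheaf_map_map M hV haV s, hres s hs]
    exact map_zero _
  refine ⟨fun y z => ?_⟩
  suffices h : ∀ y : Γ(M, X.basicOpen a), y = 0 by rw [h y, h z]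
  intro y
  obtain ⟨⟨m, s⟩, hms⟩ := IsLocalizedModule.surj (Submonoid.powers a)
    (resL M (X.basicOpen_le a)) y
  have hm : resL M (X.basicOpen_le a) m = 0 := by
    rw [← LinearMap.mem_ker, hker]; trivial
  rw [hm] at hms
  have hu := IsLocalizedModule.map_units (resL M (X.basicOpen_le a)) s
  have hinj : Function.Injective
      (algebraMap Γ(X, U) (Module.End Γ(X, U) Γ(M, X.basicOpen a)) s) :=
    ((Module.End.isUnit_iff _).mp hu).injective
  apply hinj
  rw [map_zero]
  exact hms

/-- The support of a quasi-coherent module of finite type is closed. -/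
theorem isClosed_support (M : X.Modules) [M.IsQuasicoherent]
    (hft : SheafOfModules.IsFiniteType (R := X.ringCatSheaf) M) :
    IsClosed (CohB1.support M) := by
  rw [← isOpen_compl_iff, isOpen_iff_forall_mem_open]
  intro x hx
  have hs : Subsingleton (M.presheaf.stalk x) := not_not.mp hx
  obtain ⟨_, ⟨U, hU, rfl⟩, hxU, -⟩ :=
    X.isBasis_affineOpens.exists_subset_of_mem_open (Set.mem_univ x) isOpen_univ
  have hfin := Groth.Agent.Lib.Helper21.QCohFinite.finite_sections_of_isFiniteType M hft hU
  obtain ⟨a, hxa, hsub⟩ := exists_basicOpen_subsingleton M hU hfin x hxU hs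
  refine ⟨X.basicOpen a, ?_, (X.basicOpen a).2, hxa⟩
  intro y hy
  exact not_not.mpr (subsingleton_stalk_of_subsingleton_sections M (hU.basicOpen a) hsub y hy)

open Groth.Agent.Lib.Helper78.ModStalk Groth.Agent.Lib.Helper78.ModStalkExact in
/-- Supports in a short exact sequence. -/
theorem support_shortExact (E : ShortComplex X.Modules) (hE : E.ShortExact) :
    CohB1.support E.X₂ = CohB1.support E.X₁ ∪ CohB1.support E.X₃ := by
  ext x
  simp only [CohB1.support, Set.mem_setOf_eq, Set.mem_union]
  have hinj := stalk_injective E hE x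
  have hsurj := stalk_surjective E hE x
  have hex := stalk_function_exact E hE x
  constructor
  · intro h2
    by_contra hcon
    push_neg at hcon
    obtain ⟨h1, h3⟩ := hcon
    apply h2
    refine ⟨fun m m' => ?_⟩
    suffices h0 : ∀ m : E.X₂.presheaf.stalk x, m = 0 by rw [h0 m, h0 m']
    intro m
    have hm : stalkMap E.g x m = 0 := Subsingleton.elim _ _
    obtain ⟨n, rfl⟩ := (hex m).mp hm
    have : n = 0 := Subsingleton.elim _ _
    rw [this, map_zero]
  · rintro (h1 | h3) h2
    · exact h1 (hinj.subsingleton)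
    · exact h3 (hsurj.subsingleton)

end Groth.Agent.Lib.Helper21.CohSupport
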