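import Groth.Prelude.Def_CohB1
import Mathlib.AlgebraicGeometry.Modules.Sheaf
import Mathlib.Topology.Sheaves.PUnit

/-!
# Support of a pushforward along a morphism with closed range (helper21)

* `subsingleton_sections_bot`: sections over the empty open vanish.
* `subsingleton_stalk_pushforward_of_notMem_range`, `support_pushforward_subset_range`.
* `support_eq_of_iso`.
-/

set_option autoImplicit false
set_option backward.isDefEq.respectTransparency.types false

universe u

open AlgebraicGeometry CategoryTheory Opposite TopologicalSpace Limits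

namespace Groth.Agent.Lib.Helper21.ClImmSupport

variable {Z X : Scheme.{u}}

theorem subsingleton_sections_bot (G : Z.Modules) : Subsingleton Γ(G, (⊥ : Z.Opens)) := by
  have h1 : IsTerminal (G.presheaf.obj (op (⊥ : Z.Opens))) :=
    TopCat.Sheaf.isTerminalOfEmpty (C := AddCommGrpCat.{u}) ⟨G.presheaf, G.isSheaf⟩
  have h2 : IsZero (G.presheaf.obj (op (⊥ : Z.Opens))) :=
    (isZero_zero _).of_iso (h1.uniqueUpToIso (isZero_zero AddCommGrpCat.{u}).isTerminal)
  exact AddCommGrpCat.subsingleton_of_isZero h2

theorem subsingleton_sections_of_eq_bot (G : Z.Modules) (V : Z.Opens) (hV : V = ⊥) :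
    Subsingleton Γ(G, V) := by
  subst hV
  exact subsingleton_sections_bot G

theorem subsingleton_stalk_pushforward_of_notMem_range (i : Z ⟶ X)
    (hcl : IsClosed (Set.range i)) (G : Z.Modules) (x : X) (hx : x ∉ Set.range i) :
    Subsingleton (((Scheme.Modules.pushforward i).obj G).presheaf.stalk x) := by
  refine ⟨fun a b => ?_⟩
  suffices h0 : ∀ a : ((Scheme.Modules.pushforward i).obj G).presheaf.stalk x, a = 0 by
    rw [h0 a, h0 b]
  intro a
  obtain ⟨U, hxU, t, rfl⟩ := ((Scheme.Modules.pushforward i).obj G).presheaf.exists_germ_eq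
    (x := x) a
  let V : X.Opens := U ⊓ ⟨(Set.range i)ᶜ, hcl.isOpen_compl⟩
  have hxV : x ∈ V := ⟨hxU, hx⟩
  have hV : i ⁻¹ᵁ V = ⊥ := by
    ext z
    simp only [Scheme.Hom.mem_preimage, Opens.coe_bot, Set.mem_empty_iff_false, iff_false,
      SetLike.mem_coe]
    rintro ⟨-, hz⟩
    exact hz ⟨z, rfl⟩
  have hsub : Subsingleton Γ((Scheme.Modules.pushforward i).obj G, V) :=
    subsingleton_sections_of_eq_bot G _ hV
  have h1 := TopCat.Presheaf.germ_res_apply ((Scheme.Modules.pushforward i).obj G).presheaf
    (homOfLE (inf_le_left : V ≤ U)) x hxV t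
  rw [← h1]
  have h2 : ((Scheme.Modules.pushforward i).obj G).presheaf.map (homOfLE (inf_le_left : V ≤ U)).op t
      = (0 : Γ((Scheme.Modules.pushforward i).obj G, V)) := Subsingleton.elim _ _
  rw [h2, map_zero]

theorem support_pushforward_subset_range (i : Z ⟶ X) (hcl : IsClosed (Set.range i))
    (G : Z.Modules) : CohB1.support ((Scheme.Modules.pushforward i).obj G) ⊆ Set.range i := by
  intro x hx
  by_contra hn
  exact hx (subsingleton_stalk_pushforward_of_notMem_range i hcl G x hn)

theorem support_eq_of_iso {M N : X.Modules} (e : M ≅ N) : CohB1.support M = CohB1.support N := by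
  ext x
  have e' : M.presheaf.stalk x ≅ N.presheaf.stalk x :=
    (TopCat.Presheaf.stalkFunctor Ab x).mapIso ((Scheme.Modules.toPresheaf X).mapIso e)
  have eq : M.presheaf.stalk x ≃ N.presheaf.stalk x := e'.addCommGroupIsoToAddEquiv.toEquiv
  show ¬ Subsingleton _ ↔ ¬ Subsingleton _
  rw [eq.subsingleton_congr]

end Groth.Agent.Lib.Helper21.ClImmSupport
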