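import Groth.Agent.Lib.Helper21.ClImmUnit2
import Groth.Agent.Lib.Lead.PullbackAff3
import Groth.Prelude.Def_ClSub2
import Mathlib.AlgebraicGeometry.Morphisms.ClosedImmersion

/-!
# Closed immersions: `F ≅ i_* i^* F` for quasi-coherent `F` killed by the ideal of `i` (helper21)

* `isIso_unit_app_of_isAffineOpen`: sectionwise statement over an affine open.
* `isIso_unit_of_killed`: the unit `F ⟶ i_* i^* F` is an isomorphism if, over every affine open,
  the kernel of `O_X(U) → O_Z(i⁻¹ U)` kills `Γ(F, U)`.
* `isIso_unit_of_killedByIdeal`: same with hypothesis `ClSub.KilledByIdeal i.ker F`.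
-/

set_option autoImplicit false
set_option backward.isDefEq.respectTransparency.types false

universe u

open AlgebraicGeometry CategoryTheory Opposite TopologicalSpace

namespace Groth.Agent.Lib.Helper21.ClImmUnit

open Scheme.Modules Groth.Agent.Lib.Lead.PullbackAff

variable {Z X : Scheme.{u}} (i : Z ⟶ X) [IsClosedImmersion i]

/-- The unit `F ⟶ i_* i^* F` is an isomorphism on sections over an affine open `U` when
`ker (O_X(U) → O_Z(i⁻¹U))` kills `Γ(F, U)`. -/
theorem isIso_unit_app_of_isAffineOpen (F : X.Modules) [F.IsQuasicoherent] {U : X.Opens}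
    (hU : IsAffineOpen U)
    (hk : ∀ a ∈ RingHom.ker (i.app U).hom, ∀ m : Γ(F, U), a • m = 0) :
    IsIso (((pullbackPushforwardAdjunction i).unit.app F).app U) := by
  have hU' : IsAffineOpen (i ⁻¹ᵁ U) := hU.preimage i
  let φ := i.appLE U (i ⁻¹ᵁ U) le_rfl
  have comm : hU'.fromSpec ≫ i = Spec.map φ ≫ hU.fromSpec :=
    (hU.SpecMap_appLE_fromSpec i hU' le_rfl).symm
  refine isIso_unit_app_of_restrict i hU.fromSpec hU'.fromSpec (Spec.map φ) comm F U
    (by rw [hU.opensRange_fromSpec]) (by rw [hU'.opensRange_fromSpec]) ?_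
  rw [hU.fromSpec_preimage_self]
  have hφ : φ = i.app U := (Scheme.Hom.app_eq_appLE ..).symm
  refine isIso_unit_app_top φ ?_ _ ?_
  · rw [hφ]; exact i.app_surjective U hU
  · intro r hr m
    apply (secEquiv hU F).injective
    rw [LinearEquiv.map_smul, LinearEquiv.map_zero]
    exact hk r (by rwa [hφ] at hr) _

/-- **Closed immersions**: if `F` is quasi-coherent and, over every affine open `U`, the kernel of
`O_X(U) → O_Z(i⁻¹ U)` kills `Γ(F, U)`, then the unit `F ⟶ i_* i^* F` is an isomorphism. -/
theorem isIso_unit_of_killed (F : X.Modules) [F.IsQuasicoherent]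
    (hk : ∀ U : X.Opens, IsAffineOpen U →
      ∀ a ∈ RingHom.ker (i.app U).hom, ∀ m : Γ(F, U), a • m = 0) :
    IsIso ((pullbackPushforwardAdjunction i).unit.app F) := by
  refine isIso_of_app_bijective_of_isAffineOpen _ fun U hU => ?_
  have := isIso_unit_app_of_isAffineOpen i F hU (hk U hU)
  exact (ConcreteCategory.isIso_iff_bijective _).mp this

/-- The unit `F ⟶ i_* i^* F` is an isomorphism for quasi-coherent `F` killed by the ideal sheaf
of the closed immersion `i`. -/
theorem isIso_unit_of_killedByIdeal (F : X.Modules) [F.IsQuasicoherent]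
    (hk : ClSub.KilledByIdeal i.ker F) :
    IsIso ((pullbackPushforwardAdjunction i).unit.app F) := by
  refine isIso_unit_of_killed i F fun U hU a ha m => ?_
  refine hk ⟨U, hU⟩ a ?_ m
  rw [Scheme.Hom.ker_apply]
  exact ha

/-- `i_* i^* F ≅ F` for quasi-coherent `F` killed by the ideal sheaf of `i`. -/
noncomputable def pushforwardPullbackIso (F : X.Modules) [F.IsQuasicoherent]
    (hk : ClSub.KilledByIdeal i.ker F) :
    (Scheme.Modules.pushforward i).obj ((Scheme.Modules.pullback i).obj F) ≅ F :=
  haveI := isIso_unit_of_killedByIdeal i F hk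
  (asIso ((pullbackPushforwardAdjunction i).unit.app F)).symm

end Groth.Agent.Lib.Helper21.ClImmUnit
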