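import Groth.Agent.Lib.Helper21.ProperOver
import Mathlib.AlgebraicGeometry.Properties


/-!
# The reduced induced structure on an irreducible closed subset is integral (helper21)
-/

set_option autoImplicit false
set_option linter.style.haveILetI false
universe u
open AlgebraicGeometry CategoryTheory Opposite TopologicalSpace Limits

namespace Groth.Agent.Lib.Helper21.IntegralSub

variable {X : Scheme.{u}}

instance isReduced_vanishingIdeal_subscheme (Z : Closeds X) :
    IsReduced (Scheme.IdealSheafData.vanishingIdeal Z).subscheme := by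
  have : ∀ U : (Scheme.IdealSheafData.vanishingIdeal Z).subschemeCover.openCover.I₀, IsReduced
      ((Scheme.IdealSheafData.vanishingIdeal Z).subschemeCover.openCover.X U) := by
    intro (U : X.affineOpens)
    have h : _root_.IsReduced (Γ(X, U) ⧸ (Scheme.IdealSheafData.vanishingIdeal Z).ideal U) := by
      rw [← Ideal.isRadical_iff_quotient_reduced, Scheme.IdealSheafData.vanishingIdeal_ideal]
      exact PrimeSpectrum.isRadical_vanishingIdeal _
    show IsReduced (Spec (.of (Γ(X, U) ⧸ (Scheme.IdealSheafData.vanishingIdeal Z).ideal U)))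
    infer_instance
  exact @IsReduced.of_openCover _ (Scheme.IdealSheafData.vanishingIdeal Z).subschemeCover.openCover this

theorem isIntegral_vanishingIdeal_subscheme (Z₀ : Set X) (hZ₀ : IsClosed Z₀)
    (hirr : IsIrreducible Z₀) :
    IsIntegral (Scheme.IdealSheafData.vanishingIdeal ⟨Z₀, hZ₀⟩).subscheme := by
  haveI : IrreducibleSpace (Scheme.IdealSheafData.vanishingIdeal ⟨Z₀, hZ₀⟩).subscheme := by
    have hr := Groth.Agent.Lib.Helper21.ProperOver.range_subschemeι_vanishingIdeal Z₀ hZ₀
    have hemb := (Scheme.IdealSheafData.vanishingIdeal ⟨Z₀, hZ₀⟩).subschemeι.isEmbedding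
    haveI : IrreducibleSpace (Set.range
        (Scheme.IdealSheafData.vanishingIdeal ⟨Z₀, hZ₀⟩).subschemeι) := by
      rw [hr]
      exact Subtype.irreducibleSpace hirr
    exact hemb.toHomeomorph.irreducibleSpace_iff.mpr inferInstance
  exact isIntegral_of_irreducibleSpace_of_isReduced _

theorem exists_integral_closedImmersion (Z₀ : Set X) (hZ₀ : IsClosed Z₀)
    (hirr : IsIrreducible Z₀) :
    ∃ (Z : Scheme.{u}) (i : Z ⟶ X), IsClosedImmersion i ∧ IsIntegral Z ∧ Set.range i = Z₀ :=
  ⟨_, (Scheme.IdealSheafData.vanishingIdeal ⟨Z₀, hZ₀⟩).subschemeι, inferInstance,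
    isIntegral_vanishingIdeal_subscheme Z₀ hZ₀ hirr,
    Groth.Agent.Lib.Helper21.ProperOver.range_subschemeι_vanishingIdeal Z₀ hZ₀⟩

theorem closure_genericPoint_image {Z : Scheme.{u}} (i : Z ⟶ X) [IsClosedImmersion i]
    [IsIntegral Z] : closure {i (genericPoint Z)} = Set.range i := by
  have h1 : closure {genericPoint Z} = Set.univ := (genericPoint_spec Z).def
  have h2 := i.isClosedEmbedding.isClosedMap.closure_image_eq_of_continuous
    i.continuous {genericPoint Z}
  rw [Set.image_singleton] at h2
  rw [h2, h1, Set.image_univ]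

theorem isIrreducible_range {Z : Scheme.{u}} (i : Z ⟶ X) [IsIntegral Z] :
    IsIrreducible (Set.range i) := by
  rw [← Set.image_univ]
  exact (IrreducibleSpace.isIrreducible_univ Z).image i i.continuous.continuousOn

end Groth.Agent.Lib.Helper21.IntegralSub
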