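import Groth.Agent.Lib.Helper21.Devissage
import Groth.Agent.Lib.Helper21.IntegralSub
import Groth.Agent.Lib.Helper21.ClImmUnit3
import Groth.Agent.Lib.Helper21.ClImmSupport
import Groth.Agent.Lib.Helper64.PushStalk
import Groth.Agent.Lib.Helper64.CohPush
import Groth.Agent.Lib.Lead.PullbackAff4
import Groth.Agent.Lib.Lead.QCohAff6
import Mathlib.AlgebraicGeometry.FunctionField


/-!
# Dévissage along integral closed subschemes (helper21)

* `isSimpleModule_stalk_pushO`: the stalk of `i_* O_Z` at the generic point of an integral closed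
  subscheme is simple.
* `exists_ideal_of_mono`: quasi-coherent submodules of `i_* O_Z` are `i_* I` for ideals `I ⊆ O_Z`.
* `isZero_of_mono_pushO`: `i_* O_Z` is torsion-free.
* `ext_step`, `ext_devissage`: a property of coherent modules which is extension-closed and holds
  for `i_* I` holds for all coherent modules.
-/

set_option autoImplicit false
set_option linter.style.haveILetI false
universe u
open AlgebraicGeometry CategoryTheory Opposite TopologicalSpace Limits

namespace Groth.Agent.Lib.Helper21.ClImmDev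

open Groth.Agent.Lib.Helper78.ModStalk Groth.Agent.Lib.Helper21.StalkLen
  Groth.Agent.Lib.Helper64.PushStalk

variable {X Z : Scheme.{u}}

theorem isQuasicoherent_structureModule (X : Scheme.{u}) :
    (Coh.structureModule X).IsQuasicoherent := by
  have h : (SheafOfModules.free (R := X.ringCatSheaf) PUnit.{u+1}).IsQuasicoherent := inferInstance
  exact ObjectProperty.prop_of_iso (SheafOfModules.isQuasicoherent X.ringCatSheaf)
    (coproductUniqueIso (fun _ : PUnit.{u+1} => SheafOfModules.unit X.ringCatSheaf)) h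

theorem isCoh_structureModule (X : Scheme.{u}) : Coh.IsCoh (Coh.structureModule X) := by
  haveI := isQuasicoherent_structureModule X
  refine ⟨inferInstance, ?_⟩
  rw [Groth.Agent.Lib.Lead.CohAff.isFiniteType_iff_finite_sections]
  intro U hU
  exact inferInstanceAs (Module.Finite Γ(X, U) Γ(X, U))

theorem isCoh_pushO (i : Z ⟶ X) [IsClosedImmersion i] : Coh.IsCoh (pushO i) :=
  Groth.Agent.Lib.Helper64.CohPush.isCoh_pushforward_of_isFinite i _ (isCoh_structureModule Z)

/-- For an integral closed subscheme, the stalk of `i_* O_Z` at the generic point is simple. -/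
theorem isSimpleModule_stalk_pushO (i : Z ⟶ X) [IsClosedImmersion i] [IsIntegral Z] :
    IsSimpleModule (X.presheaf.stalk (i (genericPoint Z)))
      ((pushO i).presheaf.stalk (i (genericPoint Z))) := by
  rw [← Module.length_eq_one_iff, length_stalk_pushO i (genericPoint Z)]
  rw [Module.length_eq_one_iff]
  have hf : IsField (Z.presheaf.stalk (genericPoint Z)) := by
    have h := @Field.toIsField Z.functionField (inferInstance)
    exact h
  exact @IsSimpleModule.mk _ _ _ _ _ (Ring.isField_iff_isSimpleOrder_ideal.mp hf)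

end Groth.Agent.Lib.Helper21.ClImmDev

namespace Groth.Agent.Lib.Helper21.ClImmDev

open Groth.Agent.Lib.Helper78.ModStalk Groth.Agent.Lib.Helper21.StalkLen
  Groth.Agent.Lib.Helper64.PushStalk Groth.Agent.Lib.Lead.QCohAff Scheme.Modules

variable {X Z : Scheme.{u}} (i : Z ⟶ X) [IsClosedImmersion i]

/-- Pushforward along a closed immersion is faithful. -/
instance faithful_pushforward : (Scheme.Modules.pushforward i).Faithful where
  map_injective {G G'} φ ψ h := by
    ext W s
    obtain ⟨U₀, hU₀, hUW⟩ := i.isEmbedding.isInducing.isOpen_iff.mp W.2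
    have hW : i ⁻¹ᵁ (⟨U₀, hU₀⟩ : X.Opens) = W := Opens.ext hUW
    subst hW
    have := congr(Scheme.Modules.Hom.app $h ⟨U₀, hU₀⟩)
    exact congr($this s)

/-- A submodule of `i_* O_Z` is killed by the ideal of `Z`. -/
theorem killedByIdeal_of_mono {S : X.Modules} (m : S ⟶ pushO i) [Mono m] :
    ClSub.KilledByIdeal i.ker S := by
  intro U a ha s
  have hinj := app_injective_of_mono m U.1
  rw [Scheme.Hom.ker_apply] at ha
  have ha' : (i.app U.1).hom a = 0 := ha
  have h0 : m.app U.1 (a • (show Γ(S, U.1) from s)) = 0 := by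
    rw [Hom.app_smul]
    change pfSec i _ (a • (m.app U.1 s)) = 0
    rw [pushforward_smul, ha', zero_smul]
  exact hinj (h0.trans (map_zero _).symm)

/-- A quasi-coherent submodule of `i_* O_Z` is the pushforward of a quasi-coherent ideal of
`O_Z`. -/
theorem exists_ideal_of_mono {S : X.Modules} [S.IsQuasicoherent] (m : S ⟶ pushO i) [Mono m] :
    ∃ (I : Z.Modules) (ι : I ⟶ Coh.structureModule Z), Mono ι ∧ Coh.IsQCoh I ∧
      Nonempty ((Coh.push i).obj I ≅ S) := by
  have hk := killedByIdeal_of_mono i m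
  haveI := Groth.Agent.Lib.Helper21.ClImmUnit.isIso_unit_of_killedByIdeal i S hk
  let adj := pullbackPushforwardAdjunction i
  let ι : (Scheme.Modules.pullback i).obj S ⟶ Coh.structureModule Z := (adj.homEquiv _ _).symm m
  have hι : adj.unit.app S ≫ (Scheme.Modules.pushforward i).map ι = m := by
    have := adj.homEquiv_unit (f := ι)
    rw [← this]
    exact (adj.homEquiv _ _).apply_symm_apply m
  have hmono : Mono ((Scheme.Modules.pushforward i).map ι) := by
    have : (Scheme.Modules.pushforward i).map ι = inv (adj.unit.app S) ≫ m := by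
      rw [← hι, IsIso.inv_hom_id_assoc]
    rw [this]
    infer_instance
  refine ⟨_, ι, (Scheme.Modules.pushforward i).mono_of_mono_map hmono, ?_,
    ⟨(asIso (adj.unit.app S)).symm⟩⟩
  exact Groth.Agent.Lib.Lead.PullbackAff.isQuasicoherent_pullback i S

end Groth.Agent.Lib.Helper21.ClImmDev

namespace Groth.Agent.Lib.Helper21.ClImmDev

open Groth.Agent.Lib.Helper78.ModStalk Groth.Agent.Lib.Helper21.StalkLen
  Groth.Agent.Lib.Helper64.PushStalk Groth.Agent.Lib.Lead.QCohAff Scheme.Modules

variable {X Z : Scheme.{u}} (i : Z ⟶ X) [IsClosedImmersion i]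

theorem isZero_of_forall_subsingleton_sections (N : X.Modules)
    (h : ∀ U : X.Opens, Subsingleton Γ(N, U)) : IsZero N := by
  rw [IsZero.iff_id_eq_zero]
  ext W s
  haveI := h W
  exact Subsingleton.elim (α := Γ(N, W)) _ _

omit [IsClosedImmersion i] in
/-- `i_* O_Z` is torsion-free for integral `Z`: a coherent submodule with zero stalk at the
generic point is zero. -/
theorem isZero_of_mono_pushO [IsIntegral Z] {N : X.Modules} [N.IsQuasicoherent]
    (hN : SheafOfModules.IsFiniteType (R := X.ringCatSheaf) N) (m : N ⟶ pushO i) [Mono m]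
    (hs : Subsingleton (N.presheaf.stalk (i (genericPoint Z)))) : IsZero N := by
  obtain ⟨V, hξV, hV⟩ :=
    Groth.Agent.Lib.Helper21.CohStalkLocal.exists_open_sections_subsingleton N hN _ hs
  apply isZero_of_forall_subsingleton_sections
  intro U
  refine ⟨fun s t => ?_⟩
  suffices h0 : ∀ s : Γ(N, U), s = 0 by rw [h0 s, h0 t]
  intro s
  apply app_injective_of_mono m U
  rw [map_zero]
  suffices hg : toSec i (m.app U s) = 0 by
    rw [← ofSec_toSec i (m.app U s), hg, ofSec_zero]
  by_cases hne : Nonempty (i ⁻¹ᵁ U : Z.Opens)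
  · -- restrict to `U ⊓ V`
    haveI : Nonempty (i ⁻¹ᵁ (U ⊓ V) : Z.Opens) := by
      obtain ⟨z, hz⟩ := hne
      have h1 : genericPoint Z ∈ i ⁻¹ᵁ U :=
        ((genericPoint_spec Z).mem_open_set_iff (i ⁻¹ᵁ U).2).mpr ⟨z, trivial, hz⟩
      exact ⟨⟨genericPoint Z, h1, hξV⟩⟩
    have hinj := map_injective_of_isIntegral Z
      (homOfLE (preimage_mono i (inf_le_left : U ⊓ V ≤ U)))
    apply hinj
    rw [map_zero]
    have h2 := Groth.Agent.Lib.Helper21.ClImmUnit.app_naturality_apply m
      (homOfLE (inf_le_left : U ⊓ V ≤ U)) s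
    haveI := hV (U ⊓ V) inf_le_right
    have h3 : N.presheaf.map (homOfLE (inf_le_left : U ⊓ V ≤ U)).op s = 0 :=
      Subsingleton.elim _ _
    rw [h3, map_zero, ← ofSec_toSec i (m.app U s), ofSec_res] at h2
    exact ofSec_injective i (h2.symm.trans (ofSec_zero i).symm)
  · haveI : Subsingleton Γ(Z, i ⁻¹ᵁ U) := by
      have hbot : i ⁻¹ᵁ U = ⊥ := by
        ext z
        simp only [Opens.coe_bot, Set.mem_empty_iff_false, iff_false]
        exact fun hz => hne ⟨⟨z, hz⟩⟩
      rw [hbot]
      infer_instance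
    exact Subsingleton.elim _ _

end Groth.Agent.Lib.Helper21.ClImmDev

namespace Groth.Agent.Lib.Helper21.ClImmDev

open Groth.Agent.Lib.Helper78.ModStalk Groth.Agent.Lib.Helper21.StalkLen
  Groth.Agent.Lib.Helper64.PushStalk Groth.Agent.Lib.Lead.QCohAff Scheme.Modules
  Groth.Agent.Lib.Helper21.Devissage Groth.Agent.Lib.Helper21.SimpleAlg
  Groth.Agent.Lib.Helper21.SpreadOut Groth.Agent.Lib.Helper21.CohStalkLocal

variable {X Z : Scheme.{u}} [IsLocallyNoetherian X] (i : Z ⟶ X) [IsClosedImmersion i]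
  [IsIntegral Z]

/-- **Extension-closed dévissage, one irreducible step.** -/
theorem ext_step (Z₀ : Set X) (hrange : Set.range i = Z₀) (P : X.Modules → Prop)
    (hP : ∀ M N : X.Modules, Nonempty (M ≅ N) → P M → P N)
    (hext : ∀ S : ShortComplex X.Modules, S.ShortExact → Coh.IsCoh S.X₁ → Coh.IsCoh S.X₂ →
      Coh.IsCoh S.X₃ → CohB1.support S.X₂ ⊆ Z₀ → P S.X₁ → P S.X₃ → P S.X₂)
    (hI : ∀ (I : Z.Modules) (ι : I ⟶ Coh.structureModule Z), Mono ι → Coh.IsQCoh I →
      P ((Coh.push i).obj I))
    (IH : ∀ F : X.Modules, Coh.IsCoh F → CohB1.support F ⊆ Z₀ →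
      i (genericPoint Z) ∉ CohB1.support F → P F)
    (F : X.Modules) (hF : Coh.IsCoh F) (hFs : CohB1.support F ⊆ Z₀) : P F := by
  set ξ := i (genericPoint Z) with hξdef
  have hξ : closure {ξ} = Z₀ :=
    (Groth.Agent.Lib.Helper21.IntegralSub.closure_genericPoint_image i).trans hrange
  have hG : Coh.IsCoh (pushO i) := isCoh_pushO i
  have hGs : CohB1.support (pushO i) ⊆ Z₀ := by
    rw [← hrange]
    exact Groth.Agent.Lib.Helper21.ClImmSupport.support_pushforward_subset_range i
      i.isClosedEmbedding.isClosed_range _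
  haveI hsimple := isSimpleModule_stalk_pushO i
  obtain ⟨n, hn⟩ := ENat.ne_top_iff_exists.mp
    (ne_of_lt (length_stalk_lt_top_of_support_subset F hF ξ (hξ ▸ hFs)))
  induction n generalizing F with
  | zero =>
    refine IH F hF hFs (fun hmem => hmem ?_)
    exact Module.length_eq_zero_iff.mp hn.symm
  | succ n ih =>
    haveI : (pushO i).IsQuasicoherent := hG.1
    haveI : F.IsQuasicoherent := hF.1
    have hfl : IsFiniteLength (X.presheaf.stalk ξ) (F.presheaf.stalk ξ) := by
      rw [← Module.length_ne_top_iff, ← hn]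
      exact ENat.natCast_ne_top _
    haveI : IsArtinian (X.presheaf.stalk ξ) (F.presheaf.stalk ξ) :=
      (isFiniteLength_iff_isNoetherian_isArtinian.mp hfl).2
    haveI : Nontrivial (F.presheaf.stalk ξ) := by
      rw [← Module.length_pos_iff (R := X.presheaf.stalk ξ), ← hn]
      exact_mod_cast Nat.succ_pos n
    obtain ⟨a, ha⟩ := exists_injective_of_simple (R := X.presheaf.stalk ξ)
      ((pushO i).presheaf.stalk ξ) (F.presheaf.stalk ξ)
    obtain ⟨H, p₁, p₂, c, hHq, hHf, hc, hb, hrel, hjm, hHsub, -⟩ :=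
      exists_spread (pushO i) F hG.2 hF.2 ξ a
    have hH : Coh.IsCoh H := ⟨hHq, hHf⟩
    have hHs : CohB1.support H ⊆ Z₀ := hHsub.trans (Set.union_subset hGs hFs)
    -- `P H`
    have hK₁ : P (kernel p₁) := IH _ (isCoh_kernel p₁ hH hG)
      ((support_kernel_subset p₁).trans hHs) (fun h => h (subsingleton_stalk_kernel p₁ ξ hb.1))
    have him : Coh.IsCoh (cokerSeq p₁).X₁ :=
      isCoh_kernel (cokernel.π p₁) hG (isCoh_cokernel p₁ hH hG)
    have hPim : P (cokerSeq p₁).X₁ := by
      haveI : (kernel (cokernel.π p₁)).IsQuasicoherent := him.1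
      obtain ⟨I, ι, hι, hIq, ⟨e⟩⟩ := exists_ideal_of_mono i (kernel.ι (cokernel.π p₁))
      exact hP _ _ ⟨e⟩ (hI I ι hι hIq)
    have hcoim : Coh.IsCoh (kerSeq p₁).X₃ :=
      isCoh_cokernel (kernel.ι p₁) (isCoh_kernel p₁ hH hG) hH
    have hPcoim : P (kerSeq p₁).X₃ := hP _ _ ⟨(coimIsoIm p₁).symm⟩ hPim
    have hPH : P H := hext (kerSeq p₁) (kerSeq_shortExact p₁) (isCoh_kernel p₁ hH hG) hH hcoim
      hHs hK₁ hPcoim
    -- `p₂` is a monomorphism
    have hinj : Function.Injective (stalkMap p₂ ξ) := by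
      intro h h' hh'
      rw [hrel, hrel] at hh'
      exact hb.1 (ha (hc.smul_left_cancel.mp hh'))
    have hK₂s := subsingleton_stalk_kernel p₂ ξ hinj
    have hK₂coh := isCoh_kernel p₂ hH hF
    haveI : (kernel p₂).IsQuasicoherent := hK₂coh.1
    haveI hm : Mono (kernel.ι p₂ ≫ p₁) := by
      refine Preadditive.mono_of_cancel_zero _ (fun g hg => ?_)
      have h1 : (g ≫ kernel.ι p₂) ≫ p₁ = (0 : _ ⟶ H) ≫ p₁ := by
        rw [Category.assoc, hg, zero_comp]
      have h2 : (g ≫ kernel.ι p₂) ≫ p₂ = (0 : _ ⟶ H) ≫ p₂ := by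
        rw [Category.assoc, kernel.condition, comp_zero, zero_comp]
      have h3 := hjm _ _ _ h1 h2
      exact (cancel_mono (kernel.ι p₂)).mp (h3.trans zero_comp.symm)
    have hK₂z : IsZero (kernel p₂) := isZero_of_mono_pushO i hK₂coh.2 (kernel.ι p₂ ≫ p₁) hK₂s
    haveI : Mono p₂ := Preadditive.mono_of_kernel_zero (hK₂z.eq_of_src _ _)
    -- the quotient has smaller length
    have hlen : Module.length (X.presheaf.stalk ξ) ((cokernel p₂).presheaf.stalk ξ) = n := by
      have h1 := length_stalk_cokernel_add p₂ ξ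
      have h2 : Module.length (X.presheaf.stalk ξ) (H.presheaf.stalk ξ) = 1 := by
        rw [(LinearEquiv.ofBijective (stalkMap p₁ ξ) hb).length_eq]
        exact Module.length_eq_one_iff.mpr hsimple
      have h3 : Module.length (X.presheaf.stalk ξ) ((kernel p₂).presheaf.stalk ξ) = 0 :=
        Module.length_eq_zero_iff.mpr hK₂s
      rw [h2, h3, ← hn, add_zero] at h1
      have h4 : Module.length (X.presheaf.stalk ξ) ((cokernel p₂).presheaf.stalk ξ) + 1 =
          (n : ℕ∞) + 1 := by rw [h1]; push_cast; rfl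
      exact ENat.add_left_injective_of_ne_top ENat.one_ne_top h4
    have hC₂ : P (cokernel p₂) := ih _ (isCoh_cokernel p₂ hH hF)
      ((support_cokernel_subset p₂).trans hFs) hlen.symm
    have hSE : (ShortComplex.mk p₂ (cokernel.π p₂) (cokernel.condition p₂)).ShortExact :=
      ShortComplex.ShortExact.mk' (ShortComplex.exact_cokernel p₂) inferInstance
        (inferInstanceAs (Epi (cokernel.π p₂)))
    exact hext _ hSE hH hF (isCoh_cokernel p₂ hH hF) hFs hPH hC₂

end Groth.Agent.Lib.Helper21.ClImmDev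

namespace Groth.Agent.Lib.Helper21.ClImmDev

open Groth.Agent.Lib.Helper21.Devissage

variable {X : Scheme.{u}}

theorem isZero_pushforward {Z : Scheme.{u}} (i : Z ⟶ X) {I : Z.Modules} (hI : IsZero I) :
    IsZero ((Scheme.Modules.pushforward i).obj I) :=
  isZero_of_forall_subsingleton_sections _ (fun U => subsingleton_sections_of_isZero hI (i ⁻¹ᵁ U))

/-- **Extension-closed dévissage** for coherent modules supported in a closed subset `X'`. -/
theorem ext_devissage [IsNoetherian X] (X' : Set X) (P : X.Modules → Prop)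
    (hP : ∀ M N : X.Modules, Nonempty (M ≅ N) → P M → P N)
    (hzero : ∀ M : X.Modules, IsZero M → P M)
    (hext : ∀ S : ShortComplex X.Modules, S.ShortExact → Coh.IsCoh S.X₁ → Coh.IsCoh S.X₂ →
      Coh.IsCoh S.X₃ → CohB1.support S.X₂ ⊆ X' → P S.X₁ → P S.X₃ → P S.X₂)
    (hI : ∀ (Z : Scheme.{u}) (i : Z ⟶ X), IsClosedImmersion i → IsIntegral Z →
      Set.range i ⊆ X' → ∀ (I : Z.Modules) (ι : I ⟶ Coh.structureModule Z), Mono ι →
        Coh.IsQCoh I → P ((Coh.push i).obj I))
    (F : X.Modules) (hF : Coh.IsCoh F) (hs : CohB1.support F ⊆ X') : P F := by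
  refine noetherian_induction X' P hP hzero hext ?_ F hF hs
  intro Z₀ hZ₀ hirr hZX IH F hF hFs
  obtain ⟨Z, i, hcl, hint, hrange⟩ :=
    Groth.Agent.Lib.Helper21.IntegralSub.exists_integral_closedImmersion Z₀ hZ₀ hirr
  refine ext_step i Z₀ hrange P hP
    (fun S hS h1 h2 h3 h4 => hext S hS h1 h2 h3 (h4.trans hZX))
    (hI Z i hcl hint (hrange ▸ hZX)) ?_ F hF hFs
  intro F' hF' hs' hnot
  refine IH F' hF' hs' (fun h => hnot ?_)
  rw [h, ← hrange]
  exact ⟨_, rfl⟩

end Groth.Agent.Lib.Helper21.ClImmDev
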