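import Groth.Agent.Lib.Helper21.K0Sub
import Groth.Agent.Lib.Helper21.Devissage
import Groth.Agent.Lib.Helper21.ClImmDev
import Groth.Agent.Lib.Helper21.IntegralSub
import Groth.Prelude.Def_ChowK

/-!
# Dévissage in `K₀` of coherent modules (helper21)

* `k0_devissage`: a subgroup of `K0sub Q` containing, for each irreducible closed `Z ⊆ Y'`, the class
  of a coherent module supported in `Z` with stalk of length one at the generic point, contains
  the classes of all coherent modules supported in `Y'`.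
* `closureStructureSheaf` facts: coherent, supported in `closure {x}`, stalk at `x` of length `1`.
* `dim_mono`.
-/

set_option autoImplicit false
set_option linter.style.haveILetI false
universe u
open AlgebraicGeometry CategoryTheory Opposite TopologicalSpace Limits KZero

namespace Groth.Agent.Lib.Helper21.K0Dev

open Groth.Agent.Lib.Helper21.K0Sub Groth.Agent.Lib.Helper21.Devissage
  Groth.Agent.Lib.Helper21.StalkLen

variable {X : Scheme.{u}}

theorem support_subset_of_isZero {M : X.Modules} (hM : IsZero M) (Y' : Set X) :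
    CohB1.support M ⊆ Y' := by
  intro x hx
  exfalso
  apply hx
  refine ⟨fun s t => ?_⟩
  have h0 : ∀ s : M.presheaf.stalk x, s = 0 := by
    intro s
    obtain ⟨U, hxU, s', rfl⟩ := TopCat.Presheaf.exists_germ_eq M.presheaf s
    haveI := subsingleton_sections_of_isZero hM U
    have : s' = 0 := Subsingleton.elim _ _
    rw [this, map_zero]
  rw [h0 s, h0 t]

theorem k0_devissage [IsNoetherian X] (Q : ObjectProperty X.Modules) (H : AddSubgroup (K0sub Q))
    (Y' : Set X) (hQ : ∀ M : X.Modules, Coh.IsCoh M → CohB1.support M ⊆ Y' → Q M)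
    (hgen : ∀ (Z : Set X), IsClosed Z → IsIrreducible Z → Z ⊆ Y' → ∀ y : X, closure {y} = Z →
      ∃ G : X.Modules, Coh.IsCoh G ∧ CohB1.support G ⊆ Z ∧
        Module.length (X.presheaf.stalk y) (G.presheaf.stalk y) = 1 ∧ clSub Q G ∈ H)
    (M : X.Modules) (hM : Coh.IsCoh M) (hMs : CohB1.support M ⊆ Y') : clSub Q M ∈ H := by
  classical
  let P : X.Modules → Prop := fun M => Coh.IsCoh M → CohB1.support M ⊆ Y' → clSub Q M ∈ H
  have hadd : ∀ S : ShortComplex X.Modules, S.ShortExact → Coh.IsCoh S.X₁ → Coh.IsCoh S.X₂ →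
      Coh.IsCoh S.X₃ → CohB1.support S.X₂ ⊆ Y' →
      CohB1.support S.X₁ ⊆ Y' ∧ CohB1.support S.X₃ ⊆ Y' ∧
        clSub Q S.X₂ = clSub Q S.X₁ + clSub Q S.X₃ := by
    intro S hS h1 h2 h3 hs
    have := hS.mono_f
    have := hS.epi_g
    have hs1 := (support_of_mono S.f).trans hs
    have hs3 := (support_of_epi S.g).trans hs
    exact ⟨hs1, hs3, clSub_add Q S hS (hQ _ h1 hs1) (hQ _ h2 hs) (hQ _ h3 hs3)⟩
  obtain ⟨Z, hZ⟩ := HasZeroObject.zero (C := X.Modules)
  have hP : ∀ M N : X.Modules, Nonempty (M ≅ N) → P M → P N := by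
    rintro M N ⟨e⟩ hPM hN hNs
    have hMc := isCoh_of_iso e.symm hN
    have hMs : CohB1.support M ⊆ Y' := by rw [support_eq_of_iso e]; exact hNs
    rw [clSub_iso Q e (hQ _ hMc hMs) (hQ _ hN hNs) Z hZ
      (hQ _ (isCoh_of_isZero hZ) (support_subset_of_isZero hZ Y'))]
    exact hPM hMc hMs
  have hzero : ∀ M : X.Modules, IsZero M → P M := by
    intro M hM _ _
    rw [clSub_eq_zero_of_isZero Q M hM]
    exact H.zero_mem
  have h23 : ∀ S : ShortComplex X.Modules, S.ShortExact → Coh.IsCoh S.X₁ → Coh.IsCoh S.X₂ →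
      Coh.IsCoh S.X₃ → CohB1.support S.X₂ ⊆ Y' →
      (P S.X₁ → P S.X₂ → P S.X₃) ∧ (P S.X₁ → P S.X₃ → P S.X₂) ∧ (P S.X₂ → P S.X₃ → P S.X₁) := by
    intro S hS h1 h2 h3 hs
    obtain ⟨hs1, hs3, e⟩ := hadd S hS h1 h2 h3 hs
    refine ⟨fun p1 p2 _ _ => ?_, fun p1 p3 _ _ => ?_, fun p2 p3 _ _ => ?_⟩
    · have : clSub Q S.X₃ = clSub Q S.X₂ - clSub Q S.X₁ := by rw [e]; abel
      rw [this]
      exact H.sub_mem (p2 h2 hs) (p1 h1 hs1)
    · rw [e]
      exact H.add_mem (p1 h1 hs1) (p3 h3 hs3)
    · have : clSub Q S.X₁ = clSub Q S.X₂ - clSub Q S.X₃ := by rw [e]; abel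
      rw [this]
      exact H.sub_mem (p2 h2 hs) (p3 h3 hs3)
  refine noetherian_induction Y' P hP hzero
    (fun S hS h1 h2 h3 hs p1 p3 => (h23 S hS h1 h2 h3 hs).2.1 p1 p3) ?_ M hM hMs hM hMs
  intro Z₀ hZ₀ hirr hZY IH G hG hGs
  have hξ : closure {hirr.genericPoint} = Z₀ := by
    have := hirr.isGenericPoint_genericPoint_closure
    rw [hZ₀.closure_eq] at this
    exact this.def
  obtain ⟨G₀, hG₀, hG₀s, hlen, hmem⟩ := hgen Z₀ hZ₀ hirr hZY hirr.genericPoint hξ
  refine two_of_three_step Z₀ P hP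
    (fun S hS h1 h2 h3 hs => h23 S hS h1 h2 h3 (hs.trans hZY)) hirr.genericPoint hξ ?_
    G₀ hG₀ hG₀s (Module.length_eq_one_iff.mp hlen) (fun _ _ => hmem) G hG hGs
  intro F' hF' hs' hnot
  refine IH F' hF' hs' (fun h => hnot ?_)
  have hmem : hirr.genericPoint ∈ closure {hirr.genericPoint} :=
    subset_closure (Set.mem_singleton _)
  have hmem' : hirr.genericPoint ∈ Z₀ := by
    generalize hirr.genericPoint = y at hmem hξ
    rw [hξ] at hmem
    exact hmem
  rw [h]
  exact hmem'

theorem dim_mono {T : Type*} [TopologicalSpace T] {S S' : Set T} (h : S ⊆ S') :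
    topologicalKrullDim ↥S ≤ topologicalKrullDim ↥S' :=
  (Topology.IsEmbedding.inclusion h).isInducing.topologicalKrullDim_le

section ClosureSheaf

theorem isCoh_closureStructureSheaf (x : X) : Coh.IsCoh (Cyc.closureStructureSheaf x) :=
  Groth.Agent.Lib.Helper21.ClImmDev.isCoh_pushO _

theorem support_closureStructureSheaf_subset (x : X) :
    CohB1.support (Cyc.closureStructureSheaf x) ⊆ closure {x} := by
  have h1 := Groth.Agent.Lib.Helper21.ClImmSupport.support_pushforward_subset_range
    (IntMult.ptIdeal x).subschemeι (IntMult.ptIdeal x).subschemeι.isClosedEmbedding.isClosed_range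
    (Coh.structureModule _)
  have h2 : Set.range (IntMult.ptIdeal x).subschemeι = closure {x} :=
    Groth.Agent.Lib.Helper21.ProperOver.range_subschemeι_vanishingIdeal (closure {x})
      isClosed_closure
  rw [h2] at h1
  exact h1

theorem length_stalk_pushO_aux {Z : Scheme.{u}} (i : Z ⟶ X) [IsClosedImmersion i] [IsIntegral Z]
    (x : X) (hx : x = i (genericPoint Z)) :
    Module.length (X.presheaf.stalk x)
      ((Groth.Agent.Lib.Helper64.PushStalk.pushO i).presheaf.stalk x) = 1 := by
  subst hx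
  exact Module.length_eq_one_iff.mpr
    (Groth.Agent.Lib.Helper21.ClImmDev.isSimpleModule_stalk_pushO i)

theorem length_stalk_closureStructureSheaf (x : X) :
    Module.length (X.presheaf.stalk x) ((Cyc.closureStructureSheaf x).presheaf.stalk x) = 1 := by
  haveI : IsIntegral (IntMult.ptIdeal x).subscheme :=
    Groth.Agent.Lib.Helper21.IntegralSub.isIntegral_vanishingIdeal_subscheme (closure {x})
      isClosed_closure isIrreducible_singleton.closure
  refine length_stalk_pushO_aux (IntMult.ptIdeal x).subschemeι x ?_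
  have h1 := Groth.Agent.Lib.Helper21.IntegralSub.closure_genericPoint_image
    (IntMult.ptIdeal x).subschemeι
  have h2 : Set.range (IntMult.ptIdeal x).subschemeι = closure {x} :=
    Groth.Agent.Lib.Helper21.ProperOver.range_subschemeι_vanishingIdeal (closure {x})
      isClosed_closure
  rw [h2] at h1
  have hg1 : IsGenericPoint x (closure {x}) := rfl
  have hg2 : IsGenericPoint ((IntMult.ptIdeal x).subschemeι
      (genericPoint (IntMult.ptIdeal x).subscheme)) (closure {x}) := h1
  exact hg1.eq hg2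

end ClosureSheaf

end Groth.Agent.Lib.Helper21.K0Dev
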