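import Groth.Agent.Lib.Lead.CohAff4
import Groth.Prelude.Def_CohB1
import Mathlib.AlgebraicGeometry.IdealSheaf.Basic
import Mathlib.AlgebraicGeometry.Noetherian

/-!
# A finite type quasi-coherent module supported in `V(J)` is killed by a power of `J`
-/

set_option autoImplicit false
set_option linter.style.haveILetI false
universe u

open AlgebraicGeometry CategoryTheory Opposite TopologicalSpace Limits

namespace Groth.Agent.Lib.Helper21.CohKill

set_option backward.isDefEq.respectTransparency.types false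

open Groth.Agent.Lib.Lead.QCohAff Groth.Agent.Lib.Lead.CohAff

variable {X : Scheme.{u}}

/-- The ideal of the local ring at `x` generated by an ideal sheaf does not depend on the affine
open used to compute it. -/
theorem map_germ_ideal_eq (J : X.IdealSheafData) (x : X) (U U' : X.affineOpens)
    (hx : x ∈ U.1) (hx' : x ∈ U'.1) :
    (J.ideal U).map (X.presheaf.germ U.1 x hx).hom =
      (J.ideal U').map (X.presheaf.germ U'.1 x hx').hom := by
  obtain ⟨_, ⟨D, hD, rfl⟩, hxD, hDle⟩ :=
    X.isBasis_affineOpens.exists_subset_of_mem_open (show x ∈ (U.1 ⊓ U'.1 : X.Opens) from ⟨hx, hx'⟩)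
      (U.1 ⊓ U'.1).2
  have hDU : D ≤ U.1 := fun y hy => (hDle hy).1
  have hDU' : D ≤ U'.1 := fun y hy => (hDle hy).2
  have key : ∀ (V : X.affineOpens) (hV : D ≤ V.1) (hxV : x ∈ V.1),
      (J.ideal V).map (X.presheaf.germ V.1 x hxV).hom =
        (J.ideal ⟨D, hD⟩).map (X.presheaf.germ D x hxD).hom := by
    intro V hV hxV
    have h1 := J.map_ideal (U := ⟨D, hD⟩) (V := V) hV
    rw [← h1, Ideal.map_map]
    congr 1
    rw [← CommRingCat.hom_comp]
    congr 1
    exact (X.presheaf.germ_res (homOfLE hV) x hxD).symm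
  rw [key U hDU hx, key U' hDU' hx']

/-- If `J(U)^n` kills the sections of `F` over the affine open `U`, then the `n`-th power of the
ideal generated by `J` in the local ring at `x ∈ U` kills the stalk. -/
theorem stalk_killed (F : X.Modules) [F.IsQuasicoherent] (J : X.IdealSheafData)
    (U : X.affineOpens) (n : ℕ)
    (h : ∀ b ∈ J.ideal U ^ n, ∀ s : Γ(F, U.1), b • s = 0) (x : X) (hx : x ∈ U.1)
    (r : X.presheaf.stalk x) (hr : r ∈ ((J.ideal U).map (X.presheaf.germ U.1 x hx).hom) ^ n)
    (t : F.presheaf.stalk x) : r • t = 0 := by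
  rw [← Ideal.map_pow] at hr
  induction hr using Submodule.span_induction with
  | mem r hr =>
    obtain ⟨b, hb, rfl⟩ := hr
    obtain ⟨c, s, hxc, hcs⟩ := exists_germ_smul_eq_germ F U.2 x hx t
    have hu := isUnit_germ_of_mem_basicOpen c x hx hxc
    apply hu.smul_eq_zero.1
    rw [smul_comm, hcs]
    have := germ_smul F U.1 x hx b s
    rw [h b hb s, map_zero] at this
    exact this.symm
  | zero => exact zero_smul _ _
  | add a b _ _ ha hb => rw [add_smul, ha, hb, add_zero]
  | smul a b _ hb => rw [smul_eq_mul, mul_smul, hb, smul_zero]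

/-- If the stalks of `F` at all points of the affine open `U` are killed by the `n`-th power of
the ideal generated by `J`, then `J(U)^n` kills the sections of `F` over `U`. -/
theorem sections_killed_of_stalks (F : X.Modules) (J : X.IdealSheafData)
    (U : X.affineOpens) (n : ℕ)
    (h : ∀ (x : X) (hx : x ∈ U.1) (r : X.presheaf.stalk x),
      r ∈ ((J.ideal U).map (X.presheaf.germ U.1 x hx).hom) ^ n →
        ∀ t : F.presheaf.stalk x, r • t = 0)
    (a : Γ(X, U.1)) (ha : a ∈ J.ideal U ^ n) (s : Γ(F, U.1)) : a • s = 0 := by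
  refine TopCat.Presheaf.section_ext ⟨F.presheaf, F.isSheaf⟩ U.1 _ _ (fun x hx => ?_)
  have h1 : F.presheaf.germ U.1 x hx (a • s) =
      X.presheaf.germ U.1 x hx a • F.presheaf.germ U.1 x hx s := germ_smul F U.1 x hx a s
  have h0 : F.presheaf.germ U.1 x hx (0 : Γ(F, U.1)) = 0 := map_zero _
  refine h1.trans ((h x hx _ ?_ _).trans h0.symm)
  rw [← Ideal.map_pow]
  exact Ideal.mem_map_of_mem _ ha

/-- Affine-local statement: a finite module over `Γ(X, U)` supported in `V(J)` is killed by a power
of the finitely generated ideal `J(U)`. -/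
theorem exists_pow_killed_affine (F : X.Modules) [F.IsQuasicoherent] (J : X.IdealSheafData)
    (U : X.affineOpens) (hfin : Module.Finite Γ(X, U.1) Γ(F, U.1)) (hfg : (J.ideal U).FG)
    (h : CohB1.support F ⊆ (J.support : Set X)) :
    ∃ n : ℕ, ∀ b ∈ J.ideal U ^ n, ∀ s : Γ(F, U.1), b • s = 0 := by
  have hrad : J.ideal U ≤ (Module.annihilator Γ(X, U.1) Γ(F, U.1)).radical := by
    rw [Ideal.radical_eq_sInf]
    refine le_sInf ?_
    rintro p ⟨hp, hprime⟩
    let P : PrimeSpectrum Γ(X, U.1) := ⟨p, hprime⟩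
    let x : X := U.2.fromSpec P
    have hxU : x ∈ U.1 := fromSpec_mem U.2 P
    have hP : U.2.primeIdealOf ⟨x, hxU⟩ = P := primeIdealOf_fromSpec U.2 P hxU
    have hsupp : P ∈ Module.support Γ(X, U.1) Γ(F, U.1) := by
      rw [Module.mem_support_iff_of_finite]
      exact hp
    rw [← hP, primeIdealOf_mem_support_iff F U.2 x hxU] at hsupp
    have hxJ : x ∈ (J.support : Set X) := h hsupp
    have hz := (Scheme.IdealSheafData.mem_support_iff_of_mem (I := J) (U := U) hxU).mp hxJ
    intro b hb
    by_contra hbp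
    have hxb : x ∈ X.basicOpen b := by
      rw [mem_basicOpen_iff_notMem_primeIdealOf U.2 x hxU b, hP]
      exact hbp
    exact ((X.mem_zeroLocus_iff _ _).mp hz b hb) hxb
  obtain ⟨n, hn⟩ := Ideal.exists_pow_le_of_le_radical_of_fg hrad hfg
  exact ⟨n, fun b hb s => Module.mem_annihilator.mp (hn hb) s⟩

/-- On a quasi-compact scheme, a quasi-coherent module of finite type supported in `V(J)`, with
`J` of finite type, is killed by a (positive) power of `J`. -/
theorem exists_pow_killed [CompactSpace X] (F : X.Modules) [F.IsQuasicoherent]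
    (hft : SheafOfModules.IsFiniteType (R := X.ringCatSheaf) F) (J : X.IdealSheafData)
    (hfg : ∀ U : X.affineOpens, (J.ideal U).FG)
    (h : CohB1.support F ⊆ (J.support : Set X)) :
    ∃ n : ℕ, 0 < n ∧ ∀ (U : X.affineOpens), ∀ a ∈ J.ideal U ^ n, ∀ s : Γ(F, U.1), a • s = 0 := by
  have hA : ∀ U : X.affineOpens, ∃ n, ∀ b ∈ J.ideal U ^ n, ∀ s : Γ(F, U.1), b • s = 0 := fun U =>
    exists_pow_killed_affine F J U (finite_sections_of_isFiniteType F hft U.2) (hfg U) h
  choose n hn using hA
  obtain ⟨t, ht⟩ := isCompact_univ.elim_finite_subcover (fun U : X.affineOpens => (U.1 : Set X))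
    (fun U => U.1.2) (by
      intro x _
      obtain ⟨_, ⟨V, hV, rfl⟩, hxV, -⟩ :=
        X.isBasis_affineOpens.exists_subset_of_mem_open (Set.mem_univ x) isOpen_univ
      exact Set.mem_iUnion.mpr ⟨⟨V, hV⟩, hxV⟩)
  refine ⟨t.sup n + 1, Nat.succ_pos _, fun U a ha s => ?_⟩
  refine sections_killed_of_stalks F J U (t.sup n + 1) ?_ a ha s
  intro x hx r hr t'
  have hxt : x ∈ ⋃ i ∈ t, ((i : X.affineOpens).1 : Set X) := ht (Set.mem_univ x)
  simp only [Set.mem_iUnion] at hxt
  obtain ⟨Ui, hUi, hxUi⟩ := hxt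
  rw [map_germ_ideal_eq J x U Ui hx hxUi] at hr
  refine stalk_killed F J Ui (t.sup n + 1) (fun b hb s => hn Ui b ?_ s) x hxUi r hr t'
  exact Ideal.pow_le_pow_right ((Finset.le_sup hUi).trans (Nat.le_succ _)) hb

end Groth.Agent.Lib.Helper21.CohKill
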