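import Groth.Agent.Lib.Helper21.ClImmUnit4
import Groth.Agent.Lib.Helper2.KerSec
import Groth.Prelude.Def_Dual3

/-!
# Sections of `I · F` (`Dual3.idealMul`) over affine opens (helper21)

For a closed immersion `i : Z ⟶ X`, `F` quasi-coherent and `U` affine:

* `unit_app_surjective`: `Γ(F, U) → Γ(i^* F, i⁻¹ U)` is surjective.
* `unit_app_eq_zero_iff`: its kernel is `ker (O_X(U) → O_Z(i⁻¹U)) • Γ(F, U)`.
* `mem_range_idealMulι_app_iff`: `s ∈ Γ(F, U)` comes from `Γ(I·F, U)` iff `s ∈ I(U) • Γ(F, U)`.
-/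

set_option autoImplicit false
set_option backward.isDefEq.respectTransparency.types false
set_option linter.style.haveILetI false

universe u

open AlgebraicGeometry CategoryTheory Opposite TopologicalSpace TensorProduct Limits

namespace Groth.Agent.Lib.Helper21.IdealMulSec

open Scheme.Modules Groth.Agent.Lib.Helper21.ClImmUnit

/-- For a surjective ring map `f : A → B` and an `A`-module `M`: `1 ⊗ m = 0` in `B ⊗[A] M` iff
`m ∈ ker f • M`. -/
lemma one_tmul_eq_zero_iff {A B : Type u} [CommRing A] [CommRing B] (f : A →+* B)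
    (hf : Function.Surjective f) (M : Type u) [AddCommGroup M] [Module A M] (m : M) :
    letI := f.toAlgebra
    (1 : B) ⊗ₜ[A] m = 0 ↔ m ∈ RingHom.ker f • (⊤ : Submodule A M) := by
  letI := f.toAlgebra
  constructor
  · intro h
    let N : Submodule A M := RingHom.ker f • (⊤ : Submodule A M)
    have hk : ∀ r ∈ RingHom.ker f, ∀ q : M ⧸ N, r • q = 0 := by
      intro r hr q
      obtain ⟨x, rfl⟩ := N.mkQ_surjective q
      rw [← LinearMap.map_smul, ← LinearMap.mem_ker, Submodule.ker_mkQ]
      exact Submodule.smul_mem_smul hr trivial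
    have hbij := mk_one_bijective_of_surjective f hf (M ⧸ N) hk
    have h2 := congr(LinearMap.lTensor B N.mkQ $h)
    rw [LinearMap.lTensor_tmul, map_zero] at h2
    have h3 : N.mkQ m = 0 := hbij.1 (by rw [map_zero]; exact h2)
    rwa [← LinearMap.mem_ker, Submodule.ker_mkQ] at h3
  · intro h
    refine Submodule.smul_induction_on h ?_ ?_
    · intro r hr n _
      have : (1 : B) ⊗ₜ[A] (r • n) = (r • (1 : B)) ⊗ₜ[A] n := (TensorProduct.smul_tmul r 1 n).symm
      rw [this, Algebra.smul_def, mul_one]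
      have : algebraMap A B r = 0 := hr
      rw [this, TensorProduct.zero_tmul]
    · intro x y hx hy
      rw [TensorProduct.tmul_add, hx, hy, add_zero]

variable {Z X : Scheme.{u}} (i : Z ⟶ X) [IsClosedImmersion i]

theorem unit_app_surjective (F : X.Modules) [F.IsQuasicoherent] {U : X.Opens}
    (hU : IsAffineOpen U) :
    Function.Surjective (((pullbackPushforwardAdjunction i).unit.app F).app U) := by
  letI := (i.app U).hom.toAlgebra
  obtain ⟨θ, hθ⟩ := exists_addEquiv_unit_app i F hU (hU.preimage i)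
  intro t
  obtain ⟨m, hm⟩ := TensorProduct.mk_surjective Γ(X, U) Γ(F, U) Γ(Z, i ⁻¹ᵁ U)
    (i.app_surjective U hU) (θ t)
  refine ⟨m, θ.injective ?_⟩
  rw [hθ]
  exact hm

theorem unit_app_eq_zero_iff (F : X.Modules) [F.IsQuasicoherent] {U : X.Opens}
    (hU : IsAffineOpen U) (m : Γ(F, U)) :
    ((pullbackPushforwardAdjunction i).unit.app F).app U m = 0 ↔
      m ∈ RingHom.ker (i.app U).hom • (⊤ : Submodule Γ(X, U) Γ(F, U)) := by
  letI := (i.app U).hom.toAlgebra
  obtain ⟨θ, hθ⟩ := exists_addEquiv_unit_app i F hU (hU.preimage i)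
  rw [← one_tmul_eq_zero_iff (i.app U).hom (i.app_surjective U hU), ← hθ]
  constructor
  · intro h; exact (congrArg θ h).trans (map_zero θ)
  · intro h; exact θ.injective (h.trans (map_zero θ).symm)

variable (I : X.IdealSheafData)

theorem idealMulι_app_injective (F : X.Modules) (U : X.Opens) :
    Function.Injective ((Dual3.idealMulι I F).app U) :=
  Groth.Agent.Lib.Helper2.KerSec.app_kernelι_injective _ U

/-- **Sections of `I · F` over an affine open.** -/
theorem mem_range_idealMulι_app_iff (F : X.Modules) [F.IsQuasicoherent] {U : X.Opens}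
    (hU : IsAffineOpen U) (s : Γ(F, U)) :
    s ∈ Set.range ((Dual3.idealMulι I F).app U) ↔
      s ∈ I.ideal ⟨U, hU⟩ • (⊤ : Submodule Γ(X, U) Γ(F, U)) := by
  have h1 := Groth.Agent.Lib.Helper2.KerSec.mem_range_kernelι_iff
    ((pullbackPushforwardAdjunction I.subschemeι).unit.app F) U s
  have h2 := unit_app_eq_zero_iff I.subschemeι F hU s
  have h3 : I.ideal ⟨U, hU⟩ = RingHom.ker (I.subschemeι.app U).hom := by
    rw [← Scheme.Hom.ker_apply I.subschemeι ⟨U, hU⟩, Scheme.IdealSheafData.ker_subschemeι]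
  rw [h3, ← h2]
  exact h1

end Groth.Agent.Lib.Helper21.IdealMulSec
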