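import Groth.Agent.Lib.Helper21.Devissage
import Groth.Agent.Lib.Helper21.IdealMulSec
import Groth.Agent.Lib.Helper21.CohKill
import Groth.Agent.Lib.Helper21.CohSupport
import Groth.Agent.Lib.Lead.PullbackAff4
import Groth.Agent.Lib.Lead.QCohPush
import Mathlib.RingTheory.Filtration

/-!
# An Artin–Rees consequence for coherent modules (helper21)

* `exists_pow_smul_inf_eq_bot`: if `I • N = 0` then `I ^ n • ⊤ ⊓ N = ⊥` for large `n`.
* `isQuasicoherent_idealMul`: `J · A` is quasi-coherent for quasi-coherent `A`.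
* `exists_ideal_mono`: if `p : A ⟶ T` has kernel with zero stalk at `ξ`, `A` coherent on a Noetherian
  scheme, then there is an ideal sheaf `J` with `ξ ∉ V(J)` such that `J' · A ⟶ A ⟶ T` is a
  monomorphism for all `J' ≤ J`.
-/

set_option autoImplicit false
set_option linter.style.haveILetI false
universe u
open AlgebraicGeometry CategoryTheory Opposite TopologicalSpace Limits

namespace Groth.Agent.Lib.Helper21.ArtinReesS

/-- Artin–Rees: if `I` kills `N ≤ M` then `I ^ n M ∩ N = 0` for `n` large. -/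
theorem exists_pow_smul_inf_eq_bot {R M : Type*} [CommRing R] [IsNoetherianRing R]
    [AddCommGroup M] [Module R M] [Module.Finite R M] (I : Ideal R) (N : Submodule R M)
    (h : ∀ a ∈ I, ∀ n ∈ N, a • n = 0) :
    ∃ c : ℕ, ∀ n : ℕ, c < n → I ^ n • (⊤ : Submodule R M) ⊓ N = ⊥ := by
  obtain ⟨k, hk⟩ := I.exists_pow_inf_eq_pow_smul N
  refine ⟨k, fun n hn => ?_⟩
  rw [hk n hn.le, eq_bot_iff]
  have h1 : I ^ (n - k) ≤ I := Ideal.pow_le_self (Nat.sub_ne_zero_of_lt hn)
  refine (Submodule.smul_mono h1 inf_le_right).trans ?_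
  rw [Submodule.smul_le]
  intro a ha m hm
  rw [h a ha m hm]
  exact Submodule.zero_mem _

variable {X : Scheme.{u}}

instance isQuasicoherent_idealMul (J : X.IdealSheafData) (A : X.Modules) [A.IsQuasicoherent] :
    ((Dual3.idealMul J).obj A).IsQuasicoherent := by
  haveI : ((𝟭 X.Modules).obj A).IsQuasicoherent := ‹A.IsQuasicoherent›
  haveI : ((Scheme.Modules.pullback J.subschemeι).obj A).IsQuasicoherent := inferInstance
  haveI h2 : ((Scheme.Modules.pushforward J.subschemeι).obj
      ((Scheme.Modules.pullback J.subschemeι).obj A)).IsQuasicoherent := inferInstance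
  haveI : ((Scheme.Modules.pullback J.subschemeι ⋙
      Scheme.Modules.pushforward J.subschemeι).obj A).IsQuasicoherent := h2
  exact Groth.Agent.Lib.Helper2.KerSec.isQuasicoherent_kernel
    ((Scheme.Modules.pullbackPushforwardAdjunction J.subschemeι).unit.app A)

open Groth.Agent.Lib.Lead.QCohAff Groth.Agent.Lib.Lead.CohAff
  Groth.Agent.Lib.Helper21.QCohSections Groth.Agent.Lib.Helper21.IdealMulSec
  Groth.Agent.Lib.Helper2.KerSec in
/-- **Artin–Rees consequence.** -/
theorem exists_ideal_mono [IsNoetherian X] {A T : X.Modules} (hA : Coh.IsCoh A)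
    [T.IsQuasicoherent] (p : A ⟶ T) (ξ : X) (hξ : ξ ∉ CohB1.support (kernel p)) :
    ∃ J : X.IdealSheafData, ξ ∉ (J.support : Set X) ∧
      ∀ J' : X.IdealSheafData, J' ≤ J → Mono (Dual3.idealMulι J' A ≫ p) := by
  haveI : A.IsQuasicoherent := hA.1
  haveI hNq : (kernel p).IsQuasicoherent := isQuasicoherent_kernel p
  have hNcoh : Coh.IsCoh (kernel p) :=
    ⟨hNq, Groth.Agent.Lib.Helper21.CohNoeth.isFiniteType_of_mono (kernel.ι p) hA.2⟩
  have hNft := hNcoh.2
  have hcl : IsClosed (CohB1.support (kernel p)) :=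
    Groth.Agent.Lib.Helper21.CohSupport.isClosed_support _ hNft
  let J₀ : X.IdealSheafData := Scheme.IdealSheafData.vanishingIdeal ⟨_, hcl⟩
  have hJ₀ : (J₀.support : Set X) = CohB1.support (kernel p) :=
    Scheme.IdealSheafData.coe_support_vanishingIdeal _
  have hnoeth : ∀ U : X.affineOpens, IsNoetherianRing Γ(X, U.1) :=
    fun U => IsLocallyNoetherian.component_noetherian U
  obtain ⟨k, hk0, hk⟩ := Groth.Agent.Lib.Helper21.CohKill.exists_pow_killed (kernel p) hNft J₀
    (fun U => by haveI := hnoeth U; exact IsNoetherian.noetherian _) (le_of_eq hJ₀.symm)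
  obtain ⟨t, ht⟩ := isCompact_univ.elim_finite_subcover (fun U : X.affineOpens => (U.1 : Set X))
    (fun U => U.1.2) (by
      intro x _
      obtain ⟨_, ⟨V, hV, rfl⟩, hxV, -⟩ :=
        X.isBasis_affineOpens.exists_subset_of_mem_open (Set.mem_univ x) isOpen_univ
      exact Set.mem_iUnion.mpr ⟨⟨V, hV⟩, hxV⟩)
  have hAR : ∀ U : X.affineOpens, ∃ c : ℕ, ∀ n : ℕ, c < n →
      (J₀.ideal U ^ k) ^ n • (⊤ : Submodule Γ(X, U.1) Γ(A, U.1)) ⊓
        LinearMap.ker (appL p U.1) = ⊥ := by
    intro U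
    haveI := hnoeth U
    haveI : Module.Finite Γ(X, U.1) Γ(A, U.1) := finite_sections_of_isFiniteType A hA.2 U.2
    refine exists_pow_smul_inf_eq_bot (J₀.ideal U ^ k) _ ?_
    intro a ha m hm
    obtain ⟨s, rfl⟩ := exists_of_app_eq_zero p U.1 m hm
    rw [← Scheme.Modules.Hom.app_smul, hk U a ha s, map_zero]
  choose c hc using hAR
  refine ⟨(J₀ ^ k) ^ (t.sup c + 1), ?_, ?_⟩
  · rw [Scheme.IdealSheafData.support_pow _ _ (Nat.succ_ne_zero _),
      Scheme.IdealSheafData.support_pow _ _ hk0.ne', hJ₀]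
    exact hξ
  · intro J' hJ'
    have hz : IsZero (kernel (Dual3.idealMulι J' A ≫ p)) := by
      haveI : (kernel (Dual3.idealMulι J' A ≫ p)).IsQuasicoherent :=
        isQuasicoherent_kernel _
      refine Groth.Agent.Lib.Helper21.Devissage.isZero_of_support_eq_empty _
        (Set.eq_empty_iff_forall_notMem.mpr fun x hx => hx ?_)
      have hxt : x ∈ ⋃ i ∈ t, ((i : X.affineOpens).1 : Set X) := ht (Set.mem_univ x)
      simp only [Set.mem_iUnion] at hxt
      obtain ⟨U, hUt, hxU⟩ := hxt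
      refine Groth.Agent.Lib.Helper21.CohSupport.subsingleton_stalk_of_subsingleton_sections _ U.2
        ?_ x hxU
      suffices h0 : ∀ s : Γ(kernel (Dual3.idealMulι J' A ≫ p), U.1), s = 0 from
        ⟨fun s s' => by rw [h0 s, h0 s']⟩
      intro s
      apply app_kernelι_injective (Dual3.idealMulι J' A ≫ p) U.1
      apply idealMulι_app_injective J' A U.1
      rw [map_zero, map_zero]
      have h1 : (Dual3.idealMulι J' A).app U.1 ((kernel.ι (Dual3.idealMulι J' A ≫ p)).app U.1 s) ∈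
          J'.ideal U • (⊤ : Submodule Γ(X, U.1) Γ(A, U.1)) :=
        (mem_range_idealMulι_app_iff J' A U.2 _).mp ⟨_, rfl⟩
      have h2 : p.app U.1 ((Dual3.idealMulι J' A).app U.1
          ((kernel.ι (Dual3.idealMulι J' A ≫ p)).app U.1 s)) = 0 :=
        app_kernelι_comp (Dual3.idealMulι J' A ≫ p) U.1 s
      have h3 : (Dual3.idealMulι J' A).app U.1 ((kernel.ι (Dual3.idealMulι J' A ≫ p)).app U.1 s) ∈
          (J₀.ideal U ^ k) ^ (t.sup c + 1) • (⊤ : Submodule Γ(X, U.1) Γ(A, U.1)) ⊓
            LinearMap.ker (appL p U.1) :=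
        ⟨Submodule.smul_mono_left (hJ' U) h1, h2⟩
      rw [hc U _ (Nat.lt_succ_of_le (Finset.le_sup hUt))] at h3
      exact h3
    exact Preadditive.mono_of_kernel_zero (hz.eq_of_src _ _)

end Groth.Agent.Lib.Helper21.ArtinReesS
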