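import Groth.Agent.Lib.Helper21.CohKill

/-!
# Modules killed by an ideal sheaf are supported in its vanishing locus
-/

set_option autoImplicit false
set_option linter.style.haveILetI false
universe u

open AlgebraicGeometry CategoryTheory Opposite TopologicalSpace Limits

namespace Groth.Agent.Lib.Helper21.CohKill

set_option backward.isDefEq.respectTransparency.types false

open Groth.Agent.Lib.Lead.QCohAff Groth.Agent.Lib.Lead.CohAff

variable {X : Scheme.{u}}

theorem support_subset_of_killed (F : X.Modules) [F.IsQuasicoherent] (J : X.IdealSheafData)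
    (h : ∀ (V : X.affineOpens), ∀ a ∈ J.ideal V, ∀ m : Γ(F, V.1), a • m = 0) :
    CohB1.support F ⊆ (J.support : Set X) := by
  intro x hx
  by_contra hxJ
  apply hx
  obtain ⟨_, ⟨U, hU, rfl⟩, hxU, -⟩ :=
    X.isBasis_affineOpens.exists_subset_of_mem_open (Set.mem_univ x) isOpen_univ
  have hz : x ∉ X.zeroLocus (U := U) (J.ideal ⟨U, hU⟩) := fun hz =>
    hxJ ((Scheme.IdealSheafData.mem_support_iff_of_mem (I := J) (U := ⟨U, hU⟩) hxU).mpr hz)
  rw [X.mem_zeroLocus_iff] at hz
  push_neg at hz
  obtain ⟨a, ha, hxa⟩ := hz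
  have hua := isUnit_germ_of_mem_basicOpen a x hxU hxa
  refine ⟨fun t t' => ?_⟩
  suffices h0 : ∀ t : F.presheaf.stalk x, t = 0 by rw [h0 t, h0 t']
  intro t
  obtain ⟨c, s, hxc, hcs⟩ := exists_germ_smul_eq_germ F hU x hxU t
  have huc := isUnit_germ_of_mem_basicOpen c x hxU hxc
  apply huc.smul_eq_zero.1
  apply hua.smul_eq_zero.1
  rw [hcs]
  have := germ_smul F U x hxU a s
  rw [h ⟨U, hU⟩ a ha s, map_zero] at this
  exact this.symm

end Groth.Agent.Lib.Helper21.CohKill
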