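import Groth.Agent.Lib.Helper21.PowFactor
import Groth.Agent.Lib.Helper21.ArtinReesS
import Groth.Agent.Lib.Helper21.CohKill2
import Groth.Agent.Lib.Helper21.ClImmDev
import Groth.Agent.Lib.Helper64.FinTypeStalk

/-!
# The quotient `F / I F` (helper21)

For a quasi-coherent `F` and an ideal sheaf `I`, `quot I F := cokernel (I F ⟶ F)`:
* `killedByIdeal_quot`: killed by `I`;
* `support_quot_subset`: `Supp (F / I F) ⊆ Supp F ∩ V(I)`;
* `mem_support_quot`: equality (Nakayama) for `F` of finite type;
* `quotO Z`: `O_X / I_Z` with `support_quotO : Supp = Z`, `isCoh_quotO`.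
-/

set_option autoImplicit false
set_option linter.style.haveILetI false
universe u
open AlgebraicGeometry CategoryTheory Opposite TopologicalSpace Limits

namespace Groth.Agent.Lib.Helper21.QuotIdeal

open Groth.Agent.Lib.Helper78.ModStalk Groth.Agent.Lib.Helper78.ModStalkExact
  Groth.Agent.Lib.Helper21.CohStalkLocal Groth.Agent.Lib.Helper21.StalkLen
  Groth.Agent.Lib.Helper21.Devissage Groth.Agent.Lib.Helper21.IdealMulSec
  Groth.Agent.Lib.Helper21.QCohSections Groth.Agent.Lib.Helper21.ArtinReesS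
  Groth.Agent.Lib.Lead.QCohAff

variable {X : Scheme.{u}}

theorem shortExact_mono_cokernel {M N : X.Modules} (m : M ⟶ N) [Mono m] :
    (ShortComplex.mk m (cokernel.π m) (cokernel.condition m)).ShortExact :=
  ShortComplex.ShortExact.mk' (ShortComplex.exact_cokernel m) (inferInstanceAs (Mono m))
    (inferInstanceAs (Epi (cokernel.π m)))

theorem shortExact_kernel_epi {M N : X.Modules} (p : M ⟶ N) [Epi p] :
    (ShortComplex.mk (kernel.ι p) p (kernel.condition p)).ShortExact :=
  ShortComplex.ShortExact.mk' (ShortComplex.exact_kernel p) (inferInstanceAs (Mono (kernel.ι p)))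
    (inferInstanceAs (Epi p))

/-- `F / I F`. -/
noncomputable abbrev quot (I : X.IdealSheafData) (F : X.Modules) : X.Modules :=
  cokernel (Dual3.idealMulι I F)

theorem killedByIdeal_quot (I : X.IdealSheafData) (F : X.Modules) [F.IsQuasicoherent] :
    ClSub.KilledByIdeal I (quot I F) := by
  intro U a ha m
  haveI : (quot I F).IsQuasicoherent :=
    Groth.Agent.Lib.Helper21.QCohKernel.isQuasicoherent_cokernel _
  obtain ⟨f, rfl⟩ := app_surjective_of_epi (cokernel.π (Dual3.idealMulι I F)) U.2 m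
  change a • (cokernel.π (Dual3.idealMulι I F)).app U.1 f = 0
  rw [← Scheme.Modules.Hom.app_smul]
  have h1 : a • f ∈ I.ideal U • (⊤ : Submodule Γ(X, U.1) Γ(F, U.1)) :=
    Submodule.smul_mem_smul ha Submodule.mem_top
  obtain ⟨t, ht⟩ := (mem_range_idealMulι_app_iff I F U.2 _).mpr h1
  rw [← ht]
  have h2 := congr(Scheme.Modules.Hom.app $(cokernel.condition (Dual3.idealMulι I F)) U.1 t)
  exact h2

theorem support_quot_subset (I : X.IdealSheafData) (F : X.Modules) [F.IsQuasicoherent] :
    CohB1.support (quot I F) ⊆ CohB1.support F ∩ (I.support : Set X) := by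
  haveI : (quot I F).IsQuasicoherent :=
    Groth.Agent.Lib.Helper21.QCohKernel.isQuasicoherent_cokernel _
  exact Set.subset_inter (support_cokernel_subset _)
    (Groth.Agent.Lib.Helper21.CohKill.support_subset_of_killed _ I
      (fun V a ha m => killedByIdeal_quot I F V a ha m))

theorem germ_mem_maximalIdeal (I : X.IdealSheafData) (y : X) (hyI : y ∈ (I.support : Set X))
    {U : X.Opens} (hU : IsAffineOpen U) (hyU : y ∈ U) (a : Γ(X, U)) (ha : a ∈ I.ideal ⟨U, hU⟩) :
    X.presheaf.germ U y hyU a ∈ IsLocalRing.maximalIdeal (X.presheaf.stalk y) := by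
  have h1 : y ∈ X.zeroLocus (U := U) (I.ideal ⟨U, hU⟩) :=
    (Scheme.IdealSheafData.mem_support_iff_of_mem (I := I) (U := ⟨U, hU⟩) hyU).mp hyI
  rw [X.mem_zeroLocus_iff] at h1
  have h2 := h1 a ha
  rw [IsLocalRing.mem_maximalIdeal, mem_nonunits_iff]
  intro hu
  exact h2 ((X.mem_basicOpen a y hyU).mpr hu)

/-- **Nakayama**: `Supp (F / I F) ⊇ Supp F ∩ V(I)` for `F` of finite type. -/
theorem mem_support_quot (I : X.IdealSheafData) (F : X.Modules) [F.IsQuasicoherent]
    (hF : SheafOfModules.IsFiniteType (R := X.ringCatSheaf) F) (y : X)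
    (hyF : y ∈ CohB1.support F) (hyI : y ∈ (I.support : Set X)) :
    y ∈ CohB1.support (quot I F) := by
  intro hsub
  apply hyF
  have hsurj : Function.Surjective (stalkMap (Dual3.idealMulι I F) y) := by
    intro n
    have hex := stalk_function_exact _ (shortExact_mono_cokernel (Dual3.idealMulι I F)) y
    refine (hex n).mp ?_
    haveI : Subsingleton ((quot I F).presheaf.stalk y) := hsub
    exact Subsingleton.elim _ _
  obtain ⟨_, ⟨U, hU, rfl⟩, hyU, -⟩ :=
    X.isBasis_affineOpens.exists_subset_of_mem_open (Set.mem_univ y) isOpen_univ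
  have hmem : ∀ t : F.presheaf.stalk y,
      t ∈ IsLocalRing.maximalIdeal (X.presheaf.stalk y) •
        (⊤ : Submodule (X.presheaf.stalk y) (F.presheaf.stalk y)) := by
    intro t
    obtain ⟨t', rfl⟩ := hsurj t
    obtain ⟨c, s, hyc, hcs⟩ := exists_germ_smul_eq_germ ((Dual3.idealMul I).obj F) hU y hyU t'
    have hu := isUnit_germ_of_mem_basicOpen c y hyU hyc
    have h1 : X.presheaf.germ U y hyU c • stalkMap (Dual3.idealMulι I F) y t' =
        F.presheaf.germ U y hyU ((Dual3.idealMulι I F).app U s) := by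
      rw [← LinearMap.map_smul, hcs, stalkMap_germ]
    have h2 : (Dual3.idealMulι I F).app U s ∈
        I.ideal ⟨U, hU⟩ • (⊤ : Submodule Γ(X, U) Γ(F, U)) :=
      (mem_range_idealMulι_app_iff I F hU _).mp ⟨_, rfl⟩
    have h3 : ∀ z ∈ I.ideal ⟨U, hU⟩ • (⊤ : Submodule Γ(X, U) Γ(F, U)),
        F.presheaf.germ U y hyU z ∈ IsLocalRing.maximalIdeal (X.presheaf.stalk y) •
          (⊤ : Submodule (X.presheaf.stalk y) (F.presheaf.stalk y)) := by
      intro z hz
      refine Submodule.smul_induction_on hz ?_ ?_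
      · intro a ha f _
        rw [Groth.Agent.Lib.Helper78.ModStalk.germ_smul]
        exact Submodule.smul_mem_smul (germ_mem_maximalIdeal I y hyI hU hyU a ha)
          Submodule.mem_top
      · intro z₁ z₂ h₁ h₂
        rw [map_add]
        exact Submodule.add_mem _ h₁ h₂
    have h4 := h3 _ h2
    rw [← h1] at h4
    have h5 := Submodule.smul_mem _ (↑hu.unit⁻¹ : X.presheaf.stalk y) h4
    rwa [smul_smul, IsUnit.val_inv_mul, one_smul] at h5
  haveI := Groth.Agent.Lib.Helper64.FinTypeStalk.finite_stalk F hF y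
  have hN := Submodule.eq_bot_of_le_smul_of_le_jacobson_bot
    (IsLocalRing.maximalIdeal (X.presheaf.stalk y))
    (⊤ : Submodule (X.presheaf.stalk y) (F.presheaf.stalk y)) Module.Finite.fg_top
    (fun t _ => hmem t) (IsLocalRing.maximalIdeal_le_jacobson _)
  refine ⟨fun a b => ?_⟩
  have ha : a ∈ (⊥ : Submodule (X.presheaf.stalk y) (F.presheaf.stalk y)) := hN ▸ Submodule.mem_top
  have hb : b ∈ (⊥ : Submodule (X.presheaf.stalk y) (F.presheaf.stalk y)) := hN ▸ Submodule.mem_top
  rw [Submodule.mem_bot] at ha hb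
  rw [ha, hb]

end Groth.Agent.Lib.Helper21.QuotIdeal
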