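import Groth.Agent.Lib.Lead.CohAff4
import Groth.Agent.Lib.Helper21.CohSupport

/-!
# Pullback of quasi-coherent modules of finite type

* `isFiniteType_pullback`: the pullback of a quasi-coherent module of finite type is of finite type.
* `support_pullback_subset`: `supp (f^* G) ⊆ f⁻¹ (supp G)`.
-/

set_option autoImplicit false
set_option linter.style.haveILetI false
universe u

open AlgebraicGeometry CategoryTheory Opposite TopologicalSpace Limits TensorProduct

namespace Groth.Agent.Lib.Helper21.CohPullback

open Scheme.Modules Groth.Agent.Lib.Lead.QCohAff Groth.Agent.Lib.Lead.PullbackAff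
  Groth.Agent.Lib.Lead.CohAff

variable {X Y : Scheme.{u}} (f : X ⟶ Y) (G : Y.Modules) [G.IsQuasicoherent]

theorem isFiniteType_pullback (hG : SheafOfModules.IsFiniteType (R := Y.ringCatSheaf) G) :
    SheafOfModules.IsFiniteType (R := X.ringCatSheaf) ((Scheme.Modules.pullback f).obj G) := by
  apply isFiniteType_of_finite_sections
  intro x
  obtain ⟨V, U, hV, hU, hxU, hUV⟩ := exists_affines f x
  refine ⟨U, hU, hxU, ?_⟩
  haveI := finite_sections_of_isFiniteType G hG hV
  letI := (f.appLE V U hUV).hom.toAlgebra
  exact Module.Finite.equiv (sectionsPullbackEquiv f G hU hV hUV).symm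

theorem support_pullback_subset :
    CohB1.support ((Scheme.Modules.pullback f).obj G) ⊆ f ⁻¹' (CohB1.support G) := by
  intro x hx hG
  apply hx
  letI := (f.stalkMap x).hom.toAlgebra
  obtain ⟨e⟩ := nonempty_stalk_pullback_equiv f G x
  haveI : Subsingleton (G.presheaf.stalk (f x)) := hG
  exact e.toEquiv.subsingleton

end Groth.Agent.Lib.Helper21.CohPullback
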