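import Groth.Agent.Lib.Helper21.ArtinReesSheaf
import Groth.Agent.Lib.Helper21.StalkLen
import Groth.Agent.Lib.Helper21.Devissage
import Groth.Agent.Lib.Helper21.CohNoeth
import Groth.Agent.Lib.Lead.PullbackAff4

/-!
# Mittag-Leffler towers of quasi-coherent modules: the image of the limit (helper21)

For a tower `G : ℕᵒᵖ ⥤ X.Modules` of quasi-coherent modules satisfying the Mittag-Leffler
condition, the image of `lim G ⟶ G_e` is the stable image `im (G_d ⟶ G_e)`, `d ≫ e`.
-/

set_option autoImplicit false
set_option linter.style.haveILetI false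
universe u
open AlgebraicGeometry CategoryTheory Opposite TopologicalSpace Limits

namespace Groth.Agent.Lib.Helper21.MLImage

open Groth.Agent.Lib.Helper21.QCohSections Groth.Agent.Lib.Helper21.ArtinReesSheaf

variable {X : Scheme.{u}}

/-- the image subobject of a morphism of quasi-coherent modules is quasi-coherent -/
theorem isQuasicoherent_imageSubobject {A B : X.Modules} [A.IsQuasicoherent]
    [B.IsQuasicoherent] (g : A ⟶ B) :
    ((imageSubobject g : Subobject B) : X.Modules).IsQuasicoherent := by
  haveI : (cokernel g).IsQuasicoherent :=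
    Groth.Agent.Lib.Helper21.QCohKernel.isQuasicoherent_cokernel g
  haveI : (kernel (cokernel.π g)).IsQuasicoherent :=
    Groth.Agent.Lib.Helper21.QCohKernel.isQuasicoherent_kernel _
  let e : kernel (cokernel.π g) ≅ ((imageSubobject g : Subobject B) : X.Modules) :=
    Abelian.imageIsoImage g ≪≫ (imageSubobjectIso g).symm
  exact Groth.Agent.Lib.Lead.PullbackAff.isQuasicoherent_of_iso e

/-- on affine opens, the sections of the image subobject are the image of the sections -/
theorem range_imageSubobject_arrow_app {A B : X.Modules} [A.IsQuasicoherent]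
    [B.IsQuasicoherent] (g : A ⟶ B) {U : X.Opens} (hU : IsAffineOpen U) :
    Set.range ((imageSubobject g).arrow.app U) = Set.range (g.app U) := by
  haveI := isQuasicoherent_imageSubobject g
  have hfac : factorThruImageSubobject g ≫ (imageSubobject g).arrow = g :=
    imageSubobject_arrow_comp g
  have happ : ∀ t, (imageSubobject g).arrow.app U ((factorThruImageSubobject g).app U t) =
      g.app U t := fun t => by
    have := congrArg (fun ψ => Scheme.Modules.Hom.app ψ U) hfac
    simp only [Scheme.Modules.Hom.comp_app] at this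
    exact congr($this t)
  ext s
  constructor
  · rintro ⟨w, rfl⟩
    obtain ⟨t, rfl⟩ := app_surjective_of_epi (factorThruImageSubobject g) hU w
    exact ⟨t, (happ t).symm⟩
  · rintro ⟨t, rfl⟩
    exact ⟨_, happ t⟩

section tower

variable (G : ℕᵒᵖ ⥤ X.Modules) (U : X.Opens)

/-- transition maps of the tower on sections -/
noncomputable def trU {d d' : ℕ} (h : d ≤ d') : Γ(G.obj (op d'), U) → Γ(G.obj (op d), U) :=
  fun y => (G.map (homOfLE h).op).app U y

theorem trU_trU {d d' d'' : ℕ} (h1 : d ≤ d') (h2 : d' ≤ d'') (y : Γ(G.obj (op d''), U)) :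
    trU G U h1 (trU G U h2 y) = trU G U (h1.trans h2) y := by
  have h0 : G.map (homOfLE (h1.trans h2)).op = G.map (homOfLE h2).op ≫ G.map (homOfLE h1).op := by
    rw [← G.map_comp]
    rfl
  unfold trU
  rw [h0, Scheme.Modules.Hom.comp_app]
  rfl

theorem trU_refl {d : ℕ} (h : d ≤ d) (y : Γ(G.obj (op d), U)) : trU G U h y = y := by
  have h0 : G.map (homOfLE h).op = 𝟙 _ := by
    rw [← G.map_id]
    rfl
  unfold trU
  rw [h0]
  rfl

variable [∀ n, (G.obj n).IsQuasicoherent]
  (D : ℕ → ℕ) (hD : ∀ e, e ≤ D e)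
  (hML : ∀ (e d' : ℕ) (hd' : D e ≤ d'),
    imageSubobject (G.map (homOfLE ((hD e).trans hd')).op) =
      imageSubobject (G.map (homOfLE (hD e)).op))

include hML in
theorem range_trU_eq (hU : IsAffineOpen U) (e m : ℕ) (hm : D e ≤ m) :
    Set.range (trU G U ((hD e).trans hm)) = Set.range (trU G U (hD e)) := by
  have h1 := range_imageSubobject_arrow_app (G.map (homOfLE ((hD e).trans hm)).op) hU
  have h2 := range_imageSubobject_arrow_app (G.map (homOfLE (hD e)).op) hU
  have h3 : Set.range ((imageSubobject (G.map (homOfLE ((hD e).trans hm)).op)).arrow.app U) =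
      Set.range ((imageSubobject (G.map (homOfLE (hD e)).op)).arrow.app U) := by
    rw [hML e m hm]
  exact h1.symm.trans (h3.trans h2)

include hML in
/-- the stable images form a tower with surjective transition maps over affine opens -/
theorem exists_lift (hU : IsAffineOpen U) (d : ℕ) (y : Γ(G.obj (op d), U))
    (hy : y ∈ Set.range (trU G U (hD d))) :
    ∃ y' : Γ(G.obj (op (d + 1)), U), y' ∈ Set.range (trU G U (hD (d + 1))) ∧
      trU G U (Nat.le_succ d) y' = y := by
  have hm1 : D d ≤ max (D d) (D (d + 1)) := le_max_left _ _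
  have hm2 : D (d + 1) ≤ max (D d) (D (d + 1)) := le_max_right _ _
  rw [← range_trU_eq G U D hD hML hU d _ hm1] at hy
  obtain ⟨z, rfl⟩ := hy
  refine ⟨trU G U ((hD (d + 1)).trans hm2) z, ?_, ?_⟩
  · rw [← range_trU_eq G U D hD hML hU (d + 1) _ hm2]
    exact ⟨z, rfl⟩
  · rw [trU_trU]

/-- the stable part of the sections -/
def Stab (d : ℕ) : Type u := {y : Γ(G.obj (op d), U) // y ∈ Set.range (trU G U (hD d))}

include hML in
theorem exists_lift' (hU : IsAffineOpen U) (d : ℕ) (y : Stab G U D hD d) :
    ∃ y' : Stab G U D hD (d + 1), trU G U (Nat.le_succ d) y'.1 = y.1 := by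
  obtain ⟨y', h1, h2⟩ := exists_lift G U D hD hML hU d y.1 y.2
  exact ⟨⟨y', h1⟩, h2⟩

/-- a compatible sequence of stable sections above a given one -/
noncomputable def zseq (hU : IsAffineOpen U) (e : ℕ) (s : Stab G U D hD e) :
    (k : ℕ) → Stab G U D hD (e + k)
  | 0 => s
  | k + 1 => (exists_lift' G U D hD hML hU (e + k) (zseq hU e s k)).choose

theorem zseq_succ (hU : IsAffineOpen U) (e : ℕ) (s : Stab G U D hD e) (k : ℕ) :
    trU G U (Nat.le_succ (e + k)) (zseq G U D hD hML hU e s (k + 1)).1 =
      (zseq G U D hD hML hU e s k).1 :=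
  (exists_lift' G U D hD hML hU (e + k) (zseq G U D hD hML hU e s k)).choose_spec

theorem zseq_le (hU : IsAffineOpen U) (e : ℕ) (s : Stab G U D hD e) (k l : ℕ) (hkl : k ≤ l) :
    trU G U (Nat.add_le_add_left hkl e) (zseq G U D hD hML hU e s l).1 =
      (zseq G U D hD hML hU e s k).1 := by
  induction l, hkl using Nat.le_induction with
  | base => exact trU_refl G U _ _
  | succ l hkl ih =>
    have h1 : e + k ≤ e + l := Nat.add_le_add_left hkl e
    have h2 := zseq_succ G U D hD hML hU e s l
    rw [← ih, ← h2, trU_trU]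

/-- the compatible family of sections attached to a stable section -/
noncomputable def xfam (hU : IsAffineOpen U) (e : ℕ) (s : Stab G U D hD e) (d : ℕ) :
    Γ(G.obj (op d), U) :=
  trU G U (Nat.le_add_left d e) (zseq G U D hD hML hU e s d).1

theorem xfam_compat (hU : IsAffineOpen U) (e : ℕ) (s : Stab G U D hD e) {d d' : ℕ}
    (h : d' ≤ d) :
    trU G U h (xfam G U D hD hML hU e s d) = xfam G U D hD hML hU e s d' := by
  unfold xfam
  rw [trU_trU, ← zseq_le G U D hD hML hU e s d' d h, trU_trU]

theorem xfam_self (hU : IsAffineOpen U) (e : ℕ) (s : Stab G U D hD e) :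
    xfam G U D hD hML hU e s e = s.1 := by
  unfold xfam
  exact zseq_le G U D hD hML hU e s 0 e (Nat.zero_le e)

include hML in
/-- a stable section over an affine open lifts to a section of the limit -/
theorem exists_limit_section (hU : IsAffineOpen U) (e : ℕ) (s : Stab G U D hD e) :
    ∃ y : Γ(limit G, U), (limit.π G (op e)).app U y = s.1 := by
  let F : X.Modules ⥤ Type u := secF U ⋙ forget Ab
  haveI h0 : PreservesLimitsOfSize.{0, 0} (Scheme.Modules.toPresheaf X) :=
    preservesSmallestLimits_of_preservesLimits _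
  haveI : PreservesLimitsOfShape ℕᵒᵖ (Scheme.Modules.toPresheaf X) := inferInstance
  haveI : HasLimitsOfSize.{0, 0} Ab.{u} := hasSmallestLimitsOfHasLimits _
  haveI : HasLimitsOfShape ℕᵒᵖ Ab.{u} := HasLimitsOfSize.has_limits_of_shape _
  haveI : PreservesLimitsOfShape ℕᵒᵖ ((evaluation (Opens X)ᵒᵖ Ab.{u}).obj (op U)) :=
    evaluation_preservesLimitsOfShape _
  haveI : PreservesLimitsOfShape ℕᵒᵖ (secF (X := X) U) := by
    unfold secF
    exact comp_preservesLimitsOfShape _ _
  haveI : PreservesLimitsOfShape ℕᵒᵖ (forget Ab.{u}) := inferInstance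
  haveI : PreservesLimitsOfShape ℕᵒᵖ F := comp_preservesLimitsOfShape _ _
  have hlim : IsLimit (F.mapCone (limit.cone G)) := isLimitOfPreserves F (limit.isLimit G)
  let x : (G ⋙ F).sections := ⟨fun j => xfam G U D hD hML hU e s j.unop, by
    intro j j' f
    have h : j'.unop ≤ j.unop := leOfHom f.unop
    have hf : f = (homOfLE h).op := Subsingleton.elim _ _
    subst hf
    exact xfam_compat G U D hD hML hU e s h⟩
  refine ⟨(Types.isLimitEquivSections hlim).symm x, ?_⟩
  have h1 := Types.isLimitEquivSections_symm_apply hlim x (op e)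
  exact h1.trans (xfam_self G U D hD hML hU e s)

end tower

/-- For a Mittag-Leffler tower of quasi-coherent modules, the image of `lim G ⟶ G_e` is the stable
image. -/
theorem imageSubobject_limitπ_eq (G : ℕᵒᵖ ⥤ X.Modules) [∀ n, (G.obj n).IsQuasicoherent]
    (hML : ∀ e : ℕ, ∃ (d : ℕ) (hd : e ≤ d), ∀ (d' : ℕ) (hd' : d ≤ d'),
      imageSubobject (G.map (homOfLE (hd.trans hd')).op) =
        imageSubobject (G.map (homOfLE hd).op))
    (e : ℕ) : ∃ (d : ℕ) (hd : e ≤ d),
      imageSubobject (limit.π G (op e)) = imageSubobject (G.map (homOfLE hd).op) := by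
  choose D hD hML' using hML
  refine ⟨D e, hD e, le_antisymm ?_ ?_⟩
  · have h1 : limit.π G (op e) = limit.π G (op (D e)) ≫ G.map (homOfLE (hD e)).op :=
      (limit.w G _).symm
    rw [h1]
    exact imageSubobject_comp_le _ _
  · haveI := isQuasicoherent_imageSubobject (G.map (homOfLE (hD e)).op)
    refine le_of_range_subset _ _ {U | IsAffineOpen U} (fun x => ?_) (fun U hU => hU)
      (fun U hU => ?_)
    · obtain ⟨_, ⟨U, hU, rfl⟩, hxU, -⟩ :=
        X.isBasis_affineOpens.exists_subset_of_mem_open (Set.mem_univ x) isOpen_univ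
      exact ⟨U, hU, hxU⟩
    · rw [range_imageSubobject_arrow_app _ hU]
      rintro _ ⟨t, rfl⟩
      obtain ⟨y, hy⟩ := exists_limit_section G U D hD hML' hU e ⟨_, ⟨t, rfl⟩⟩
      refine ⟨(factorThruImageSubobject (limit.π G (op e))).app U y, ?_⟩
      have hfac : factorThruImageSubobject (limit.π G (op e)) ≫
          (imageSubobject (limit.π G (op e))).arrow = limit.π G (op e) :=
        imageSubobject_arrow_comp _
      have h2 := congrArg (fun ψ => Scheme.Modules.Hom.app ψ U) hfac
      simp only [Scheme.Modules.Hom.comp_app] at h2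
      exact (congr($h2 y)).trans hy

/-- The support of the image of `lim G ⟶ G_e` is closed for a Mittag-Leffler tower of coherent
modules. -/
theorem isClosed_support_image_limitπ [IsLocallyNoetherian X] (G : ℕᵒᵖ ⥤ X.Modules)
    (hG : ∀ n : ℕᵒᵖ, Coh.IsCoh (G.obj n))
    (hML : ∀ e : ℕ, ∃ (d : ℕ) (hd : e ≤ d), ∀ (d' : ℕ) (hd' : d ≤ d'),
      imageSubobject (G.map (homOfLE (hd.trans hd')).op) =
        imageSubobject (G.map (homOfLE hd).op))
    (e : ℕ) : IsClosed (CohB1.support (image (limit.π G (op e)))) := by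
  haveI : ∀ n, (G.obj n).IsQuasicoherent := fun n => (hG n).1
  obtain ⟨d, hd, heq⟩ := imageSubobject_limitπ_eq G hML e
  haveI := isQuasicoherent_imageSubobject (G.map (homOfLE hd).op)
  let e1 : image (limit.π G (op e)) ≅
      ((imageSubobject (G.map (homOfLE hd).op) : Subobject _) : X.Modules) :=
    (imageSubobjectIso _).symm ≪≫ Subobject.isoOfEq _ _ heq
  rw [Groth.Agent.Lib.Helper21.StalkLen.support_eq_of_iso e1]
  exact Groth.Agent.Lib.Helper21.Devissage.isClosed_support_of_isCoh
    ⟨inferInstance, Groth.Agent.Lib.Helper21.CohNoeth.isFiniteType_of_epi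
      (factorThruImageSubobject (G.map (homOfLE hd).op)) (hG _).2⟩

end Groth.Agent.Lib.Helper21.MLImage
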