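import Groth.Agent.Lib.Helper21.TorsionFreeCover
import Groth.Agent.Lib.Helper64.DepthIso

/-!
# Restrictions to opens of stalkwise bijective maps are isomorphisms (helper21)

* `isIso_restrict_of_stalkMap_bijective`: `ψ : M ⟶ N` with bijective stalk maps at all points of
  `U` restricts to an isomorphism on `U`.
* `isIso_restrict_idealMulι`: `I F ↪ F` restricts to an isomorphism away from `V(I)`.
* `exists_common_refinement` (Noetherian `X`): two coherent modules isomorphic over `U` are
  dominated by a common coherent module, isomorphically over `U`.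
-/

set_option autoImplicit false
set_option linter.style.haveILetI false
universe u
open AlgebraicGeometry CategoryTheory Opposite TopologicalSpace Limits

namespace Groth.Agent.Lib.Helper21.RestrictIso

open Groth.Agent.Lib.Helper78.ModStalk Groth.Agent.Lib.Helper78.ModStalkExact
  Groth.Agent.Lib.Helper21.TorsionFreeCover Groth.Agent.Lib.Helper2.DCohFlat

variable {X : Scheme.{u}}

theorem stalkMap_bijective_restrict_iff {M N : X.Modules} (ψ : M ⟶ N) (U : X.Opens)
    (x' : (U : Scheme.{u})) :
    Function.Bijective (stalkMap ((Scheme.Modules.restrictFunctor U.ι).map ψ) x') ↔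
      Function.Bijective (stalkMap ψ (U.ι x')) := by
  have key : ∀ a, restrictStalkEquiv U.ι N x'
      (stalkMap ((Scheme.Modules.restrictFunctor U.ι).map ψ) x' a) =
      stalkMap ψ (U.ι x') (restrictStalkEquiv U.ι M x' a) :=
    fun a => restrictStalkEquiv_stalkMap ψ U x' a
  constructor
  · intro h
    have : (stalkMap ψ (U.ι x') : _ → _) =
        (restrictStalkEquiv U.ι N x') ∘
          (stalkMap ((Scheme.Modules.restrictFunctor U.ι).map ψ) x') ∘
          (restrictStalkEquiv U.ι M x').symm := by
      funext a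
      simp only [Function.comp_apply]
      rw [key, AddEquiv.apply_symm_apply]
    rw [this]
    exact (restrictStalkEquiv U.ι N x').bijective.comp
      (h.comp (restrictStalkEquiv U.ι M x').symm.bijective)
  · intro h
    have : (stalkMap ((Scheme.Modules.restrictFunctor U.ι).map ψ) x' : _ → _) =
        (restrictStalkEquiv U.ι N x').symm ∘ (stalkMap ψ (U.ι x')) ∘
          (restrictStalkEquiv U.ι M x') := by
      funext a
      simp only [Function.comp_apply]
      rw [← key, AddEquiv.symm_apply_apply]
    rw [this]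
    exact (restrictStalkEquiv U.ι N x').symm.bijective.comp
      (h.comp (restrictStalkEquiv U.ι M x').bijective)

theorem isIso_restrict_of_stalkMap_bijective {M N : X.Modules} (ψ : M ⟶ N) (U : X.Opens)
    (h : ∀ x ∈ U, Function.Bijective (stalkMap ψ x)) :
    IsIso ((Scheme.Modules.restrictFunctor U.ι).map ψ) := by
  refine Groth.Agent.Lib.Helper64.DepthIso.isIso_of_stalk_bijective _ (fun x' => ?_)
  exact (stalkMap_bijective_restrict_iff ψ U x').mpr (h _ x'.2)

theorem isIso_restrict_idealMulι (I : X.IdealSheafData) (F : X.Modules) (U : X.Opens)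
    (hU : ∀ x ∈ U, x ∉ (I.support : Set X)) :
    IsIso ((Scheme.Modules.restrictFunctor U.ι).map (Dual3.idealMulι I F)) :=
  isIso_restrict_of_stalkMap_bijective _ U
    (fun x hx => Groth.Agent.Lib.Helper21.RootStep.stalkMap_idealMulι_bijective I F x (hU x hx))

/-- Two coherent modules on a Noetherian scheme which are isomorphic over an open `U` are both
targets of maps from a common coherent module which are isomorphisms over `U`. -/
theorem exists_common_refinement [IsNoetherian X] (U : X.Opens) (F₁ F₂ : X.Modules)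
    (h₁ : Coh.IsCoh F₁) (h₂ : Coh.IsCoh F₂)
    (e : (Scheme.Modules.restrictFunctor U.ι).obj F₁ ≅ (Scheme.Modules.restrictFunctor U.ι).obj F₂) :
    ∃ (G : X.Modules) (p₁ : G ⟶ F₁) (p₂ : G ⟶ F₂), Coh.IsCoh G ∧
      IsIso ((Scheme.Modules.restrictFunctor U.ι).map p₁) ∧
      IsIso ((Scheme.Modules.restrictFunctor U.ι).map p₂) := by
  haveI : F₂.IsQuasicoherent := h₂.1
  let Z : Closeds X := ⟨(U : Set X)ᶜ, U.isOpen.isClosed_compl⟩
  let I := Scheme.IdealSheafData.vanishingIdeal Z
  have hsupp : (I.support : Set X) = (U : Set X)ᶜ :=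
    Scheme.IdealSheafData.coe_support_vanishingIdeal Z
  obtain ⟨m, ψ, hψ⟩ := Groth.Agent.Lib.Helper21.HomExtend.exists_pow_hom_extension F₂ F₁ h₁ I U
    (by rw [hsupp, compl_compl]) e.hom
  have hiso : IsIso ((Scheme.Modules.restrictFunctor U.ι).map (Dual3.idealMulι (I ^ m) F₁)) :=
    isIso_restrict_idealMulι (I ^ m) F₁ U (fun x hx =>
      Groth.Agent.Lib.Helper21.HomExtend.notMem_support_pow I m x (by rw [hsupp]; exact fun h => h hx))
  refine ⟨(Dual3.idealMul (I ^ m)).obj F₁, Dual3.idealMulι (I ^ m) F₁, ψ,
    Groth.Agent.Lib.Helper21.SerreCoh.isCoh_idealMul _ h₁, hiso, ?_⟩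
  rw [hψ]
  infer_instance

end Groth.Agent.Lib.Helper21.RestrictIso
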