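import Groth.Agent.Lib.Helper21.AssUnique
import Groth.Agent.Lib.Helper21.CohSupport
import Groth.Agent.Lib.Helper21.RestrictIso

/-!
# The largest coherent submodule with nowhere dense support (helper21)

For a coherent module `F` on a locally Noetherian scheme:
* `emb F`, `embClosure F`: the embedded associated points and the union of their closures
  (`isClosed_embClosure`);
* `exists_ass_specializes`, `exists_ass_specializes_notMem`: points of the support are
  specializations of (non-embedded) associated points;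
* `exists_open_inter_support_subset`;
* `exists_max_nowhereDense`: the largest coherent submodule `K` with nowhere dense support, with
  `F / K` having the same support, no embedded points, and `F ⟶ F / K` an isomorphism over a
  dense open.
-/

set_option autoImplicit false
set_option linter.style.haveILetI false
universe u
open AlgebraicGeometry CategoryTheory Opposite TopologicalSpace Limits

namespace Groth.Agent.Lib.Helper21.NowhereDense

open Groth.Agent.Lib.Helper78.ModStalk Groth.Agent.Lib.Helper78.ModStalkExact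
  Groth.Agent.Lib.Helper21.AssTools Groth.Agent.Lib.Helper21.Devissage

variable {X : Scheme.{u}}

/-- the embedded associated points -/
def emb (F : X.Modules) : Set X :=
  {y | y ∈ AssSch.Ass F ∧ ∃ x ∈ AssSch.Ass F, x ⤳ y ∧ x ≠ y}

/-- the union of the closures of the embedded associated points -/
def embClosure (F : X.Modules) : Set X := ⋃ e : ↥(emb F), closure {(e : X)}

theorem ass_subset_support (F : X.Modules) : AssSch.Ass F ⊆ CohB1.support F := by
  intro y hy
  haveI := nontrivial_stalk_of_mem_ass hy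
  exact not_subsingleton _

open Groth.Agent.Lib.Helper29.QCohLoc in
theorem exists_ass_specializes [IsLocallyNoetherian X] (F : X.Modules) [F.IsQuasicoherent]
    (z : X) (hz : z ∈ CohB1.support F) : ∃ y ∈ AssSch.Ass F, y ⤳ z := by
  have hnt : Nontrivial (F.presheaf.stalk z) := not_subsingleton_iff_nontrivial.mp hz
  obtain ⟨s, hs⟩ := exists_ne (0 : F.presheaf.stalk z)
  obtain ⟨W, hzW, σ, rfl⟩ := TopCat.Presheaf.exists_germ_eq F.presheaf (x := z) s
  obtain ⟨V, hV, hzV, hVW⟩ := exists_isAffineOpen_mem_and_subset (X := X) (x := z) (U := W) hzW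
  have hVW' : V ≤ W := hVW
  rw [← germ_res _ W V hVW' z hzV σ] at hs
  have hloc : LocAt F V := LocAt.of_isQuasicoherent _ hV
  obtain ⟨y, -, hyA, hyz, -⟩ := exists_isAssPoint_specializes _ hV hloc z hzV _ hs
  exact ⟨y, hyA, hyz⟩

theorem isClosed_embClosure [IsLocallyNoetherian X] (F : X.Modules) (hF : Coh.IsCoh F) :
    IsClosed (embClosure F) := by
  apply LocallyFinite.isClosed_iUnion
  · intro z
    obtain ⟨V, hV, hzV, -⟩ := exists_isAffineOpen_mem_and_subset (U := (⊤ : X.Opens))
      (x := z) trivial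
    refine ⟨(V : Set X), V.isOpen.mem_nhds hzV, ?_⟩
    have hfin := ass_inter_affine_finite F hF hV
    refine Set.Finite.subset (hfin.preimage (Subtype.val_injective.injOn)) ?_
    rintro e ⟨w, hw1, hw2⟩
    have h1 : (e : X) ⤳ w := specializes_iff_mem_closure.mpr hw1
    exact ⟨e.2.1, h1.mem_open V.isOpen hw2⟩
  · intro e
    exact isClosed_closure

theorem embClosure_subset_support [IsLocallyNoetherian X] (F : X.Modules) (hF : Coh.IsCoh F) :
    embClosure F ⊆ CohB1.support F := by
  haveI := hF.1
  intro z hz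
  simp only [embClosure, Set.mem_iUnion] at hz
  obtain ⟨e, he⟩ := hz
  have h1 : (e : X) ⤳ z := specializes_iff_mem_closure.mpr he
  exact h1.mem_closed (Groth.Agent.Lib.Helper21.CohSupport.isClosed_support F hF.2)
    (ass_subset_support F e.2.1)

/-- every point of the support is a specialization of a non-embedded associated point outside
`embClosure`. -/
theorem exists_ass_specializes_notMem [IsLocallyNoetherian X] (F : X.Modules) (hF : Coh.IsCoh F)
    (z : X) (hz : z ∈ CohB1.support F) :
    ∃ y ∈ AssSch.Ass F, y ⤳ z ∧ y ∉ embClosure F := by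
  haveI := hF.1
  obtain ⟨V, hV, hzV, -⟩ := exists_isAffineOpen_mem_and_subset (U := (⊤ : X.Opens))
    (x := z) trivial
  let B : Set X := {y | y ∈ AssSch.Ass F ∧ y ⤳ z}
  have hBfin : B.Finite := by
    refine (ass_inter_affine_finite F hF hV).subset ?_
    rintro y ⟨hyA, hyz⟩
    exact ⟨hyA, hyz.mem_open V.isOpen hzV⟩
  have hBne : B.Nonempty := by
    obtain ⟨y, hyA, hyz⟩ := exists_ass_specializes F z hz
    exact ⟨y, hyA, hyz⟩
  letI := specializationPreorder X
  obtain ⟨y₀, hy₀B, hmax⟩ := hBfin.exists_maximal hBne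
  have hmax' : ∀ y ∈ AssSch.Ass F, y ⤳ y₀ → y = y₀ := by
    intro y hy hyy
    have hyB : y ∈ B := ⟨hy, hyy.trans hy₀B.2⟩
    have h2 : y₀ ⤳ y := hmax hyB hyy
    exact (hyy.antisymm h2).eq
  refine ⟨y₀, hy₀B.1, hy₀B.2, ?_⟩
  intro hC
  simp only [embClosure, Set.mem_iUnion] at hC
  obtain ⟨e, he⟩ := hC
  have h1 : (e : X) ⤳ y₀ := specializes_iff_mem_closure.mpr he
  have h2 : (e : X) = y₀ := hmax' _ e.2.1 h1
  obtain ⟨x, hxA, hxe, hne⟩ := e.2.2
  rw [h2] at hxe hne
  exact hne (hmax' x hxA hxe)

/-- a non-embedded associated point has an open neighbourhood meeting the support inside its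
closure. -/
theorem exists_open_inter_support_subset [IsLocallyNoetherian X] (F : X.Modules)
    (hF : Coh.IsCoh F) (y : X) (hy : y ∈ AssSch.Ass F) (hyC : y ∉ embClosure F) :
    ∃ W : X.Opens, y ∈ W ∧ (W : Set X) ∩ CohB1.support F ⊆ closure {y} := by
  haveI := hF.1
  obtain ⟨V, hV, hyV, -⟩ := exists_isAffineOpen_mem_and_subset (U := (⊤ : X.Opens))
    (x := y) trivial
  have hfin := ass_inter_affine_finite F hF hV
  let Zc : Set X := ⋃ y' ∈ ((AssSch.Ass F ∩ (V : Set X)) \ {y}), closure {y'}
  have hZc : IsClosed Zc :=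
    (hfin.subset Set.sdiff_subset).isClosed_biUnion (fun y _ => isClosed_closure)
  refine ⟨V ⊓ ⟨Zcᶜ, hZc.isOpen_compl⟩, ⟨hyV, ?_⟩, ?_⟩
  · intro hy'
    simp only [Zc, Set.mem_iUnion] at hy'
    obtain ⟨y', hy'1, hy'2⟩ := hy'
    have h1 : y' ⤳ y := specializes_iff_mem_closure.mpr hy'2
    apply hyC
    simp only [embClosure, Set.mem_iUnion]
    exact ⟨⟨y, hy, y', hy'1.1.1, h1, hy'1.2⟩, subset_closure rfl⟩
  · rintro z ⟨⟨hzV, hzZ⟩, hzS⟩
    obtain ⟨y'', hy''A, hy''z⟩ := exists_ass_specializes F z hzS
    have hy''V : y'' ∈ V := hy''z.mem_open V.isOpen hzV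
    by_cases h : y'' = y
    · rw [← h]
      exact specializes_iff_mem_closure.mp hy''z
    · exfalso
      apply hzZ
      simp only [Zc, Set.mem_iUnion]
      exact ⟨y'', ⟨⟨hy''A, hy''V⟩, h⟩, specializes_iff_mem_closure.mp hy''z⟩


open Groth.Agent.Lib.Helper21.RestrictIso Groth.Agent.Lib.Helper21.CohStalkLocal in
theorem exists_max_nowhereDense [IsLocallyNoetherian X] (F : X.Modules) (hF : Coh.IsCoh F) :
    ∃ K : Subobject F, Coh.IsCoh (K : X.Modules) ∧
      (∀ U : X.Opens, (U : Set ↥X) ∩ CohB1.support F ⊆ CohB1.support (K : X.Modules) →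
        (U : Set ↥X) ∩ CohB1.support F = ∅) ∧
      (∀ K' : Subobject F, Coh.IsCoh (K' : X.Modules) →
        (∀ U : X.Opens, (U : Set ↥X) ∩ CohB1.support F ⊆ CohB1.support (K' : X.Modules) →
          (U : Set ↥X) ∩ CohB1.support F = ∅) →
        K' ≤ K) ∧
      CohB1.support (cokernel K.arrow) = CohB1.support F ∧
      (∀ x : ↥X, Curv2.IsAssPoint (cokernel K.arrow) x →
        ∀ y : ↥X, Curv2.IsAssPoint (cokernel K.arrow) y → y ⤳ x → y = x) ∧
      ∃ U : X.Opens, Dense (U : Set ↥X) ∧
        CohB1.support F ⊆ closure ((U : Set ↥X) ∩ CohB1.support F) ∧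
        IsIso ((Scheme.Modules.restrictFunctor U.ι).map (cokernel.π K.arrow)) := by
  haveI := hF.1
  have hCcl := isClosed_embClosure F hF
  let U : X.Opens := ⟨(embClosure F)ᶜ, hCcl.isOpen_compl⟩
  let adj := Scheme.Modules.restrictAdjunction U.ι
  let r := Scheme.Modules.restrictFunctor U.ι
  let u : F ⟶ (Scheme.Modules.pushforward U.ι).obj (r.obj F) := adj.unit.app F
  haveI : (r.obj F).IsQuasicoherent := inferInstanceAs
    ((Scheme.Modules.restrictFunctor U.ι).obj F).IsQuasicoherent
  haveI hHqc : ((Scheme.Modules.pushforward U.ι).obj (r.obj F)).IsQuasicoherent :=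
    Groth.Agent.Lib.Helper2.KerSec.isQuasicoherent_pushforward_of_qcqs U.ι (r.obj F)
  haveI hKqc : (kernel u).IsQuasicoherent :=
    Groth.Agent.Lib.Helper21.QCohKernel.isQuasicoherent_kernel u
  have hKcoh : Coh.IsCoh (kernel u) :=
    ⟨hKqc, Groth.Agent.Lib.Helper21.CohNoeth.isFiniteType_of_mono (kernel.ι u) hF.2⟩
  have hru : IsIso (r.map u) := by
    have h := adj.left_triangle_components F
    haveI : IsIso (adj.counit.app (r.obj F)) := inferInstance
    exact IsIso.of_isIso_fac_right h
  let K : Subobject F := Subobject.mk (kernel.ι u)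
  have hKarr : K.arrow ≫ u = 0 := by
    rw [← Subobject.underlyingIso_hom_comp_eq_mk, Category.assoc, kernel.condition, comp_zero]
  have hKcoh' : Coh.IsCoh (K : X.Modules) :=
    isCoh_of_iso (Subobject.underlyingIso (kernel.ι u)).symm hKcoh
  haveI := hKcoh'.1
  have hKz : ∀ z ∈ U, Subsingleton ((K : X.Modules).presheaf.stalk z) := by
    intro z hzU
    refine ⟨fun a b => ?_⟩
    have hinj := (Groth.Agent.Lib.Helper21.HomExtend.stalkMap_bijective_of_isIso_restrict u U hru
      z hzU).1
    have hz0 : ∀ c, stalkMap K.arrow z c = 0 := by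
      intro c
      apply hinj
      rw [map_zero, ← LinearMap.comp_apply, ← Groth.Agent.Lib.Helper21.StalkBiprod.stalkMap_comp,
        hKarr, Groth.Agent.Lib.Helper21.StalkBiprod.stalkMap_zero]
      rfl
    apply stalkMap_injective_of_mono K.arrow z
    rw [hz0 a, hz0 b]
  have hKsupp : CohB1.support (K : X.Modules) ⊆ embClosure F := by
    intro z hz
    by_contra hzC
    exact hz (hKz z hzC)
  have hπbij : ∀ z ∈ U, Function.Bijective (stalkMap (cokernel.π K.arrow) z) := by
    intro z hzU
    refine ⟨?_, stalkMap_surjective_of_epi (cokernel.π K.arrow) z⟩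
    have hex := stalk_function_exact _
      (Groth.Agent.Lib.Helper21.QuotIdeal.shortExact_mono_cokernel K.arrow) z
    rw [injective_iff_map_eq_zero]
    intro a ha
    obtain ⟨t, rfl⟩ := (hex a).mp ha
    haveI := hKz z hzU
    rw [Subsingleton.elim t 0, map_zero]
  have hcoh : Coh.IsCoh (cokernel K.arrow) := isCoh_cokernel K.arrow hKcoh' hF
  haveI := hcoh.1
  refine ⟨K, hKcoh', ?_, ?_, ?_, ?_, U, ?_, ?_, ?_⟩
  · intro W hW
    by_contra hne
    obtain ⟨z, hzW, hzS⟩ := Set.nonempty_iff_ne_empty.mpr hne
    obtain ⟨y, hyA, hyz, hyC⟩ := exists_ass_specializes_notMem F hF z hzS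
    have hyW : y ∈ W := hyz.mem_open W.isOpen hzW
    exact hyC (hKsupp (hW ⟨hyW, ass_subset_support F hyA⟩))
  · intro K' hK' hnd
    haveI := hK'.1
    have hzero : K'.arrow ≫ u = 0 := by
      haveI : (kernel (K'.arrow ≫ u)).IsQuasicoherent :=
        Groth.Agent.Lib.Helper21.QCohKernel.isQuasicoherent_kernel _
      haveI hCq : (cokernel (kernel.ι (K'.arrow ≫ u))).IsQuasicoherent :=
        Groth.Agent.Lib.Helper21.QCohKernel.isQuasicoherent_cokernel _
      let e : (K' : X.Modules) ⟶ cokernel (kernel.ι (K'.arrow ≫ u)) :=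
        cokernel.π (kernel.ι (K'.arrow ≫ u))
      let m : cokernel (kernel.ι (K'.arrow ≫ u)) ⟶
          (Scheme.Modules.pushforward U.ι).obj (r.obj F) :=
        Abelian.factorThruCoimage (K'.arrow ≫ u)
      haveI : Mono m := inferInstanceAs (Mono (Abelian.factorThruCoimage (K'.arrow ≫ u)))
      have hem : e ≫ m = K'.arrow ≫ u := Abelian.coimage.fac (K'.arrow ≫ u)
      have hempty : AssSch.Ass (cokernel (kernel.ι (K'.arrow ≫ u))) = ∅ := by
        ext y
        simp only [Set.mem_empty_iff_false, iff_false]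
        intro hy
        have hy1 := ass_push_restrict_subset U F (ass_subset_of_mono m hy)
        have hyK' : y ∈ CohB1.support (K' : X.Modules) := by
          intro hsub
          haveI := nontrivial_stalk_of_mem_ass hy
          exact not_subsingleton _ ((stalkMap_surjective_of_epi e y).subsingleton)
        obtain ⟨W, hyW, hWS⟩ := exists_open_inter_support_subset F hF y hy1.1 hy1.2
        have hcl : closure {y} ⊆ CohB1.support (K' : X.Modules) :=
          (Groth.Agent.Lib.Helper21.CohSupport.isClosed_support _ hK'.2).closure_subset_iff.mpr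
            (Set.singleton_subset_iff.mpr hyK')
        have h0 := hnd W (hWS.trans hcl)
        have hmem : y ∈ (W : Set X) ∩ CohB1.support F := ⟨hyW, ass_subset_support F hy1.1⟩
        rw [h0] at hmem
        exact hmem
      have hz := isZero_of_ass_eq_empty _ hempty
      rw [← hem, hz.eq_of_tgt e 0, zero_comp]
    exact Subobject.le_mk_of_comm (kernel.lift u K'.arrow hzero) (kernel.lift_ι _ _ _)
  · apply Set.Subset.antisymm
    · intro z hz hsub
      exact hz ((stalkMap_surjective_of_epi (cokernel.π K.arrow) z).subsingleton)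
    · intro z hzS
      obtain ⟨y, hyA, hyz, hyC⟩ := exists_ass_specializes_notMem F hF z hzS
      have hyU : y ∈ U := hyC
      have hyS : y ∈ CohB1.support (cokernel K.arrow) := by
        intro hsub
        exact ass_subset_support F hyA ((hπbij y hyU).1.subsingleton)
      exact hyz.mem_closed (Groth.Agent.Lib.Helper21.CohSupport.isClosed_support _ hcoh.2) hyS
  · intro x hx y hy hyx
    have hsub : AssSch.Ass (cokernel K.arrow) ⊆ AssSch.Ass F ∩ (U : Set X) := by
      let ec : cokernel K.arrow ≅ cokernel (kernel.ι u) :=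
        cokernel.mapIso K.arrow (kernel.ι u) (Subobject.underlyingIso _) (Iso.refl F)
          (by rw [Iso.refl_hom, Category.comp_id, Subobject.underlyingIso_hom_comp_eq_mk])
      rw [ass_eq_of_iso ec]
      intro y hy
      let m : cokernel (kernel.ι u) ⟶ (Scheme.Modules.pushforward U.ι).obj (r.obj F) :=
        Abelian.factorThruCoimage u
      haveI : Mono m := inferInstanceAs (Mono (Abelian.factorThruCoimage u))
      exact ass_push_restrict_subset U F (ass_subset_of_mono m hy)
    have hx1 := hsub hx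
    have hy1 := hsub hy
    by_contra hne
    apply hx1.2
    simp only [embClosure, Set.mem_iUnion]
    exact ⟨⟨x, hx1.1, y, hy1.1, hyx, hne⟩, subset_closure rfl⟩
  · rw [dense_iff_inter_open]
    intro W hW hWne
    obtain ⟨z, hz⟩ := hWne
    by_cases hzS : z ∈ CohB1.support F
    · obtain ⟨y, hyA, hyz, hyC⟩ := exists_ass_specializes_notMem F hF z hzS
      exact ⟨y, hyz.mem_open hW hz, hyC⟩
    · exact ⟨z, hz, fun hC => hzS (embClosure_subset_support F hF hC)⟩
  · intro z hzS
    obtain ⟨y, hyA, hyz, hyC⟩ := exists_ass_specializes_notMem F hF z hzS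
    have h1 : z ∈ closure {y} := specializes_iff_mem_closure.mp hyz
    have hsub : ({y} : Set X) ⊆ (U : Set X) ∩ CohB1.support F :=
      Set.singleton_subset_iff.mpr ⟨hyC, ass_subset_support F hyA⟩
    exact closure_mono hsub h1
  · exact isIso_restrict_of_stalkMap_bijective (cokernel.π K.arrow) U hπbij

end Groth.Agent.Lib.Helper21.NowhereDense
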