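import Groth.Agent.Lib.Helper21.CohNoeth
import Groth.Agent.Lib.Helper2.QCohLim

/-!
# Binary biproducts of modules of finite type (helper21)
-/

set_option autoImplicit false
set_option linter.style.haveILetI false
universe u
open AlgebraicGeometry CategoryTheory Opposite TopologicalSpace Limits

namespace Groth.Agent.Lib.Helper21.CohBiprod

variable {X : Scheme.{u}}

/-- A binary biproduct of quasi-coherent modules of finite type is of finite type. -/
theorem isFiniteType_biprod (A B : X.Modules) [A.IsQuasicoherent] [B.IsQuasicoherent]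
    (hA : SheafOfModules.IsFiniteType (R := X.ringCatSheaf) A)
    (hB : SheafOfModules.IsFiniteType (R := X.ringCatSheaf) B) :
    SheafOfModules.IsFiniteType (R := X.ringCatSheaf) (A ⊞ B : X.Modules) := by
  haveI : (A ⊞ B).IsQuasicoherent := Groth.Agent.Lib.Helper2.KerSec.isQuasicoherent_biprod A B
  rw [Groth.Agent.Lib.Lead.CohAff.isFiniteType_iff_finite_sections]
  intro U hU
  haveI : Module.Finite Γ(X, U) Γ(A, U) :=
    Groth.Agent.Lib.Lead.CohAff.finite_sections_of_isFiniteType A hA hU
  haveI : Module.Finite Γ(X, U) Γ(B, U) :=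
    Groth.Agent.Lib.Lead.CohAff.finite_sections_of_isFiniteType B hB hU
  let f : (Γ(A, U) × Γ(B, U)) →ₗ[Γ(X, U)] Γ(A ⊞ B, U) :=
    (Groth.Agent.Lib.Helper21.QCohSections.appL (biprod.inl : A ⟶ A ⊞ B) U).coprod
      (Groth.Agent.Lib.Helper21.QCohSections.appL (biprod.inr : B ⟶ A ⊞ B) U)
  refine Module.Finite.of_surjective f ?_
  intro s
  refine ⟨((biprod.fst : A ⊞ B ⟶ A).app U s, (biprod.snd : A ⊞ B ⟶ B).app U s), ?_⟩
  simp only [f, LinearMap.coprod_apply, Groth.Agent.Lib.Helper21.QCohSections.appL_apply]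
  exact Groth.Agent.Lib.Helper2.KerSec.biprod_total_apply A B U s

end Groth.Agent.Lib.Helper21.CohBiprod
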