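import Mathlib.CategoryTheory.Abelian.CommSq
import Mathlib.Algebra.Homology.ShortComplex.ShortExact

set_option autoImplicit false
set_option linter.style.haveILetI false
universe v u

open CategoryTheory Limits

namespace Groth.Agent.Lib.Helper21.AbLemmas

variable {C : Type u} [Category.{v} C] [Abelian C]

/-- Third isomorphism theorem: `0 → A/N → B/N → B/A → 0`. -/
theorem shortExact_cokernel_map {N A B D : C} (ψ : N ⟶ A) (f : A ⟶ B) (g : B ⟶ D)
    (w : f ≫ g = 0) (hS : (ShortComplex.mk f g w).ShortExact) :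
    (ShortComplex.mk (cokernel.map ψ (ψ ≫ f) (𝟙 N) f (by simp))
      (cokernel.desc (ψ ≫ f) g (by simp [w]))
      (by ext; simp [w])).ShortExact := by
  haveI : Mono f := hS.mono_f
  haveI : Epi g := hS.epi_g
  have sq : IsPullback ψ (𝟙 N) f (ψ ≫ f) := by
    refine ⟨⟨by simp⟩, ⟨PullbackCone.IsLimit.mk _ (fun s => s.snd) ?_ ?_ ?_⟩⟩
    · intro s
      have := s.condition
      rw [← cancel_mono f]
      simpa using this.symm
    · intro s
      simp
    · intro s m h1 h2
      simpa using h2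
  haveI : Mono (cokernel.map ψ (ψ ≫ f) (𝟙 N) f (by simp)) :=
    Abelian.mono_cokernel_map_of_isPullback sq
  haveI : Epi (cokernel.desc (ψ ≫ f) g (by simp [w])) := by
    have : cokernel.π (ψ ≫ f) ≫ cokernel.desc (ψ ≫ f) g (by simp [w]) = g := by simp
    exact epi_of_epi_fac this
  refine ShortComplex.ShortExact.mk' ?_ inferInstance inferInstance
  refine ShortComplex.exact_of_g_is_cokernel _ ?_
  have hcok : IsColimit (CokernelCofork.ofπ g w) := hS.gIsCokernel
  have key : ∀ {T : C} (h : cokernel (ψ ≫ f) ⟶ T)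
      (_ : cokernel.map ψ (ψ ≫ f) (𝟙 N) f (by simp) ≫ h = 0),
      f ≫ cokernel.π (ψ ≫ f) ≫ h = 0 := by
    intro T h hh
    have : f ≫ cokernel.π (ψ ≫ f) = cokernel.π ψ ≫ cokernel.map ψ (ψ ≫ f) (𝟙 N) f (by simp) := by
      simp
    rw [reassoc_of% this, hh, comp_zero]
  have fac : ∀ {T : C} (h : cokernel (ψ ≫ f) ⟶ T)
      (hh : cokernel.map ψ (ψ ≫ f) (𝟙 N) f (by simp) ≫ h = 0),
      cokernel.desc (ψ ≫ f) g (by simp [w]) ≫
        hcok.desc (CokernelCofork.ofπ (cokernel.π (ψ ≫ f) ≫ h) (key h hh)) = h := by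
    intro T h hh
    rw [← cancel_epi (cokernel.π (ψ ≫ f))]
    simp only [cokernel.π_desc_assoc]
    exact hcok.fac _ WalkingParallelPair.one
  refine CokernelCofork.IsColimit.ofπ _ _
    (fun {T} h hh => hcok.desc (CokernelCofork.ofπ (cokernel.π (ψ ≫ f) ≫ h) (key h hh))) ?_ ?_
  · intro T h hh
    exact fac h hh
  · intro T h hh b hb
    have e := (fac h hh).trans hb.symm
    exact ((cancel_epi _).mp e).symm

/-- `0 → ker q → ker (q ≫ ρ) → ker ρ → 0` for `q` epi. -/
theorem shortExact_kernel_comp {M Q Q' : C} (q : M ⟶ Q) [Epi q] (ρ : Q ⟶ Q') :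
    (ShortComplex.mk (kernel.map q (q ≫ ρ) (𝟙 M) ρ (by simp))
      (kernel.lift ρ (kernel.ι (q ≫ ρ) ≫ q) (by simp))
      (by ext; simp)).ShortExact := by
  haveI : Mono (kernel.map q (q ≫ ρ) (𝟙 M) ρ (by simp)) := by
    have : kernel.map q (q ≫ ρ) (𝟙 M) ρ (by simp) ≫ kernel.ι (q ≫ ρ) = kernel.ι q := by simp
    exact mono_of_mono_fac this
  haveI : Epi (kernel.lift ρ (kernel.ι (q ≫ ρ) ≫ q) (by simp)) := by
    let l : pullback q (kernel.ι ρ) ⟶ kernel (q ≫ ρ) :=
      kernel.lift _ (pullback.fst q (kernel.ι ρ)) (by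
        rw [← Category.assoc, pullback.condition]; simp)
    have : l ≫ kernel.lift ρ (kernel.ι (q ≫ ρ) ≫ q) (by simp) = pullback.snd q (kernel.ι ρ) := by
      rw [← cancel_mono (kernel.ι ρ)]
      simp [l, pullback.condition]
    exact epi_of_epi_fac this
  refine ShortComplex.ShortExact.mk' ?_ inferInstance inferInstance
  refine ShortComplex.exact_of_f_is_kernel _ ?_
  refine KernelFork.IsLimit.ofι _ _
    (fun {T} t ht => kernel.lift q (t ≫ kernel.ι (q ≫ ρ)) ?_) ?_ ?_
  · have := ht =≫ kernel.ι ρ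
    simpa using this
  · intro T t ht
    rw [← cancel_mono (kernel.ι (q ≫ ρ))]
    simp
  · intro T t ht b hb
    rw [← cancel_mono (kernel.ι q)]
    simp only [kernel.lift_ι]
    rw [← hb]
    simp

end Groth.Agent.Lib.Helper21.AbLemmas
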