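import Mathlib.RingTheory.Flat.Equalizer
import Mathlib.RingTheory.Finiteness.Basic
import Mathlib.LinearAlgebra.TensorProduct.Pi

set_option autoImplicit false
universe u
open TensorProduct

namespace Groth.Agent.Lib.Helper21.AnnFlat

/-- The annihilator of a finitely generated module commutes with flat base change. -/
theorem annihilator_baseChange_of_flat (A B M : Type*) [CommRing A] [CommRing B] [Algebra A B]
    [Module.Flat A B] [AddCommGroup M] [Module A M] [Module.Finite A M] :
    Module.annihilator B (B ⊗[A] M) = Ideal.map (algebraMap A B) (Module.annihilator A M) := by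
  apply le_antisymm
  · obtain ⟨n, m, hm⟩ := Module.Finite.exists_fin (R := A) (M := M)
    intro b hb
    let φ : A →ₗ[A] (Fin n → M) := LinearMap.pi fun i => LinearMap.toSpanSingleton A M (m i)
    have hker : LinearMap.ker φ = Module.annihilator A M := by
      ext a
      rw [LinearMap.mem_ker, Module.mem_annihilator]
      constructor
      · intro ha x
        have hx : x ∈ Submodule.span A (Set.range m) := hm ▸ Submodule.mem_top
        refine Submodule.span_induction ?_ ?_ ?_ ?_ hx
        · rintro _ ⟨i, rfl⟩
          exact congrFun ha i
        · exact smul_zero a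
        · intro x y _ _ hx hy
          rw [smul_add, hx, hy, add_zero]
        · intro c x _ hx
          rw [smul_comm, hx, smul_zero]
      · intro ha
        funext i
        exact ha (m i)
    have h1 : (b ⊗ₜ[A] (1 : A) : B ⊗[A] A) ∈
        LinearMap.ker (AlgebraTensorModule.lTensor B B φ) := by
      rw [LinearMap.mem_ker, AlgebraTensorModule.lTensor_tmul]
      apply (TensorProduct.piRight A B B (fun _ : Fin n => M)).injective
      rw [map_zero]
      funext i
      rw [TensorProduct.piRight_apply, TensorProduct.piRightHom_tmul]
      change b ⊗ₜ[A] ((1 : A) • m i) = 0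
      rw [one_smul]
      have := Module.mem_annihilator.mp hb ((1 : B) ⊗ₜ[A] m i)
      rwa [TensorProduct.smul_tmul', smul_eq_mul, mul_one] at this
    rw [Module.Flat.ker_lTensor_eq] at h1
    obtain ⟨z, hz⟩ := h1
    have h2 : ∀ z : B ⊗[A] (LinearMap.ker φ),
        TensorProduct.rid A B (AlgebraTensorModule.lTensor B B (LinearMap.ker φ).subtype z) ∈
          Ideal.map (algebraMap A B) (Module.annihilator A M) := by
      intro z
      induction z using TensorProduct.induction_on with
      | zero => simp
      | tmul b' a =>
        rw [AlgebraTensorModule.lTensor_tmul, TensorProduct.rid_tmul, Submodule.subtype_apply,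
          Algebra.smul_def, mul_comm]
        exact Ideal.mul_mem_left _ _ (Ideal.mem_map_of_mem _ (hker ▸ a.2))
      | add x y hx hy =>
        rw [map_add, map_add]
        exact Ideal.add_mem _ hx hy
    have h3 := h2 z
    rw [hz, TensorProduct.rid_tmul, one_smul] at h3
    exact h3
  · rw [Ideal.map_le_iff_le_comap]
    intro a ha
    rw [Ideal.mem_comap, Module.mem_annihilator]
    intro x
    induction x using TensorProduct.induction_on with
    | zero => simp
    | tmul b' m' =>
      have h4 : algebraMap A B a • (b' ⊗ₜ[A] m') = b' ⊗ₜ[A] (a • m') := by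
        rw [TensorProduct.smul_tmul', smul_eq_mul, ← Algebra.smul_def, TensorProduct.smul_tmul]
      rw [h4, Module.mem_annihilator.mp ha m', TensorProduct.tmul_zero]
    | add x y hx hy => rw [smul_add, hx, hy, add_zero]

end Groth.Agent.Lib.Helper21.AnnFlat
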