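import Groth.Agent.Lib.Helper21.AnnFlat
import Groth.Agent.Lib.Helper21.AnnIdeal
import Groth.Agent.Lib.Helper21.CohPullback
import Groth.Agent.Lib.Helper82.EffCartier

set_option autoImplicit false
set_option linter.style.haveILetI false
universe u
open AlgebraicGeometry CategoryTheory Opposite TopologicalSpace Limits TensorProduct

namespace Groth.Agent.Lib.Helper21.AnnPullback

open Scheme.Modules Groth.Agent.Lib.Lead.PullbackAff Groth.Agent.Lib.Helper21.AnnIdeal
  Groth.Agent.Lib.Helper21.CohPullback Groth.Agent.Lib.Helper21.AnnFlat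

variable {Y X : Scheme.{u}} (f : Y ⟶ X) [Flat f] (F : X.Modules) [F.IsQuasicoherent]
  (hft : SheafOfModules.IsFiniteType (R := X.ringCatSheaf) F)

include hft in
/-- Flat pullback commutes with annihilator ideal sheaves (scheme-theoretic supports). -/
theorem comap_annIdeal :
    (annIdeal F hft).comap f = annIdeal ((Scheme.Modules.pullback f).obj F) (isFiniteType_pullback f F hft) := by
  let ι := {p : Y.affineOpens × X.affineOpens // p.1.1 ≤ f ⁻¹ᵁ p.2.1}
  refine Scheme.IdealSheafData.ext_of_iSup_eq_top (ι := ι) (fun p => p.1.1) ?_ ?_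
  · rw [eq_top_iff]
    intro y _
    obtain ⟨U, V, hU, hV, hyV, hVU⟩ := exists_affines f y
    exact Opens.mem_iSup.mpr ⟨⟨(⟨V, hV⟩, ⟨U, hU⟩), hVU⟩, hyV⟩
  · rintro ⟨⟨⟨V, hV⟩, ⟨U, hU⟩⟩, e⟩
    change ((annIdeal F hft).comap f).ideal ⟨V, hV⟩ =
      Module.annihilator Γ(Y, V) Γ((Scheme.Modules.pullback f).obj F, V)
    rw [Groth.Agent.Lib.Helper82.ideal_comap_of_le f _ V hV U hU e]
    letI := (f.appLE U V e).hom.toAlgebra
    haveI : Module.Flat Γ(X, U) Γ(Y, V) := Flat.flat_appLE f hU hV e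
    haveI := Groth.Agent.Lib.Helper21.QCohFinite.finite_sections_of_isFiniteType F hft hU
    rw [(sectionsPullbackEquiv f F hV hU e).annihilator_eq,
      annihilator_baseChange_of_flat Γ(X, U) Γ(Y, V) Γ(F, U)]
    rfl

end Groth.Agent.Lib.Helper21.AnnPullback
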