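import Groth.Agent.Lib.Helper76.ArtFibre
import Groth.Prelude.Def_ArtFun4
import Mathlib.LinearAlgebra.Basis.VectorSpace
import Mathlib.Tactic

set_option autoImplicit false
universe u v

open CategoryTheory ArtFun ArtFun.Art

namespace Groth.Agent.Lib.Helper21

open Groth.Agent.Lib.Helper76

variable {k : Type u} [Field k]

theorem sub_algebraMap_res_mem (B : Art k k) (b : B) :
    b - algebraMap k B (B.res b) ∈ IsLocalRing.maximalIdeal B := by
  rw [Art.mem_maximalIdeal_iff, map_sub, AlgHom.commutes]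
  simp

theorem mul_eq_res_smul {B A : Art k k} (p : B ⟶ A)
    (hp : IsLocalRing.maximalIdeal B * RingHom.ker p.toAlgHom = ⊥) (b j : B)
    (hj : j ∈ RingHom.ker p.toAlgHom) : b * j = (B.res b) • j := by
  have h1 : (b - algebraMap k B (B.res b)) * j ∈
      IsLocalRing.maximalIdeal B * RingHom.ker p.toAlgHom :=
    Ideal.mul_mem_mul (sub_algebraMap_res_mem B b) hj
  rw [hp, Ideal.mem_bot, sub_mul, sub_eq_zero] at h1
  rw [h1, Algebra.smul_def]

theorem exists_generator {B A : Art k k} (p : B ⟶ A) (hp : IsSmallExt p) :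
    ∃ t : B, RingHom.ker p.toAlgHom = Ideal.span {t} ∧ t ≠ 0 := by
  obtain ⟨-, h0, ⟨t, ht⟩, -⟩ := hp
  refine ⟨t, ht, ?_⟩
  rintro rfl
  apply h0
  rw [ht]
  simp

theorem mem_ker_iff_smul {B A : Art k k} (p : B ⟶ A)
    (hp : IsLocalRing.maximalIdeal B * RingHom.ker p.toAlgHom = ⊥) (t : B)
    (ht : RingHom.ker p.toAlgHom = Ideal.span {t}) (j : B) :
    j ∈ RingHom.ker p.toAlgHom ↔ ∃ c : k, j = c • t := by
  have htk : t ∈ RingHom.ker p.toAlgHom := by
    rw [ht]; exact Ideal.subset_span rfl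
  constructor
  · intro hj
    rw [ht, Ideal.mem_span_singleton'] at hj
    obtain ⟨b, rfl⟩ := hj
    exact ⟨B.res b, mul_eq_res_smul p hp b t htk⟩
  · rintro ⟨c, rfl⟩
    rw [Algebra.smul_def]
    exact Ideal.mul_mem_left _ _ htk

theorem toBase_dual_apply (x : (dual k k : Art k k)) :
    (toBase (dual k k) : dual k k ⟶ base k k) x = TrivSqZeroExt.fst x := rfl

theorem fst_hom_dual {C : Art k k} (h : C ⟶ dual k k) (c : C) :
    TrivSqZeroExt.fst (h c) = C.res c := Art.res_app h c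

theorem eq_toBase_baseToDual {C : Art k k} (h : C ⟶ dual k k)
    (hs : ∀ c : C, TrivSqZeroExt.snd (h c) = 0) : h = toBase C ≫ baseToDual := by
  apply Art.hom_ext
  apply AlgHom.ext
  intro c
  apply TrivSqZeroExt.ext
  · rw [fst_hom_dual]
    rfl
  · rw [hs]
    rfl

section Main

variable {B A P : Art k k} (p : B ⟶ A)
  (hp : IsLocalRing.maximalIdeal B * RingHom.ker p.toAlgHom = ⊥) (t : B)
  (ht : RingHom.ker p.toAlgHom = Ideal.span {t}) (ht0 : t ≠ 0)
  (p₁ p₂ : P ⟶ B) (hP : IsFibreProd p₁ p₂ p p)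

include hp ht ht0 hP in
theorem exists_dualMap :
    ∃ g : P ⟶ dual k k, (∀ z : P, (TrivSqZeroExt.snd (g z) : k) • t = p₂ z - p₁ z) ∧
      IsFibreProd p₁ g (toBase B) (toBase (dual k k)) := by
  obtain ⟨ℓ, hℓ⟩ := (LinearMap.toSpanSingleton k B t).exists_leftInverse_of_injective
    (LinearMap.ker_toSpanSingleton k ht0)
  have hℓt : ∀ c : k, ℓ (c • t) = c := fun c => by
    have := LinearMap.congr_fun hℓ c
    simpa using this
  have hker : ∀ j : B, j ∈ RingHom.ker p.toAlgHom → j = ℓ j • t := by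
    intro j hj
    obtain ⟨c, rfl⟩ := (mem_ker_iff_smul p hp t ht j).mp hj
    rw [hℓt]
  have hdiff : ∀ z : P, p₂ z - p₁ z ∈ RingHom.ker p.toAlgHom := by
    intro z
    rw [RingHom.mem_ker, map_sub, sub_eq_zero]
    exact (hP.w_apply z).symm
  have hmul : ∀ x y : P, ℓ (p₂ (x * y) - p₁ (x * y)) =
      P.res x * ℓ (p₂ y - p₁ y) + P.res y * ℓ (p₂ x - p₁ x) := by
    intro x y
    have e : p₂ (x * y) - p₁ (x * y) =
        p₂ x * (p₂ y - p₁ y) + p₁ y * (p₂ x - p₁ x) := by
      rw [map_mul, map_mul]; ring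
    rw [e, mul_eq_res_smul p hp _ _ (hdiff y), mul_eq_res_smul p hp _ _ (hdiff x), map_add,
      map_smul, map_smul, Art.res_app, Art.res_app, smul_eq_mul, smul_eq_mul]
  let g₀ : P →ₐ[k] DualNumber k :=
    { toFun := fun z => (P.res z, ℓ (p₂ z - p₁ z))
      map_one' := TrivSqZeroExt.ext (map_one P.res) (by
        change ℓ (p₂ 1 - p₁ 1) = 0
        rw [map_one, map_one, sub_self, map_zero])
      map_mul' := fun x y => TrivSqZeroExt.ext (map_mul P.res x y) (by
        change ℓ (p₂ (x * y) - p₁ (x * y)) =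
          P.res x • ℓ (p₂ y - p₁ y) + MulOpposite.op (P.res y) • ℓ (p₂ x - p₁ x)
        rw [hmul, op_smul_eq_smul, smul_eq_mul, smul_eq_mul])
      map_zero' := TrivSqZeroExt.ext (map_zero P.res) (by
        change ℓ (p₂ 0 - p₁ 0) = 0
        rw [map_zero, map_zero, sub_self, map_zero])
      map_add' := fun x y => TrivSqZeroExt.ext (map_add P.res x y) (by
        change ℓ (p₂ (x + y) - p₁ (x + y)) = ℓ (p₂ x - p₁ x) + ℓ (p₂ y - p₁ y)
        rw [← map_add, map_add, map_add]
        congr 1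
        ring)
      commutes' := fun r => TrivSqZeroExt.ext (by
          change P.res (algebraMap k P r) = _
          rw [AlgHom.commutes]
          rfl) (by
        change ℓ (p₂ (algebraMap k P r) - p₁ (algebraMap k P r)) = 0
        have h1 : p₂ (algebraMap k P r) = algebraMap k B r := p₂.toAlgHom.commutes r
        have h2 : p₁ (algebraMap k P r) = algebraMap k B r := p₁.toAlgHom.commutes r
        rw [h1, h2, sub_self, map_zero]) }
  let g : P ⟶ dual k k := ⟨g₀, AlgHom.ext fun _ => rfl⟩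
  have hg : ∀ z : P, (TrivSqZeroExt.snd (g z) : k) • t = p₂ z - p₁ z := by
    intro z
    exact (hker _ (hdiff z)).symm
  refine ⟨g, hg, ?_⟩
  refine ⟨?_, ?_, ?_⟩
  · rw [eq_toBase (p₁ ≫ toBase _), eq_toBase (g ≫ toBase _)]
  · intro z₁ z₂ h₁ h₂
    apply hP.inj _ _ h₁
    have e := congrArg TrivSqZeroExt.snd h₂
    have e1 := hg z₁
    have e2 := hg z₂
    rw [e, e2, h₁] at e1
    exact (sub_left_inj.mp e1).symm
  · intro b x hx
    have hx' : B.res b = TrivSqZeroExt.fst x := hx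
    have htk : t ∈ RingHom.ker p.toAlgHom := by
      rw [ht]; exact Ideal.subset_span rfl
    have hpt : p b = p (b + TrivSqZeroExt.snd x • t) := by
      have : p (TrivSqZeroExt.snd x • t) = 0 := by
        rw [Algebra.smul_def, map_mul]
        have : p t = 0 := htk
        rw [this, mul_zero]
      rw [map_add, this, add_zero]
    obtain ⟨z, hz₁, hz₂⟩ := hP.surj b (b + TrivSqZeroExt.snd x • t) hpt
    refine ⟨z, hz₁, ?_⟩
    apply TrivSqZeroExt.ext
    · rw [fst_hom_dual, ← hx', ← hz₁, Art.res_app]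
    · change ℓ (p₂ z - p₁ z) = _
      rw [hz₁, hz₂, add_sub_cancel_left, hℓt]

end Main

theorem snd_eq_zero_of_smul {B : Art k k} (t : B) (ht0 : t ≠ 0) (c : k) (h : c • t = 0) : c = 0 := by
  rcases smul_eq_zero.mp h with h | h
  · exact h
  · exact absurd h ht0

end Groth.Agent.Lib.Helper21
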