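import Groth.Agent.Lib.Helper76.ArtFibre
import Groth.Prelude.Def_ArtFun4
import Mathlib.Tactic

set_option autoImplicit false
universe u v

open CategoryTheory ArtFun ArtFun.Art

namespace Groth.Agent.Lib.Helper21

open Groth.Agent.Lib.Helper76

variable {Λ : Type u} {k : Type u} [CommRing Λ] [Field k] [Algebra Λ k]

theorem hom_cancel_of_surjective {B A C : Art Λ k} (f : B ⟶ A) (hf : Function.Surjective f)
    {g₁ g₂ : A ⟶ C} (h : f ≫ g₁ = f ≫ g₂) : g₁ = g₂ := by
  apply Art.hom_ext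
  apply AlgHom.ext
  intro a
  obtain ⟨b, rfl⟩ := hf a
  exact congrArg (fun (t : B ⟶ C) => t b) h

theorem exists_factor_of_surjective {B A C : Art Λ k} (f : B ⟶ A) (hf : Function.Surjective f)
    (σ : B ⟶ C) (h : RingHom.ker f.toAlgHom ≤ RingHom.ker σ.toAlgHom) :
    ∃ s : A ⟶ C, f ≫ s = σ := by
  have hkm := ker_le_maximalIdeal f
  have hiso : IsIso (quotFactor hkm f le_rfl) := by
    apply isIso_of_bijective
    refine ⟨?_, ?_⟩
    · intro y₁ y₂ hy
      obtain ⟨b₁, rfl⟩ := quotMk_surjective B _ hkm y₁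
      obtain ⟨b₂, rfl⟩ := quotMk_surjective B _ hkm y₂
      have h' : f b₁ = f b₂ := hy
      rw [quotMk_eq_iff, RingHom.mem_ker, map_sub]
      exact sub_eq_zero.mpr h'
    · intro a
      obtain ⟨b, rfl⟩ := hf a
      exact ⟨quotMk B _ hkm b, rfl⟩
  refine ⟨inv (quotFactor hkm f le_rfl) ≫ quotFactor hkm σ h, ?_⟩
  have e1 : f = quotMk B _ hkm ≫ quotFactor hkm f le_rfl := (quotMk_quotFactor hkm f le_rfl).symm
  calc f ≫ inv (quotFactor hkm f le_rfl) ≫ quotFactor hkm σ h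
      = (quotMk B _ hkm ≫ quotFactor hkm f le_rfl) ≫ inv (quotFactor hkm f le_rfl) ≫
          quotFactor hkm σ h := by rw [← e1]
    _ = σ := by rw [Category.assoc, IsIso.hom_inv_id_assoc, quotMk_quotFactor]

theorem map_comp_apply' (F : Art Λ k ⥤ Type v)
    {A B C : Art Λ k} (f : A ⟶ B) (g : B ⟶ C) (x : F.obj A) :
    F.map (f ≫ g) x = F.map g (F.map f x) := by
  rw [F.map_comp]; rfl

theorem map_id_apply' (F : Art Λ k ⥤ Type v)
    {A : Art Λ k} (x : F.obj A) : F.map (𝟙 A) x = x := by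
  rw [F.map_id]; rfl

end Groth.Agent.Lib.Helper21
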