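import Groth.Agent.Lib.Lead.QCohAff8
import Groth.Agent.Lib.Lead.PullbackAff4
import Groth.Agent.Lib.Helper2.KerSec
import Groth.Agent.Lib.Helper21.IdealMulSec
import Groth.Agent.Lib.Helper21.ArtinReesS
import Groth.Agent.Lib.Helper21.QCohKernel
import Groth.Agent.Lib.Helper21.QCohSections
import Mathlib.RingTheory.Filtration

/-!
# Sections of subobjects of modules, and the Artin–Rees lemma for sheaves (helper21)
-/

set_option autoImplicit false
set_option linter.style.haveILetI false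
universe u

open AlgebraicGeometry CategoryTheory Limits Opposite TopologicalSpace

namespace Groth.Agent.Lib.Helper21.ArtinReesSheaf

open Scheme.Modules Groth.Agent.Lib.Lead.QCohAff Groth.Agent.Lib.Lead
  Groth.Agent.Lib.Helper2.KerSec Groth.Agent.Lib.Helper21.QCohSections

variable {X : Scheme.{u}}

/-- A morphism out of a quasi-coherent module which vanishes on sections over the members of an
affine open cover is zero. -/
theorem eq_zero_of_app_cover {A C : X.Modules} [A.IsQuasicoherent] (ψ : A ⟶ C)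
    (𝒰 : Set X.Opens) (hcov : ∀ x : X, ∃ U ∈ 𝒰, x ∈ U) (haff : ∀ U ∈ 𝒰, IsAffineOpen U)
    (h : ∀ U ∈ 𝒰, ∀ s : Γ(A, U), ψ.app U s = 0) : ψ = 0 := by
  ext W s
  refine TopCat.Presheaf.section_ext ⟨C.presheaf, C.isSheaf⟩ W _ _ (fun y hy => ?_)
  obtain ⟨U, hU𝒰, hyU⟩ := hcov y
  have hU := haff U hU𝒰
  obtain ⟨f, hfW, hyf⟩ := hU.exists_basicOpen_le (V := W) ⟨y, hy⟩ hyU
  obtain ⟨n, s', hs'⟩ := exists_res_eq_pow_smul A hU f (A.presheaf.map (homOfLE hfW).op s)
  have h1 : ψ.app (X.basicOpen f) ((X.presheaf.map (homOfLE (X.basicOpen_le f)).op f) ^ n •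
      (A.presheaf.map (homOfLE hfW).op s)) = 0 := by
    rw [← hs', naturality_apply, h U hU𝒰 s', map_zero]
  rw [Hom.app_smul] at h1
  have h2 : ψ.app (X.basicOpen f) (A.presheaf.map (homOfLE hfW).op s) = 0 :=
    (((isUnit_res_basicOpen f).pow n).smul_eq_zero).1 h1
  have h3 := TopCat.Presheaf.germ_res_apply C.presheaf (homOfLE hfW) y hyf (ψ.app W s)
  have h4 : C.presheaf.map (homOfLE hfW).op (ψ.app W s) =
      ψ.app (X.basicOpen f) (A.presheaf.map (homOfLE hfW).op s) :=
    (naturality_apply ψ (homOfLE hfW) s).symm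
  rw [h4, h2, map_zero] at h3
  have h5 : ((0 : A ⟶ C).app W) s = 0 := rfl
  rw [h5, map_zero]
  exact h3.symm

theorem app_surjective_of_isIso {M N : X.Modules} (β : M ⟶ N) [IsIso β] (V : X.Opens) :
    Function.Surjective (β.app V) := by
  intro x
  refine ⟨(inv β).app V x, ?_⟩
  have h1 : (inv β).app V ≫ β.app V = 𝟙 _ := by
    rw [← Scheme.Modules.Hom.comp_app, IsIso.inv_hom_id]; rfl
  exact ConcreteCategory.congr_hom h1 x

/-- Sections of `Subobject.mk j`. -/
theorem range_mk_arrow_app {A F : X.Modules} (j : A ⟶ F) [Mono j] (U : X.Opens) :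
    Set.range ((Subobject.mk j).arrow.app U) = Set.range (j.app U) := by
  have h0 : (Subobject.mk j).arrow = (Subobject.underlyingIso j).hom ≫ j :=
    (Subobject.underlyingIso_hom_comp_eq_mk j).symm
  ext s
  constructor
  · rintro ⟨a, rfl⟩
    refine ⟨(Subobject.underlyingIso j).hom.app U a, ?_⟩
    rw [h0]
    rfl
  · rintro ⟨a, rfl⟩
    obtain ⟨b, rfl⟩ := app_surjective_of_isIso (Subobject.underlyingIso j).hom U a
    refine ⟨b, ?_⟩
    rw [h0]
    rfl

/-- In an abelian category, a morphism killed by the cokernel of a subobject factors through it. -/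
theorem factors_of_comp_cokernel_eq_zero {F T : X.Modules} (Q : Subobject F) (g : T ⟶ F)
    (hg : g ≫ cokernel.π Q.arrow = 0) : Q.Factors g := by
  rw [← Abelian.monoLift_comp Q.arrow g hg]
  exact Subobject.factors_comp_arrow _

/-- A subobject with quasi-coherent source is contained in another one as soon as this holds on
sections over an affine open cover. -/
theorem le_of_range_subset {F : X.Modules} (P Q : Subobject F)
    [(P : X.Modules).IsQuasicoherent]
    (𝒰 : Set X.Opens) (hcov : ∀ x : X, ∃ U ∈ 𝒰, x ∈ U) (haff : ∀ U ∈ 𝒰, IsAffineOpen U)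
    (h : ∀ U ∈ 𝒰, Set.range (P.arrow.app U) ⊆ Set.range (Q.arrow.app U)) : P ≤ Q := by
  apply Subobject.le_of_factors
  apply factors_of_comp_cokernel_eq_zero
  apply eq_zero_of_app_cover _ 𝒰 hcov haff
  intro U hU s
  obtain ⟨q, hq⟩ := h U hU ⟨s, rfl⟩
  have h1 : (P.arrow ≫ cokernel.π Q.arrow).app U s =
      (cokernel.π Q.arrow).app U (P.arrow.app U s) := rfl
  rw [h1, ← hq]
  have h2 : (cokernel.π Q.arrow).app U (Q.arrow.app U q) =
      (Q.arrow ≫ cokernel.π Q.arrow).app U q := rfl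
  rw [h2, cokernel.condition]
  rfl

section Inf

variable {F : X.Modules} (P Q : Subobject F)

/-- The kernel model of `P ⊓ Q`. -/
noncomputable abbrev infKer : X.Modules := kernel (P.arrow ≫ cokernel.π Q.arrow)

theorem inf_factors_infKer : (P ⊓ Q).Factors (kernel.ι (P.arrow ≫ cokernel.π Q.arrow) ≫ P.arrow) := by
  rw [Subobject.inf_factors]
  constructor
  · exact Subobject.factors_comp_arrow _
  · apply factors_of_comp_cokernel_eq_zero
    rw [Category.assoc, kernel.condition]

/-- `infKer P Q ⟶ P ⊓ Q`. -/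
noncomputable def infKerTo : infKer P Q ⟶ ((P ⊓ Q : Subobject F) : X.Modules) :=
  (P ⊓ Q).factorThru _ (inf_factors_infKer P Q)

theorem infKerTo_arrow :
    infKerTo P Q ≫ (P ⊓ Q).arrow = kernel.ι (P.arrow ≫ cokernel.π Q.arrow) ≫ P.arrow :=
  Subobject.factorThru_arrow _ _ _

/-- `P ⊓ Q ⟶ infKer P Q`. -/
noncomputable def toInfKer : ((P ⊓ Q : Subobject F) : X.Modules) ⟶ infKer P Q :=
  kernel.lift _ (Subobject.ofLE (P ⊓ Q) P inf_le_left) (by
    rw [← Category.assoc, Subobject.ofLE_arrow, ← Subobject.ofLE_arrow (inf_le_right : P ⊓ Q ≤ Q),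
      Category.assoc, cokernel.condition, comp_zero])

theorem toInfKer_ι_arrow :
    toInfKer P Q ≫ kernel.ι (P.arrow ≫ cokernel.π Q.arrow) ≫ P.arrow = (P ⊓ Q).arrow := by
  unfold toInfKer
  rw [← Category.assoc, kernel.lift_ι, Subobject.ofLE_arrow]

/-- `P ⊓ Q ≅ kernel (P ⟶ F ⟶ F/Q)`. -/
noncomputable def infIso : ((P ⊓ Q : Subobject F) : X.Modules) ≅ infKer P Q where
  hom := toInfKer P Q
  inv := infKerTo P Q
  hom_inv_id := by
    rw [← cancel_mono (P ⊓ Q).arrow, Category.assoc, infKerTo_arrow, toInfKer_ι_arrow,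
      Category.id_comp]
  inv_hom_id := by
    haveI : Mono (kernel.ι (P.arrow ≫ cokernel.π Q.arrow) ≫ P.arrow) := mono_comp _ _
    rw [← cancel_mono (kernel.ι (P.arrow ≫ cokernel.π Q.arrow) ≫ P.arrow), Category.assoc,
      toInfKer_ι_arrow, infKerTo_arrow, Category.id_comp]

theorem isQuasicoherent_inf [F.IsQuasicoherent] [(P : X.Modules).IsQuasicoherent]
    [(Q : X.Modules).IsQuasicoherent] :
    ((P ⊓ Q : Subobject F) : X.Modules).IsQuasicoherent := by
  haveI : (cokernel Q.arrow).IsQuasicoherent :=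
    Groth.Agent.Lib.Helper21.QCohKernel.isQuasicoherent_cokernel Q.arrow
  haveI : (infKer P Q).IsQuasicoherent :=
    Groth.Agent.Lib.Helper21.QCohKernel.isQuasicoherent_kernel _
  exact PullbackAff.isQuasicoherent_of_iso (infIso P Q).symm

/-- Sections of `P ⊓ Q`. -/
theorem range_inf_arrow_app (U : X.Opens) :
    Set.range ((P ⊓ Q).arrow.app U) =
      Set.range (P.arrow.app U) ∩ Set.range (Q.arrow.app U) := by
  ext s
  constructor
  · rintro ⟨t, rfl⟩
    constructor
    · refine ⟨(Subobject.ofLE (P ⊓ Q) P inf_le_left).app U t, ?_⟩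
      have : (Subobject.ofLE (P ⊓ Q) P inf_le_left ≫ P.arrow).app U t = (P ⊓ Q).arrow.app U t := by
        rw [Subobject.ofLE_arrow]
      exact this
    · refine ⟨(Subobject.ofLE (P ⊓ Q) Q inf_le_right).app U t, ?_⟩
      have : (Subobject.ofLE (P ⊓ Q) Q inf_le_right ≫ Q.arrow).app U t = (P ⊓ Q).arrow.app U t := by
        rw [Subobject.ofLE_arrow]
      exact this
  · rintro ⟨⟨p, hp⟩, ⟨q, hq⟩⟩
    have h1 : (P.arrow ≫ cokernel.π Q.arrow).app U p = 0 := by
      have e1 : (P.arrow ≫ cokernel.π Q.arrow).app U p =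
          (cokernel.π Q.arrow).app U (P.arrow.app U p) := rfl
      rw [e1, hp, ← hq]
      have e2 : (cokernel.π Q.arrow).app U (Q.arrow.app U q) =
          (Q.arrow ≫ cokernel.π Q.arrow).app U q := rfl
      rw [e2, cokernel.condition]
      rfl
    obtain ⟨k, hk⟩ := exists_of_app_eq_zero (P.arrow ≫ cokernel.π Q.arrow) U p h1
    refine ⟨(infKerTo P Q).app U k, ?_⟩
    have e3 : (P ⊓ Q).arrow.app U ((infKerTo P Q).app U k) =
        (infKerTo P Q ≫ (P ⊓ Q).arrow).app U k := rfl
    rw [e3, infKerTo_arrow]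
    have e4 : (kernel.ι (P.arrow ≫ cokernel.π Q.arrow) ≫ P.arrow).app U k =
        P.arrow.app U ((kernel.ι (P.arrow ≫ cokernel.π Q.arrow)).app U k) := rfl
    rw [e4, hk, hp]

end Inf

end Groth.Agent.Lib.Helper21.ArtinReesSheaf
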