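import Groth.Agent.Lib.Helper21.ArtinReesSheaf
import Groth.Agent.Lib.Helper2.FinTypeAff
import Groth.Prelude.Def_Coh
import Mathlib.AlgebraicGeometry.Noetherian

/-!
# The Artin–Rees lemma for coherent modules on a Noetherian scheme (helper21)
-/

set_option autoImplicit false
set_option linter.style.haveILetI false
universe u

open AlgebraicGeometry CategoryTheory Limits Opposite TopologicalSpace

namespace Groth.Agent.Lib.Helper21.ArtinReesSheaf

open Scheme.Modules Groth.Agent.Lib.Lead.QCohAff Groth.Agent.Lib.Lead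
  Groth.Agent.Lib.Helper2.KerSec Groth.Agent.Lib.Helper21.QCohSections
  Groth.Agent.Lib.Helper21.IdealMulSec

variable {X : Scheme.{u}}

/-- Sections of `J · F ⊆ F` over an affine open. -/
theorem range_mk_idealMulι (J : X.IdealSheafData) (F : X.Modules) [F.IsQuasicoherent]
    {U : X.Opens} (hU : IsAffineOpen U) :
    Set.range ((Subobject.mk (Dual3.idealMulι J F)).arrow.app U) =
      ((J.ideal ⟨U, hU⟩ • (⊤ : Submodule Γ(X, U) Γ(F, U)) : Submodule Γ(X, U) Γ(F, U)) :
        Set Γ(F, U)) := by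
  rw [range_mk_arrow_app]
  ext s
  exact mem_range_idealMulι_app_iff J F hU s

/-- Sections of `J · K ⊆ F` for a subobject `K ⊆ F` over an affine open. -/
theorem range_mk_idealMulι_comp (J : X.IdealSheafData) {F : X.Modules} (K : Subobject F)
    [(K : X.Modules).IsQuasicoherent] {U : X.Opens} (hU : IsAffineOpen U) :
    Set.range ((Subobject.mk (Dual3.idealMulι J (K : X.Modules) ≫ K.arrow)).arrow.app U) =
      ((J.ideal ⟨U, hU⟩ • LinearMap.range (appL K.arrow U) : Submodule Γ(X, U) Γ(F, U)) :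
        Set Γ(F, U)) := by
  rw [range_mk_arrow_app]
  have h1 : (J.ideal ⟨U, hU⟩ • LinearMap.range (appL K.arrow U) : Submodule Γ(X, U) Γ(F, U)) =
      Submodule.map (appL K.arrow U)
        (J.ideal ⟨U, hU⟩ • (⊤ : Submodule Γ(X, U) Γ((K : X.Modules), U))) := by
    rw [Submodule.map_smul'', Submodule.map_top]
  rw [h1]
  ext s
  constructor
  · rintro ⟨a, rfl⟩
    refine ⟨(Dual3.idealMulι J (K : X.Modules)).app U a, ?_, rfl⟩
    exact (mem_range_idealMulι_app_iff J (K : X.Modules) hU _).1 ⟨a, rfl⟩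
  · rintro ⟨y, hy, rfl⟩
    obtain ⟨a, rfl⟩ := (mem_range_idealMulι_app_iff J (K : X.Modules) hU y).2 hy
    exact ⟨a, rfl⟩

/-- Algebraic Artin–Rees with any larger constant. -/
theorem artinRees_of_le {R M : Type*} [CommRing R] [AddCommGroup M] [Module R M] (a : Ideal R)
    (N : Submodule R M) (k : ℕ)
    (hk : ∀ n ≥ k, a ^ n • ⊤ ⊓ N = a ^ (n - k) • (a ^ k • ⊤ ⊓ N)) (c : ℕ) (hc : k ≤ c) (n : ℕ)
    (hn : c ≤ n) : a ^ (n - c) • (a ^ c • ⊤ ⊓ N) = a ^ n • ⊤ ⊓ N := by
  rw [hk c hc, hk n (hc.trans hn), ← mul_smul, ← pow_add]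
  congr 2
  omega

theorem artinRees [IsNoetherian X] (F G : X.Modules) (hF : Coh.IsCoh F)
    (hG : G.IsQuasicoherent) (ι : G ⟶ F) [Mono ι] (I : X.IdealSheafData) :
    ∃ c : ℕ, ∀ n : ℕ, c ≤ n →
      Subobject.mk (Dual3.idealMulι (I ^ (n - c))
          ((Subobject.mk (Dual3.idealMulι (I ^ c) F) ⊓ Subobject.mk ι : Subobject F) : X.Modules) ≫
        (Subobject.mk (Dual3.idealMulι (I ^ c) F) ⊓ Subobject.mk ι).arrow) =
      Subobject.mk (Dual3.idealMulι (I ^ n) F) ⊓ Subobject.mk ι := by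
  classical
  haveI hFq : F.IsQuasicoherent := hF.1
  haveI hFt : SheafOfModules.IsFiniteType (R := X.ringCatSheaf) F := hF.2
  haveI := hG
  -- the submodule of sections of `G`
  let N : ∀ U : X.affineOpens, Submodule Γ(X, U.1) Γ(F, U.1) :=
    fun U => LinearMap.range (appL ι U.1)
  have hAR : ∀ U : X.affineOpens, ∃ k : ℕ, ∀ n ≥ k,
      (I.ideal U) ^ n • ⊤ ⊓ N U = (I.ideal U) ^ (n - k) • ((I.ideal U) ^ k • ⊤ ⊓ N U) := by
    intro U
    haveI : IsNoetherianRing Γ(X, U.1) := IsLocallyNoetherian.component_noetherian U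
    haveI : Module.Finite Γ(X, U.1) Γ(F, U.1) :=
      Groth.Agent.Lib.Helper2.FinTypeAff.finite_sections F U.2
    exact Ideal.exists_pow_inf_eq_pow_smul (I.ideal U) (N U)
  choose k hk using hAR
  -- a finite affine cover
  obtain ⟨t, ht⟩ := isCompact_univ.elim_finite_subcover
    (fun U : X.affineOpens => (U.1 : Set X)) (fun U => U.1.isOpen) (by
      intro x _
      obtain ⟨_, ⟨V, hV, rfl⟩, hxV, -⟩ :=
        X.isBasis_affineOpens.exists_subset_of_mem_open (Set.mem_univ x) isOpen_univ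
      exact Set.mem_iUnion.2 ⟨⟨V, hV⟩, hxV⟩)
  let 𝒰 : Set X.Opens := {U | ∃ V ∈ t, V.1 = U}
  have hcov : ∀ x : X, ∃ U ∈ 𝒰, x ∈ U := by
    intro x
    have hx := ht (Set.mem_univ x)
    simp only [Set.mem_iUnion] at hx
    obtain ⟨V, hVt, hxV⟩ := hx
    exact ⟨V.1, ⟨V, hVt, rfl⟩, hxV⟩
  have haff : ∀ U ∈ 𝒰, IsAffineOpen U := by
    rintro _ ⟨V, -, rfl⟩
    exact V.2
  refine ⟨t.sup k, fun n hn => ?_⟩
  set c := t.sup k with hc
  -- quasi-coherence of the sources
  haveI q1 : ∀ m : ℕ, ((Subobject.mk (Dual3.idealMulι (I ^ m) F) : Subobject F) :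
      X.Modules).IsQuasicoherent := fun m =>
    PullbackAff.isQuasicoherent_of_iso (Subobject.underlyingIso (Dual3.idealMulι (I ^ m) F)).symm
  haveI q2 : ((Subobject.mk ι : Subobject F) : X.Modules).IsQuasicoherent :=
    PullbackAff.isQuasicoherent_of_iso (Subobject.underlyingIso ι).symm
  haveI q3 : ∀ m : ℕ, ((Subobject.mk (Dual3.idealMulι (I ^ m) F) ⊓ Subobject.mk ι :
      Subobject F) : X.Modules).IsQuasicoherent := fun m => isQuasicoherent_inf _ _
  haveI q4 : ((Subobject.mk (Dual3.idealMulι (I ^ (n - c))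
      ((Subobject.mk (Dual3.idealMulι (I ^ c) F) ⊓ Subobject.mk ι : Subobject F) : X.Modules) ≫
      (Subobject.mk (Dual3.idealMulι (I ^ c) F) ⊓ Subobject.mk ι).arrow) : Subobject F) :
      X.Modules).IsQuasicoherent :=
    PullbackAff.isQuasicoherent_of_iso (Subobject.underlyingIso _).symm
  -- sections over the members of the cover
  have hsec : ∀ U ∈ 𝒰,
      Set.range ((Subobject.mk (Dual3.idealMulι (I ^ (n - c))
        ((Subobject.mk (Dual3.idealMulι (I ^ c) F) ⊓ Subobject.mk ι : Subobject F) : X.Modules) ≫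
        (Subobject.mk (Dual3.idealMulι (I ^ c) F) ⊓ Subobject.mk ι).arrow)).arrow.app U) =
      Set.range ((Subobject.mk (Dual3.idealMulι (I ^ n) F) ⊓ Subobject.mk ι).arrow.app U) := by
    rintro _ ⟨V, hVt, rfl⟩
    have hkc : k V ≤ c := Finset.le_sup hVt
    have hinf : ∀ m : ℕ, Set.range ((Subobject.mk (Dual3.idealMulι (I ^ m) F) ⊓
        Subobject.mk ι).arrow.app V.1) =
        (((I.ideal V) ^ m • ⊤ ⊓ N V : Submodule Γ(X, V.1) Γ(F, V.1)) : Set Γ(F, V.1)) := by
      intro m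
      rw [range_inf_arrow_app, range_mk_idealMulι (I ^ m) F V.2, range_mk_arrow_app,
        Scheme.IdealSheafData.ideal_pow, Pi.pow_apply, Submodule.coe_inf]
      rfl
    have hK : LinearMap.range (appL (Subobject.mk (Dual3.idealMulι (I ^ c) F) ⊓
        Subobject.mk ι).arrow V.1) = (I.ideal V) ^ c • ⊤ ⊓ N V := by
      apply SetLike.coe_injective
      rw [← hinf c]
      rfl
    rw [range_mk_idealMulι_comp (I ^ (n - c)) _ V.2, hinf n, hK,
      Scheme.IdealSheafData.ideal_pow, Pi.pow_apply,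
      artinRees_of_le (I.ideal V) (N V) (k V) (hk V) c hkc n hn]
  apply le_antisymm
  · exact le_of_range_subset _ _ 𝒰 hcov haff (fun U hU => (hsec U hU).le)
  · exact le_of_range_subset _ _ 𝒰 hcov haff (fun U hU => (hsec U hU).ge)

end Groth.Agent.Lib.Helper21.ArtinReesSheaf
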