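import Mathlib.RingTheory.Length
import Mathlib.Algebra.Module.Torsion.Basic
import Mathlib.RingTheory.LocalRing.ResidueField.Basic
import Mathlib.LinearAlgebra.Dimension.Free
import Mathlib.RingTheory.Ideal.Quotient.Basic


/-!
# Modules killed by a maximal ideal (helper21)
-/

set_option autoImplicit false
set_option linter.style.haveILetI false
universe u v

namespace Groth.Agent.Lib.Helper21.SemisimpleAlg

variable {R : Type u} [CommRing R] (m : Ideal R) [hm : m.IsMaximal]

/-- Two modules killed by a maximal ideal, of the same finite length, are isomorphic. -/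
theorem nonempty_linearEquiv_of_killed (M N : Type v) [AddCommGroup M] [Module R M]
    [AddCommGroup N] [Module R N]
    (hM : ∀ a ∈ m, ∀ x : M, a • x = 0) (hN : ∀ a ∈ m, ∀ x : N, a • x = 0)
    (hfin : Module.length R M ≠ ⊤) (h : Module.length R M = Module.length R N) :
    Nonempty (M ≃ₗ[R] N) := by
  have hM' : Module.IsTorsionBySet R M (m : Set R) := fun x a => hM a.1 a.2 x
  have hN' : Module.IsTorsionBySet R N (m : Set R) := fun x a => hN a.1 a.2 x
  letI : Field (R ⧸ m) := Ideal.Quotient.field m
  letI := hM'.module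
  letI := hN'.module
  have hsurj : Function.Surjective (algebraMap R (R ⧸ m)) := Ideal.Quotient.mk_surjective
  have h1 : Module.length R M = Module.length (R ⧸ m) M :=
    Module.length_eq_of_surjective hsurj
  have h2 : Module.length R N = Module.length (R ⧸ m) N :=
    Module.length_eq_of_surjective hsurj
  rw [h1, Module.length_eq_rank] at hfin
  rw [h1, h2, Module.length_eq_rank, Module.length_eq_rank] at h
  obtain ⟨n, hn⟩ := ENat.ne_top_iff_exists.mp hfin
  have e1 : Module.rank (R ⧸ m) M = n := Cardinal.toENat_eq_natCast.mp hn.symm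
  have e2 : Module.rank (R ⧸ m) N = n := Cardinal.toENat_eq_natCast.mp (h ▸ hn.symm)
  obtain ⟨e⟩ := nonempty_linearEquiv_of_rank_eq (e1.trans e2.symm)
  exact ⟨e.restrictScalars R⟩

end Groth.Agent.Lib.Helper21.SemisimpleAlg

namespace Groth.Agent.Lib.Helper21.SemisimpleAlg

open IsLocalRing

variable {R : Type u} [CommRing R] [IsLocalRing R]

/-- A simple module over a local ring is killed by the maximal ideal. -/
theorem smul_eq_zero_of_isSimpleModule (S : Type v) [AddCommGroup S] [Module R S]
    [IsSimpleModule R S] (a : R) (ha : a ∈ maximalIdeal R) (x : S) : a • x = 0 := by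
  obtain ⟨I, hI, ⟨e⟩⟩ := (isSimpleModule_iff_quot_maximal (R := R) (M := S)).mp inferInstance
  have h1 : I = maximalIdeal R := IsLocalRing.eq_maximalIdeal hI
  subst h1
  apply e.injective
  rw [map_smul, map_zero]
  obtain ⟨y, hy⟩ := Ideal.Quotient.mk_surjective (e x)
  rw [← hy]
  change Ideal.Quotient.mk (maximalIdeal R) (a • y) = 0
  rw [Ideal.Quotient.eq_zero_iff_mem]
  exact Ideal.mul_mem_right _ _ ha

/-- For a nonzero Noetherian `M` and a nonzero Artinian `N` over a local ring there is a linear map
`M → N` whose range is simple. -/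
theorem exists_linearMap_range_simple (M N : Type v) [AddCommGroup M] [Module R M]
    [AddCommGroup N] [Module R N] [Nontrivial M] [IsNoetherian R M] [Nontrivial N]
    [IsArtinian R N] : ∃ a : M →ₗ[R] N, IsSimpleModule R (LinearMap.range a) := by
  obtain ⟨Nc, hNc⟩ := IsCoatomic.exists_coatom (Submodule R M)
  obtain ⟨S, hS⟩ := IsAtomic.exists_atom (Submodule R N)
  haveI : IsSimpleModule R (M ⧸ Nc) := isSimpleModule_iff_isCoatom.mpr hNc
  haveI : IsSimpleModule R S := isSimpleModule_iff_isAtom.mpr hS
  obtain ⟨I, hI, ⟨e⟩⟩ :=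
    (isSimpleModule_iff_quot_maximal (R := R) (M := M ⧸ Nc)).mp inferInstance
  obtain ⟨I', hI', ⟨e'⟩⟩ :=
    (isSimpleModule_iff_quot_maximal (R := R) (M := S)).mp inferInstance
  have h1 : I = maximalIdeal R := IsLocalRing.eq_maximalIdeal hI
  have h2 : I' = maximalIdeal R := IsLocalRing.eq_maximalIdeal hI'
  subst h1
  subst h2
  let a : M →ₗ[R] N := S.subtype ∘ₗ (e.trans e'.symm).toLinearMap ∘ₗ Nc.mkQ
  refine ⟨a, ?_⟩
  have hr : LinearMap.range a = S := by
    simp only [a]
    rw [LinearMap.range_comp, LinearMap.range_comp, Submodule.range_mkQ, Submodule.map_top,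
      LinearEquiv.range, Submodule.map_top, Submodule.range_subtype]
  rw [hr]
  infer_instance

end Groth.Agent.Lib.Helper21.SemisimpleAlg
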