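import Groth.Agent.Lib.Helper21.StalkLen
import Mathlib.CategoryTheory.Limits.Shapes.Biproducts
import Mathlib.CategoryTheory.Abelian.Basic


/-!
# Stalks of biproducts of modules; functoriality of `stalkMap` (helper21)
-/

set_option autoImplicit false
set_option linter.style.haveILetI false
universe u
open AlgebraicGeometry CategoryTheory Opposite TopologicalSpace Limits

namespace Groth.Agent.Lib.Helper21.StalkBiprod

open Groth.Agent.Lib.Helper78.ModStalk Groth.Agent.Lib.Helper21.StalkLen

variable {X : Scheme.{u}}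

theorem stalkMap_ext {M N : X.Modules} (x : X)
    (f g : M.presheaf.stalk x →ₗ[X.presheaf.stalk x] N.presheaf.stalk x)
    (h : ∀ (U : X.Opens) (hx : x ∈ U) (t : Γ(M, U)),
      f (M.presheaf.germ U x hx t) = g (M.presheaf.germ U x hx t)) : f = g := by
  ext s
  obtain ⟨U, hxU, t, rfl⟩ := M.presheaf.exists_germ_eq (x := x) s
  exact h U hxU t

theorem stalkMap_id (M : X.Modules) (x : X) : stalkMap (𝟙 M) x = LinearMap.id :=
  stalkMap_ext x _ _ (fun U hx t => by rw [stalkMap_germ]; rfl)

theorem stalkMap_comp {M N K : X.Modules} (f : M ⟶ N) (g : N ⟶ K) (x : X) :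
    stalkMap (f ≫ g) x = stalkMap g x ∘ₗ stalkMap f x :=
  stalkMap_ext x _ _ (fun U hx t => by
    rw [LinearMap.comp_apply, stalkMap_germ, stalkMap_germ, stalkMap_germ]; rfl)

theorem stalkMap_zero (M N : X.Modules) (x : X) : stalkMap (0 : M ⟶ N) x = 0 :=
  stalkMap_ext x _ _ (fun U hx t => by
    rw [stalkMap_germ, Scheme.Modules.Hom.zero_app]
    simp)

theorem stalkMap_add {M N : X.Modules} (f g : M ⟶ N) (x : X) :
    stalkMap (f + g) x = stalkMap f x + stalkMap g x :=
  stalkMap_ext x _ _ (fun U hx t => by
    rw [LinearMap.add_apply, stalkMap_germ, stalkMap_germ, stalkMap_germ,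
      Scheme.Modules.Hom.add_app]
    simp)

/-- `stalkMap` as an additive map. -/
noncomputable def stalkMapHom (M N : X.Modules) (x : X) :
    (M ⟶ N) →+ (M.presheaf.stalk x →ₗ[X.presheaf.stalk x] N.presheaf.stalk x) where
  toFun f := stalkMap f x
  map_zero' := stalkMap_zero M N x
  map_add' f g := stalkMap_add f g x

theorem stalkMap_sum {M N : X.Modules} {ι : Type*} (s : Finset ι) (f : ι → (M ⟶ N)) (x : X) :
    stalkMap (∑ k ∈ s, f k) x = ∑ k ∈ s, stalkMap (f k) x :=
  map_sum (stalkMapHom M N x) f s

end Groth.Agent.Lib.Helper21.StalkBiprod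

namespace Groth.Agent.Lib.Helper21.StalkBiprod

open Groth.Agent.Lib.Helper78.ModStalk Groth.Agent.Lib.Helper21.StalkLen

attribute [local instance] Abelian.hasFiniteBiproducts

variable {X : Scheme.{u}} {ι : Type} [Fintype ι] (f : ι → X.Modules)

open Classical in
/-- The stalk of a finite biproduct is the product of the stalks. -/
noncomputable def stalkBiproductEquiv (x : X) :
    (⨁ f : X.Modules).presheaf.stalk x ≃ₗ[X.presheaf.stalk x]
      ((k : ι) → (f k).presheaf.stalk x) where
  toFun t k := stalkMap (biproduct.π f k) x t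
  map_add' a b := by ext k; simp
  map_smul' r a := by ext k; simp
  invFun v := ∑ k, stalkMap (biproduct.ι f k) x (v k)
  left_inv t := by
    have h := congrArg (fun φ => stalkMap φ x t) (biproduct.total (f := f))
    simp only [stalkMap_sum, stalkMap_comp, stalkMap_id, LinearMap.sum_apply,
      LinearMap.comp_apply, LinearMap.id_apply] at h
    exact h
  right_inv v := by
    ext l
    simp only [map_sum]
    rw [Finset.sum_eq_single l]
    · rw [← LinearMap.comp_apply, ← stalkMap_comp, biproduct.ι_π_self, stalkMap_id]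
      rfl
    · intro k _ hkl
      rw [← LinearMap.comp_apply, ← stalkMap_comp, biproduct.ι_π_ne _ hkl, stalkMap_zero]
      rfl
    · intro h
      exact absurd (Finset.mem_univ l) h

theorem length_stalk_biproduct (x : X) :
    Module.length (X.presheaf.stalk x) ((⨁ f : X.Modules).presheaf.stalk x) =
      ∑ k, Module.length (X.presheaf.stalk x) ((f k).presheaf.stalk x) := by
  rw [(stalkBiproductEquiv f x).length_eq, Module.length_pi_of_fintype]

end Groth.Agent.Lib.Helper21.StalkBiprod

namespace Groth.Agent.Lib.Helper21.StalkBiprod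

open Groth.Agent.Lib.Helper78.ModStalk Groth.Agent.Lib.Helper21.StalkLen

variable {X : Scheme.{u}} (A B : X.Modules)

/-- The stalk of a binary biproduct is the product of the stalks. -/
noncomputable def stalkBiprodEquiv (x : X) :
    (A ⊞ B : X.Modules).presheaf.stalk x ≃ₗ[X.presheaf.stalk x]
      (A.presheaf.stalk x × B.presheaf.stalk x) where
  toFun t := (stalkMap (biprod.fst : A ⊞ B ⟶ A) x t, stalkMap (biprod.snd : A ⊞ B ⟶ B) x t)
  map_add' a b := by simp
  map_smul' r a := by simp
  invFun v := stalkMap (biprod.inl : A ⟶ A ⊞ B) x v.1 + stalkMap (biprod.inr : B ⟶ A ⊞ B) x v.2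
  left_inv t := by
    have h := congrArg (fun φ => stalkMap φ x t) (biprod.total (X := A) (Y := B))
    simp only [stalkMap_add, stalkMap_comp, stalkMap_id, LinearMap.add_apply,
      LinearMap.comp_apply, LinearMap.id_apply] at h
    exact h
  right_inv v := by
    ext
    · simp only [map_add]
      rw [← LinearMap.comp_apply, ← stalkMap_comp, biprod.inl_fst, stalkMap_id,
        ← LinearMap.comp_apply, ← stalkMap_comp, biprod.inr_fst, stalkMap_zero]
      simp
    · simp only [map_add]
      rw [← LinearMap.comp_apply, ← stalkMap_comp, biprod.inl_snd, stalkMap_zero,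
        ← LinearMap.comp_apply, ← stalkMap_comp, biprod.inr_snd, stalkMap_id]
      simp

theorem length_stalk_biprod (x : X) :
    Module.length (X.presheaf.stalk x) ((A ⊞ B : X.Modules).presheaf.stalk x) =
      Module.length (X.presheaf.stalk x) (A.presheaf.stalk x) +
        Module.length (X.presheaf.stalk x) (B.presheaf.stalk x) := by
  rw [(stalkBiprodEquiv A B x).length_eq, Module.length_prod]

theorem stalk_biprod_killed (x : X) (a : X.presheaf.stalk x)
    (hA : ∀ t : A.presheaf.stalk x, a • t = 0) (hB : ∀ t : B.presheaf.stalk x, a • t = 0)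
    (t : (A ⊞ B : X.Modules).presheaf.stalk x) : a • t = 0 := by
  apply (stalkBiprodEquiv A B x).injective
  rw [map_smul, map_zero]
  ext
  · exact hA _
  · exact hB _

end Groth.Agent.Lib.Helper21.StalkBiprod

namespace Groth.Agent.Lib.Helper21.StalkBiprod

open Groth.Agent.Lib.Helper78.ModStalk Groth.Agent.Lib.Helper21.StalkLen ZeroObject

variable {X : Scheme.{u}} (Q : X.Modules)

/-- Iterated binary biproduct `Q ⊞ (Q ⊞ ⋯ ⊞ 0)`. -/
noncomputable def pow : ℕ → X.Modules
  | 0 => 0
  | n + 1 => Q ⊞ pow n

theorem pow_zero_isZero : IsZero (pow Q 0) := isZero_zero _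

theorem pow_succ (n : ℕ) : pow Q (n + 1) = (Q ⊞ pow Q n : X.Modules) := rfl

theorem subsingleton_stalk_of_isZero {M : X.Modules} (hM : IsZero M) (x : X) :
    Subsingleton (M.presheaf.stalk x) := by
  refine ⟨fun a b => ?_⟩
  have h : (𝟙 M : M ⟶ M) = 0 := hM.eq_of_src _ _
  have ha : a = 0 := by
    have := congrArg (fun φ => stalkMap φ x a) h
    simpa [stalkMap_id, stalkMap_zero] using this
  have hb : b = 0 := by
    have := congrArg (fun φ => stalkMap φ x b) h
    simpa [stalkMap_id, stalkMap_zero] using this
  rw [ha, hb]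

theorem length_stalk_pow (x : X) (n : ℕ) :
    Module.length (X.presheaf.stalk x) ((pow Q n).presheaf.stalk x) =
      n * Module.length (X.presheaf.stalk x) (Q.presheaf.stalk x) := by
  induction n with
  | zero =>
    haveI := subsingleton_stalk_of_isZero (pow_zero_isZero Q) x
    simp
  | succ n ih =>
    rw [pow_succ, length_stalk_biprod, ih]
    push_cast
    ring

theorem stalk_pow_killed (x : X) (a : X.presheaf.stalk x)
    (hQ : ∀ t : Q.presheaf.stalk x, a • t = 0) (n : ℕ) (t : (pow Q n).presheaf.stalk x) :
    a • t = 0 := by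
  induction n with
  | zero =>
    haveI := subsingleton_stalk_of_isZero (pow_zero_isZero Q) x
    exact Subsingleton.elim _ _
  | succ n ih =>
    revert t
    rw [pow_succ]
    exact stalk_biprod_killed Q (pow Q n) x a hQ ih

theorem support_pow_subset (n : ℕ) : CohB1.support (pow Q n) ⊆ CohB1.support Q := by
  intro x hx
  by_contra hQ
  simp only [CohB1.support, Set.mem_ofPred_eq, not_not] at hQ
  apply hx
  rw [← Module.length_eq_zero_iff (R := X.presheaf.stalk x), length_stalk_pow,
    Module.length_eq_zero_iff.mpr hQ, mul_zero]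

end Groth.Agent.Lib.Helper21.StalkBiprod
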