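import Groth.Agent.Lib.Helper21.Devissage
import Groth.Prelude.Def_ClSub2


/-!
# Stalks at the generic point of modules killed by the ideal of the reduced structure (helper21)
-/

set_option autoImplicit false
set_option linter.style.haveILetI false
universe u
open AlgebraicGeometry CategoryTheory Opposite TopologicalSpace Limits

namespace Groth.Agent.Lib.Helper21.StalkKilled

open Groth.Agent.Lib.Lead.QCohAff

variable {X : Scheme.{u}}

/-- A section over an affine open which is not invertible at the generic point `ξ` of `Z₀` lies in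
the vanishing ideal of `Z₀`. -/
theorem mem_vanishingIdeal_of_notMem_basicOpen (Z₀ : Set X) (hZ₀ : IsClosed Z₀) (ξ : X)
    (hξ : closure {ξ} = Z₀) (U : X.affineOpens) (b : Γ(X, U.1)) (hb : ξ ∉ X.basicOpen b) :
    b ∈ (Scheme.IdealSheafData.vanishingIdeal ⟨Z₀, hZ₀⟩).ideal U := by
  rw [Scheme.IdealSheafData.vanishingIdeal_ideal, PrimeSpectrum.mem_vanishingIdeal]
  intro p hp
  by_contra hbp
  have hx : U.2.fromSpec p ∈ U.1 := fromSpec_mem U.2 p
  have hpx : U.2.primeIdealOf ⟨U.2.fromSpec p, hx⟩ = p := primeIdealOf_fromSpec U.2 p hx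
  have h1 : U.2.fromSpec p ∈ X.basicOpen b := by
    rw [mem_basicOpen_iff_notMem_primeIdealOf U.2 _ hx, hpx]
    exact hbp
  have h2 : ξ ⤳ U.2.fromSpec p := by
    rw [specializes_iff_mem_closure, hξ]
    exact hp
  exact hb (h2.mem_open (X.basicOpen b).2 h1)

/-- If `G` is killed by the ideal of the reduced structure on `Z₀ = closure {ξ}`, the stalk `G_ξ` is
killed by the maximal ideal. -/
theorem stalk_killed_of_killedByIdeal (G : X.Modules) [G.IsQuasicoherent] (Z₀ : Set X)
    (hZ₀ : IsClosed Z₀) (ξ : X) (hξ : closure {ξ} = Z₀)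
    (hk : ClSub.KilledByIdeal (Scheme.IdealSheafData.vanishingIdeal ⟨Z₀, hZ₀⟩) G)
    (a : X.presheaf.stalk ξ) (ha : a ∈ IsLocalRing.maximalIdeal (X.presheaf.stalk ξ))
    (t : G.presheaf.stalk ξ) : a • t = 0 := by
  obtain ⟨W, hξW, f, rfl⟩ := X.presheaf.exists_germ_eq (x := ξ) a
  obtain ⟨_, ⟨U, hU : IsAffineOpen U, rfl⟩, hξU, hUW⟩ :=
    X.isBasis_affineOpens.exists_subset_of_mem_open hξW W.2
  have hUW' : U ≤ W := hUW
  set b := X.presheaf.map (homOfLE hUW').op f with hbdef
  have hgerm : X.presheaf.germ W ξ hξW f = X.presheaf.germ U ξ hξU b :=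
    (germX_res hUW' ξ hξU f).symm
  rw [hgerm] at ha ⊢
  have hb : ξ ∉ X.basicOpen b := by
    intro hmem
    exact ha (isUnit_germ_of_mem_basicOpen b ξ hξU hmem)
  have hbI := mem_vanishingIdeal_of_notMem_basicOpen Z₀ hZ₀ ξ hξ ⟨U, hU⟩ b hb
  obtain ⟨r, s, hξr, hrs⟩ := exists_germ_smul_eq_germ G hU ξ hξU t
  have hu := isUnit_germ_of_mem_basicOpen r ξ hξU hξr
  apply hu.smul_eq_zero.1
  rw [smul_comm, hrs, ← Groth.Agent.Lib.Lead.QCohAff.germ_smul]
  have : b • s = 0 := hk ⟨U, hU⟩ b hbI s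
  rw [this, map_zero]

end Groth.Agent.Lib.Helper21.StalkKilled
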