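import Groth.Agent.Lib.Helper21.Devissage
import Groth.Agent.Lib.Helper21.StalkBiprod
import Groth.Agent.Lib.Helper21.SemisimpleAlg
import Groth.Agent.Lib.Helper21.StalkKilled


/-!
# Two-out-of-three dévissage with direct summands (helper21)

`summand_step`: the irreducible step for a class closed under coherent direct summands, with a
coherent `G`, `P G`, whose stalk at the generic point is nonzero and killed by the maximal ideal.
-/

set_option autoImplicit false
set_option linter.style.haveILetI false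
universe u
open AlgebraicGeometry CategoryTheory Opposite TopologicalSpace Limits

namespace Groth.Agent.Lib.Helper21.DevSummand

open Groth.Agent.Lib.Helper78.ModStalk Groth.Agent.Lib.Helper78.ModStalkExact
  Groth.Agent.Lib.Helper21.CohStalkLocal Groth.Agent.Lib.Helper21.StalkLen
  Groth.Agent.Lib.Helper21.SimpleAlg Groth.Agent.Lib.Helper21.SpreadOut
  Groth.Agent.Lib.Helper21.Devissage Groth.Agent.Lib.Helper21.StalkBiprod
  Groth.Agent.Lib.Helper21.SemisimpleAlg

variable {X : Scheme.{u}}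

theorem isCoh_biprod {A B : X.Modules} (hA : Coh.IsCoh A) (hB : Coh.IsCoh B) :
    Coh.IsCoh (A ⊞ B : X.Modules) := by
  haveI : A.IsQuasicoherent := hA.1
  haveI : B.IsQuasicoherent := hB.1
  exact ⟨Groth.Agent.Lib.Helper2.KerSec.isQuasicoherent_biprod A B,
    Groth.Agent.Lib.Helper21.CohBiprod.isFiniteType_biprod A B hA.2 hB.2⟩

theorem isCoh_pow {Q : X.Modules} (hQ : Coh.IsCoh Q) (n : ℕ) : Coh.IsCoh (pow Q n) := by
  induction n with
  | zero => exact isCoh_of_isZero (pow_zero_isZero Q)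
  | succ n ih =>
    rw [pow_succ]
    exact isCoh_biprod hQ ih

end Groth.Agent.Lib.Helper21.DevSummand

namespace Groth.Agent.Lib.Helper21.DevSummand

open Groth.Agent.Lib.Helper78.ModStalk Groth.Agent.Lib.Helper78.ModStalkExact
  Groth.Agent.Lib.Helper21.CohStalkLocal Groth.Agent.Lib.Helper21.StalkLen
  Groth.Agent.Lib.Helper21.SimpleAlg Groth.Agent.Lib.Helper21.SpreadOut
  Groth.Agent.Lib.Helper21.Devissage Groth.Agent.Lib.Helper21.StalkBiprod
  Groth.Agent.Lib.Helper21.SemisimpleAlg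

section Step

variable {X : Scheme.{u}} [IsLocallyNoetherian X] (Z₀ : Set X) (P : X.Modules → Prop)
  (hP : ∀ M N : X.Modules, Nonempty (M ≅ N) → P M → P N)
  (h₁ : ∀ S : ShortComplex X.Modules, S.ShortExact → Coh.IsCoh S.X₁ → Coh.IsCoh S.X₂ →
    Coh.IsCoh S.X₃ → CohB1.support S.X₂ ⊆ Z₀ →
    (P S.X₁ → P S.X₂ → P S.X₃) ∧ (P S.X₁ → P S.X₃ → P S.X₂) ∧ (P S.X₂ → P S.X₃ → P S.X₁))
  (hsum : ∀ (M N : X.Modules) (i : N ⟶ M) (r : M ⟶ N), i ≫ r = 𝟙 N → Coh.IsCoh M →
    Coh.IsCoh N → CohB1.support M ⊆ Z₀ → P M → P N)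
  (ξ : X) (hξ : closure {ξ} = Z₀)
  (IH : ∀ F : X.Modules, Coh.IsCoh F → CohB1.support F ⊆ Z₀ → ξ ∉ CohB1.support F → P F)
  (G : X.Modules) (hG : Coh.IsCoh G) (hGs : CohB1.support G ⊆ Z₀)
  (hkill : ∀ a ∈ IsLocalRing.maximalIdeal (X.presheaf.stalk ξ),
    ∀ t : G.presheaf.stalk ξ, a • t = 0)
  (hne : ξ ∈ CohB1.support G) (hPG : P G)

include hP h₁ hsum hξ IH hG hGs hkill hne hPG in
/-- A coherent module supported in `Z₀` with simple stalk at `ξ` satisfies `P`. -/
theorem rank_lemma (Q : X.Modules) (hQ : Coh.IsCoh Q) (hQs : CohB1.support Q ⊆ Z₀)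
    (hQsimple : IsSimpleModule (X.presheaf.stalk ξ) (Q.presheaf.stalk ξ)) : P Q := by
  obtain ⟨r, hr⟩ := ENat.ne_top_iff_exists.mp
    (ne_of_lt (length_stalk_lt_top_of_support_subset G hG ξ (hξ ▸ hGs)))
  have hr0 : r ≠ 0 := by
    rintro rfl
    exact hne (Module.length_eq_zero_iff.mp hr.symm)
  obtain ⟨r', rfl⟩ := Nat.exists_eq_succ_of_ne_zero hr0
  have hT : Coh.IsCoh (pow Q (r' + 1)) := isCoh_pow hQ _
  have hTs : CohB1.support (pow Q (r' + 1)) ⊆ Z₀ := (support_pow_subset Q _).trans hQs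
  have hTlen : Module.length (X.presheaf.stalk ξ) ((pow Q (r' + 1)).presheaf.stalk ξ) =
      (r' + 1 : ℕ) := by
    rw [length_stalk_pow, Module.length_eq_one_iff.mpr hQsimple, mul_one]
  have hTk : ∀ a ∈ IsLocalRing.maximalIdeal (X.presheaf.stalk ξ),
      ∀ t : (pow Q (r' + 1)).presheaf.stalk ξ, a • t = 0 := fun a ha t =>
    stalk_pow_killed Q ξ a (fun t => smul_eq_zero_of_isSimpleModule _ a ha t) _ t
  obtain ⟨a⟩ := nonempty_linearEquiv_of_killed (IsLocalRing.maximalIdeal (X.presheaf.stalk ξ))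
    ((pow Q (r' + 1)).presheaf.stalk ξ) (G.presheaf.stalk ξ) hTk hkill
    (by rw [hTlen]; exact ENat.natCast_ne_top _) (hTlen.trans hr)
  haveI : (pow Q (r' + 1)).IsQuasicoherent := hT.1
  haveI : G.IsQuasicoherent := hG.1
  obtain ⟨H, p₁, p₂, c, hHq, hHf, hc, hb, hrel, -, hHsub, -⟩ :=
    exists_spread (pow Q (r' + 1)) G hT.2 hG.2 ξ a.toLinearMap
  have hH : Coh.IsCoh H := ⟨hHq, hHf⟩
  have hHs : CohB1.support H ⊆ Z₀ := hHsub.trans (Set.union_subset hTs hGs)
  have hb₂ : Function.Bijective (stalkMap p₂ ξ) := by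
    constructor
    · intro h h' hh'
      rw [hrel, hrel] at hh'
      exact hb.1 (a.injective (hc.smul_left_cancel.mp hh'))
    · intro g
      obtain ⟨u, rfl⟩ := hc
      obtain ⟨h, hh⟩ := hb.2 (a.symm ((↑u⁻¹ : X.presheaf.stalk ξ) • g))
      refine ⟨h, ?_⟩
      rw [hrel, hh]
      simp [smul_smul]
  have hK₁ : P (kernel p₁) := IH _ (isCoh_kernel p₁ hH hT)
    ((support_kernel_subset p₁).trans hHs) (fun h => h (subsingleton_stalk_kernel p₁ ξ hb.1))
  have hC₁ : P (cokernel p₁) := IH _ (isCoh_cokernel p₁ hH hT)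
    ((support_cokernel_subset p₁).trans hTs) (fun h => h (subsingleton_stalk_cokernel p₁ ξ hb.2))
  have hK₂ : P (kernel p₂) := IH _ (isCoh_kernel p₂ hH hG)
    ((support_kernel_subset p₂).trans hHs) (fun h => h (subsingleton_stalk_kernel p₂ ξ hb₂.1))
  have hC₂ : P (cokernel p₂) := IH _ (isCoh_cokernel p₂ hH hG)
    ((support_cokernel_subset p₂).trans hGs)
    (fun h => h (subsingleton_stalk_cokernel p₂ ξ hb₂.2))
  have hPH : P H := (four_term Z₀ P hP h₁ p₂ hH hG hHs hGs hK₂ hC₂).mpr hPG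
  have hPT : P (pow Q (r' + 1)) := (four_term Z₀ P hP h₁ p₁ hH hT hHs hTs hK₁ hC₁).mp hPH
  exact hsum (Q ⊞ pow Q r') Q biprod.inl biprod.fst biprod.inl_fst hT hQ hTs hPT

include hP h₁ hsum hξ IH hG hGs hkill hne hPG in
/-- **Two-out-of-three dévissage with direct summands, one irreducible step.** -/
theorem summand_step (F : X.Modules) (hF : Coh.IsCoh F) (hFs : CohB1.support F ⊆ Z₀) : P F := by
  obtain ⟨n, hn⟩ := ENat.ne_top_iff_exists.mp
    (ne_of_lt (length_stalk_lt_top_of_support_subset F hF ξ (hξ ▸ hFs)))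
  induction n generalizing F with
  | zero =>
    refine IH F hF hFs (fun hmem => hmem ?_)
    exact Module.length_eq_zero_iff.mp hn.symm
  | succ n ih =>
    haveI : G.IsQuasicoherent := hG.1
    haveI : F.IsQuasicoherent := hF.1
    have hflF : IsFiniteLength (X.presheaf.stalk ξ) (F.presheaf.stalk ξ) := by
      rw [← Module.length_ne_top_iff, ← hn]
      exact ENat.natCast_ne_top _
    have hflG : IsFiniteLength (X.presheaf.stalk ξ) (G.presheaf.stalk ξ) := by
      rw [← Module.length_ne_top_iff]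
      exact ne_of_lt (length_stalk_lt_top_of_support_subset G hG ξ (hξ ▸ hGs))
    haveI : IsNoetherian (X.presheaf.stalk ξ) (F.presheaf.stalk ξ) :=
      (isFiniteLength_iff_isNoetherian_isArtinian.mp hflF).1
    haveI : IsArtinian (X.presheaf.stalk ξ) (G.presheaf.stalk ξ) :=
      (isFiniteLength_iff_isNoetherian_isArtinian.mp hflG).2
    haveI : Nontrivial (F.presheaf.stalk ξ) := by
      rw [← Module.length_pos_iff (R := X.presheaf.stalk ξ), ← hn]
      exact_mod_cast Nat.succ_pos n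
    haveI : Nontrivial (G.presheaf.stalk ξ) := not_subsingleton_iff_nontrivial.mp hne
    obtain ⟨a, ha⟩ := exists_linearMap_range_simple (R := X.presheaf.stalk ξ)
      (F.presheaf.stalk ξ) (G.presheaf.stalk ξ)
    obtain ⟨H, p₁, p₂, c, hHq, hHf, hc, hb, hrel, -, hHsub, -⟩ :=
      exists_spread F G hF.2 hG.2 ξ a
    have hH : Coh.IsCoh H := ⟨hHq, hHf⟩
    have hHs : CohB1.support H ⊆ Z₀ := hHsub.trans (Set.union_subset hFs hGs)
    -- the image `Q` of `p₂` has simple stalk
    have hQ : Coh.IsCoh (cokerSeq p₂).X₁ :=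
      isCoh_kernel (cokernel.π p₂) hG (isCoh_cokernel p₂ hH hG)
    have hQs : CohB1.support (cokerSeq p₂).X₁ ⊆ Z₀ :=
      (support_kernel_subset (cokernel.π p₂)).trans hGs
    have key : ∀ h, stalkMap (Abelian.image.ι p₂) ξ (stalkMap (Abelian.factorThruImage p₂) ξ h) =
        stalkMap p₂ ξ h := by
      intro h
      have h0 : stalkMap (Abelian.factorThruImage p₂ ≫ Abelian.image.ι p₂) ξ h =
          stalkMap p₂ ξ h := by rw [Abelian.image.fac]
      rw [stalkMap_comp] at h0
      exact h0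
    have hrange : LinearMap.range (stalkMap (Abelian.image.ι p₂) ξ) = LinearMap.range a := by
      have hsurj := stalkMap_surjective_of_epi (Abelian.factorThruImage p₂) ξ
      apply le_antisymm
      · rintro _ ⟨q, rfl⟩
        obtain ⟨h, rfl⟩ := hsurj q
        rw [key, hrel]
        exact Submodule.smul_mem _ _ ⟨_, rfl⟩
      · rintro _ ⟨f, rfl⟩
        obtain ⟨u, rfl⟩ := hc
        obtain ⟨h, hh⟩ := hb.2 ((↑u⁻¹ : X.presheaf.stalk ξ) • f)
        refine ⟨stalkMap (Abelian.factorThruImage p₂) ξ h, ?_⟩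
        rw [key, hrel, hh]
        simp [smul_smul]
    have hQsimple : IsSimpleModule (X.presheaf.stalk ξ) ((cokerSeq p₂).X₁.presheaf.stalk ξ) := by
      have hinj := stalkMap_injective_of_mono (Abelian.image.ι p₂) ξ
      have e := LinearEquiv.ofInjective (stalkMap (Abelian.image.ι p₂) ξ) hinj
      rw [hrange] at e
      exact IsSimpleModule.congr e
    have hPQ : P (cokerSeq p₂).X₁ :=
      rank_lemma Z₀ P hP h₁ hsum ξ hξ IH G hG hGs hkill hne hPG _ hQ hQs hQsimple
    have hPcoim : P (kerSeq p₂).X₃ := hP _ _ ⟨(coimIsoIm p₂).symm⟩ hPQ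
    have hcoim : Coh.IsCoh (kerSeq p₂).X₃ :=
      isCoh_cokernel (kernel.ι p₂) (isCoh_kernel p₂ hH hG) hH
    -- the kernel of `p₂` has smaller length
    have hlen : Module.length (X.presheaf.stalk ξ) ((kernel p₂).presheaf.stalk ξ) = n := by
      have h1 : Module.length (X.presheaf.stalk ξ) (H.presheaf.stalk ξ) =
          Module.length (X.presheaf.stalk ξ) ((kernel p₂).presheaf.stalk ξ) +
            Module.length (X.presheaf.stalk ξ) ((kerSeq p₂).X₃.presheaf.stalk ξ) :=
        length_stalk_shortExact _ (kerSeq_shortExact p₂) ξ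
      have h2 : Module.length (X.presheaf.stalk ξ) (H.presheaf.stalk ξ) = (n + 1 : ℕ) := by
        rw [(LinearEquiv.ofBijective (stalkMap p₁ ξ) hb).length_eq, hn]
      have h3 : Module.length (X.presheaf.stalk ξ) ((kerSeq p₂).X₃.presheaf.stalk ξ) = 1 := by
        rw [length_stalk_eq_of_iso (coimIsoIm p₂) ξ]
        exact Module.length_eq_one_iff.mpr hQsimple
      rw [h2, h3] at h1
      have h4 : Module.length (X.presheaf.stalk ξ) ((kernel p₂).presheaf.stalk ξ) + 1 =
          (n : ℕ∞) + 1 := by rw [← h1]; push_cast; rfl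
      exact ENat.add_left_injective_of_ne_top ENat.one_ne_top h4
    have hK₂ : P (kernel p₂) := ih _ (isCoh_kernel p₂ hH hG)
      ((support_kernel_subset p₂).trans hHs) hlen.symm
    have hPH : P H := (h₁ (kerSeq p₂) (kerSeq_shortExact p₂) (isCoh_kernel p₂ hH hG) hH hcoim
      hHs).2.1 hK₂ hPcoim
    have hK₁ : P (kernel p₁) := IH _ (isCoh_kernel p₁ hH hF)
      ((support_kernel_subset p₁).trans hHs) (fun h => h (subsingleton_stalk_kernel p₁ ξ hb.1))
    have hC₁ : P (cokernel p₁) := IH _ (isCoh_cokernel p₁ hH hF)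
      ((support_cokernel_subset p₁).trans hFs)
      (fun h => h (subsingleton_stalk_cokernel p₁ ξ hb.2))
    exact (four_term Z₀ P hP h₁ p₁ hH hF hHs hFs hK₁ hC₁).mp hPH

end Step

end Groth.Agent.Lib.Helper21.DevSummand
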