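import Groth.Agent.Lib.Helper21.QuotIdeal
import Groth.Agent.S4458

/-!
# Serre classes of coherent modules on a Noetherian scheme (helper21)

* `IsSerre P`: `P` is a Serre class on coherent modules.
* `quotO Z`: `O_X / I_Z`, coherent with support exactly `Z`.
* `isSerre_support`: `Supp ⊆ Z` is a Serre class.
* `IsSerre.of_support_subset`: (Gabriel) a Serre class containing a coherent `F` contains every
  coherent `E` with `Supp E ⊆ Supp F`.
-/

set_option autoImplicit false
set_option linter.style.haveILetI false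
universe u
open AlgebraicGeometry CategoryTheory Opposite TopologicalSpace Limits

namespace Groth.Agent.Lib.Helper21.SerreCoh

open Groth.Agent.Lib.Helper78.ModStalk Groth.Agent.Lib.Helper78.ModStalkExact
  Groth.Agent.Lib.Helper21.CohStalkLocal Groth.Agent.Lib.Helper21.StalkLen
  Groth.Agent.Lib.Helper21.Devissage Groth.Agent.Lib.Helper21.QuotIdeal
  Groth.Agent.Lib.Helper21.ArtinReesS

variable {X : Scheme.{u}}

/-- A Serre class on coherent modules. -/
def IsSerre (P : ObjectProperty X.Modules) : Prop :=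
  ∀ S : ShortComplex X.Modules, S.ShortExact → Coh.IsCoh S.X₁ → Coh.IsCoh S.X₂ →
    Coh.IsCoh S.X₃ → (P S.X₂ ↔ P S.X₁ ∧ P S.X₃)

theorem isSerre_support (Z : Set X) : IsSerre (fun M : X.Modules => CohB1.support M ⊆ Z) := by
  intro S hS _ _ _
  change CohB1.support S.X₂ ⊆ Z ↔ CohB1.support S.X₁ ⊆ Z ∧ CohB1.support S.X₃ ⊆ Z
  rw [Groth.Agent.Lib.Helper21.CohSupport.support_shortExact S hS, Set.union_subset_iff]

theorem isSerre_support_and_notMem (Z : Set X) (ξ : X) :
    IsSerre (fun M : X.Modules => CohB1.support M ⊆ Z ∧ ξ ∉ CohB1.support M) := by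
  intro S hS _ _ _
  change (CohB1.support S.X₂ ⊆ Z ∧ ξ ∉ CohB1.support S.X₂) ↔
    (CohB1.support S.X₁ ⊆ Z ∧ ξ ∉ CohB1.support S.X₁) ∧
      (CohB1.support S.X₃ ⊆ Z ∧ ξ ∉ CohB1.support S.X₃)
  rw [Groth.Agent.Lib.Helper21.CohSupport.support_shortExact S hS, Set.union_subset_iff,
    Set.mem_union, not_or]
  tauto

namespace IsSerre

variable {P : ObjectProperty X.Modules} (hP : IsSerre P)

include hP

theorem of_isZero {G : X.Modules} (hG : Coh.IsCoh G) (hPG : P G) {M : X.Modules}
    (hM : IsZero M) : P M :=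
  ((hP _ (shortExact_id_zero G M hM) hG hG (isCoh_of_isZero hM)).mp hPG).2

theorem of_mono {M N : X.Modules} (i : N ⟶ M) [Mono i] (hM : Coh.IsCoh M) (hN : Coh.IsCoh N)
    (hPM : P M) : P N :=
  ((hP _ (shortExact_mono_cokernel i) hN hM (isCoh_cokernel i hN hM)).mp hPM).1

theorem of_epi [IsLocallyNoetherian X] {M N : X.Modules} (p : M ⟶ N) [Epi p] (hM : Coh.IsCoh M)
    (hN : Coh.IsCoh N) (hPM : P M) : P N :=
  ((hP _ (shortExact_kernel_epi p) (isCoh_kernel p hM hN) hM hN).mp hPM).2

theorem of_iso {M N : X.Modules} (e : M ≅ N) (hM : Coh.IsCoh M) (hN : Coh.IsCoh N)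
    (hPM : P M) : P N :=
  hP.of_mono e.inv hM hN hPM

end IsSerre

section QuotO

/-- `O_X / I_Z`. -/
noncomputable abbrev quotO (Z : Closeds X) : X.Modules :=
  quot (Scheme.IdealSheafData.vanishingIdeal Z) (Coh.structureModule X)

theorem nontrivial_stalk_structureModule (y : X) :
    Nontrivial ((Coh.structureModule X).presheaf.stalk y) := by
  by_contra hcon
  rw [not_nontrivial_iff_subsingleton] at hcon
  have hy : y ∈ (⊤ : X.Opens) := Opens.mem_top y
  have h1 : (Coh.structureModule X).presheaf.germ ⊤ y hy (1 : Γ(X, ⊤)) =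
      (Coh.structureModule X).presheaf.germ ⊤ y hy (0 : Γ(X, ⊤)) := Subsingleton.elim _ _
  obtain ⟨W, hyW, iU, iV, hW⟩ := TopCat.Presheaf.germ_eq (Coh.structureModule X).presheaf y
    hy hy _ _ h1
  have h2 : X.presheaf.map iU.op (1 : Γ(X, ⊤)) = X.presheaf.map iV.op (0 : Γ(X, ⊤)) := hW
  rw [map_one, map_zero] at h2
  have h3 := congr(X.presheaf.germ W y hyW $h2)
  rw [map_one, map_zero] at h3
  exact one_ne_zero h3

variable [IsLocallyNoetherian X]

theorem isCoh_idealMul (I : X.IdealSheafData) {F : X.Modules} (hF : Coh.IsCoh F) :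
    Coh.IsCoh ((Dual3.idealMul I).obj F) := by
  haveI := hF.1
  exact ⟨inferInstance, Groth.Agent.Lib.Helper21.CohNoeth.isFiniteType_of_mono
    (Dual3.idealMulι I F) hF.2⟩

theorem isCoh_quot (I : X.IdealSheafData) {F : X.Modules} (hF : Coh.IsCoh F) :
    Coh.IsCoh (quot I F) :=
  isCoh_cokernel _ (isCoh_idealMul I hF) hF

theorem isCoh_quotO (Z : Closeds X) : Coh.IsCoh (quotO Z) :=
  isCoh_quot _ (Groth.Agent.Lib.Helper21.ClImmDev.isCoh_structureModule X)

omit [IsLocallyNoetherian X] in
theorem support_quotO (Z : Closeds X) : CohB1.support (quotO Z) = (Z : Set X) := by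
  have hO := Groth.Agent.Lib.Helper21.ClImmDev.isCoh_structureModule X
  haveI := hO.1
  have hsupp : ((Scheme.IdealSheafData.vanishingIdeal Z).support : Set X) = (Z : Set X) :=
    Scheme.IdealSheafData.coe_support_vanishingIdeal Z
  apply Set.Subset.antisymm
  · refine (support_quot_subset _ _).trans ?_
    rw [hsupp]
    exact Set.inter_subset_right
  · intro y hy
    refine mem_support_quot _ _ hO.2 y ?_ (hsupp ▸ hy)
    exact not_subsingleton_iff_nontrivial.mpr (nontrivial_stalk_structureModule y)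

end QuotO

/-- **Gabriel**: a Serre class of coherent modules containing `F` contains every coherent module
supported in `Supp F`. -/
theorem IsSerre.of_support_subset [IsNoetherian X] {P : ObjectProperty X.Modules}
    (hP : IsSerre P) {F E : X.Modules} (hF : Coh.IsCoh F) (hE : Coh.IsCoh E) (hPF : P F)
    (hs : CohB1.support E ⊆ CohB1.support F) : P E := by
  haveI := hF.1
  let K' : ObjectProperty X.Modules := fun M => Coh.IsCoh M → P M
  haveI : K'.IsClosedUnderIsomorphisms :=
    ⟨fun {M N} e k hN => hP.of_iso e (isCoh_of_iso e.symm hN) hN (k (isCoh_of_iso e.symm hN))⟩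
  refine Groth.Agent.S4458.result X K' (fun M hM _ => hP.of_isZero hF hPF hM) ?_ ?_
    (CohB1.support F) (isClosed_support_of_isCoh hF) ?_ E hE hs hE
  · intro S hS h1 h2 h3
    have h := hP S hS h1 h2 h3
    exact ⟨fun _ k2 _ => (h.mp (k2 h2)).2, fun k1 k3 _ => h.mpr ⟨k1 h1, k3 h3⟩,
      fun k2 _ _ => (h.mp (k2 h2)).1⟩
  · intro M N i r hir hM hN k _
    haveI : Mono i := mono_of_mono_fac hir
    exact hP.of_mono i hM hN (k hM)
  · intro Z hZ _ hZF y hy
    let I := Scheme.IdealSheafData.vanishingIdeal ⟨Z, hZ⟩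
    have hsupp : (I.support : Set X) = Z := Scheme.IdealSheafData.coe_support_vanishingIdeal _
    have hyZ : y ∈ Z := by
      rw [← hy]
      exact subset_closure (Set.mem_singleton y)
    refine ⟨quot I F, isCoh_quot I hF, fun h => hP.of_epi (cokernel.π _) hF h hPF, ?_,
      killedByIdeal_quot I F, ?_⟩
    · refine (support_quot_subset I F).trans ?_
      rw [hsupp]
      exact Set.inter_subset_right
    · exact mem_support_quot I F hF.2 y (hZF hyZ) (hsupp ▸ hyZ)

end Groth.Agent.Lib.Helper21.SerreCoh
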