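import Groth.Agent.Lib.Helper21.AssStep
import Groth.Agent.Lib.Helper21.SerreCoh
import Groth.Agent.Lib.Helper29.AssNoeth

/-!
# Uniqueness of primary components without embedded points (helper21)

* `hom_eq_zero_of_ass`: a morphism of coherent modules `A ⟶ B` with `Ass B ⊆ {y}` and `A_y = 0`
  vanishes.
* `exists_sub_supported`: for `x ∈ Ass K` a coherent submodule `T ⊆ K` supported on the closure
  of `x` with `x ∈ Ass T`.
* `exists_iso_of_kernel_comp_eq_zero`: two epimorphisms with the same kernel are isomorphic.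
* `subsingleton_stalk_kernel`: for a jointly monomorphic family of primary quotients of a module
  without embedded points, `ker (q x)` has zero stalk at `x`.
* `exists_iso_primary`: uniqueness of the primary components.
-/

set_option autoImplicit false
set_option linter.style.haveILetI false
universe u
open AlgebraicGeometry CategoryTheory Opposite TopologicalSpace Limits

namespace Groth.Agent.Lib.Helper21.AssUnique

open Groth.Agent.Lib.Helper78.ModStalk Groth.Agent.Lib.Helper78.ModStalkExact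
  Groth.Agent.Lib.Helper21.AssTools Groth.Agent.Lib.Helper21.Devissage

theorem exists_iso_of_kernel_comp_eq_zero {C : Type*} [Category C] [Abelian C] {M G G' : C}
    (q : M ⟶ G) (q' : M ⟶ G') [Epi q] [Epi q'] (h1 : kernel.ι q ≫ q' = 0)
    (h2 : kernel.ι q' ≫ q = 0) : ∃ e : G ≅ G', q ≫ e.hom = q' := by
  refine ⟨⟨Abelian.epiDesc q q' h1, Abelian.epiDesc q' q h2, ?_, ?_⟩, Abelian.comp_epiDesc q q' h1⟩
  · rw [← cancel_epi q, Abelian.comp_epiDesc_assoc, Abelian.comp_epiDesc, Category.comp_id]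
  · rw [← cancel_epi q', Abelian.comp_epiDesc_assoc, Abelian.comp_epiDesc, Category.comp_id]

variable {X : Scheme.{u}}

theorem hom_eq_zero_of_ass [IsLocallyNoetherian X] {A B : X.Modules} (hA : Coh.IsCoh A)
    (hB : Coh.IsCoh B) (f : A ⟶ B) (y : X) (hAss : AssSch.Ass B ⊆ {y})
    (hy : Subsingleton (A.presheaf.stalk y)) : f = 0 := by
  haveI := hA.1
  haveI := hB.1
  have hK : Coh.IsCoh (kernel f) := isCoh_kernel f hA hB
  have hC : Coh.IsCoh (cokernel (kernel.ι f)) := isCoh_cokernel (kernel.ι f) hK hA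
  haveI := hC.1
  let e : A ⟶ cokernel (kernel.ι f) := cokernel.π (kernel.ι f)
  let m : cokernel (kernel.ι f) ⟶ B := Abelian.factorThruCoimage f
  haveI : Mono m := inferInstanceAs (Mono (Abelian.factorThruCoimage f))
  have hem : e ≫ m = f := Abelian.coimage.fac f
  have hsub : Subsingleton ((cokernel (kernel.ι f)).presheaf.stalk y) :=
    (Groth.Agent.Lib.Helper21.CohStalkLocal.stalkMap_surjective_of_epi e y).subsingleton
  have hempty : AssSch.Ass (cokernel (kernel.ι f)) = ∅ := by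
    ext z
    simp only [Set.mem_empty_iff_false, iff_false]
    intro hz
    have hzy : z = y := hAss (ass_subset_of_mono m hz)
    subst hzy
    haveI := nontrivial_stalk_of_mem_ass hz
    exact not_subsingleton _ hsub
  have hzero := isZero_of_ass_eq_empty _ hempty
  rw [← hem, hzero.eq_of_tgt e 0, zero_comp]

theorem exists_sub_supported [IsLocallyNoetherian X] (K : X.Modules) (hK : Coh.IsCoh K) (x : X)
    (hx : x ∈ AssSch.Ass K) :
    ∃ (T : X.Modules) (i : T ⟶ K), Mono i ∧ Coh.IsCoh T ∧ x ∈ AssSch.Ass T ∧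
      ∀ z, z ∉ closure {x} → Subsingleton (T.presheaf.stalk z) := by
  haveI := hK.1
  let U : X.Opens := ⟨(closure {x})ᶜ, isClosed_closure.isOpen_compl⟩
  have hxU : x ∉ U := fun h => h (subset_closure rfl)
  let adj := Scheme.Modules.restrictAdjunction U.ι
  let r := Scheme.Modules.restrictFunctor U.ι
  let u : K ⟶ (Scheme.Modules.pushforward U.ι).obj (r.obj K) := adj.unit.app K
  haveI : (r.obj K).IsQuasicoherent := inferInstanceAs
    ((Scheme.Modules.restrictFunctor U.ι).obj K).IsQuasicoherent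
  haveI hHqc : ((Scheme.Modules.pushforward U.ι).obj (r.obj K)).IsQuasicoherent :=
    Groth.Agent.Lib.Helper2.KerSec.isQuasicoherent_pushforward_of_qcqs U.ι (r.obj K)
  haveI hKqc : (kernel u).IsQuasicoherent :=
    Groth.Agent.Lib.Helper21.QCohKernel.isQuasicoherent_kernel u
  have hKcoh : Coh.IsCoh (kernel u) :=
    ⟨hKqc, Groth.Agent.Lib.Helper21.CohNoeth.isFiniteType_of_mono (kernel.ι u) hK.2⟩
  haveI hCqc : (cokernel (kernel.ι u)).IsQuasicoherent :=
    Groth.Agent.Lib.Helper21.QCohKernel.isQuasicoherent_cokernel (kernel.ι u)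
  have hru : IsIso (r.map u) := by
    have h := adj.left_triangle_components K
    haveI : IsIso (adj.counit.app (r.obj K)) := inferInstance
    exact IsIso.of_isIso_fac_right h
  refine ⟨kernel u, kernel.ι u, inferInstance, hKcoh, ?_, ?_⟩
  · have hS := Groth.Agent.Lib.Helper21.QuotIdeal.shortExact_mono_cokernel (kernel.ι u)
    have h := (Groth.Agent.S2542.result _ hS hKqc hK.1 hCqc).2 hx
    rcases h with h | h
    · exact h
    · exfalso
      let m : cokernel (kernel.ι u) ⟶ (Scheme.Modules.pushforward U.ι).obj (r.obj K) :=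
        Abelian.factorThruCoimage u
      haveI : Mono m := inferInstanceAs (Mono (Abelian.factorThruCoimage u))
      exact hxU (ass_push_restrict_subset U K (ass_subset_of_mono m h)).2
  · intro z hz
    have hzU : z ∈ U := hz
    refine ⟨fun a b => ?_⟩
    have hinj := (Groth.Agent.Lib.Helper21.HomExtend.stalkMap_bijective_of_isIso_restrict u U hru
      z hzU).1
    have hz0 : ∀ c, stalkMap (kernel.ι u) z c = 0 := by
      intro c
      apply hinj
      rw [map_zero, ← LinearMap.comp_apply, ← Groth.Agent.Lib.Helper21.StalkBiprod.stalkMap_comp,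
        kernel.condition, Groth.Agent.Lib.Helper21.StalkBiprod.stalkMap_zero]
      rfl
    apply stalkMap_injective_of_mono (kernel.ι u) z
    rw [hz0 a, hz0 b]

open Groth.Agent.Lib.Helper29.QCohLoc in
theorem subsingleton_stalk_kernel [IsLocallyNoetherian X] (M : X.Modules) (hM : Coh.IsCoh M)
    (hne : AssSch.NoEmbedded M) (G : ↥(AssSch.Ass M) → X.Modules) (q : ∀ x, M ⟶ G x)
    (hG : ∀ x, Coh.IsCoh (G x)) (hA : ∀ x, AssSch.Ass (G x) = {x.1})
    (hm : ∀ (T : X.Modules) (a b : T ⟶ M), (∀ x, a ≫ q x = b ≫ q x) → a = b)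
    (x : ↥(AssSch.Ass M)) : Subsingleton ((kernel (q x)).presheaf.stalk x.1) := by
  have hK : Coh.IsCoh (kernel (q x)) := isCoh_kernel (q x) hM (hG x)
  haveI := hK.1
  by_contra hcon
  rw [not_subsingleton_iff_nontrivial] at hcon
  obtain ⟨s, hs⟩ := exists_ne (0 : (kernel (q x)).presheaf.stalk x.1)
  obtain ⟨W, hxW, σ, rfl⟩ := TopCat.Presheaf.exists_germ_eq (kernel (q x)).presheaf (x := x.1) s
  obtain ⟨V, hV, hxV, hVW⟩ := exists_isAffineOpen_mem_and_subset (X := X) (x := x.1) (U := W) hxW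
  have hVW' : V ≤ W := hVW
  rw [← germ_res _ W V hVW' x.1 hxV σ] at hs
  have hloc : LocAt (kernel (q x)) V := LocAt.of_isQuasicoherent _ hV
  obtain ⟨y, hyV, hyA, hyx, -⟩ := exists_isAssPoint_specializes _ hV hloc x.1 hxV _ hs
  have hyM : y ∈ AssSch.Ass M := ass_subset_of_mono (kernel.ι (q x)) hyA
  have hxy : x.1 = y := hne x.1 x.2 y hyM hyx
  have hxK : x.1 ∈ AssSch.Ass (kernel (q x)) := hxy ▸ hyA
  obtain ⟨T, i, hi, hT, hxT, hsupp⟩ := exists_sub_supported _ hK x.1 hxK
  have ha0 : i ≫ kernel.ι (q x) = 0 := by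
    apply hm
    intro y'
    rw [zero_comp]
    by_cases hy' : y' = x
    · subst hy'
      rw [Category.assoc, kernel.condition, comp_zero]
    · refine hom_eq_zero_of_ass hT (hG y') _ y'.1 (hA y').subset (hsupp y'.1 ?_)
      intro hmem
      have h1 : x.1 ⤳ y'.1 := specializes_iff_mem_closure.mpr hmem
      exact hy' (Subtype.ext (hne y'.1 y'.2 x.1 x.2 h1))
  haveI : Mono (i ≫ kernel.ι (q x)) := mono_comp _ _
  haveI := nontrivial_stalk_of_mem_ass hxT
  obtain ⟨a, b, hab⟩ := exists_pair_ne (T.presheaf.stalk x.1)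
  apply hab
  have hz0 : ∀ c, stalkMap (i ≫ kernel.ι (q x)) x.1 c = 0 := by
    intro c
    rw [ha0, Groth.Agent.Lib.Helper21.StalkBiprod.stalkMap_zero]
    rfl
  apply stalkMap_injective_of_mono (i ≫ kernel.ι (q x)) x.1
  rw [hz0 a, hz0 b]

theorem exists_iso_primary [IsLocallyNoetherian X] (M : X.Modules)
    (hM : Coh.IsCoh M) (hne : AssSch.NoEmbedded M)
    (G G' : ↥(AssSch.Ass M) → X.Modules) (q : ∀ x, M ⟶ G x) (q' : ∀ x, M ⟶ G' x)
    (hq : ∀ x, Epi (q x)) (hq' : ∀ x, Epi (q' x)) (hG : ∀ x, Coh.IsCoh (G x))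
    (hG' : ∀ x, Coh.IsCoh (G' x))
    (hA : ∀ x, AssSch.Ass (G x) = {x.1}) (hA' : ∀ x, AssSch.Ass (G' x) = {x.1})
    (hm : ∀ (T : X.Modules) (a b : T ⟶ M), (∀ x, a ≫ q x = b ≫ q x) → a = b)
    (hm' : ∀ (T : X.Modules) (a b : T ⟶ M), (∀ x, a ≫ q' x = b ≫ q' x) → a = b)
    (x : ↥(AssSch.Ass M)) :
    ∃ e : G x ≅ G' x, q x ≫ e.hom = q' x := by
  haveI := hq x
  haveI := hq' x
  have h1 : kernel.ι (q x) ≫ q' x = 0 :=
    hom_eq_zero_of_ass (isCoh_kernel (q x) hM (hG x)) (hG' x) _ x.1 (hA' x).subset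
      (subsingleton_stalk_kernel M hM hne G q hG hA hm x)
  have h2 : kernel.ι (q' x) ≫ q x = 0 :=
    hom_eq_zero_of_ass (isCoh_kernel (q' x) hM (hG' x)) (hG x) _ x.1 (hA x).subset
      (subsingleton_stalk_kernel M hM hne G' q' hG' hA' hm' x)
  exact exists_iso_of_kernel_comp_eq_zero (q x) (q' x) h1 h2

end Groth.Agent.Lib.Helper21.AssUnique
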