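import Groth.Agent.Lib.Helper21.K0Dev
import Groth.Agent.Lib.Helper21.AssUnique
import Groth.Agent.Lib.Helper21.SpreadOut
import Groth.Agent.Lib.Helper21.RestrictIso
import Groth.Agent.Lib.Helper21.CohSupport

/-!
# Associated points and the structure sheaf of the closure of a point (helper21)

* `isAssPoint_pushO`: `x` is an associated point of `O_Z`, `Z` the reduced closure of `x`.
* `ideal_ptI`: on an affine open containing `x` the ideal of `Z` is the prime of `x`.
* `exists_linearMap_pushO`: linear maps out of sections of `i_* O_Z` over an affine open.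
* `mem_ass_iff_exists_mono` (= S4658): `x ∈ Ass F` iff `O_Z|_U` embeds into `F|_U` near `x`.
-/

set_option autoImplicit false
set_option linter.style.haveILetI false
universe u
open AlgebraicGeometry CategoryTheory Opposite TopologicalSpace Limits

namespace Groth.Agent.Lib.Helper21.AssClosureSheaf

open Groth.Agent.Lib.Helper78.ModStalk Groth.Agent.Lib.Helper78.ModStalkExact
  Groth.Agent.Lib.Helper21.AssTools Groth.Agent.Lib.Helper64.PushStalk

variable {X : Scheme.{u}}

/-- the ideal sheaf of the closure of a point -/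
noncomputable abbrev ptI (x : X) : X.IdealSheafData :=
  Scheme.IdealSheafData.vanishingIdeal ⟨closure {x}, isClosed_closure⟩

theorem isAssPoint_pushO [IsLocallyNoetherian X] (x : X) : Curv2.IsAssPoint (pushO (ptI x).subschemeι) x := by
  have hlen := Groth.Agent.Lib.Helper21.K0Dev.length_stalk_closureStructureSheaf x
  have hsimple : IsSimpleModule (X.presheaf.stalk x)
      ((pushO (ptI x).subschemeι).presheaf.stalk x) := Module.length_eq_one_iff.mp hlen
  haveI := hsimple.nontrivial
  obtain ⟨s, hs⟩ := exists_ne (0 : (pushO (ptI x).subschemeι).presheaf.stalk x)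
  have hmax := IsSimpleModule.ker_toSpanSingleton_isMaximal (X.presheaf.stalk x) hs
  have heq := IsLocalRing.eq_maximalIdeal hmax
  change IsAssociatedPrime _ _
  rw [isAssociatedPrime_iff]
  refine ⟨inferInstance, s, ?_⟩
  rw [← heq]
  ext r
  rw [LinearMap.mem_ker, LinearMap.toSpanSingleton_apply, Submodule.mem_colon_singleton,
    Submodule.mem_bot]

/-- `⇐` of S4658 -/
theorem mem_ass_of_mono [IsLocallyNoetherian X] (F : X.Modules) (x : X) (U : X.Opens) (hxU : x ∈ U)
    (φ : (Scheme.Modules.pullback U.ι).obj (pushO (ptI x).subschemeι) ⟶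
      (Scheme.Modules.pullback U.ι).obj F) [Mono φ] : x ∈ AssSch.Ass F := by
  let e := Scheme.Modules.restrictFunctorIsoPullback U.ι
  let ψ : (Scheme.Modules.restrictFunctor U.ι).obj (pushO (ptI x).subschemeι) ⟶
      (Scheme.Modules.restrictFunctor U.ι).obj F :=
    e.hom.app _ ≫ φ ≫ e.inv.app _
  haveI : Mono ψ := by
    haveI : Mono (φ ≫ e.inv.app F) := mono_comp _ _
    exact mono_comp _ _
  have h1 : (⟨x, hxU⟩ : (U : Scheme.{u})) ∈
      AssSch.Ass ((Scheme.Modules.restrictFunctor U.ι).obj (pushO (ptI x).subschemeι)) :=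
    (isAssPoint_restrict_iff U _ ⟨x, hxU⟩).mpr (isAssPoint_pushO x)
  exact (isAssPoint_restrict_iff U F ⟨x, hxU⟩).mp (ass_subset_of_mono ψ h1)

theorem ideal_ptI (x : X) {V : X.Opens} (hV : IsAffineOpen V) (hxV : x ∈ V) :
    (ptI x).ideal ⟨V, hV⟩ = (hV.primeIdealOf ⟨x, hxV⟩).asIdeal := by
  rw [Scheme.IdealSheafData.vanishingIdeal_ideal]
  have h0 := hV.fromSpec.isOpenEmbedding.isInducing.closure_eq_preimage_closure_image
    ({hV.primeIdealOf ⟨x, hxV⟩} : Set (Spec Γ(X, V)))
  have himg : hV.fromSpec '' ({hV.primeIdealOf ⟨x, hxV⟩} : Set (Spec Γ(X, V))) = {x} := by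
    have := Set.image_singleton (f := hV.fromSpec) (a := hV.primeIdealOf ⟨x, hxV⟩)
    rw [hV.fromSpec_primeIdealOf ⟨x, hxV⟩] at this
    exact this
  rw [himg] at h0
  have h3 : (hV.fromSpec ⁻¹' (closure {x}) : Set (PrimeSpectrum Γ(X, V))) =
      closure ({hV.primeIdealOf ⟨x, hxV⟩} : Set (PrimeSpectrum Γ(X, V))) := h0.symm
  change PrimeSpectrum.vanishingIdeal
    (hV.fromSpec ⁻¹' (closure {x}) : Set (PrimeSpectrum Γ(X, V))) = _
  rw [h3, PrimeSpectrum.vanishingIdeal_closure, PrimeSpectrum.vanishingIdeal_singleton]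

/-- the linear map `Γ(i_* O_Z, V) → Γ(F, V)` sending `1` to a section killed by the ideal. -/
theorem exists_linearMap_pushO {Z : Scheme.{u}} (i : Z ⟶ X) [IsClosedImmersion i] (F : X.Modules)
    {V : X.Opens} (hV : IsAffineOpen V) (σ : Γ(F, V))
    (hσ : ∀ a : Γ(X, V), a • σ = 0 ↔ (i.app V).hom a = 0) :
    ∃ φ : Γ(pushO i, V) →ₗ[Γ(X, V)] Γ(F, V), Function.Injective φ := by
  have hsurj : Function.Surjective (i.app V).hom := i.app_surjective V hV
  have hwd : ∀ a b : Γ(X, V), (i.app V).hom a = (i.app V).hom b → a • σ = b • σ := by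
    intro a b hab
    rw [← sub_eq_zero, ← sub_smul, hσ, map_sub, hab, sub_self]
  let f : Γ(pushO i, V) → Γ(F, V) := fun t => (Classical.choose (hsurj (toSec i t))) • σ
  have hf : ∀ (t : Γ(pushO i, V)) (a : Γ(X, V)), (i.app V).hom a = toSec i t → f t = a • σ := by
    intro t a ha
    exact hwd _ _ ((Classical.choose_spec (hsurj (toSec i t))).trans ha.symm)
  refine ⟨{ toFun := f, map_add' := ?_, map_smul' := ?_ }, ?_⟩
  · intro t t'
    obtain ⟨a, ha⟩ := hsurj (toSec i t)
    obtain ⟨b, hb⟩ := hsurj (toSec i t')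
    rw [hf t a ha, hf t' b hb, hf (t + t') (a + b) (by rw [map_add, ha, hb]; rfl), add_smul]
  · intro c t
    obtain ⟨a, ha⟩ := hsurj (toSec i t)
    rw [hf t a ha, RingHom.id_apply, hf (c • t) (c * a) (by rw [map_mul, ha]; rfl), mul_smul]
  · intro t t' htt'
    obtain ⟨a, ha⟩ := hsurj (toSec i t)
    obtain ⟨b, hb⟩ := hsurj (toSec i t')
    change f t = f t' at htt'
    rw [hf t a ha, hf t' b hb, ← sub_eq_zero, ← sub_smul, hσ, map_sub, sub_eq_zero, ha, hb] at htt'
    exact htt'

open Groth.Agent.Lib.Helper21.SpreadOut Groth.Agent.Lib.Helper29.QCohLoc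
  Groth.Agent.Lib.Helper21.GraphClosure in
/-- `⇒` of S4658 -/
theorem exists_mono_of_mem_ass [IsLocallyNoetherian X] (F : X.Modules) [F.IsQuasicoherent] (x : X)
    (hx : x ∈ AssSch.Ass F) :
    ∃ (U : X.Opens), x ∈ U ∧
      ∃ φ : (Scheme.Modules.pullback U.ι).obj (pushO (ptI x).subschemeι) ⟶
        (Scheme.Modules.pullback U.ι).obj F, Mono φ := by
  obtain ⟨V, hV, hxV, -⟩ := exists_isAffineOpen_mem_and_subset (U := (⊤ : X.Opens))
    (x := x) trivial
  have hloc : LocAt F V := LocAt.of_isQuasicoherent F hV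
  obtain ⟨σ, hσ⟩ := exists_section_ann_eq F hV hloc x hxV hx
  have hker : ∀ a : Γ(X, V), a • σ = 0 ↔ ((ptI x).subschemeι.app V).hom a = 0 := by
    intro a
    rw [← mem_ann, hσ, ← ideal_ptI x hV hxV, ← (ptI x).ker_subschemeι_app ⟨V, hV⟩,
      RingHom.mem_ker]
  obtain ⟨φ, hφ⟩ := exists_linearMap_pushO (ptI x).subschemeι F hV σ hker
  haveI : (pushO (ptI x).subschemeι).IsQuasicoherent :=
    (Groth.Agent.Lib.Helper21.ClImmDev.isCoh_pushO (ptI x).subschemeι).1
  have hkey : ∀ W : X.Opens, W ≤ V →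
      Function.Bijective ((q₁ hV (pushO (ptI x).subschemeι) F φ).app W) := by
    intro W hW
    have := isIso_p₁_app hV.fromSpec (pushO (ptI x).subschemeι) F
      (αOf hV (pushO (ptI x).subschemeι) F φ) W (by rwa [hV.opensRange_fromSpec])
    exact (ConcreteCategory.isIso_iff_bijective _).mp this
  have h1 : IsIso ((Scheme.Modules.restrictFunctor V.ι).map
      (q₁ hV (pushO (ptI x).subschemeι) F φ)) :=
    Groth.Agent.Lib.Helper21.RestrictIso.isIso_restrict_of_stalkMap_bijective _ V
      (fun y hy => stalkMap_q₁_bijective hV _ _ φ y hy)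
  have h2 : Function.Injective ((q₂ hV (pushO (ptI x).subschemeι) F φ).app V) := by
    intro a b hab
    rw [q₂_app_eq, q₂_app_eq] at hab
    exact (hkey V le_rfl).1 (hφ hab)
  haveI : (kernel (q₂ hV (pushO (ptI x).subschemeι) F φ)).IsQuasicoherent :=
    Groth.Agent.Lib.Helper21.QCohKernel.isQuasicoherent_kernel _
  have h3 : Subsingleton Γ(kernel (q₂ hV (pushO (ptI x).subschemeι) F φ), V) := by
    refine ⟨fun a b => ?_⟩
    apply Groth.Agent.Lib.Helper2.KerSec.app_kernelι_injective
      (q₂ hV (pushO (ptI x).subschemeι) F φ) V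
    apply h2
    have h0 : ∀ c, (q₂ hV (pushO (ptI x).subschemeι) F φ).app V
        ((kernel.ι (q₂ hV (pushO (ptI x).subschemeι) F φ)).app V c) = 0 := by
      intro c
      have : (kernel.ι (q₂ hV (pushO (ptI x).subschemeι) F φ) ≫
          q₂ hV (pushO (ptI x).subschemeι) F φ).app V c = 0 := by
        rw [kernel.condition]
        rfl
      exact this
    rw [h0 a, h0 b]
  have h4 : ∀ W : X.Opens, W ≤ V →
      Subsingleton Γ(kernel (q₂ hV (pushO (ptI x).subschemeι) F φ), W) := by
    intro W hW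
    refine ⟨fun a b => ?_⟩
    refine TopCat.Presheaf.section_ext ⟨(kernel (q₂ hV (pushO (ptI x).subschemeι) F φ)).presheaf,
      (kernel (q₂ hV (pushO (ptI x).subschemeι) F φ)).isSheaf⟩ W a b (fun y hy => ?_)
    haveI := Groth.Agent.Lib.Helper21.CohSupport.subsingleton_stalk_of_subsingleton_sections
      (kernel (q₂ hV (pushO (ptI x).subschemeι) F φ)) hV h3 y (hW hy)
    exact Subsingleton.elim _ _
  haveI h5 : Mono ((Scheme.Modules.restrictFunctor V.ι).map
      (q₂ hV (pushO (ptI x).subschemeι) F φ)) :=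
    Groth.Agent.Lib.Helper21.CohStalkLocal.mono_restrict_of_kernel_sections_subsingleton _ V h4
  let e := Scheme.Modules.restrictFunctorIsoPullback V.ι
  haveI := h1
  refine ⟨V, hxV, e.inv.app _ ≫ inv ((Scheme.Modules.restrictFunctor V.ι).map
      (q₁ hV (pushO (ptI x).subschemeι) F φ)) ≫ (Scheme.Modules.restrictFunctor V.ι).map
      (q₂ hV (pushO (ptI x).subschemeι) F φ) ≫ e.hom.app _, ?_⟩
  haveI m1 : Mono ((Scheme.Modules.restrictFunctor V.ι).map
      (q₂ hV (pushO (ptI x).subschemeι) F φ) ≫ e.hom.app F) := mono_comp _ _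
  haveI m2 : Mono (inv ((Scheme.Modules.restrictFunctor V.ι).map
      (q₁ hV (pushO (ptI x).subschemeι) F φ)) ≫ (Scheme.Modules.restrictFunctor V.ι).map
      (q₂ hV (pushO (ptI x).subschemeι) F φ) ≫ e.hom.app F) := mono_comp _ _
  exact mono_comp _ _

/-- **S4658.** -/
theorem mem_ass_iff_exists_mono [IsLocallyNoetherian X] (F : X.Modules) [F.IsQuasicoherent]
    (x : X) :
    x ∈ AssSch.Ass F ↔ ∃ (U : X.Opens), x ∈ U ∧
      ∃ φ : (Scheme.Modules.pullback U.ι).obj (pushO (ptI x).subschemeι) ⟶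
        (Scheme.Modules.pullback U.ι).obj F, Mono φ := by
  constructor
  · exact exists_mono_of_mem_ass F x
  · rintro ⟨U, hxU, φ, hφ⟩
    exact mem_ass_of_mono F x U hxU φ

end Groth.Agent.Lib.Helper21.AssClosureSheaf
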