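import Groth.Agent.Lib.Helper21.HomExtend

/-!
# Deligne's formula, surjectivity part (helper21)

`exists_pow_hom_extension`: for `G` coherent, `F` quasi-coherent on a Noetherian scheme, every
`φ : G|_U ⟶ F|_U` (`U = X ∖ V(I)`) extends to some `I^n G ⟶ F`.
-/

set_option autoImplicit false
set_option linter.style.haveILetI false
universe u
open AlgebraicGeometry CategoryTheory Opposite TopologicalSpace Limits

namespace Groth.Agent.Lib.Helper21.HomExtend

open Groth.Agent.Lib.Helper78.ModStalk Groth.Agent.Lib.Helper78.ModStalkExact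
  Groth.Agent.Lib.Helper21.CohStalkLocal Groth.Agent.Lib.Helper21.StalkLen
  Groth.Agent.Lib.Helper21.Devissage Groth.Agent.Lib.Helper21.StalkBiprod
  Groth.Agent.Lib.Helper21.RootStep Groth.Agent.Lib.Helper21.SubStep

variable {X : Scheme.{u}}

theorem notMem_support_pow (I : X.IdealSheafData) (n : ℕ) (x : X)
    (hx : x ∉ (I.support : Set X)) : x ∉ ((I ^ n).support : Set X) := by
  intro h
  apply hx
  cases n with
  | zero =>
    rw [pow_zero, AlgebraicGeometry.Scheme.IdealSheafData.one_eq_top,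
      AlgebraicGeometry.Scheme.IdealSheafData.support_top] at h
    exact absurd h (Set.notMem_empty _)
  | succ n =>
    rw [AlgebraicGeometry.Scheme.IdealSheafData.support_pow_succ] at h
    exact h

theorem exists_pow_hom_extension [IsNoetherian X] (F G : X.Modules)
    [F.IsQuasicoherent] (hG : Coh.IsCoh G) (I : X.IdealSheafData)
    (U : X.Opens) (hU : (U : Set X) = (I.support : Set X)ᶜ)
    (φ : (Scheme.Modules.restrictFunctor U.ι).obj G ⟶
      (Scheme.Modules.restrictFunctor U.ι).obj F) :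
    ∃ (n : ℕ) (ψ : (Dual3.idealMul (I ^ n)).obj G ⟶ F),
      (Scheme.Modules.restrictFunctor U.ι).map ψ =
        (Scheme.Modules.restrictFunctor U.ι).map (Dual3.idealMulι (I ^ n) G) ≫ φ := by
  haveI : G.IsQuasicoherent := hG.1
  let r := Scheme.Modules.restrictFunctor U.ι
  haveI : PreservesBinaryBiproducts r := preservesBinaryBiproducts_of_preservesBiproducts r
  let β : r.obj (G ⊞ F) ≅ r.obj G ⊞ r.obj F := r.mapBiprod G F
  let γ : r.obj G ⟶ r.obj (G ⊞ F) := biprod.lift (𝟙 _) φ ≫ β.inv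
  have hβ₁ : β.inv ≫ r.map biprod.fst = biprod.fst := by
    rw [Iso.inv_comp_eq]
    exact (biprod.lift_fst _ _).symm
  have hβ₂ : β.inv ≫ r.map biprod.snd = biprod.snd := by
    rw [Iso.inv_comp_eq]
    exact (biprod.lift_snd _ _).symm
  have hγ₁ : γ ≫ r.map biprod.fst = 𝟙 _ := by
    change (biprod.lift (𝟙 _) φ ≫ β.inv) ≫ r.map biprod.fst = 𝟙 _
    rw [Category.assoc, hβ₁]
    exact biprod.lift_fst _ _
  have hγ₂ : γ ≫ r.map biprod.snd = φ := by
    change (biprod.lift (𝟙 _) φ ≫ β.inv) ≫ r.map biprod.snd = φ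
    rw [Category.assoc, hβ₂]
    exact biprod.lift_snd _ _
  haveI : Mono γ := mono_of_mono_fac hγ₁
  haveI : (G ⊞ F).IsQuasicoherent := Groth.Agent.Lib.Helper2.KerSec.isQuasicoherent_biprod G F
  haveI : (r.obj G).IsQuasicoherent := inferInstanceAs
    ((Scheme.Modules.restrictFunctor U.ι).obj G).IsQuasicoherent
  have hft := isFiniteType_restrict U G hG.2
  obtain ⟨G', i', e, hmono, hG', hcompat⟩ :=
    Groth.Agent.Lib.Helper21.CohExtend.exists_coh_extension U (G ⊞ F) (r.obj G) γ hft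
  haveI := hG'.1
  let q₁ : G' ⟶ G := i' ≫ biprod.fst
  let q₂ : G' ⟶ F := i' ≫ biprod.snd
  have h1 : r.map q₁ = e.hom := by
    change r.map (i' ≫ biprod.fst) = e.hom
    rw [Functor.map_comp]
    change (Scheme.Modules.restrictFunctor U.ι).map i' ≫ _ = _
    rw [← hcompat, Category.assoc, hγ₁, Category.comp_id]
  have h2 : r.map q₂ = r.map q₁ ≫ φ := by
    rw [h1]
    change r.map (i' ≫ biprod.snd) = _
    rw [Functor.map_comp]
    change (Scheme.Modules.restrictFunctor U.ι).map i' ≫ _ = _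
    rw [← hcompat, Category.assoc, hγ₂]
  have hiso : IsIso (r.map q₁) := by rw [h1]; infer_instance
  have hbij : ∀ x : X, x ∈ U → Function.Bijective (stalkMap q₁ x) :=
    fun x hx => stalkMap_bijective_of_isIso_restrict q₁ U hiso x hx
  have hmemU : ∀ x : X, x ∉ (I.support : Set X) → x ∈ U := by
    intro x hx
    rw [← SetLike.mem_coe, hU]
    exact hx
  have hKs : CohB1.support (kernel q₁) ⊆ (I.support : Set X) := by
    intro x hx
    by_contra hxI
    exact hx (subsingleton_stalk_kernel q₁ x (hbij x (hmemU x hxI)).1)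
  obtain ⟨N, hN⟩ := exists_pow_mono hG' q₁ I hKs
  haveI hm : Mono (Dual3.idealMulι (I ^ N) G' ≫ q₁) := hN _ le_rfl
  have hS : Coh.IsCoh ((Dual3.idealMul (I ^ N)).obj G') :=
    ⟨inferInstance, Groth.Agent.Lib.Helper21.CohNoeth.isFiniteType_of_mono
      (Dual3.idealMulι (I ^ N) G') hG'.2⟩
  have hsupp : CohB1.support (cokernel (Dual3.idealMulι (I ^ N) G' ≫ q₁)) ⊆
      (I.support : Set X) := by
    intro x hx
    by_contra hxI
    apply hx
    refine subsingleton_stalk_cokernel _ x ?_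
    rw [stalkMap_comp]
    exact (hbij x (hmemU x hxI)).2.comp
      (stalkMap_idealMulι_bijective (I ^ N) G' x (notMem_support_pow I N x hxI)).2
  obtain ⟨k, l, hl⟩ := Groth.Agent.Lib.Helper21.PowFactor.exists_pow_factor hS hG
    (Dual3.idealMulι (I ^ N) G' ≫ q₁) I hsupp
  refine ⟨k, l ≫ Dual3.idealMulι (I ^ N) G' ≫ q₂, ?_⟩
  change r.map (l ≫ Dual3.idealMulι (I ^ N) G' ≫ q₂) = r.map (Dual3.idealMulι (I ^ k) G) ≫ φ
  rw [← hl]
  simp only [Functor.map_comp, Category.assoc]
  rw [h2]

end Groth.Agent.Lib.Helper21.HomExtend
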