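import Groth.Agent.Lib.Helper21.ReflexiveFree
import Groth.Agent.Lib.Helper22.DedekindFree
import Groth.Agent.Lib.Helper2.FinLocFreeAff

/-!
# Reflexive coherent modules on regular schemes of dimension `≤ 2` (helper21)
-/

set_option autoImplicit false
set_option linter.style.haveILetI false
universe u
open CategoryTheory CategoryTheory.Limits AlgebraicGeometry TopologicalSpace

namespace Groth.Agent.Lib.Helper21.ReflexiveFreeSch

open Groth.Agent.Lib.Lead.QCohAff Groth.Agent.Lib.Helper2.FinTypeAff
  Groth.Agent.Lib.Helper22.FibreFree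

variable {X : Scheme.{u}}

/-- stalks of a coherent module on a locally Noetherian scheme are finite -/
theorem finite_stalk_of_isCoh [IsLocallyNoetherian X] (F : X.Modules) (hF : Coh.IsCoh F) (x : X) :
    Module.Finite (X.presheaf.stalk x) (F.presheaf.stalk x) := by
  haveI : F.IsQuasicoherent := hF.1
  haveI : SheafOfModules.IsFiniteType (R := X.ringCatSheaf) F := hF.2
  obtain ⟨U, hU, hxU, -⟩ := exists_isAffineOpen_mem_and_subset (U := (⊤ : X.Opens))
    (x := x) trivial
  haveI hfin : Module.Finite Γ(X, U) Γ(F, U) := finite_sections F hU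
  letI alg : Algebra Γ(X, U) (X.presheaf.stalk x) := X.presheaf.algebra_section_stalk ⟨x, hxU⟩
  haveI loc := hU.isLocalization_stalk ⟨x, hxU⟩
  haveI t1 : IsScalarTower Γ(X, U) (X.presheaf.stalk x) (StalkOver F U x hxU) :=
    IsScalarTower.of_algebraMap_smul fun r m => rfl
  haveI h3 : Module.Finite (X.presheaf.stalk x) (StalkOver F U x hxU) :=
    Module.Finite.of_isLocalizedModule (hU.primeIdealOf ⟨x, hxU⟩).asIdeal.primeCompl
      (germL F U x hxU)
  exact h3

/-- a coherent module with free stalks on a locally Noetherian scheme is finite locally free -/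
theorem isFinLocFree_of_free_stalks [IsLocallyNoetherian X] (F : X.Modules) (hF : Coh.IsCoh F)
    (h : ∀ x : X, Module.Free (X.presheaf.stalk x) (F.presheaf.stalk x)) :
    FlatMod.IsFinLocFree F := by
  haveI : F.IsQuasicoherent := hF.1
  haveI : SheafOfModules.IsFiniteType (R := X.ringCatSheaf) F := hF.2
  intro x
  obtain ⟨U, hU, hxU, -⟩ := exists_isAffineOpen_mem_and_subset (U := (⊤ : X.Opens))
    (x := x) trivial
  haveI : IsNoetherianRing Γ(X, U) := IsLocallyNoetherian.component_noetherian ⟨U, hU⟩
  haveI hfin : Module.Finite Γ(X, U) Γ(F, U) := finite_sections F hU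
  haveI : Module.FinitePresentation Γ(X, U) Γ(F, U) := Module.finitePresentation_of_finite _ _
  exact exists_open_iso_freeMod_of_stalk_free' F hU x hxU (h x)

/-- On a locally Noetherian scheme of dimension `≤ 2` with regular local rings, a coherent module
is stalkwise reflexive iff it is finite locally free. -/
theorem isReflexive_iff_isFinLocFree [IsLocallyNoetherian X]
    (hreg : ∀ x : X, IsRegularLocalRing (X.presheaf.stalk x))
    (hdim : topologicalKrullDim X ≤ 2) (F : X.Modules) (hF : Coh.IsCoh F) :
    (∀ x : X, Module.IsReflexive (X.presheaf.stalk x) (F.presheaf.stalk x)) ↔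
      FlatMod.IsFinLocFree F := by
  haveI : F.IsQuasicoherent := hF.1
  constructor
  · intro hrefl
    apply isFinLocFree_of_free_stalks F hF
    intro x
    haveI := hreg x
    haveI := hrefl x
    haveI := finite_stalk_of_isCoh F hF x
    exact Groth.Agent.Lib.Helper21.ReflexiveFree.free_of_isReflexive_of_regular_of_dim_le_two _
      ((Groth.Agent.Lib.Helper22.DedekindFree.ringKrullDim_stalk_le X x).trans hdim) _
  · intro hlf x
    haveI := finite_stalk_of_isCoh F hF x
    haveI := Groth.Agent.Lib.Helper2.FinLocFreeAff.free_stalk_of_isFinLocFree F hlf x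
    infer_instance

end Groth.Agent.Lib.Helper21.ReflexiveFreeSch
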