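import Groth.Agent.Lib.Helper21.SubStep

/-!
# Factoring `I^k · G ⟶ G` through subobjects which agree with `G` off `V(I)` (helper21)

* `stalkMap_eq_zero_of_restrict_eq_zero`
* `stalkMap_kernelι_surjective_of_zero`
* `exists_pow_factor`: if `m : S ⟶ G` is a mono of coherent modules with cokernel supported in
  `V(I)`, then `I^k · G ⟶ G` factors through `m` for some `k`.
-/

set_option autoImplicit false
set_option linter.style.haveILetI false
universe u
open AlgebraicGeometry CategoryTheory Opposite TopologicalSpace Limits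

namespace Groth.Agent.Lib.Helper21.PowFactor

open Groth.Agent.Lib.Helper78.ModStalk Groth.Agent.Lib.Helper78.ModStalkExact
  Groth.Agent.Lib.Helper21.CohStalkLocal Groth.Agent.Lib.Helper21.StalkLen
  Groth.Agent.Lib.Helper21.Devissage Groth.Agent.Lib.Helper21.StalkBiprod
  Groth.Agent.Lib.Helper21.RootStep Groth.Agent.Lib.Helper21.SubStep

variable {X : Scheme.{u}}

theorem stalkMap_eq_zero_of_restrict_eq_zero {M N : X.Modules} (ψ : M ⟶ N) (U : X.Opens)
    (h : (Scheme.Modules.restrictFunctor U.ι).map ψ = 0) (x : X) (hx : x ∈ U)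
    (a : M.presheaf.stalk x) : stalkMap ψ x a = 0 := by
  obtain ⟨W, hxW, s, rfl⟩ := M.presheaf.exists_germ_eq (x := x) a
  have hle : U.ι ''ᵁ (U.ι ⁻¹ᵁ W) ≤ W := by
    rintro _ ⟨z, hz, rfl⟩
    exact hz
  have hxW' : x ∈ U.ι ''ᵁ (U.ι ⁻¹ᵁ W) := ⟨⟨x, hx⟩, hxW, rfl⟩
  rw [← TopCat.Presheaf.germ_res_apply M.presheaf (homOfLE hle) x hxW' s, stalkMap_germ]
  have h0 : ψ.app (U.ι ''ᵁ (U.ι ⁻¹ᵁ W)) (M.presheaf.map (homOfLE hle).op s) = 0 := by
    have h1 := congr(Scheme.Modules.Hom.app $h (U.ι ⁻¹ᵁ W))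
    exact congr($h1 (M.presheaf.map (homOfLE hle).op s))
  rw [h0, map_zero]

theorem stalkMap_kernelι_surjective_of_zero {M N : X.Modules} (ψ : M ⟶ N) (x : X)
    (h : ∀ a, stalkMap ψ x a = 0) : Function.Surjective (stalkMap (kernel.ι ψ) x) := by
  have hex := stalk_function_exact (kerSeq ψ) (kerSeq_shortExact ψ) x
  intro a
  refine (hex a).mp ?_
  have hfac : cokernel.π (kernel.ι ψ) ≫ (coimIsoIm ψ).hom ≫ kernel.ι (cokernel.π ψ) = ψ :=
    Abelian.coimage_image_factorisation ψ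
  have hmk : Mono (kernel.ι (cokernel.π ψ)) := inferInstance
  haveI : Mono ((coimIsoIm ψ).hom ≫ kernel.ι (cokernel.π ψ)) :=
    @mono_comp _ _ _ _ _ (coimIsoIm ψ).hom inferInstance (kernel.ι (cokernel.π ψ)) hmk
  apply stalkMap_injective_of_mono ((coimIsoIm ψ).hom ≫ kernel.ι (cokernel.π ψ)) x
  rw [map_zero]
  have h1 : stalkMap (cokernel.π (kernel.ι ψ) ≫ (coimIsoIm ψ).hom ≫ kernel.ι (cokernel.π ψ)) x a
      = 0 := by
    rw [hfac]
    exact h a
  rw [stalkMap_comp] at h1
  exact h1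

open Groth.Agent.Lib.Helper21.IdealMulSec Groth.Agent.Lib.Lead.CohAff
  Groth.Agent.Lib.Helper21.QCohSections in
/-- If `m : S ⟶ G` is a monomorphism of coherent modules whose cokernel is supported in `V(I)`, then
`I^k · G ⟶ G` factors through `m` for some `k`. -/
theorem exists_pow_factor [IsNoetherian X] {S G : X.Modules} (hS : Coh.IsCoh S)
    (hG : Coh.IsCoh G) (m : S ⟶ G) [Mono m] (I : X.IdealSheafData)
    (hsupp : CohB1.support (cokernel m) ⊆ (I.support : Set X)) :
    ∃ (k : ℕ) (l : (Dual3.idealMul (I ^ k)).obj G ⟶ S), l ≫ m = Dual3.idealMulι (I ^ k) G := by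
  haveI : G.IsQuasicoherent := hG.1
  have hC : Coh.IsCoh (cokernel m) := isCoh_cokernel m hS hG
  haveI : (cokernel m).IsQuasicoherent := hC.1
  have hnoeth : ∀ U : X.affineOpens, IsNoetherianRing Γ(X, U.1) :=
    fun U => IsLocallyNoetherian.component_noetherian U
  obtain ⟨k, hk0, hk⟩ := Groth.Agent.Lib.Helper21.CohKill.exists_pow_killed (cokernel m) hC.2 I
    (fun U => by haveI := hnoeth U; exact IsNoetherian.noetherian _) hsupp
  have hzero : Dual3.idealMulι (I ^ k) G ≫ cokernel.π m = 0 := by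
    refine eq_zero_of_forall_affine _ (fun U hU s => ?_)
    have h1 : (Dual3.idealMulι (I ^ k) G).app U s ∈
        (I ^ k).ideal ⟨U, hU⟩ • (⊤ : Submodule Γ(X, U) Γ(G, U)) :=
      (mem_range_idealMulι_app_iff (I ^ k) G hU _).mp ⟨_, rfl⟩
    have h2 : ∀ a ∈ (I ^ k).ideal ⟨U, hU⟩ • (⊤ : Submodule Γ(X, U) Γ(G, U)),
        (cokernel.π m).app U a = 0 := by
      intro a ha
      refine Submodule.smul_induction_on ha ?_ ?_
      · intro r hr g _
        rw [Scheme.Modules.Hom.app_smul]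
        exact hk ⟨U, hU⟩ r hr _
      · intro x y hx hy
        rw [map_add, hx, hy, add_zero]
    exact h2 _ h1
  have hlim : IsLimit (KernelFork.ofι m (cokernel.condition m)) :=
    Abelian.monoIsKernelOfCokernel _ (colimit.isColimit _)
  obtain ⟨l, hl⟩ := KernelFork.IsLimit.lift' hlim (Dual3.idealMulι (I ^ k) G) hzero
  exact ⟨k, l, hl⟩

end Groth.Agent.Lib.Helper21.PowFactor
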