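import Groth.Agent.Lib.Helper21.CohExtend
import Groth.Agent.Lib.Helper21.PowFactor
import Groth.Agent.Lib.Helper21.ArtinReesS
import Groth.Agent.Lib.Helper21.CohPullback

/-!
# Extending morphisms from the complement of `V(I)` after multiplying by a power of `I` (helper21)

* `app_bijective_of_isIso_restrict`, `stalkMap_bijective_of_isIso_restrict`.
* `exists_pow_mono`: Artin–Rees: if the kernel of `p : A ⟶ T` (`A` coherent) is supported in `V(I)`,
  then `I^N A ⟶ A ⟶ T` is a monomorphism for some `N`.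
* `isFiniteType_restrict`.
* `exists_pow_hom_extension`: Deligne's formula, surjectivity part: for `G` coherent, `F`
  quasi-coherent on a Noetherian scheme, every `φ : G|_U ⟶ F|_U` (`U = X ∖ V(I)`) extends to some
  `I^n G ⟶ F`.
-/

set_option autoImplicit false
set_option linter.style.haveILetI false
universe u
open AlgebraicGeometry CategoryTheory Opposite TopologicalSpace Limits

namespace Groth.Agent.Lib.Helper21.HomExtend

open Groth.Agent.Lib.Helper78.ModStalk Groth.Agent.Lib.Helper78.ModStalkExact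
  Groth.Agent.Lib.Helper21.CohStalkLocal Groth.Agent.Lib.Helper21.StalkLen
  Groth.Agent.Lib.Helper21.Devissage Groth.Agent.Lib.Helper21.StalkBiprod
  Groth.Agent.Lib.Helper21.RootStep Groth.Agent.Lib.Helper21.SubStep

variable {X : Scheme.{u}}

theorem app_bijective_of_isIso_restrict {M N : X.Modules} (ψ : M ⟶ N) (U : X.Opens)
    (h : IsIso ((Scheme.Modules.restrictFunctor U.ι).map ψ)) (W : X.Opens) (hW : W ≤ U) :
    Function.Bijective (ψ.app W) := by
  obtain ⟨V, rfl⟩ : ∃ V : (U : Scheme.{u}).Opens, W = U.ι ''ᵁ V := ⟨U.ι ⁻¹ᵁ W, by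
    rw [Scheme.Hom.image_preimage_eq_opensRange_inf, Scheme.Opens.opensRange_ι]
    exact (inf_eq_right.mpr hW).symm⟩
  let r := Scheme.Modules.restrictFunctor U.ι
  have h1 : (r.map ψ ≫ inv (r.map ψ)) = 𝟙 _ := IsIso.hom_inv_id _
  have h2 : (inv (r.map ψ) ≫ r.map ψ) = 𝟙 _ := IsIso.inv_hom_id _
  rw [Function.bijective_iff_has_inverse]
  refine ⟨fun t => (inv (r.map ψ)).app V t, fun s => ?_, fun t => ?_⟩
  · have := congr(Scheme.Modules.Hom.app $h1 V)
    exact congr($this s)
  · have := congr(Scheme.Modules.Hom.app $h2 V)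
    exact congr($this t)

theorem stalkMap_bijective_of_isIso_restrict {M N : X.Modules} (ψ : M ⟶ N) (U : X.Opens)
    (h : IsIso ((Scheme.Modules.restrictFunctor U.ι).map ψ)) (x : X) (hx : x ∈ U) :
    Function.Bijective (stalkMap ψ x) :=
  ⟨Groth.Agent.Lib.Helper21.CohSplit.stalkMap_injective_of_app_injective_of_le ψ U
      (fun W hW => (app_bijective_of_isIso_restrict ψ U h W hW).1) x hx,
    Groth.Agent.Lib.Helper21.SpreadOut.stalkMap_surjective_of_app_surjective_of_le ψ U
      (fun W hW => (app_bijective_of_isIso_restrict ψ U h W hW).2) x hx⟩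

theorem isFiniteType_restrict [IsLocallyNoetherian X] (U : X.Opens) (G : X.Modules)
    [G.IsQuasicoherent] (hG : SheafOfModules.IsFiniteType (R := X.ringCatSheaf) G) :
    SheafOfModules.IsFiniteType (R := (U : Scheme.{u}).ringCatSheaf)
      ((Scheme.Modules.restrictFunctor U.ι).obj G) := by
  have h1 := Groth.Agent.Lib.Helper21.CohPullback.isFiniteType_pullback U.ι G hG
  let e : (Scheme.Modules.restrictFunctor U.ι).obj G ≅ (Scheme.Modules.pullback U.ι).obj G :=
    (Scheme.Modules.restrictFunctorIsoPullback U.ι).app G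
  exact Groth.Agent.Lib.Helper21.CohNoeth.isFiniteType_of_epi e.inv h1

open Groth.Agent.Lib.Helper21.ArtinReesS Groth.Agent.Lib.Helper2.KerSec
  Groth.Agent.Lib.Helper21.IdealMulSec Groth.Agent.Lib.Lead.CohAff
  Groth.Agent.Lib.Helper21.QCohSections in
/-- **Artin–Rees**: if the kernel of `p : A ⟶ T` is supported in `V(I)`, then for `N` large the
composite `I^N A ⟶ A ⟶ T` is a monomorphism. -/
theorem exists_pow_mono [IsNoetherian X] {A T : X.Modules} (hA : Coh.IsCoh A)
    [T.IsQuasicoherent] (p : A ⟶ T) (I : X.IdealSheafData)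
    (hsupp : CohB1.support (kernel p) ⊆ (I.support : Set X)) :
    ∃ N : ℕ, ∀ J' : X.IdealSheafData, J' ≤ I ^ N → Mono (Dual3.idealMulι J' A ≫ p) := by
  haveI : A.IsQuasicoherent := hA.1
  haveI hNq : (kernel p).IsQuasicoherent := isQuasicoherent_kernel p
  have hNcoh : Coh.IsCoh (kernel p) :=
    ⟨hNq, Groth.Agent.Lib.Helper21.CohNoeth.isFiniteType_of_mono (kernel.ι p) hA.2⟩
  have hNft := hNcoh.2
  have hnoeth : ∀ U : X.affineOpens, IsNoetherianRing Γ(X, U.1) :=
    fun U => IsLocallyNoetherian.component_noetherian U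
  obtain ⟨k, hk0, hk⟩ := Groth.Agent.Lib.Helper21.CohKill.exists_pow_killed (kernel p) hNft I
    (fun U => by haveI := hnoeth U; exact IsNoetherian.noetherian _) hsupp
  obtain ⟨t, ht⟩ := isCompact_univ.elim_finite_subcover (fun U : X.affineOpens => (U.1 : Set X))
    (fun U => U.1.2) (by
      intro x _
      obtain ⟨_, ⟨V, hV, rfl⟩, hxV, -⟩ :=
        X.isBasis_affineOpens.exists_subset_of_mem_open (Set.mem_univ x) isOpen_univ
      exact Set.mem_iUnion.mpr ⟨⟨V, hV⟩, hxV⟩)
  have hAR : ∀ U : X.affineOpens, ∃ c : ℕ, ∀ n : ℕ, c < n →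
      (I.ideal U ^ k) ^ n • (⊤ : Submodule Γ(X, U.1) Γ(A, U.1)) ⊓
        LinearMap.ker (appL p U.1) = ⊥ := by
    intro U
    haveI := hnoeth U
    haveI : Module.Finite Γ(X, U.1) Γ(A, U.1) := finite_sections_of_isFiniteType A hA.2 U.2
    refine exists_pow_smul_inf_eq_bot (I.ideal U ^ k) _ ?_
    intro a ha m hm
    obtain ⟨s, rfl⟩ := exists_of_app_eq_zero p U.1 m hm
    rw [← Scheme.Modules.Hom.app_smul, hk U a ha s, map_zero]
  choose c hc using hAR
  refine ⟨k * (t.sup c + 1), ?_⟩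
  intro J' hJ'
  rw [pow_mul] at hJ'
  have hz : IsZero (kernel (Dual3.idealMulι J' A ≫ p)) := by
    haveI : (kernel (Dual3.idealMulι J' A ≫ p)).IsQuasicoherent :=
      isQuasicoherent_kernel _
    refine Groth.Agent.Lib.Helper21.Devissage.isZero_of_support_eq_empty _
      (Set.eq_empty_iff_forall_notMem.mpr fun x hx => hx ?_)
    have hxt : x ∈ ⋃ i ∈ t, ((i : X.affineOpens).1 : Set X) := ht (Set.mem_univ x)
    simp only [Set.mem_iUnion] at hxt
    obtain ⟨U, hUt, hxU⟩ := hxt
    refine Groth.Agent.Lib.Helper21.CohSupport.subsingleton_stalk_of_subsingleton_sections _ U.2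
      ?_ x hxU
    suffices h0 : ∀ s : Γ(kernel (Dual3.idealMulι J' A ≫ p), U.1), s = 0 from
      ⟨fun s s' => by rw [h0 s, h0 s']⟩
    intro s
    apply app_kernelι_injective (Dual3.idealMulι J' A ≫ p) U.1
    apply idealMulι_app_injective J' A U.1
    rw [map_zero, map_zero]
    have h1 : (Dual3.idealMulι J' A).app U.1 ((kernel.ι (Dual3.idealMulι J' A ≫ p)).app U.1 s) ∈
        J'.ideal U • (⊤ : Submodule Γ(X, U.1) Γ(A, U.1)) :=
      (mem_range_idealMulι_app_iff J' A U.2 _).mp ⟨_, rfl⟩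
    have h2 : p.app U.1 ((Dual3.idealMulι J' A).app U.1
        ((kernel.ι (Dual3.idealMulι J' A ≫ p)).app U.1 s)) = 0 :=
      app_kernelι_comp (Dual3.idealMulι J' A ≫ p) U.1 s
    have hJU : J'.ideal U ≤ (I.ideal U ^ k) ^ (t.sup c + 1) := by
      have := hJ' U
      rwa [Scheme.IdealSheafData.ideal_pow, Scheme.IdealSheafData.ideal_pow] at this
    have h3 : (Dual3.idealMulι J' A).app U.1 ((kernel.ι (Dual3.idealMulι J' A ≫ p)).app U.1 s) ∈
        (I.ideal U ^ k) ^ (t.sup c + 1) • (⊤ : Submodule Γ(X, U.1) Γ(A, U.1)) ⊓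
          LinearMap.ker (appL p U.1) :=
      ⟨Submodule.smul_mono_left hJU h1, h2⟩
    rw [hc U _ (Nat.lt_succ_of_le (Finset.le_sup hUt))] at h3
    exact h3
  exact Preadditive.mono_of_kernel_zero (hz.eq_of_src _ _)

end Groth.Agent.Lib.Helper21.HomExtend
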