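import Groth.Agent.Lib.Helper21.FiltColimSec
import Groth.Agent.Lib.Helper78.ModStalk
import Mathlib.Topology.Sheaves.SheafCondition.Sites
import Mathlib.Topology.Sheaves.Stalks

set_option autoImplicit false
set_option linter.style.haveILetI false
universe u

open AlgebraicGeometry CategoryTheory Opposite TopologicalSpace Limits

namespace Groth.Agent.Lib.Helper21.ModBasis

open Groth.Agent.Lib.Helper21.FiltColimSec

variable {X : Scheme.{u}}

/-- Restriction of sections of a module. -/
noncomputable abbrev res (F : X.Modules) {U V : X.Opens} (h : U ≤ V) : Γ(F, V) ⟶ Γ(F, U) :=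
  F.presheaf.map (homOfLE h).op

theorem res_res (F : X.Modules) {U V W : X.Opens} (h : U ≤ V) (h' : V ≤ W) (s : Γ(F, W)) :
    res F h (res F h' s) = res F (h.trans h') s := by
  change (F.presheaf.map (homOfLE h').op ≫ F.presheaf.map (homOfLE h).op) s = _
  rw [← F.presheaf.map_comp]
  rfl

theorem res_self (F : X.Modules) {U : X.Opens} (h : U ≤ U) (s : Γ(F, U)) : res F h s = s := by
  change F.presheaf.map (𝟙 (op U)) s = s
  rw [F.presheaf.map_id]
  rfl

theorem map_eq_res (F : X.Modules) {U V : X.Opens} (i : U ⟶ V) :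
    F.presheaf.map i.op = res F (leOfHom i) := rfl

theorem app_res {M N : X.Modules} (φ : M ⟶ N) {U V : X.Opens} (h : U ≤ V) (s : Γ(M, V)) :
    φ.app U (res M h s) = res N h (φ.app V s) :=
  congr($(φ.mapPresheaf.naturality (homOfLE h).op) s)

/-- Two sections agreeing on compact opens are equal. -/
theorem section_ext_compact (F : X.Modules) {U : X.Opens} (s t : Γ(F, U))
    (h : ∀ (V : X.Opens) (hV : V ≤ U), IsCompact (V : Set X) → res F hV s = res F hV t) :
    s = t := by
  apply TopCat.Presheaf.IsSheaf.section_ext F.isSheaf (U := op U)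
  intro x hx
  obtain ⟨_, ⟨W, hW, rfl⟩, hxW, hle⟩ :=
    X.isBasis_affineOpens.exists_subset_of_mem_open hx U.2
  have hle' : W ≤ U := hle
  exact ⟨W, hle', hxW, h W hle' hW.isCompact⟩

/-- The compact opens form a basis. -/
theorem isBasis_compactOpens (X : Scheme.{u}) :
    Opens.IsBasis (Set.range (fun V : compactOpens X => (V : X.Opens))) := by
  rw [Opens.isBasis_iff_nbhd]
  intro U x hx
  obtain ⟨_, ⟨W, hW, rfl⟩, hxW, hle⟩ :=
    X.isBasis_affineOpens.exists_subset_of_mem_open hx U.2
  exact ⟨W, ⟨⟨W, hW.isCompact⟩, rfl⟩, hxW, hle⟩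

/-- A morphism injective on sections over compact opens is a monomorphism. -/
theorem app_injective_of_compact {M N : X.Modules} (φ : M ⟶ N)
    (h : ∀ V : X.Opens, IsCompact (V : Set X) → Function.Injective (φ.app V)) (U : X.Opens) :
    Function.Injective (φ.app U) := by
  rw [injective_iff_map_eq_zero]
  intro s hs
  apply section_ext_compact
  intro V hV hc
  apply h V hc
  rw [app_res, hs, map_zero, map_zero, map_zero]

theorem mono_of_injective_compact {M N : X.Modules} (φ : M ⟶ N)
    (h : ∀ V : X.Opens, IsCompact (V : Set X) → Function.Injective (φ.app V)) : Mono φ := by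
  apply (Scheme.Modules.toPresheaf X).mono_of_mono_map
  rw [NatTrans.mono_iff_mono_app]
  intro U
  rw [AddCommGrpCat.mono_iff_injective]
  exact app_injective_of_compact φ h U.unop

/-- A morphism bijective on sections over compact opens is an isomorphism. -/
theorem isIso_of_bijective_compact {M N : X.Modules} (φ : M ⟶ N)
    (h : ∀ V : X.Opens, IsCompact (V : Set X) → Function.Bijective (φ.app V)) : IsIso φ := by
  have h1 : IsIso ((Scheme.Modules.toPresheaf X).map φ) := by
    let F : TopCat.Sheaf Ab X := ⟨M.presheaf, M.isSheaf⟩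
    let G : TopCat.Sheaf Ab X := ⟨N.presheaf, N.isSheaf⟩
    let f : F ⟶ G := ⟨(Scheme.Modules.toPresheaf X).map φ⟩
    have hf : IsIso f := by
      refine TopCat.Sheaf.isIso_iff_isIso_basis (B := fun V : compactOpens X => (V : X.Opens))
        (isBasis_compactOpens X) (fun V => ?_)
      exact (ConcreteCategory.isIso_iff_bijective _).2 (h V.1 V.2)
    exact (TopCat.Sheaf.forget Ab X).map_isIso f
  exact isIso_of_reflects_iso φ (Scheme.Modules.toPresheaf X)

/-- Two morphisms agreeing on sections over compact opens are equal. -/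
theorem hom_ext_compact {M N : X.Modules} (φ ψ : M ⟶ N)
    (h : ∀ (V : X.Opens), IsCompact (V : Set X) → ∀ s : Γ(M, V), φ.app V s = ψ.app V s) :
    φ = ψ := by
  ext U s
  apply section_ext_compact
  intro V hV hc
  rw [← app_res, ← app_res, h V hc]

theorem bijective_app_of_isIso {M N : X.Modules} (φ : M ⟶ N) [IsIso φ] (U : X.Opens) :
    Function.Bijective (φ.app U) := by
  have : IsIso (φ.app U) := (Scheme.Modules.Hom.isIso_iff_isIso_app.mp inferInstance) U
  exact (ConcreteCategory.isIso_iff_bijective _).1 this

end Groth.Agent.Lib.Helper21.ModBasis
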