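import Groth.Agent.Lib.Helper21.FlatCech
import Groth.Agent.Lib.Helper21.ModBasis
import Groth.Agent.Lib.Helper29.QCohLoc

/-!
# Sections over a finite union of basic opens: the Čech-type conditions

For a module `M` with the localisation property on an affine open `U` and a finite family
`a : ι → Γ(X, U)` with `U₀ = ⨆ D(aᵢ)`, bijectivity of `M(U) → M(U₀)` is equivalent to the
elementwise conditions `InjCond a Γ(M, U)` and `SurjCond a Γ(M, U)`.
-/

set_option autoImplicit false
set_option linter.style.haveILetI false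
universe u

open AlgebraicGeometry CategoryTheory Opposite TopologicalSpace

namespace Groth.Agent.Lib.Helper21.CechCond

open Groth.Agent.Lib.Helper21.ModBasis Groth.Agent.Lib.Helper21.FlatCech
open Groth.Agent.Lib.Helper29.QCohLoc (LocAt)

variable {X : Scheme.{u}}

/-- Restriction of functions. -/
noncomputable abbrev resX {V U : X.Opens} (h : V ≤ U) : Γ(X, U) →+* Γ(X, V) :=
  (X.presheaf.map (homOfLE h).op).hom

theorem res_smul' (M : X.Modules) {V U : X.Opens} (h : V ≤ U) (r : Γ(X, U)) (s : Γ(M, U)) :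
    res M h (r • s) = resX h r • res M h s :=
  Groth.Agent.Lib.Helper29.QCohLoc.res_smul M h r s

theorem resX_resX {W V U : X.Opens} (h : W ≤ V) (h' : V ≤ U) (r : Γ(X, U)) :
    resX h (resX h' r) = resX (h.trans h') r :=
  Groth.Agent.Lib.Helper29.QCohLoc.res_resX h' h r

theorem isUnit_resX {U W : X.Opens} (a : Γ(X, U)) (hW : W ≤ X.basicOpen a) :
    IsUnit (resX (hW.trans (X.basicOpen_le a)) a) := by
  have h1 : IsUnit (resX (X.basicOpen_le a) a) := X.toRingedSpace.isUnit_res_basicOpen a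
  have h2 := h1.map (resX hW)
  rwa [resX_resX] at h2

theorem res_pow_smul (M : X.Modules) {V U : X.Opens} (h : V ≤ U) (r : Γ(X, U)) (n : ℕ)
    (s : Γ(M, U)) : res M h (r ^ n • s) = resX h r ^ n • res M h s := by
  rw [res_smul', map_pow]

/-- Two sections over `U₀ = ⨆ D(aᵢ)` agreeing on each `D(aᵢ)` are equal. -/
theorem eq_of_res_basicOpen_eq (M : X.Modules) {U U₀ : X.Opens} {ι : Type u} (a : ι → Γ(X, U))
    (hU₀ : U₀ = ⨆ i, X.basicOpen (a i)) (hi : ∀ i, X.basicOpen (a i) ≤ U₀) (s t : Γ(M, U₀))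
    (h : ∀ i, res M (hi i) s = res M (hi i) t) : s = t := by
  let M' : TopCat.Sheaf Ab X := ⟨M.presheaf, M.isSheaf⟩
  exact M'.eq_of_locally_eq' (fun i => X.basicOpen (a i)) U₀ (fun i => homOfLE (hi i))
    (le_of_eq hU₀) s t h

section Forward

variable (M : X.Modules) {U U₀ : X.Opens} (hM : LocAt M U) {ι : Type u} [Fintype ι]
  (a : ι → Γ(X, U)) (hU₀ : U₀ = ⨆ i, X.basicOpen (a i)) (hle : U₀ ≤ U)

include hU₀ in
theorem basicOpen_le_of_eq (i : ι) : X.basicOpen (a i) ≤ U₀ := by
  rw [hU₀]; exact le_iSup (fun i => X.basicOpen (a i)) i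

include hU₀ in
theorem injCond_of_injective (hinj : Function.Injective (res M hle)) :
    InjCond a Γ(M, U) := by
  intro m hm
  apply hinj
  rw [map_zero]
  apply eq_of_res_basicOpen_eq M a hU₀ (basicOpen_le_of_eq a hU₀) _ _
  intro i
  obtain ⟨p, hp⟩ := hm i
  rw [res_res, map_zero]
  have h1 := congrArg (res M ((basicOpen_le_of_eq a hU₀ i).trans hle)) hp
  rw [res_pow_smul, map_zero] at h1
  exact ((isUnit_resX (a i) le_rfl).pow p).smul_eq_zero.1 h1

include hM hU₀ in
theorem surjCond_of_bijective (hb : Function.Bijective (res M hle)) : SurjCond a Γ(M, U) := by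
  classical
  intro n m hm
  have hi := basicOpen_le_of_eq a hU₀
  have hu : ∀ i, IsUnit (resX (X.basicOpen_le (a i)) (a i)) := fun i => isUnit_resX (a i) le_rfl
  have ht : ∀ i, ∃ t : Γ(M, X.basicOpen (a i)),
      resX (X.basicOpen_le (a i)) (a i) ^ n • t = res M (X.basicOpen_le (a i)) (m i) := by
    intro i
    obtain ⟨w, hw⟩ := (hu i).pow n
    exact ⟨(↑w⁻¹ : Γ(X, X.basicOpen (a i))) • res M (X.basicOpen_le (a i)) (m i), by
      rw [← hw, smul_smul, Units.mul_inv, one_smul]⟩
  choose t ht using ht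
  let M' : TopCat.Sheaf Ab X := ⟨M.presheaf, M.isSheaf⟩
  have hcompat : TopCat.Presheaf.IsCompatible M'.1 (fun i => X.basicOpen (a i)) t := by
    intro i j
    have hWU : X.basicOpen (a i) ⊓ X.basicOpen (a j) ≤ U :=
      inf_le_left.trans (X.basicOpen_le (a i))
    have hui : IsUnit (resX hWU (a i)) := isUnit_resX (a i) inf_le_left
    have huj : IsUnit (resX hWU (a j)) := isUnit_resX (a j) inf_le_right
    apply ((hui.pow n).mul (huj.pow n)).smul_left_cancel.1
    change (resX hWU (a i) ^ n * resX hWU (a j) ^ n) •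
        res M (inf_le_left : X.basicOpen (a i) ⊓ X.basicOpen (a j) ≤ X.basicOpen (a i)) (t i) =
      (resX hWU (a i) ^ n * resX hWU (a j) ^ n) •
        res M (inf_le_right : X.basicOpen (a i) ⊓ X.basicOpen (a j) ≤ X.basicOpen (a j)) (t j)
    have e1 : resX hWU (a i) ^ n •
        res M (inf_le_left : X.basicOpen (a i) ⊓ X.basicOpen (a j) ≤ X.basicOpen (a i)) (t i) =
        res M hWU (m i) := by
      rw [← resX_resX (inf_le_left : X.basicOpen (a i) ⊓ X.basicOpen (a j) ≤ X.basicOpen (a i))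
        (X.basicOpen_le (a i)), ← res_pow_smul, ht i, ModBasis.res_res]
    have e2 : resX hWU (a j) ^ n •
        res M (inf_le_right : X.basicOpen (a i) ⊓ X.basicOpen (a j) ≤ X.basicOpen (a j)) (t j) =
        res M hWU (m j) := by
      rw [← resX_resX (inf_le_right : X.basicOpen (a i) ⊓ X.basicOpen (a j) ≤ X.basicOpen (a j))
        (X.basicOpen_le (a j)), ← res_pow_smul, ht j, ModBasis.res_res]
    rw [mul_comm, mul_smul, e1, mul_comm, mul_smul, e2, ← res_pow_smul, ← res_pow_smul, hm i j]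
  obtain ⟨s, hs, -⟩ := M'.existsUnique_gluing' (fun i => X.basicOpen (a i)) U₀
    (fun i => homOfLE (hi i)) (le_of_eq hU₀) t hcompat
  obtain ⟨m₀, hm₀⟩ := hb.2 s
  have hz : ∀ i, res M (X.basicOpen_le (a i)) (a i ^ n • m₀ - m i) = 0 := by
    intro i
    rw [map_sub, res_pow_smul, ← ht i, sub_eq_zero]
    congr 1
    have h1 : res M (hi i) s = t i := hs i
    rw [← h1, ← hm₀, ModBasis.res_res]
  have hk : ∀ i, ∃ p : ℕ, a i ^ p • (a i ^ n • m₀ - m i) = 0 := fun i => hM.kill (a i) _ (hz i)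
  choose p hp using hk
  refine ⟨m₀, Finset.univ.sup p, fun i => ?_⟩
  obtain ⟨k, hk⟩ := Nat.exists_eq_add_of_le (Finset.le_sup (f := p) (Finset.mem_univ i))
  rw [hk, pow_add, mul_comm, mul_smul, hp i, smul_zero]

end Forward

section Backward

variable (M : X.Modules) {U U₀ : X.Opens} (hM : LocAt M U) {ι : Type u} [Fintype ι]
  (a : ι → Γ(X, U)) (hU₀ : U₀ = ⨆ i, X.basicOpen (a i)) (hle : U₀ ≤ U)

include hM hU₀ in
theorem injective_of_injCond (h : InjCond a Γ(M, U)) : Function.Injective (res M hle) := by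
  rw [injective_iff_map_eq_zero]
  intro m hm
  apply h
  intro i
  apply hM.kill (a i) m
  have h1 := congrArg (res M (basicOpen_le_of_eq a hU₀ i)) hm
  rwa [ModBasis.res_res, map_zero] at h1

include hM hU₀ in
theorem surjective_of_cond (hs : SurjCond a Γ(M, U)) : Function.Surjective (res M hle) := by
  classical
  intro t
  have hiU := basicOpen_le_of_eq a hU₀
  have h1 : ∀ i, ∃ (n : ℕ) (s : Γ(M, U)), res M (X.basicOpen_le (a i)) s =
      resX (X.basicOpen_le (a i)) (a i) ^ n • res M (hiU i) t :=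
    fun i => hM.ext (a i) (res M (hiU i) t)
  choose n₁ s₁ hs₁ using h1
  have h2 : ∀ i, ∃ s : Γ(M, U), res M (X.basicOpen_le (a i)) s =
      resX (X.basicOpen_le (a i)) (a i) ^ (Finset.univ.sup n₁) • res M (hiU i) t := by
    intro i
    obtain ⟨k, hk⟩ := Nat.exists_eq_add_of_le (Finset.le_sup (f := n₁) (Finset.mem_univ i))
    refine ⟨a i ^ k • s₁ i, ?_⟩
    rw [res_pow_smul, hs₁ i, smul_smul, ← pow_add, hk, add_comm]
  choose s₂ hs₂ using h2
  set n := Finset.univ.sup n₁ with hn
  have h3 : ∀ q : ι × ι, ∃ r : ℕ,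
      (a q.1 * a q.2) ^ r • (a q.2 ^ n • s₂ q.1 - a q.1 ^ n • s₂ q.2) = 0 := by
    intro q
    apply hM.kill
    have hW1 : X.basicOpen (a q.1 * a q.2) ≤ X.basicOpen (a q.1) := by
      rw [X.basicOpen_mul]; exact inf_le_left
    have hW2 : X.basicOpen (a q.1 * a q.2) ≤ X.basicOpen (a q.2) := by
      rw [X.basicOpen_mul]; exact inf_le_right
    change res M (X.basicOpen_le (a q.1 * a q.2)) (a q.2 ^ n • s₂ q.1 - a q.1 ^ n • s₂ q.2) = 0
    rw [map_sub, sub_eq_zero, res_pow_smul, res_pow_smul]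
    have e1 : res M (X.basicOpen_le (a q.1 * a q.2)) (s₂ q.1) =
        resX (X.basicOpen_le (a q.1 * a q.2)) (a q.1) ^ n • res M (hW1.trans (hiU q.1)) t := by
      rw [← ModBasis.res_res M hW1 (X.basicOpen_le (a q.1)), hs₂, res_pow_smul, resX_resX,
        ModBasis.res_res]
    have e2 : res M (X.basicOpen_le (a q.1 * a q.2)) (s₂ q.2) =
        resX (X.basicOpen_le (a q.1 * a q.2)) (a q.2) ^ n • res M (hW1.trans (hiU q.1)) t := by
      rw [← ModBasis.res_res M hW2 (X.basicOpen_le (a q.2)), hs₂, res_pow_smul, resX_resX,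
        ModBasis.res_res]
    rw [e1, e2, smul_smul, smul_smul]
    congr 1
    exact mul_comm _ _
  choose r hr using h3
  have hR : ∀ i j, (a i * a j) ^ (Finset.univ.sup r) • (a j ^ n • s₂ i - a i ^ n • s₂ j) = 0 := by
    intro i j
    obtain ⟨k, hk⟩ := Nat.exists_eq_add_of_le
      (Finset.le_sup (f := r) (Finset.mem_univ ((i, j) : ι × ι)))
    rw [hk, pow_add, mul_comm, mul_smul, hr (i, j), smul_zero]
  set R := Finset.univ.sup r with hRdef
  obtain ⟨m₀, p, hm₀⟩ := hs (n + R) (fun i => a i ^ R • s₂ i) (fun i j => by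
    have h4 := hR i j
    rw [smul_sub, sub_eq_zero] at h4
    calc a j ^ (n + R) • a i ^ R • s₂ i = (a i * a j) ^ R • a j ^ n • s₂ i := by
          rw [smul_smul, smul_smul, mul_pow]; congr 1; ring
      _ = (a i * a j) ^ R • a i ^ n • s₂ j := h4
      _ = a i ^ (n + R) • a j ^ R • s₂ j := by
          rw [smul_smul, smul_smul, mul_pow]; congr 1; ring)
  refine ⟨m₀, ?_⟩
  apply eq_of_res_basicOpen_eq M a hU₀ hiU
  intro i
  rw [ModBasis.res_res]
  have hu := isUnit_resX (a i) (le_refl (X.basicOpen (a i)))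
  apply (hu.pow (p + (n + R))).smul_left_cancel.1
  have h4 := congrArg (res M (X.basicOpen_le (a i))) (hm₀ i)
  rw [map_zero, res_pow_smul, map_sub, smul_sub, sub_eq_zero, res_pow_smul, res_pow_smul,
    hs₂ i] at h4
  rw [pow_add, mul_smul, h4, smul_smul, smul_smul]
  congr 1
  ring

include hM hU₀ in
theorem bijective_of_cond (hi : InjCond a Γ(M, U)) (hs : SurjCond a Γ(M, U)) :
    Function.Bijective (res M hle) :=
  ⟨injective_of_injCond M hM a hU₀ hle hi, surjective_of_cond M hM a hU₀ hle hs⟩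

end Backward

end Groth.Agent.Lib.Helper21.CechCond
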