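import Groth.Agent.Lib.Helper21.ClImmShriek
import Groth.Agent.Lib.Helper26.ClosedEmbSh

/-!
# `i_*` is full on all `O_Z`-modules for a closed immersion `i` (helper21)
-/

set_option autoImplicit false
universe u
open CategoryTheory CategoryTheory.Limits AlgebraicGeometry TopologicalSpace Opposite

namespace Groth.Agent.Lib.Helper21.ClImmShriek

open Groth.Agent.Lib.Helper40.SSh Scheme.Modules Groth.Agent.Lib.Helper29.QCohLoc

variable {Z X : Scheme.{u}} (i : Z ⟶ X) [IsClosedImmersion i]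

omit [IsClosedImmersion i] in
/-- sections of `i_* G` over `U` as sections of `G` over `i⁻¹ U` -/
def down (G : Z.Modules) (U : X.Opens) (t : Γ((pushforward i).obj G, U)) : Γ(G, i ⁻¹ᵁ U) := t

omit [IsClosedImmersion i] in
/-- sections of `G` over `i⁻¹ U` as sections of `i_* G` over `U` -/
def up (G : Z.Modules) (U : X.Opens) (t : Γ(G, i ⁻¹ᵁ U)) : Γ((pushforward i).obj G, U) := t

/-- `θ_U` is linear over `O_Z(i⁻¹ U)` -/
theorem app_smul_preimage {G H : Z.Modules} (θ : (pushforward i).obj G ⟶ (pushforward i).obj H)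
    (U : X.Opens) (r : Γ(Z, i ⁻¹ᵁ U)) (m : Γ(G, i ⁻¹ᵁ U)) :
    down i H U ((θ.app U).hom (up i G U (r • m))) =
      r • down i H U ((θ.app U).hom (up i G U m)) := by
  apply Groth.Agent.Lib.Lead.SheafGlue.eq_of_locally_eq_pts H
  intro z hz
  obtain ⟨_, ⟨U', hU' : IsAffineOpen U', rfl⟩, hzU', hU'U⟩ :=
    (X.isBasis_affineOpens).exists_subset_of_mem_open (show i.base z ∈ (U : Set X) from hz) U.isOpen
  have hle : U' ≤ U := hU'U
  have hle' : i ⁻¹ᵁ U' ≤ i ⁻¹ᵁ U := fun _ hx => hle hx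
  refine ⟨i ⁻¹ᵁ U', hle', hzU', ?_⟩
  obtain ⟨a, ha⟩ := i.app_surjective U' hU' (Z.presheaf.map (homOfLE hle').op r)
  have nat : ∀ t : Γ(G, i ⁻¹ᵁ U),
      H.presheaf.map (homOfLE hle').op (down i H U ((θ.app U).hom (up i G U t))) =
        down i H U' ((θ.app U').hom (up i G U' (G.presheaf.map (homOfLE hle').op t))) := fun t =>
    (Groth.Agent.Lib.Lead.Inv.app_res θ hle (up i G U t)).symm
  rw [res_smul, nat, nat, res_smul]
  have h1 : up i G U' (Z.presheaf.map (homOfLE hle').op r • G.presheaf.map (homOfLE hle').op m) =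
      a • up i G U' (G.presheaf.map (homOfLE hle').op m) := by
    rw [Groth.Agent.Lib.Helper64.CohPush.pushforward_smul, ha]
    rfl
  rw [h1, Scheme.Modules.Hom.app_smul, ← ha]
  rfl

/-- `i_*` is full on all modules -/
theorem exists_preimage' {G H : Z.Modules} (θ : (pushforward i).obj G ⟶ (pushforward i).obj H) :
    ∃ ψ : G ⟶ H, (pushforward i).map ψ = θ := by
  have hi : Topology.IsInducing i.base := i.isClosedEmbedding.isEmbedding.isInducing
  let φ : (Opens.map i.base).op ⋙ G.presheaf ⟶ (Opens.map i.base).op ⋙ H.presheaf :=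
    (Scheme.Modules.toPresheaf X).map θ
  let ψ₀ : G.presheaf ⟶ H.presheaf := Groth.Agent.Lib.Helper26.ClosedEmbSh.desc φ hi
  have hw : ∀ U : X.Opens, ψ₀.app (op (i ⁻¹ᵁ U)) = φ.app (op U) := fun U =>
    congrArg (fun α => α.app (op U)) (Groth.Agent.Lib.Helper26.ClosedEmbSh.whisker_desc φ hi)
  refine ⟨⟨PresheafOfModules.homMk ψ₀ (fun V r m => ?_)⟩, ?_⟩
  · induction V using Opposite.rec with | _ V => ?_
    obtain ⟨U, rfl⟩ := exists_preimage_eq i V
    have h1 := app_smul_preimage i θ U r m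
    have h2 : ∀ t : Γ(G, i ⁻¹ᵁ U), ψ₀.app (op (i ⁻¹ᵁ U)) t =
        down i H U ((θ.app U).hom (up i G U t)) := fun t => by
      rw [hw U]
      rfl
    exact (h2 _).trans (h1.trans (congrArg
      (fun x : Γ(H, i ⁻¹ᵁ U) => (show Γ(Z, i ⁻¹ᵁ U) from r) • x) (h2 m).symm))
  · apply Scheme.Modules.hom_ext
    intro U
    exact hw U

end Groth.Agent.Lib.Helper21.ClImmShriek
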