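import Groth.Agent.Lib.Helper21.ClImmKilledQC

/-!
# `i_* Hom(O_Z, F)` is quasi-coherent for a closed immersion of finite presentation (helper21)
-/

set_option autoImplicit false
universe u
open CategoryTheory CategoryTheory.Limits AlgebraicGeometry TopologicalSpace Opposite

namespace Groth.Agent.Lib.Helper21.ClImmShriek

open Groth.Agent.Lib.Helper40.SSh Scheme.Modules Groth.Agent.Lib.Helper29.QCohLoc
open Groth.Agent.Lib.Lead.QCohAff (res_self)

variable {Z X : Scheme.{u}} (i : Z ⟶ X) [IsClosedImmersion i]

/-- for any right adjoint `R` of `i_*`, `i_* R F` is the subsheaf of sections of `F` killed by the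
ideal of `i`; it is quasi-coherent when the ideal is of finite type -/
theorem isQuasicoherent_push_rightAdjoint [LocallyOfFinitePresentation i]
    {R : X.Modules ⥤ Z.Modules} (adj : pushforward i ⊣ R) (F : X.Modules) [F.IsQuasicoherent] :
    ((pushforward i).obj (R.obj F)).IsQuasicoherent := by
  have hN := isLocal_killed i F
  haveI hNq : ((killed i F).toMod hN).IsQuasicoherent := isQuasicoherent_killed i F
  obtain ⟨ε₁, hε₁⟩ := exists_factor_of_range_le (adj.counit.app F) ((killed i F).ι hN)
    (fun T a => ⟨(killed i F).sec hN ⟨_, mem_killed_of_hom i F (R.obj F) (adj.counit.app F) T a⟩,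
      rfl⟩)
  have hkill : ∀ U : X.Opens, IsAffineOpen U → ∀ a ∈ RingHom.ker (i.app U).hom,
      ∀ m : Γ((killed i F).toMod hN, U), a • m = 0 := by
    intro U _ a ha m
    apply (killed i F).val_injective hN
    rw [(killed i F).val_smul, (killed i F).val_zero]
    have h1 := (killed i F).val_mem hN m U le_rfl a (RingHom.mem_ker.1 ha)
    rw [res_self] at h1
    exact h1
  haveI hu : IsIso ((pullbackPushforwardAdjunction i).unit.app ((killed i F).toMod hN)) :=
    Groth.Agent.Lib.Helper21.ClImmUnit.isIso_unit_of_killed i _ hkill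
  let η := (pullbackPushforwardAdjunction i).unit.app ((killed i F).toMod hN)
  let δ : (Scheme.Modules.pullback i).obj ((killed i F).toMod hN) ⟶ R.obj F :=
    adj.homEquiv _ _ (inv η ≫ (killed i F).ι hN)
  have hδ : (pushforward i).map δ ≫ adj.counit.app F = inv η ≫ (killed i F).ι hN := by
    have h0 := (adj.homEquiv _ _).symm_apply_apply (inv η ≫ (killed i F).ι hN)
    rw [Adjunction.homEquiv_counit] at h0
    exact h0
  let β : (killed i F).toMod hN ⟶ (pushforward i).obj (R.obj F) := η ≫ (pushforward i).map δ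
  have hβε : β ≫ adj.counit.app F = (killed i F).ι hN := by
    change (η ≫ (pushforward i).map δ) ≫ adj.counit.app F = _
    rw [Category.assoc, hδ, IsIso.hom_inv_id_assoc]
  have h1 : β ≫ ε₁ = 𝟙 _ := by
    rw [← cancel_mono ((killed i F).ι hN), Category.assoc, hε₁, hβε, Category.id_comp]
  obtain ⟨γ, hγ⟩ := exists_preimage' i (ε₁ ≫ β)
  have hγ1 : γ = 𝟙 _ := by
    apply (adj.homEquiv _ _).symm.injective
    rw [Adjunction.homEquiv_counit, Adjunction.homEquiv_counit, hγ, Category.assoc, hβε, hε₁,
      CategoryTheory.Functor.map_id, Category.id_comp]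
  have h2 : ε₁ ≫ β = 𝟙 _ := by
    rw [← hγ, hγ1, CategoryTheory.Functor.map_id]
    rfl
  have e : (pushforward i).obj (R.obj F) ≅ (killed i F).toMod hN := ⟨ε₁, β, h2, h1⟩
  exact Groth.Agent.Lib.Lead.PullbackAff.isQuasicoherent_of_iso e.symm

end Groth.Agent.Lib.Helper21.ClImmShriek
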