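import Groth.Agent.Lib.Helper21.ClImmFull
import Mathlib.RingTheory.FinitePresentation
import Mathlib.AlgebraicGeometry.Morphisms.FinitePresentation

/-!
# The subsheaf of sections killed by a finite type ideal is quasi-coherent (helper21)
-/

set_option autoImplicit false
universe u
open CategoryTheory CategoryTheory.Limits AlgebraicGeometry TopologicalSpace Opposite

namespace Groth.Agent.Lib.Helper21.ClImmShriek

open Groth.Agent.Lib.Helper40.SSh Scheme.Modules Groth.Agent.Lib.Helper29.QCohLoc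
open Groth.Agent.Lib.Lead.QCohAff (res_self exists_pow_smul_eq_zero exists_res_eq_pow_smul)

variable {Z X : Scheme.{u}} (i : Z ⟶ X) [IsClosedImmersion i]

theorem mem_killed_of_affine (F : X.Modules) {V : X.Opens} (hV : IsAffineOpen V) (s : Γ(F, V))
    (hs : ∀ a : Γ(X, V), (i.app V).hom a = 0 → a • s = 0) : s ∈ (killed i F).obj V := by
  change ∀ (W : X.Opens) (h : W ≤ V) (b : Γ(X, W)), (i.app W).hom b = 0 →
    b • F.presheaf.map (homOfLE h).op s = 0
  intro W hW b hb
  apply Groth.Agent.Lib.Lead.SheafGlue.eq_of_locally_eq_pts F _ 0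
  intro x hx
  obtain ⟨g, hgW, hxg⟩ := hV.exists_basicOpen_le (V := W) ⟨x, hx⟩ (hW hx)
  refine ⟨X.basicOpen g, hgW, hxg, ?_⟩
  rw [map_zero, res_smul, res_res]
  have hb' : X.presheaf.map (homOfLE hgW).op b ∈ RingHom.ker (i.app (X.basicOpen g)).hom := by
    have h2 := app_res i hgW b
    rw [hb, map_zero] at h2
    exact h2
  have hmap : (RingHom.ker (i.app V).hom).map
      (X.presheaf.map (homOfLE (X.basicOpen_le g)).op).hom =
      RingHom.ker (i.app (X.basicOpen g)).hom := by
    have h3 := i.ker.map_ideal_basicOpen ⟨V, hV⟩ g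
    rw [Scheme.Hom.ker_apply, Scheme.Hom.ker_apply] at h3
    exact h3
  rw [← hmap] at hb'
  have hb'' : X.presheaf.map (homOfLE hgW).op b ∈ Submodule.span Γ(X, X.basicOpen g)
      ((X.presheaf.map (homOfLE (X.basicOpen_le g)).op).hom '' (RingHom.ker (i.app V).hom : Set _)) :=
    hb'
  refine Submodule.span_induction
    (p := fun c _ => c • F.presheaf.map (homOfLE (hgW.trans hW)).op s = 0) ?_ ?_ ?_ ?_ hb''
  · rintro _ ⟨a, ha, rfl⟩
    have h4 := res_smul F (hgW.trans hW) a s
    rw [hs a ha, map_zero] at h4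
    exact h4.symm
  · exact zero_smul _ _
  · intro c d _ _ hc hd
    rw [add_smul, hc, hd, add_zero]
  · intro c d _ hd
    rw [smul_eq_mul, mul_smul, hd, smul_zero]

theorem qcOn_killed (F : X.Modules) [F.IsQuasicoherent] {V : X.Opens} (hV : IsAffineOpen V)
    (hfg : (RingHom.ker (i.app V).hom).FG) : (killed i F).QCOn V := by
  intro f t ht
  obtain ⟨n0, s0, hs0⟩ := exists_res_eq_pow_smul F hV f t
  obtain ⟨S, hS⟩ := hfg
  have key : ∀ a ∈ S, ∃ m : ℕ, f ^ m • (a • s0) = 0 := by
    intro a ha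
    have haI : (i.app V).hom a = 0 := by
      have : a ∈ RingHom.ker (i.app V).hom := hS ▸ Ideal.subset_span ha
      exact this
    apply exists_pow_smul_eq_zero F hV f
    rw [res_smul, hs0, smul_comm]
    have h1 := ht (X.basicOpen f) le_rfl (X.presheaf.map (homOfLE (X.basicOpen_le f)).op a) (by
      have h2 := app_res i (X.basicOpen_le f) a
      rw [haI, map_zero] at h2
      exact h2)
    rw [res_self] at h1
    rw [h1, smul_zero]
  choose! m hm using key
  refine ⟨S.sup m + n0, f ^ (S.sup m) • s0, ?_, ?_⟩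
  · apply mem_killed_of_affine i F hV
    intro a ha
    have ha' : a ∈ Submodule.span Γ(X, V) (S : Set Γ(X, V)) := by
      have : a ∈ RingHom.ker (i.app V).hom := ha
      rw [← hS] at this
      exact this
    refine Submodule.span_induction (p := fun a _ => a • f ^ (S.sup m) • s0 = 0) ?_ ?_ ?_ ?_ ha'
    · intro a ha
      obtain ⟨d, hd⟩ := Nat.exists_eq_add_of_le (Finset.le_sup (f := m) ha)
      rw [smul_comm, hd, add_comm, pow_add, mul_smul, hm a ha, smul_zero]
    · exact zero_smul _ _
    · intro c d _ _ hc hd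
      rw [add_smul, hc, hd, add_zero]
    · intro c d _ hd
      rw [smul_eq_mul, mul_smul, hd, smul_zero]
  · rw [res_smul, hs0, map_pow, smul_smul, ← pow_add]

theorem ker_fg [LocallyOfFinitePresentation i] {V : X.Opens} (hV : IsAffineOpen V) :
    (RingHom.ker (i.app V).hom).FG := by
  have hfp : (i.appLE V (i ⁻¹ᵁ V) le_rfl).hom.FinitePresentation :=
    HasRingHomProperty.appLE (P := @LocallyOfFinitePresentation) i inferInstance
      ⟨V, hV⟩ ⟨i ⁻¹ᵁ V, hV.preimage i⟩ le_rfl
  have hφ : i.appLE V (i ⁻¹ᵁ V) le_rfl = i.app V := (Scheme.Hom.app_eq_appLE ..).symm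
  rw [hφ] at hfp
  have hsurj : Function.Surjective (i.app V).hom := i.app_surjective V hV
  algebraize [(i.app V).hom]
  have h1 := Algebra.FinitePresentation.ker_fG_of_surjective
    (Algebra.ofId Γ(X, V) Γ(Z, i ⁻¹ᵁ V)) hsurj
  exact h1

theorem isQuasicoherent_killed [LocallyOfFinitePresentation i] (F : X.Modules)
    [F.IsQuasicoherent] : ((killed i F).toMod (isLocal_killed i F)).IsQuasicoherent := by
  apply SubSh.isQuasicoherent_toMod
  intro x
  obtain ⟨_, ⟨V, hV : IsAffineOpen V, rfl⟩, hxV, -⟩ :=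
    (X.isBasis_affineOpens).exists_subset_of_mem_open (Set.mem_univ x) isOpen_univ
  exact ⟨V, hV, hxV, qcOn_killed i F hV (ker_fg i hV)⟩

end Groth.Agent.Lib.Helper21.ClImmShriek
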