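import Groth.Agent.S9362
import Groth.Agent.Lib.Helper40.SubSh1
import Groth.Agent.Lib.Helper21.ClImmUnit3
import Groth.Agent.Lib.Helper64.CohPush
import Groth.Agent.Lib.Helper2.KerSec
import Groth.Agent.Lib.Helper78.ModStalk
import Groth.Agent.Lib.Lead.TensorMapMono
import Groth.Agent.Lib.Lead.SheafPts
import Groth.Agent.Lib.Helper29.QCohLoc
import Groth.Prelude.Def_QCohCat
import Groth.Agent.Lib.Helper21.ModBasis
import Groth.Agent.Lib.Lead.PullbackAff4

/-!
# `i_* : QCoh(Z) → QCoh(X)` has a right adjoint for a closed immersion `i` (helper21)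

* `killed i F`: the subsheaf of sections of `F` annihilated by the ideal of `i`.
* `mem_killed_of_hom`: every map `i_* G → F` lands in `killed i F`.
* `faithful_push`, `isIso_counit`, `exists_preimage`: `i_*` is fully faithful on quasi-coherent modules.
* `exists_coreflection`: for quasi-coherent `F` there are a quasi-coherent `Q` on `Z` and `c : i_* Q → F`
  such that every `i_* G → F` (`G` quasi-coherent) factors uniquely through `c`.
-/

set_option autoImplicit false
universe u
open CategoryTheory CategoryTheory.Limits AlgebraicGeometry TopologicalSpace Opposite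

namespace Groth.Agent.Lib.Helper21.ClImmShriek

open Groth.Agent.Lib.Helper40.SSh Scheme.Modules Groth.Agent.Lib.Helper29.QCohLoc

variable {Z X : Scheme.{u}} (i : Z ⟶ X)

theorem app_res {W V : X.Opens} (h : W ≤ V) (a : Γ(X, V)) :
    (i.app W).hom ((X.presheaf.map (homOfLE h).op).hom a) =
      (Z.presheaf.map (homOfLE (show i ⁻¹ᵁ W ≤ i ⁻¹ᵁ V from fun _ hx => h hx)).op).hom
        ((i.app V).hom a) := by
  have h1 := i.naturality (homOfLE h).op
  exact congrArg (fun g => g.hom a) h1

/-- sections killed by the ideal of `i` -/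
def killed (F : X.Modules) : SubSh F where
  obj T :=
    { carrier := {s | ∀ (V : X.Opens) (h : V ≤ T) (a : Γ(X, V)), (i.app V).hom a = 0 →
        a • F.presheaf.map (homOfLE h).op s = 0}
      add_mem' := by
        intro s t hs ht V h a ha
        rw [map_add, smul_add, hs V h a ha, ht V h a ha, add_zero]
      zero_mem' := by
        intro V h a ha
        rw [map_zero, smul_zero]
      smul_mem' := by
        intro r s hs V h a ha
        rw [res_smul, smul_comm, hs V h a ha, smul_zero] }
  res_mem := by
    intro T T' h s hs V hV a ha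
    rw [res_res]
    exact hs V (hV.trans h) a ha

theorem isLocal_killed (F : X.Modules) : (killed i F).IsLocal := by
  intro T s hs V h a ha
  apply Groth.Agent.Lib.Lead.SheafGlue.eq_of_locally_eq_pts F _ 0
  intro x hx
  obtain ⟨T', hT', hxT', hmem⟩ := hs x (h hx)
  refine ⟨V ⊓ T', inf_le_left, ⟨hx, hxT'⟩, ?_⟩
  rw [map_zero, res_smul, res_res]
  have h1 := hmem (V ⊓ T') inf_le_right (X.presheaf.map (homOfLE inf_le_left).op a) (by
    have h2 := app_res i (inf_le_left : V ⊓ T' ≤ V) a
    rw [ha, map_zero] at h2
    exact h2)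
  rw [res_res] at h1
  exact h1

variable [IsClosedImmersion i]

/-- every open of `Z` is a preimage -/
theorem exists_preimage_eq (V : Z.Opens) : ∃ U : X.Opens, i ⁻¹ᵁ U = V := by
  obtain ⟨U, hU, hUV⟩ := i.isClosedEmbedding.isEmbedding.isInducing.isOpen_iff.1 V.isOpen
  exact ⟨⟨U, hU⟩, Opens.ext hUV⟩

theorem faithful_push {M N : Z.Modules} (φ ψ : M ⟶ N)
    (h : (pushforward i).map φ = (pushforward i).map ψ) : φ = ψ := by
  apply Scheme.Modules.hom_ext
  intro V
  obtain ⟨U, rfl⟩ := exists_preimage_eq i V
  exact congrArg (fun θ => θ.app U) h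

theorem isIso_of_isIso_push {M N : Z.Modules} (φ : M ⟶ N)
    (h : IsIso ((pushforward i).map φ)) : IsIso φ := by
  refine Groth.Agent.Lib.Helper21.ClImmUnit.isIso_of_app_bijective_of_isAffineOpen φ (fun V _ => ?_)
  obtain ⟨U, rfl⟩ := exists_preimage_eq i V
  exact Groth.Agent.Lib.Helper21.ModBasis.bijective_app_of_isIso ((pushforward i).map φ) U

omit [IsClosedImmersion i] in
theorem push_killed (G : Z.Modules) (U : X.Opens) (a : Γ(X, U)) (ha : (i.app U).hom a = 0)
    (m : Γ((pushforward i).obj G, U)) : a • m = 0 := by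
  have h1 := Groth.Agent.Lib.Helper64.CohPush.pushforward_smul i G U a m
  rw [ha, zero_smul] at h1
  exact h1

theorem isIso_unit_push (G : Z.Modules) [G.IsQuasicoherent] :
    IsIso ((pullbackPushforwardAdjunction i).unit.app ((pushforward i).obj G)) := by
  haveI : ((pushforward i).obj G).IsQuasicoherent :=
    Groth.Agent.Lib.Helper2.KerSec.isQuasicoherent_pushforward_of_qcqs i G
  exact Groth.Agent.Lib.Helper21.ClImmUnit.isIso_unit_of_killed i _
    (fun U _ a ha m => push_killed i G U a (RingHom.mem_ker.1 ha) m)

theorem isIso_counit (G : Z.Modules) [G.IsQuasicoherent] :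
    IsIso ((pullbackPushforwardAdjunction i).counit.app G) := by
  apply isIso_of_isIso_push i
  haveI := isIso_unit_push i G
  have h := (pullbackPushforwardAdjunction i).right_triangle_components G
  exact IsIso.of_isIso_fac_left h

/-- `i_*` is full on maps out of a quasi-coherent module -/
theorem exists_preimage (G Q : Z.Modules) [G.IsQuasicoherent]
    (θ : (pushforward i).obj G ⟶ (pushforward i).obj Q) :
    ∃ ψ : G ⟶ Q, (pushforward i).map ψ = θ := by
  haveI := isIso_counit i G
  haveI := isIso_unit_push i G
  refine ⟨inv ((pullbackPushforwardAdjunction i).counit.app G) ≫ (Scheme.Modules.pullback i).map θ ≫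
    (pullbackPushforwardAdjunction i).counit.app Q, ?_⟩
  have h1 : (pushforward i).map (inv ((pullbackPushforwardAdjunction i).counit.app G)) =
      (pullbackPushforwardAdjunction i).unit.app ((pushforward i).obj G) := by
    have ht := (pullbackPushforwardAdjunction i).right_triangle_components G
    calc (pushforward i).map (inv ((pullbackPushforwardAdjunction i).counit.app G))
        = ((pullbackPushforwardAdjunction i).unit.app ((pushforward i).obj G) ≫
            (pushforward i).map ((pullbackPushforwardAdjunction i).counit.app G)) ≫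
            (pushforward i).map (inv ((pullbackPushforwardAdjunction i).counit.app G)) := by
          rw [ht]
          exact (Category.id_comp _).symm
      _ = (pullbackPushforwardAdjunction i).unit.app ((pushforward i).obj G) := by
          rw [Category.assoc]
          simp
  have h2 := (pullbackPushforwardAdjunction i).unit.naturality θ
  simp only [Functor.id_obj, Functor.id_map, Functor.comp_obj, Functor.comp_map] at h2
  rw [Functor.map_comp, Functor.map_comp, h1, ← Category.assoc, ← h2, Category.assoc,
    (pullbackPushforwardAdjunction i).right_triangle_components, Category.comp_id]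

theorem mem_killed_of_hom (F : X.Modules) (G : Z.Modules) (θ : (pushforward i).obj G ⟶ F)
    (T : X.Opens) (t : Γ((pushforward i).obj G, T)) :
    (θ.app T).hom t ∈ (killed i F).obj T := by
  change ∀ (V : X.Opens) (h : V ≤ T) (a : Γ(X, V)), (i.app V).hom a = 0 →
    a • F.presheaf.map (homOfLE h).op ((θ.app T).hom t) = 0
  intro V h a ha
  rw [← Groth.Agent.Lib.Lead.Inv.app_res θ h t]
  have h1 := Scheme.Modules.Hom.app_smul θ a
    (((pushforward i).obj G).presheaf.map (homOfLE h).op t)
  rw [push_killed i G V a ha, map_zero] at h1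
  exact h1.symm

/-- the coreflection of a quasi-coherent `F` on `X` into `i_* QCoh(Z)` -/
theorem exists_coreflection (F : X.Modules) [hF : F.IsQuasicoherent] :
    ∃ (Q : Z.Modules) (_ : Q.IsQuasicoherent) (c : (pushforward i).obj Q ⟶ F),
      ∀ (G : Z.Modules), G.IsQuasicoherent →
        Function.Bijective (fun ψ : G ⟶ Q => (pushforward i).map ψ ≫ c) := by
  have hN := isLocal_killed i F
  obtain ⟨G', k, hG', hk, huniv⟩ :=
    Groth.Agent.S9362.result X F ((killed i F).toMod hN) hF ((killed i F).ι hN)
  haveI : G'.IsQuasicoherent := hG'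
  haveI := hk
  have hkill : ∀ U : X.Opens, IsAffineOpen U →
      ∀ a ∈ RingHom.ker (i.app U).hom, ∀ m : Γ(G', U), a • m = 0 := by
    intro U _ a ha m
    have hinj := Groth.Agent.Lib.Helper78.ModStalk.app_injective_of_mono (k ≫ (killed i F).ι hN) U
    apply hinj
    rw [map_zero, Scheme.Modules.Hom.app_smul]
    have hm : (killed i F).val hN ((k.app U) m) ∈ (killed i F).obj U :=
      (killed i F).val_mem hN _
    have h1 := hm U le_rfl a (RingHom.mem_ker.1 ha)
    have h2 : F.presheaf.map (homOfLE (le_refl U)).op ((killed i F).val hN ((k.app U) m)) =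
        (killed i F).val hN ((k.app U) m) := by
      have : (homOfLE (le_refl U)).op = 𝟙 (op U) := rfl
      rw [this, F.presheaf.map_id]
      rfl
    rw [h2] at h1
    exact h1
  haveI hu : IsIso ((pullbackPushforwardAdjunction i).unit.app G') :=
    Groth.Agent.Lib.Helper21.ClImmUnit.isIso_unit_of_killed i G' hkill
  haveI hQ : ((Scheme.Modules.pullback i).obj G').IsQuasicoherent := inferInstance
  refine ⟨(Scheme.Modules.pullback i).obj G', hQ,
    inv ((pullbackPushforwardAdjunction i).unit.app G') ≫ k ≫ (killed i F).ι hN, ?_⟩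
  intro G hG
  haveI := hG
  constructor
  · intro ψ₁ ψ₂ h
    apply faithful_push i
    exact (cancel_mono (inv ((pullbackPushforwardAdjunction i).unit.app G') ≫ k ≫
      (killed i F).ι hN)).1 h
  · intro θ
    obtain ⟨θ₁, hθ₁⟩ := exists_factor_of_range_le θ ((killed i F).ι hN)
      (fun T a => ⟨(killed i F).sec hN ⟨_, mem_killed_of_hom i F G θ T a⟩, rfl⟩)
    have hGq : ((pushforward i).obj G).IsQuasicoherent :=
      Groth.Agent.Lib.Helper2.KerSec.isQuasicoherent_pushforward_of_qcqs i G
    obtain ⟨θ₂, hθ₂⟩ := (huniv _ hGq).2 θ₁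
    obtain ⟨ψ, hψ⟩ := exists_preimage i G ((Scheme.Modules.pullback i).obj G')
      (θ₂ ≫ (pullbackPushforwardAdjunction i).unit.app G')
    refine ⟨ψ, ?_⟩
    change (pushforward i).map ψ ≫ inv ((pullbackPushforwardAdjunction i).unit.app G') ≫ k ≫
      (killed i F).ι hN = θ
    have hθ₂' : θ₂ ≫ k = θ₁ := hθ₂
    rw [hψ, Category.assoc, IsIso.hom_inv_id_assoc, ← Category.assoc, hθ₂', hθ₁]

end Groth.Agent.Lib.Helper21.ClImmShriek
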