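import Groth.Agent.Lib.Helper21.ClImmUnit3

/-!
# The unit `F ⟶ i_* i^* F` on sections over affine opens, as `m ↦ 1 ⊗ m` (helper21)

Refinement of `ClImmUnit1-3` that tracks the maps and not only their invertibility.

* `exists_iso_unit_app_restrict`: base change of the unit along open immersions, with the
  comparison isomorphism.
* `exists_iso_Γ_unit`: for `N` quasi-coherent on `Spec R`, `Γ(η_N)` is `M ⟶ S ⊗[R] M` up to an
  isomorphism of the target.
* `exists_addEquiv_unit_app`: for `i : Z ⟶ X`, `U` and `i⁻¹ U` affine, `F` quasi-coherent: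
  `η_F(U)` is `m ↦ 1 ⊗ m : Γ(F,U) → Γ(Z, i⁻¹U) ⊗[Γ(X,U)] Γ(F,U)` up to an additive isomorphism.
-/

set_option autoImplicit false
set_option backward.isDefEq.respectTransparency.types false
set_option linter.style.haveILetI false

universe u

open AlgebraicGeometry CategoryTheory Opposite TopologicalSpace TensorProduct

namespace Groth.Agent.Lib.Helper21.ClImmUnit

open Scheme.Modules Groth.Agent.Lib.Lead.PullbackAff Groth.Agent.Lib.Lead.QCohAff

section BaseChange

variable {Z X W W' : Scheme.{u}} (f : Z ⟶ X) (j : W ⟶ X) (j' : W' ⟶ Z) (f' : W' ⟶ W)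
  [IsOpenImmersion j] [IsOpenImmersion j'] (comm : j' ≫ f = f' ≫ j)

include comm in
/-- Refined base change of the unit along open immersions: the unit of `f` on sections over `U`
agrees, up to an isomorphism of the targets, with the restriction map followed by the unit of `f'`
on sections over `j⁻¹ U`. -/
lemma exists_iso_unit_app_restrict (F : X.Modules) (U : X.Opens)
    (hU' : f ⁻¹ᵁ U ≤ j'.opensRange) :
    ∃ θ : Γ((Scheme.Modules.pushforward f).obj ((Scheme.Modules.pullback f).obj F), U) ≅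
        Γ((Scheme.Modules.pushforward f').obj ((Scheme.Modules.pullback f').obj (F.restrict j)),
          j ⁻¹ᵁ U),
      ((pullbackPushforwardAdjunction f).unit.app F).app U ≫ θ.hom =
        ((restrictAdjunction j).unit.app F).app U ≫
          ((pullbackPushforwardAdjunction f').unit.app (F.restrict j)).app (j ⁻¹ᵁ U) := by
  have key := congr((secF U).map $(unit_eq f j j' f' comm F))
  simp only [adjA, adjB, Adjunction.comp_unit_app, Functor.map_comp] at key
  have h2 : IsIso ((secF U).map ((Scheme.Modules.pushforward f).map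
      ((restrictAdjunction j').unit.app ((Scheme.Modules.pullback f).obj F)))) :=
    isIso_restrictAdjunction_unit_app_app j' ((Scheme.Modules.pullback f).obj F) _ hU'
  let e := asIso ((secF U).map ((Scheme.Modules.pushforward f).map
      ((restrictAdjunction j').unit.app ((Scheme.Modules.pullback f).obj F))))
  let g := (secF U).mapIso ((rIso f j j' f' comm).app
        ((Scheme.Modules.pullback f ⋙ restrictFunctor j').obj F))
  let c := (secF U).mapIso ((Scheme.Modules.pushforward f' ⋙ Scheme.Modules.pushforward j).mapIso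
    ((lIso f j j' f' comm).app F))
  refine ⟨e ≪≫ g ≪≫ c.symm, ?_⟩
  have key' : (secF U).map ((pullbackPushforwardAdjunction f).unit.app F) ≫ e.hom ≫ g.hom =
      ((secF U).map ((restrictAdjunction j).unit.app F) ≫
        (secF U).map ((Scheme.Modules.pushforward j).map
          ((pullbackPushforwardAdjunction f').unit.app ((restrictFunctor j).obj F)))) ≫ c.hom := by
    simpa [e, g, c] using key.symm
  show (secF U).map ((pullbackPushforwardAdjunction f).unit.app F) ≫ (e ≪≫ g ≪≫ c.symm).hom = _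
  simp only [Iso.trans_hom, Iso.symm_hom]
  rw [← Category.assoc, ← Category.assoc, Iso.comp_inv_eq, Category.assoc, key']
  rfl

end BaseChange

section Affine

variable {R S : CommRingCat.{u}} (φ : R ⟶ S)

lemma exists_iso_Γ_unit_tilde (M : ModuleCat.{u} R) :
    ∃ θ : moduleSpecΓFunctor.obj ((Scheme.Modules.pushforward (Spec.map φ)).obj
        ((Scheme.Modules.pullback (Spec.map φ)).obj ((tilde.functor R).obj M))) ≅
      (ModuleCat.restrictScalars φ.hom).obj ((ModuleCat.extendScalars φ.hom).obj M),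
      (tilde.adjunction.unit.app M ≫ moduleSpecΓFunctor.map
        ((pullbackPushforwardAdjunction (Spec.map φ)).unit.app ((tilde.functor R).obj M))) ≫
        θ.hom = (ModuleCat.extendRestrictScalarsAdj φ.hom).unit.app M := by
  have key := Adjunction.unit_leftAdjointUniq_hom_app (adj1 φ) (adj2 φ) M
  simp only [adj1, adj2, Adjunction.comp_unit_app, Adjunction.ofNatIsoRight_unit,
    NatTrans.comp_app, Functor.whiskerLeft_app] at key
  let c := (Scheme.Modules.pushforward (Spec.map φ) ⋙ moduleSpecΓFunctor).mapIso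
    (((adj1 φ).leftAdjointUniq (adj2 φ)).app M)
  let e := (ModuleCat.restrictScalars φ.hom).mapIso
    (asIso (tilde.adjunction.unit.app ((ModuleCat.extendScalars φ.hom).obj M)))
  let g := (pushforwardΓIso φ).symm.app
      ((ModuleCat.extendScalars (CommRingCat.Hom.hom φ) ⋙ tilde.functor S).obj M)
  refine ⟨c ≪≫ g.symm ≪≫ e.symm, ?_⟩
  have key' : (tilde.adjunction.unit.app M ≫ moduleSpecΓFunctor.map
        ((pullbackPushforwardAdjunction (Spec.map φ)).unit.app ((tilde.functor R).obj M))) ≫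
        c.hom = ((ModuleCat.extendRestrictScalarsAdj φ.hom).unit.app M ≫ e.hom) ≫ g.hom := key
  simp only [Iso.trans_hom, Iso.symm_hom]
  rw [← Category.assoc, key', Category.assoc, Category.assoc, Iso.hom_inv_id_assoc,
    Iso.hom_inv_id, Category.comp_id]

/-- For `N` quasi-coherent on `Spec R`, the unit `N ⟶ (Spec φ)_* (Spec φ)^* N` is, on global
sections and up to an isomorphism of the target, the map `M ⟶ S ⊗[R] M`. -/
lemma exists_iso_Γ_unit (N : (Spec R).Modules) [N.IsQuasicoherent] :
    ∃ θ : moduleSpecΓFunctor.obj ((Scheme.Modules.pushforward (Spec.map φ)).obj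
        ((Scheme.Modules.pullback (Spec.map φ)).obj N)) ≅
      (ModuleCat.restrictScalars φ.hom).obj
        ((ModuleCat.extendScalars φ.hom).obj (moduleSpecΓFunctor.obj N)),
      moduleSpecΓFunctor.map ((pullbackPushforwardAdjunction (Spec.map φ)).unit.app N) ≫ θ.hom =
        (ModuleCat.extendRestrictScalarsAdj φ.hom).unit.app (moduleSpecΓFunctor.obj N) := by
  obtain ⟨θ, hθ⟩ := exists_iso_Γ_unit_tilde φ (moduleSpecΓFunctor.obj N)
  have hiso : IsIso N.fromTildeΓ := inferInstance
  have nat := (pullbackPushforwardAdjunction (Spec.map φ)).unit.naturality N.fromTildeΓ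
  have nat' := congr(moduleSpecΓFunctor.map $nat)
  simp only [Functor.map_comp] at nat'
  have tri := tilde.adjunction.right_triangle_components N
  let ε := moduleSpecΓFunctor.mapIso ((Scheme.Modules.pullback (Spec.map φ) ⋙
      Scheme.Modules.pushforward (Spec.map φ)).mapIso (asIso N.fromTildeΓ))
  refine ⟨ε.symm ≪≫ θ, ?_⟩
  rw [← hθ]
  simp only [Iso.trans_hom, Iso.symm_hom]
  have h1 : moduleSpecΓFunctor.map ((pullbackPushforwardAdjunction (Spec.map φ)).unit.app N) =
      tilde.adjunction.unit.app (moduleSpecΓFunctor.obj N) ≫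
        moduleSpecΓFunctor.map ((pullbackPushforwardAdjunction (Spec.map φ)).unit.app
          ((tilde.functor R).obj (moduleSpecΓFunctor.obj N))) ≫ ε.hom := by
    have : moduleSpecΓFunctor.map ((pullbackPushforwardAdjunction (Spec.map φ)).unit.app
          ((tilde.functor R).obj (moduleSpecΓFunctor.obj N))) ≫ ε.hom =
        moduleSpecΓFunctor.map N.fromTildeΓ ≫
          moduleSpecΓFunctor.map ((pullbackPushforwardAdjunction (Spec.map φ)).unit.app N) :=
      nat'.symm
    have tri' : tilde.adjunction.unit.app (moduleSpecΓFunctor.obj N) ≫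
        moduleSpecΓFunctor.map N.fromTildeΓ = 𝟙 _ := tri
    exact (Category.id_comp _).symm.trans ((congrArg (· ≫ moduleSpecΓFunctor.map
      ((pullbackPushforwardAdjunction (Spec.map φ)).unit.app N)) tri'.symm).trans
      ((Category.assoc _ _ _).trans (congrArg (tilde.adjunction.unit.app
        (moduleSpecΓFunctor.obj N) ≫ ·) this.symm)))
  rw [h1]
  simp only [Category.assoc]
  have h2 : ε.hom ≫ ε.inv ≫ θ.hom = θ.hom := Iso.hom_inv_id_assoc ε θ.hom
  exact congrArg (fun t => tilde.adjunction.unit.app (moduleSpecΓFunctor.obj N) ≫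
      moduleSpecΓFunctor.map ((pullbackPushforwardAdjunction (Spec.map φ)).unit.app
        ((tilde.functor R).obj (moduleSpecΓFunctor.obj N))) ≫ t) h2

/-- Elementwise form on global sections. -/
lemma exists_addEquiv_unit_app_top (N : (Spec R).Modules) [N.IsQuasicoherent] :
    letI := φ.hom.toAlgebra
    ∃ θ : Γ((Scheme.Modules.pullback (Spec.map φ)).obj N, (Spec.map φ) ⁻¹ᵁ ⊤) ≃+
        (S ⊗[R] (moduleSpecΓFunctor.obj N : Type u)),
      ∀ n : Γ(N, ⊤), θ (((pullbackPushforwardAdjunction (Spec.map φ)).unit.app N).app ⊤ n) =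
        (1 : S) ⊗ₜ[R] (show (moduleSpecΓFunctor.obj N : Type u) from n) := by
  letI := φ.hom.toAlgebra
  obtain ⟨θ, hθ⟩ := exists_iso_Γ_unit φ N
  refine ⟨((forget₂ (ModuleCat R) Ab).mapIso θ).addCommGroupIsoToAddEquiv, fun n => ?_⟩
  have := congr($hθ n)
  exact this

/-- Transport along an equality of opens. -/
lemma exists_addEquiv_unit_app_of_eq_top (N : (Spec R).Modules) [N.IsQuasicoherent]
    (V : (Spec R).Opens) (hV : V = ⊤) :
    letI := φ.hom.toAlgebra
    ∃ θ : Γ((Scheme.Modules.pullback (Spec.map φ)).obj N, (Spec.map φ) ⁻¹ᵁ V) ≃+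
        (S ⊗[R] (moduleSpecΓFunctor.obj N : Type u)),
      ∀ n : Γ(N, V), θ (((pullbackPushforwardAdjunction (Spec.map φ)).unit.app N).app V n) =
        (1 : S) ⊗ₜ[R] (show (moduleSpecΓFunctor.obj N : Type u) from
          N.presheaf.map (homOfLE (le_of_eq hV.symm)).op n) := by
  subst hV
  obtain ⟨θ, hθ⟩ := exists_addEquiv_unit_app_top φ N
  refine ⟨θ, fun n => ?_⟩
  rw [hθ n]
  congr 1
  have : (homOfLE (le_of_eq (rfl : (⊤ : (Spec R).Opens) = ⊤))) = 𝟙 _ := rfl
  rw [this, op_id, N.presheaf.map_id]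
  rfl

end Affine

section Main

variable {Z X : Scheme.{u}} (i : Z ⟶ X)

/-- **The unit on sections over an affine open** (`i⁻¹ U` affine): up to an additive isomorphism of
the target, `η_F(U) : Γ(F, U) → Γ(i^* F, i⁻¹ U)` is `m ↦ 1 ⊗ m : M → B ⊗[A] M`. -/
theorem exists_addEquiv_unit_app (F : X.Modules) [F.IsQuasicoherent] {U : X.Opens}
    (hU : IsAffineOpen U) (hU' : IsAffineOpen (i ⁻¹ᵁ U)) :
    letI := (i.app U).hom.toAlgebra
    ∃ θ : Γ((Scheme.Modules.pullback i).obj F, i ⁻¹ᵁ U) ≃+ (Γ(Z, i ⁻¹ᵁ U) ⊗[Γ(X, U)] Γ(F, U)),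
      ∀ m : Γ(F, U), θ (((pullbackPushforwardAdjunction i).unit.app F).app U m) =
        (1 : Γ(Z, i ⁻¹ᵁ U)) ⊗ₜ[Γ(X, U)] m := by
  letI := (i.app U).hom.toAlgebra
  have comm : hU'.fromSpec ≫ i = Spec.map (i.app U) ≫ hU.fromSpec := by
    rw [Scheme.Hom.app_eq_appLE]
    exact (hU.SpecMap_appLE_fromSpec i hU' le_rfl).symm
  obtain ⟨θ₁, hθ₁⟩ := exists_iso_unit_app_restrict i hU.fromSpec hU'.fromSpec (Spec.map (i.app U))
    comm F U (by rw [hU'.opensRange_fromSpec])
  obtain ⟨θ₂, hθ₂⟩ := exists_addEquiv_unit_app_of_eq_top (i.app U) (F.restrict hU.fromSpec)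
    (hU.fromSpec ⁻¹ᵁ U) hU.fromSpec_preimage_self
  refine ⟨θ₁.addCommGroupIsoToAddEquiv.trans (θ₂.trans
    (LinearEquiv.lTensor Γ(Z, i ⁻¹ᵁ U) (secEquiv hU F)).toAddEquiv), fun m => ?_⟩
  have h1 : θ₁.hom (((pullbackPushforwardAdjunction i).unit.app F).app U m) =
      ((pullbackPushforwardAdjunction (Spec.map (i.app U))).unit.app (F.restrict hU.fromSpec)).app
        (hU.fromSpec ⁻¹ᵁ U) (((restrictAdjunction hU.fromSpec).unit.app F).app U m) :=
    congr($hθ₁ m)
  have h3 : secEquiv hU F ((F.restrict hU.fromSpec).presheaf.map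
      (homOfLE (le_of_eq hU.fromSpec_preimage_self.symm)).op
      (((restrictAdjunction hU.fromSpec).unit.app F).app U m)) = m := by
    rw [restrictAdjunction_unit_app_app]
    show F.presheaf.map (homOfLE (fromSpec_image_top hU).ge).op
      (F.presheaf.map (homOfLE _).op (F.presheaf.map (homOfLE _).op m)) = m
    rw [res_res, res_res, res_self]
  calc (LinearEquiv.lTensor Γ(Z, i ⁻¹ᵁ U) (secEquiv hU F))
        (θ₂ (θ₁.hom (((pullbackPushforwardAdjunction i).unit.app F).app U m)))
      = (LinearEquiv.lTensor Γ(Z, i ⁻¹ᵁ U) (secEquiv hU F)) (θ₂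
          (((pullbackPushforwardAdjunction (Spec.map (i.app U))).unit.app
            (F.restrict hU.fromSpec)).app (hU.fromSpec ⁻¹ᵁ U)
            (((restrictAdjunction hU.fromSpec).unit.app F).app U m))) :=
        congrArg (fun t => (LinearEquiv.lTensor Γ(Z, i ⁻¹ᵁ U) (secEquiv hU F)) (θ₂ t)) h1
    _ = (LinearEquiv.lTensor Γ(Z, i ⁻¹ᵁ U) (secEquiv hU F))
          ((1 : Γ(Z, i ⁻¹ᵁ U)) ⊗ₜ[Γ(X, U)]
            (show (moduleSpecΓFunctor.obj (F.restrict hU.fromSpec) : Type u) from
              (F.restrict hU.fromSpec).presheaf.map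
                (homOfLE (le_of_eq hU.fromSpec_preimage_self.symm)).op
                (((restrictAdjunction hU.fromSpec).unit.app F).app U m))) :=
        congrArg (LinearEquiv.lTensor Γ(Z, i ⁻¹ᵁ U) (secEquiv hU F)) (hθ₂ _)
    _ = (1 : Γ(Z, i ⁻¹ᵁ U)) ⊗ₜ[Γ(X, U)] m := by
        rw [LinearEquiv.lTensor_tmul]
        exact congrArg (fun t => (1 : Γ(Z, i ⁻¹ᵁ U)) ⊗ₜ[Γ(X, U)] t) h3

end Main

end Groth.Agent.Lib.Helper21.ClImmUnit
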