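import Groth.Agent.Lib.Helper21.PushGeneric

/-!
# Dévissage with extensions, roots and good submodules of `J · G` (helper21)

* `eq_zero_of_forall_affine`: a morphism of modules vanishing on affine sections is zero.
* `exists_ideal_factor`: if `m : S ⟶ G` is a mono of coherent modules, surjective on stalks at `ξ`,
  then `J' · G ⟶ G` factors through `m` for some ideal sheaf `J'` with `ξ ∉ V(J')`.
* `rank_lemma_sub`: the irreducible step for extension-closed classes with roots, given a coherent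
  `G` with good submodules of `J · G` in the class.
-/

set_option autoImplicit false
set_option linter.style.haveILetI false
universe u
open AlgebraicGeometry CategoryTheory Opposite TopologicalSpace Limits

namespace Groth.Agent.Lib.Helper21.SubStep

open Groth.Agent.Lib.Helper78.ModStalk Groth.Agent.Lib.Helper78.ModStalkExact
  Groth.Agent.Lib.Helper21.CohStalkLocal Groth.Agent.Lib.Helper21.StalkLen
  Groth.Agent.Lib.Helper21.SimpleAlg Groth.Agent.Lib.Helper21.SpreadOut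
  Groth.Agent.Lib.Helper21.Devissage Groth.Agent.Lib.Helper21.StalkBiprod
  Groth.Agent.Lib.Helper21.SemisimpleAlg Groth.Agent.Lib.Helper21.DevSummand
  Groth.Agent.Lib.Helper21.RootStep

variable {X : Scheme.{u}}

theorem eq_zero_of_forall_affine {M N : X.Modules} (φ : M ⟶ N)
    (h : ∀ U : X.Opens, IsAffineOpen U → ∀ s : Γ(M, U), φ.app U s = 0) : φ = 0 := by
  ext W s
  refine TopCat.Presheaf.section_ext ⟨N.presheaf, N.isSheaf⟩ W _ _ (fun y hy => ?_)
  obtain ⟨_, ⟨U, hU : IsAffineOpen U, rfl⟩, hyU, hUW⟩ :=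
    X.isBasis_affineOpens.exists_subset_of_mem_open hy W.2
  have hUW' : U ≤ W := hUW
  have h1 := TopCat.Presheaf.germ_res_apply N.presheaf (homOfLE hUW') y hyU (φ.app W s)
  have h2 : N.presheaf.map (homOfLE hUW').op (φ.app W s) =
      φ.app U (M.presheaf.map (homOfLE hUW').op s) :=
    (Groth.Agent.Lib.Helper2.KerSec.naturality_apply φ (homOfLE hUW') s).symm
  rw [h2, h _ hU, map_zero] at h1
  have h3 : ((0 : M ⟶ N).app W) s = 0 := rfl
  rw [h3, map_zero]
  exact h1.symm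

open Groth.Agent.Lib.Helper21.IdealMulSec Groth.Agent.Lib.Lead.CohAff
  Groth.Agent.Lib.Helper21.QCohSections in
/-- If `m : S ⟶ G` is a monomorphism of coherent modules which is surjective on stalks at `ξ`, then
`J' · G ⟶ G` factors through `m` for some `J'` with `ξ ∉ V(J')`. -/
theorem exists_ideal_factor [IsNoetherian X] {S G : X.Modules} (hS : Coh.IsCoh S)
    (hG : Coh.IsCoh G) (m : S ⟶ G) [Mono m] (ξ : X)
    (hsurj : Function.Surjective (stalkMap m ξ)) :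
    ∃ J' : X.IdealSheafData, ξ ∉ (J'.support : Set X) ∧
      ∃ l : (Dual3.idealMul J').obj G ⟶ S, l ≫ m = Dual3.idealMulι J' G := by
  haveI : G.IsQuasicoherent := hG.1
  have hC : Coh.IsCoh (cokernel m) := isCoh_cokernel m hS hG
  haveI : (cokernel m).IsQuasicoherent := hC.1
  have hCξ : ξ ∉ CohB1.support (cokernel m) :=
    fun h => h (subsingleton_stalk_cokernel m ξ hsurj)
  have hcl : IsClosed (CohB1.support (cokernel m)) := isClosed_support_of_isCoh hC
  let J₀ : X.IdealSheafData := Scheme.IdealSheafData.vanishingIdeal ⟨_, hcl⟩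
  have hJ₀ : (J₀.support : Set X) = CohB1.support (cokernel m) :=
    Scheme.IdealSheafData.coe_support_vanishingIdeal _
  have hnoeth : ∀ U : X.affineOpens, IsNoetherianRing Γ(X, U.1) :=
    fun U => IsLocallyNoetherian.component_noetherian U
  obtain ⟨k, hk0, hk⟩ := Groth.Agent.Lib.Helper21.CohKill.exists_pow_killed (cokernel m) hC.2 J₀
    (fun U => by haveI := hnoeth U; exact IsNoetherian.noetherian _) (le_of_eq hJ₀.symm)
  refine ⟨J₀ ^ k, ?_, ?_⟩
  · rw [Scheme.IdealSheafData.support_pow _ _ hk0.ne', hJ₀]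
    exact hCξ
  · have hzero : Dual3.idealMulι (J₀ ^ k) G ≫ cokernel.π m = 0 := by
      refine eq_zero_of_forall_affine _ (fun U hU s => ?_)
      have h1 : (Dual3.idealMulι (J₀ ^ k) G).app U s ∈
          (J₀ ^ k).ideal ⟨U, hU⟩ • (⊤ : Submodule Γ(X, U) Γ(G, U)) :=
        (mem_range_idealMulι_app_iff (J₀ ^ k) G hU _).mp ⟨_, rfl⟩
      have h2 : ∀ a ∈ (J₀ ^ k).ideal ⟨U, hU⟩ • (⊤ : Submodule Γ(X, U) Γ(G, U)),
          (cokernel.π m).app U a = 0 := by
        intro a ha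
        refine Submodule.smul_induction_on ha ?_ ?_
        · intro r hr g _
          rw [Scheme.Modules.Hom.app_smul]
          exact hk ⟨U, hU⟩ r hr _
        · intro x y hx hy
          rw [map_add, hx, hy, add_zero]
      exact h2 _ h1
    have hlim : IsLimit (KernelFork.ofι m (cokernel.condition m)) :=
      Abelian.monoIsKernelOfCokernel _ (colimit.isColimit _)
    obtain ⟨l, hl⟩ := KernelFork.IsLimit.lift' hlim (Dual3.idealMulι (J₀ ^ k) G) hzero
    exact ⟨l, hl⟩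

section Step

variable [IsNoetherian X] (Z₀ : Set X) (K : X.Modules → Prop)
  (hK : ∀ M N : X.Modules, Nonempty (M ≅ N) → K M → K N)
  (hE : ∀ S : ShortComplex X.Modules, S.ShortExact → Coh.IsCoh S.X₁ → Coh.IsCoh S.X₂ →
    Coh.IsCoh S.X₃ → K S.X₁ → K S.X₃ → K S.X₂)
  (hroot : ∀ (F : X.Modules) (d : ℕ), 1 ≤ d → Coh.IsCoh F → K (∐ fun _ : Fin d => F) → K F)
  (ξ : X) (hξ : closure {ξ} = Z₀)
  (IH : ∀ F : X.Modules, Coh.IsCoh F → CohB1.support F ⊆ Z₀ → ξ ∉ CohB1.support F → K F)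
  (G : X.Modules) (hG : Coh.IsCoh G) (hGs : CohB1.support G ⊆ Z₀)
  (hkill : ∀ a ∈ IsLocalRing.maximalIdeal (X.presheaf.stalk ξ),
    ∀ t : G.presheaf.stalk ξ, a • t = 0)
  (hne : ξ ∈ CohB1.support G)
  (hsub : ∀ J : X.IdealSheafData, ξ ∉ (J.support : Set X) →
    ∃ (G' : X.Modules) (ι' : G' ⟶ (Dual3.idealMul J).obj G), Mono ι' ∧ G'.IsQuasicoherent ∧
      Function.Bijective (stalkMap (ι' ≫ Dual3.idealMulι J G) ξ) ∧ K G')

include hK hE hroot hξ IH hG hGs hkill hne hsub in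
/-- A coherent module supported in `Z₀` with simple stalk at `ξ` lies in `K`. -/
theorem rank_lemma_sub (Q : X.Modules) (hQ : Coh.IsCoh Q) (hQs : CohB1.support Q ⊆ Z₀)
    (hQsimple : IsSimpleModule (X.presheaf.stalk ξ) (Q.presheaf.stalk ξ)) : K Q := by
  obtain ⟨r, hr⟩ := ENat.ne_top_iff_exists.mp
    (ne_of_lt (length_stalk_lt_top_of_support_subset G hG ξ (hξ ▸ hGs)))
  have hr0 : r ≠ 0 := by
    rintro rfl
    exact hne (Module.length_eq_zero_iff.mp hr.symm)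
  obtain ⟨r', rfl⟩ := Nat.exists_eq_succ_of_ne_zero hr0
  have hT : Coh.IsCoh (pow Q (r' + 1)) := isCoh_pow hQ _
  have hTs : CohB1.support (pow Q (r' + 1)) ⊆ Z₀ := (support_pow_subset Q _).trans hQs
  have hTlen : Module.length (X.presheaf.stalk ξ) ((pow Q (r' + 1)).presheaf.stalk ξ) =
      (r' + 1 : ℕ) := by
    rw [length_stalk_pow, Module.length_eq_one_iff.mpr hQsimple, mul_one]
  have hTk : ∀ a ∈ IsLocalRing.maximalIdeal (X.presheaf.stalk ξ),
      ∀ t : (pow Q (r' + 1)).presheaf.stalk ξ, a • t = 0 := fun a ha t =>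
    stalk_pow_killed Q ξ a (fun t => smul_eq_zero_of_isSimpleModule _ a ha t) _ t
  obtain ⟨a⟩ := nonempty_linearEquiv_of_killed (IsLocalRing.maximalIdeal (X.presheaf.stalk ξ))
    ((pow Q (r' + 1)).presheaf.stalk ξ) (G.presheaf.stalk ξ) hTk hkill
    (by rw [hTlen]; exact ENat.natCast_ne_top _) (hTlen.trans hr)
  haveI : (pow Q (r' + 1)).IsQuasicoherent := hT.1
  haveI : G.IsQuasicoherent := hG.1
  obtain ⟨H, p₁, p₂, c, hHq, hHf, hc, hb, hrel, -, hHsub, -⟩ :=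
    exists_spread (pow Q (r' + 1)) G hT.2 hG.2 ξ a.toLinearMap
  have hH : Coh.IsCoh H := ⟨hHq, hHf⟩
  haveI : H.IsQuasicoherent := hHq
  have hHs : CohB1.support H ⊆ Z₀ := hHsub.trans (Set.union_subset hTs hGs)
  have hb₂ : Function.Bijective (stalkMap p₂ ξ) := by
    constructor
    · intro h h' hh'
      rw [hrel, hrel] at hh'
      exact hb.1 (a.injective (hc.smul_left_cancel.mp hh'))
    · intro g
      obtain ⟨u, rfl⟩ := hc
      obtain ⟨h, hh⟩ := hb.2 (a.symm ((↑u⁻¹ : X.presheaf.stalk ξ) • g))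
      refine ⟨h, ?_⟩
      rw [hrel, hh]
      simp [smul_smul]
  -- shrink `H` so that it embeds into both `pow Q (r' + 1)` and `G`
  obtain ⟨J₁, hJ₁ξ, hJ₁⟩ := Groth.Agent.Lib.Helper21.ArtinReesS.exists_ideal_mono hH p₁ ξ
    (fun h => h (subsingleton_stalk_kernel p₁ ξ hb.1))
  obtain ⟨J₂, hJ₂ξ, hJ₂⟩ := Groth.Agent.Lib.Helper21.ArtinReesS.exists_ideal_mono hH p₂ ξ
    (fun h => h (subsingleton_stalk_kernel p₂ ξ hb₂.1))
  have hJξ : ξ ∉ ((J₁ * J₂).support : Set X) := by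
    rw [Scheme.IdealSheafData.support_mul]
    rintro (h | h)
    · exact hJ₁ξ h
    · exact hJ₂ξ h
  haveI hm₁ : Mono (Dual3.idealMulι (J₁ * J₂) H ≫ p₁) := hJ₁ _ (fun U => Ideal.mul_le_left)
  haveI hm₂ : Mono (Dual3.idealMulι (J₁ * J₂) H ≫ p₂) := hJ₂ _ (fun U => Ideal.mul_le_right)
  have hS : Coh.IsCoh ((Dual3.idealMul (J₁ * J₂)).obj H) :=
    ⟨inferInstance, Groth.Agent.Lib.Helper21.CohNoeth.isFiniteType_of_mono
      (Dual3.idealMulι (J₁ * J₂) H) hHf⟩
  have hbJ := stalkMap_idealMulι_bijective (J₁ * J₂) H ξ hJξ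
  have hbm₁ : Function.Bijective (stalkMap (Dual3.idealMulι (J₁ * J₂) H ≫ p₁) ξ) := by
    rw [stalkMap_comp]
    exact hb.comp hbJ
  have hbm₂ : Function.Bijective (stalkMap (Dual3.idealMulι (J₁ * J₂) H ≫ p₂) ξ) := by
    rw [stalkMap_comp]
    exact hb₂.comp hbJ
  -- `J' · G` lies in the image of `S`
  obtain ⟨J', hJ'ξ, l, hl⟩ :=
    exists_ideal_factor hS hG (Dual3.idealMulι (J₁ * J₂) H ≫ p₂) ξ hbm₂.2
  obtain ⟨G', ι', hι', hG'q, hG'b, hKG'⟩ := hsub J' hJ'ξ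
  haveI := hι'
  haveI := hG'q
  haveI hmono₂ : Mono ((ι' ≫ l) ≫ (Dual3.idealMulι (J₁ * J₂) H ≫ p₂)) := by
    rw [Category.assoc, hl]
    infer_instance
  haveI hν : Mono (ι' ≫ l) := mono_of_mono _ (Dual3.idealMulι (J₁ * J₂) H ≫ p₂)
  have hνb : Function.Bijective (stalkMap (ι' ≫ l) ξ) := by
    have h1 : stalkMap ((ι' ≫ l) ≫ (Dual3.idealMulι (J₁ * J₂) H ≫ p₂)) ξ =
        stalkMap (ι' ≫ Dual3.idealMulι J' G) ξ := by
      rw [Category.assoc, hl]
    rw [stalkMap_comp] at h1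
    have h2 : Function.Bijective
        (stalkMap (Dual3.idealMulι (J₁ * J₂) H ≫ p₂) ξ ∘ stalkMap (ι' ≫ l) ξ) := by
      have := hG'b
      rw [← h1] at this
      exact this
    exact ⟨h2.1.of_comp, fun s => by
      obtain ⟨t, ht⟩ := h2.2 (stalkMap (Dual3.idealMulι (J₁ * J₂) H ≫ p₂) ξ s)
      exact ⟨t, hbm₂.1 ht⟩⟩
  have hG' : Coh.IsCoh G' :=
    ⟨hG'q, Groth.Agent.Lib.Helper21.CohNoeth.isFiniteType_of_mono (ι' ≫ l) hS.2⟩
  haveI hμ : Mono ((ι' ≫ l) ≫ (Dual3.idealMulι (J₁ * J₂) H ≫ p₁)) := mono_comp _ _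
  have hμs : Function.Surjective
      (stalkMap ((ι' ≫ l) ≫ (Dual3.idealMulι (J₁ * J₂) H ≫ p₁)) ξ) := by
    rw [stalkMap_comp]
    exact hbm₁.2.comp hνb.2
  have hCμ : K (cokernel ((ι' ≫ l) ≫ (Dual3.idealMulι (J₁ * J₂) H ≫ p₁))) :=
    IH _ (isCoh_cokernel _ hG' hT) ((support_cokernel_subset _).trans hTs)
      (fun h => h (subsingleton_stalk_cokernel _ ξ hμs))
  have hSE : (ShortComplex.mk ((ι' ≫ l) ≫ (Dual3.idealMulι (J₁ * J₂) H ≫ p₁))
      (cokernel.π ((ι' ≫ l) ≫ (Dual3.idealMulι (J₁ * J₂) H ≫ p₁)))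
      (cokernel.condition _)).ShortExact :=
    ShortComplex.ShortExact.mk' (ShortComplex.exact_cokernel _) hμ
      (inferInstanceAs (Epi (cokernel.π ((ι' ≫ l) ≫ (Dual3.idealMulι (J₁ * J₂) H ≫ p₁)))))
  have hKT : K (pow Q (r' + 1)) := hE _ hSE hG' hT (isCoh_cokernel _ hG' hT) hKG' hCμ
  obtain ⟨e⟩ := nonempty_pow_iso_sigma Q (r' + 1)
  exact hroot Q (r' + 1) (Nat.succ_le_succ (Nat.zero_le _)) hQ (hK _ _ ⟨e⟩ hKT)

end Step

end Groth.Agent.Lib.Helper21.SubStep
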