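import Groth.Prelude.Def_Formal
import Groth.Agent.Lib.Helper21.SpreadOut
import Groth.Agent.Lib.Helper21.ClImmDev
import Groth.Agent.Lib.Helper21.SubStep

/-!
# The centre of the category of coherent modules (helper21)

A natural endomorphism of the identity functor of `Coh(X)` (`X` locally Noetherian) is
multiplication by a global function.
-/

set_option autoImplicit false
set_option linter.style.haveILetI false
set_option backward.isDefEq.respectTransparency.types false
universe u
open AlgebraicGeometry CategoryTheory Opposite TopologicalSpace Limits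

namespace Groth.Agent.Lib.Helper21.CohCentre

open Scheme.Modules Groth.Agent.Lib.Helper21.ClImmUnit Groth.Agent.Lib.Helper21.GraphClosure
  Groth.Agent.Lib.Helper21.SpreadOut

variable {X : Scheme.{u}}

/-- The category of coherent modules. -/
abbrev CohCat (X : Scheme.{u}) := ObjectProperty.FullSubcategory (fun M : X.Modules => Coh.IsCoh M)

/-- Restriction of a global function. -/
noncomputable def res (r : Coh.Γtop X) (U : X.Opens) : Γ(X, U) := Coh.resTop X (op U) r

theorem smulModΓ_app (M : X.Modules) (r : Coh.Γtop X) (U : X.Opens) (s : Γ(M, U)) :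
    (Formal.smulModΓ M r).app U s = res r U • s := rfl

theorem structureModule_map_one {U V : X.Opens} (i : V ⟶ U) :
    (Coh.structureModule X).presheaf.map i.op (1 : Γ(X, U)) = (1 : Γ(X, V)) :=
  map_one (X.presheaf.map i.op).hom

theorem structureModule_map {U V : X.Opens} (i : V ⟶ U) (a : Γ(X, U)) :
    (Coh.structureModule X).presheaf.map i.op a = X.presheaf.map i.op a := rfl

theorem key [IsLocallyNoetherian X] (φ : 𝟭 (CohCat X) ⟶ 𝟭 (CohCat X))
    (hO : Coh.IsCoh (Coh.structureModule X)) (M : CohCat X) (U : X.Opens) (hU : IsAffineOpen U)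
    (s : Γ(M.obj, U)) :
    (φ.app M).hom.app U s =
      res ((φ.app ⟨Coh.structureModule X, hO⟩).hom.app ⊤ (1 : Γ(X, ⊤))) U • s := by
  let O : CohCat X := ⟨Coh.structureModule X, hO⟩
  let e : Coh.structureModule X ⟶ Coh.structureModule X := (φ.app O).hom
  let r : Coh.Γtop X := e.app ⊤ (1 : Γ(X, ⊤))
  change (φ.app M).hom.app U s = res r U • s
  have hA : e.app U (1 : Γ(X, U)) = res r U := by
    have h := app_naturality_apply e (homOfLE (le_top : U ≤ ⊤)) (1 : Γ(X, ⊤))
    rw [structureModule_map_one] at h
    rw [h]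
    rfl
  haveI : (Coh.structureModule X).IsQuasicoherent := hO.1
  haveI : M.obj.IsQuasicoherent := M.property.1
  let f : Γ(Coh.structureModule X, U) →ₗ[Γ(X, U)] Γ(M.obj, U) :=
    LinearMap.toSpanSingleton Γ(X, U) Γ(M.obj, U) s
  have hHcoh : Coh.IsCoh (HOf hU (Coh.structureModule X) M.obj f) :=
    ⟨inferInstance, isFiniteType_H _ _ _ _ hO.2 M.property.2⟩
  let HH : CohCat X := ⟨HOf hU (Coh.structureModule X) M.obj f, hHcoh⟩
  let Q₁ : HH ⟶ O := ObjectProperty.homMk (q₁ hU (Coh.structureModule X) M.obj f)
  let Q₂ : HH ⟶ M := ObjectProperty.homMk (q₂ hU (Coh.structureModule X) M.obj f)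
  let ψ : HOf hU (Coh.structureModule X) M.obj f ⟶ HOf hU (Coh.structureModule X) M.obj f :=
    (φ.app HH).hom
  have n₁ : q₁ hU (Coh.structureModule X) M.obj f ≫ e = ψ ≫ q₁ hU (Coh.structureModule X) M.obj f :=
    congr(($(φ.naturality Q₁)).hom)
  have n₂ : q₂ hU (Coh.structureModule X) M.obj f ≫ (φ.app M).hom =
      ψ ≫ q₂ hU (Coh.structureModule X) M.obj f :=
    congr(($(φ.naturality Q₂)).hom)
  have hbij : Function.Bijective ((q₁ hU (Coh.structureModule X) M.obj f).app U) := by
    have := isIso_p₁_app hU.fromSpec (Coh.structureModule X) M.obj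
      (αOf hU (Coh.structureModule X) M.obj f) U (by rw [hU.opensRange_fromSpec])
    exact (ConcreteCategory.isIso_iff_bijective _).mp this
  obtain ⟨h, hh⟩ := hbij.2 (1 : Γ(X, U))
  have h1 : (q₁ hU (Coh.structureModule X) M.obj f).app U (ψ.app U h) = res r U := by
    have := congr(Scheme.Modules.Hom.app $n₁ U h)
    simp only [Scheme.Modules.Hom.comp_app, ConcreteCategory.comp_apply] at this
    rw [← this, hh, hA]
  have h2 : (q₁ hU (Coh.structureModule X) M.obj f).app U (res r U • h) = res r U := by
    rw [Scheme.Modules.Hom.app_smul, hh]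
    exact mul_one (res r U)
  have h3 : ψ.app U h = res r U • h := hbij.1 (h1.trans h2.symm)
  have h4 : (q₂ hU (Coh.structureModule X) M.obj f).app U h = s := by
    rw [q₂_app_eq, hh]
    exact one_smul _ s
  have h5 := congr(Scheme.Modules.Hom.app $n₂ U h)
  simp only [Scheme.Modules.Hom.comp_app, ConcreteCategory.comp_apply] at h5
  rw [h4, h3, Scheme.Modules.Hom.app_smul, h4] at h5
  exact h5

end Groth.Agent.Lib.Helper21.CohCentre
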