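import Groth.Agent.S4355

/-!
# Extension of coherent subsheaves from an open of a Noetherian scheme (helper21)

`exists_coh_extension`: on a Noetherian scheme `X`, for an open `U`, a quasi-coherent `F` on `X`
and a quasi-coherent finite type `G ⊆ F|_U`, there is a coherent `G' ⊆ F` with `G'|_U = G`.
(Specialization of helper40's `S4355` to the Noetherian case, with a finite affine cover.)
-/

set_option autoImplicit false
universe u
open AlgebraicGeometry CategoryTheory Opposite TopologicalSpace Limits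

namespace Groth.Agent.Lib.Helper21.CohExtend

variable {X : Scheme.{u}}

theorem exists_coh_extension [IsNoetherian X] (U : X.Opens) (F : X.Modules) [F.IsQuasicoherent]
    (G : (U : Scheme.{u}).Modules) (i : G ⟶ F.restrict U.ι) [Mono i] [G.IsQuasicoherent]
    (hG : SheafOfModules.IsFiniteType (R := (U : Scheme.{u}).ringCatSheaf) G) :
    ∃ (G' : X.Modules) (i' : G' ⟶ F) (e : G'.restrict U.ι ≅ G), Mono i' ∧ Coh.IsCoh G' ∧
      e.hom ≫ i = (Scheme.Modules.restrictFunctor U.ι).map i' := by
  obtain ⟨t, ht⟩ := isCompact_univ.elim_finite_subcover (fun U : X.affineOpens => (U.1 : Set X))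
    (fun U => U.1.2) (by
      intro x _
      obtain ⟨_, ⟨V, hV, rfl⟩, hxV, -⟩ :=
        X.isBasis_affineOpens.exists_subset_of_mem_open (Set.mem_univ x) isOpen_univ
      exact Set.mem_iUnion.mpr ⟨⟨V, hV⟩, hxV⟩)
  let V : Fin t.card → X.Opens := fun l => ((t.equivFin.symm l).1 : X.affineOpens).1
  have hV : ∀ l, IsAffineOpen (V l) := fun l => ((t.equivFin.symm l).1 : X.affineOpens).2
  have hcov : ⨆ l, V l = ⊤ := by
    rw [eq_top_iff]
    intro x _
    have hxt : x ∈ ⋃ i ∈ t, ((i : X.affineOpens).1 : Set X) := ht (Set.mem_univ x)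
    simp only [Set.mem_iUnion] at hxt
    obtain ⟨W, hWt, hxW⟩ := hxt
    refine Opens.mem_iSup.mpr ⟨t.equivFin ⟨W, hWt⟩, ?_⟩
    change x ∈ ((t.equivFin.symm (t.equivFin ⟨W, hWt⟩)).1 : X.affineOpens).1
    rw [Equiv.symm_apply_apply]
    exact hxW
  obtain ⟨G', i', e, h1, h2, h3, h4⟩ := Groth.Agent.S4355.result V hV hcov
    (fun l => NoetherianSpace.isCompact _) U F G i hG
  exact ⟨G', i', e, h1, ⟨h2, h3⟩, h4⟩

end Groth.Agent.Lib.Helper21.CohExtend
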