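import Groth.Agent.Lib.Helper21.FiltColimSecAff
import Groth.Agent.Lib.Helper21.QCohSections
import Groth.Agent.Lib.Helper29.QCohLoc
import Groth.Agent.Lib.Helper48.Conormal1
import Groth.Agent.Lib.Lead.CohAff3
import Groth.Agent.Lib.Helper2.KerSec

set_option autoImplicit false
set_option linter.style.haveILetI false
universe u

open AlgebraicGeometry CategoryTheory Opposite TopologicalSpace Limits

namespace Groth.Agent.Lib.Helper21.FiltEpi

open Groth.Agent.Lib.Helper21.FiltColimSec Groth.Agent.Lib.Helper21.FiltColimSecAff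
  Groth.Agent.Lib.Helper29.QCohLoc

variable {X : Scheme.{u}}

/-- A morphism into a quasi-coherent module which is surjective on sections over the members of an
affine open cover is an epimorphism. -/
theorem epi_of_surjective_on_affine_cover {M N : X.Modules} [N.IsQuasicoherent] (φ : M ⟶ N)
    (𝒰 : Set X.Opens) (haff : ∀ U ∈ 𝒰, IsAffineOpen U) (hcov : ∀ x : X, ∃ U ∈ 𝒰, x ∈ U)
    (h : ∀ U ∈ 𝒰, Function.Surjective (φ.app U)) : Epi φ := by
  apply Groth.Agent.Lib.Helper48.Conormal.epi_of_locally_surjective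
  intro U' t x hx
  obtain ⟨U, hU𝒰, hxU⟩ := hcov x
  have hU := haff U hU𝒰
  obtain ⟨f, hf1, hf2⟩ := hU.exists_basicOpen_le (V := U ⊓ U') ⟨x, ⟨hxU, hx⟩⟩ hxU
  have hWU' : X.basicOpen f ≤ U' := hf1.trans inf_le_right
  refine ⟨X.basicOpen f, hWU', hf2, ?_⟩
  obtain ⟨n, s, hs⟩ := (LocAt.of_isQuasicoherent N hU).ext f
    (N.presheaf.map (homOfLE hWU').op t)
  obtain ⟨a, ha⟩ := h U hU𝒰 s
  have hunit : IsUnit (X.presheaf.map (homOfLE (X.basicOpen_le f)).op f) :=
    RingedSpace.isUnit_res_basicOpen _ f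
  obtain ⟨v, hv⟩ := hunit
  refine ⟨((v⁻¹ ^ n : (Γ(X, X.basicOpen f))ˣ) : Γ(X, X.basicOpen f)) •
    M.presheaf.map (homOfLE (X.basicOpen_le f)).op a, ?_⟩
  change φ.app _ _ = N.presheaf.map (homOfLE hWU').op t
  rw [Scheme.Modules.Hom.app_smul, Groth.Agent.Lib.Helper2.KerSec.naturality_apply, ha, hs, ← hv,
    smul_smul, ← Units.val_pow_eq_pow_val, ← Units.val_mul, inv_pow, inv_mul_cancel, Units.val_one,
    one_smul]

open Groth.Agent.Lib.Helper21.QCohSections Groth.Agent.Lib.Lead.CohAff in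
/-- Over an affine open, the composites `G_j ⟶ G ⟶ F` are eventually surjective on sections. -/
theorem exists_index_surjective {J : Type u} [SmallCategory J] [IsFiltered J] (D : J ⥤ X.Modules)
    (c : Cocone D) (hc : IsColimit c) [c.pt.IsQuasicoherent]
    (F : X.Modules) [F.IsQuasicoherent]
    (hF : SheafOfModules.IsFiniteType (R := X.ringCatSheaf) F) (u : c.pt ⟶ F) [Epi u]
    {U : X.Opens} (hU : IsAffineOpen U) :
    ∃ j₀ : J, ∀ j : J, Nonempty (j₀ ⟶ j) → Function.Surjective ((c.ι.app j ≫ u).app U) := by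
  classical
  haveI : Module.Finite Γ(X, U) Γ(F, U) := (isFiniteType_iff_finite_sections F).mp hF U hU
  obtain ⟨gens, hgens⟩ := (Module.Finite.fg_top : (⊤ : Submodule Γ(X, U) Γ(F, U)).FG)
  have h1 : ∀ m : ↥gens, ∃ (k : J) (t : Γ(D.obj k, U)), (c.ι.app k ≫ u).app U t = m.1 := by
    intro m
    obtain ⟨g, hg⟩ := app_surjective_of_epi u hU m.1
    obtain ⟨k, t, ht⟩ := exists_rep_aff hc hU g
    refine ⟨k, t, ?_⟩
    change u.app U ((c.ι.app k).app U t) = _
    rw [ht, hg]
  choose k t hkt using h1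
  obtain ⟨S, hS⟩ := IsFiltered.sup_objs_exists (gens.attach.image k)
  refine ⟨S, fun j hj => ?_⟩
  have hrange : LinearMap.range (appL (c.ι.app j ≫ u) U) = ⊤ := by
    rw [eq_top_iff, ← hgens, Submodule.span_le]
    intro m hm
    obtain ⟨a⟩ := hS (Finset.mem_image_of_mem k (Finset.mem_attach gens ⟨m, hm⟩))
    obtain ⟨b⟩ := hj
    refine ⟨(D.map (a ≫ b)).app U (t ⟨m, hm⟩), ?_⟩
    have hw := c.w (a ≫ b)
    change u.app U ((c.ι.app j).app U ((D.map (a ≫ b)).app U (t ⟨m, hm⟩))) = m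
    have h2 : (c.ι.app j).app U ((D.map (a ≫ b)).app U (t ⟨m, hm⟩)) =
        (c.ι.app (k ⟨m, hm⟩)).app U (t ⟨m, hm⟩) :=
      congr($(congrArg (fun φ => Scheme.Modules.Hom.app φ U) hw) (t ⟨m, hm⟩))
    rw [h2]
    exact hkt ⟨m, hm⟩
  intro y
  have : y ∈ LinearMap.range (appL (c.ι.app j ≫ u) U) := by rw [hrange]; trivial
  exact this

/-- EGA-style criterion: a map from a filtered colimit of quasi-coherent modules onto a finite type
quasi-coherent module on a quasi-compact scheme is an epimorphism iff it is so from some stage on. -/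
theorem epi_iff_of_filtered [CompactSpace X] {J : Type u} [SmallCategory J] [IsFiltered J]
    (D : J ⥤ X.Modules) (c : Cocone D) (hc : IsColimit c) [c.pt.IsQuasicoherent]
    (F : X.Modules) [F.IsQuasicoherent]
    (hF : SheafOfModules.IsFiniteType (R := X.ringCatSheaf) F) (u : c.pt ⟶ F) :
    Epi u ↔ ∃ j₀ : J, ∀ j : J, Nonempty (j₀ ⟶ j) → Epi (c.ι.app j ≫ u) := by
  classical
  constructor
  · intro hu
    have hc' : IsCompact (((⊤ : X.Opens) : X.Opens) : Set X) := by
      rw [Opens.coe_top]; exact isCompact_univ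
    obtain ⟨s, hs, hsU⟩ := isCompact_iff_finite_and_eq_biUnion_affineOpens.mp hc'
    have h1 : ∀ i : X.affineOpens, ∃ j₀ : J, ∀ j : J, Nonempty (j₀ ⟶ j) →
        Function.Surjective ((c.ι.app j ≫ u).app (i : X.Opens)) :=
      fun i => exists_index_surjective D c hc F hF u i.2
    choose jU hjU using h1
    obtain ⟨S, hS⟩ := IsFiltered.sup_objs_exists (hs.toFinset.image jU)
    refine ⟨S, fun j hj => ?_⟩
    refine epi_of_surjective_on_affine_cover (c.ι.app j ≫ u)
      {U | ∃ i ∈ s, (i : X.Opens) = U} ?_ ?_ ?_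
    · rintro U ⟨i, -, rfl⟩
      exact i.2
    · intro x
      have hx : x ∈ (⊤ : X.Opens) := trivial
      rw [hsU] at hx
      simp only [Opens.mem_iSup] at hx
      obtain ⟨i, hi, hxi⟩ := hx
      exact ⟨i, ⟨i, hi, rfl⟩, hxi⟩
    · rintro U ⟨i, hi, rfl⟩
      obtain ⟨a⟩ := hS (Finset.mem_image_of_mem jU (hs.mem_toFinset.mpr hi))
      obtain ⟨b⟩ := hj
      exact hjU i j ⟨a ≫ b⟩
  · rintro ⟨j₀, h⟩
    haveI := h j₀ ⟨𝟙 _⟩
    exact epi_of_epi (c.ι.app j₀) u

end Groth.Agent.Lib.Helper21.FiltEpi
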