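import Groth.Agent.Lib.Helper21.ArtinReesSheaf2
import Groth.Agent.Lib.Helper21.MLImage
import Groth.Agent.Lib.Helper21.FiltEpi

/-!
# Sections-level Artin–Rees and tools for the Deligne system of a complex (helper21)
-/

set_option autoImplicit false
set_option linter.style.haveILetI false
universe u

open AlgebraicGeometry CategoryTheory Limits Opposite TopologicalSpace

namespace Groth.Agent.Lib.Helper21.DeligneAR

open Scheme.Modules Groth.Agent.Lib.Lead.QCohAff Groth.Agent.Lib.Lead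
  Groth.Agent.Lib.Helper2.KerSec Groth.Agent.Lib.Helper21.QCohSections
  Groth.Agent.Lib.Helper21.ArtinReesSheaf Groth.Agent.Lib.Helper21.ArtinReesS
  Groth.Agent.Lib.Helper21.IdealMulSec Groth.Agent.Lib.Helper21.MLImage

variable {X : Scheme.{u}}

theorem comp_app_apply {A B C : X.Modules} (f : A ⟶ B) (g : B ⟶ C) (U : X.Opens) (s : Γ(A, U)) :
    (f ≫ g).app U s = g.app U (f.app U s) := rfl

/-- Sections of `J · K ⟶ F` for a morphism `k : K ⟶ F` over an affine open. -/
theorem range_idealMulι_comp_app (J : X.IdealSheafData) {K F : X.Modules} (k : K ⟶ F)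
    [K.IsQuasicoherent] {U : X.Opens} (hU : IsAffineOpen U) :
    Set.range ((Dual3.idealMulι J K ≫ k).app U) =
      ((J.ideal ⟨U, hU⟩ • LinearMap.range (appL k U) : Submodule Γ(X, U) Γ(F, U)) :
        Set Γ(F, U)) := by
  have h1 : (J.ideal ⟨U, hU⟩ • LinearMap.range (appL k U) : Submodule Γ(X, U) Γ(F, U)) =
      Submodule.map (appL k U)
        (J.ideal ⟨U, hU⟩ • (⊤ : Submodule Γ(X, U) Γ(K, U))) := by
    rw [Submodule.map_smul'', Submodule.map_top]
  rw [h1]
  ext s
  constructor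
  · rintro ⟨a, rfl⟩
    refine ⟨(Dual3.idealMulι J K).app U a, ?_, rfl⟩
    exact (mem_range_idealMulι_app_iff J K hU _).1 ⟨a, rfl⟩
  · rintro ⟨y, hy, rfl⟩
    obtain ⟨a, rfl⟩ := (mem_range_idealMulι_app_iff J K hU y).2 hy
    exact ⟨a, rfl⟩

/-- A morphism out of a quasi-coherent module factors through a monomorphism as soon as it does
so on sections over all affine opens. -/
theorem exists_factor_of_range_subset {T K F : X.Modules} [T.IsQuasicoherent] (g : T ⟶ F)
    (k : K ⟶ F) [Mono k]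
    (h : ∀ U : X.Opens, IsAffineOpen U → Set.range (g.app U) ⊆ Set.range (k.app U)) :
    ∃ α : T ⟶ K, α ≫ k = g := by
  have h0 : g ≫ cokernel.π k = 0 := by
    apply eq_zero_of_app_cover _ {U : X.Opens | IsAffineOpen U}
    · intro x
      obtain ⟨_, ⟨V, hV, rfl⟩, hxV, -⟩ :=
        X.isBasis_affineOpens.exists_subset_of_mem_open (Set.mem_univ x) isOpen_univ
      exact ⟨V, hV, hxV⟩
    · intro U hU; exact hU
    · intro U hU s
      obtain ⟨q, hq⟩ := h U hU ⟨s, rfl⟩
      rw [comp_app_apply, ← hq, ← comp_app_apply, cokernel.condition]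
      rfl
  exact ⟨Abelian.monoLift k g h0, Abelian.monoLift_comp k g h0⟩

theorem ideal_pow_le (I : X.IdealSheafData) {m n : ℕ} (h : m ≤ n) {U : X.Opens}
    (hU : IsAffineOpen U) : (I ^ n).ideal ⟨U, hU⟩ ≤ (I ^ m).ideal ⟨U, hU⟩ := by
  rw [Scheme.IdealSheafData.ideal_pow, Scheme.IdealSheafData.ideal_pow, Pi.pow_apply, Pi.pow_apply]
  exact Ideal.pow_le_pow_right h

/-- Transition maps `I^n G ⟶ I^m G` for `m ≤ n`. -/
theorem exists_transition (I : X.IdealSheafData) {m n : ℕ} (h : m ≤ n) (G : X.Modules)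
    [G.IsQuasicoherent] :
    ∃ τ : (Dual3.idealMul (I ^ n)).obj G ⟶ (Dual3.idealMul (I ^ m)).obj G,
      τ ≫ Dual3.idealMulι (I ^ m) G = Dual3.idealMulι (I ^ n) G := by
  apply exists_factor_of_range_subset
  intro U hU s hs
  rw [mem_range_idealMulι_app_iff _ G hU] at hs ⊢
  exact Submodule.smul_mono (ideal_pow_le I h hU) le_rfl hs

/-- `J · (-)` preserves epimorphisms of quasi-coherent modules. -/
theorem epi_idealMul_map (J : X.IdealSheafData) {A B : X.Modules} [A.IsQuasicoherent]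
    [B.IsQuasicoherent] (π : A ⟶ B) [Epi π] : Epi ((Dual3.idealMul J).map π) := by
  apply Groth.Agent.Lib.Helper21.FiltEpi.epi_of_surjective_on_affine_cover _
    {U : X.Opens | IsAffineOpen U} (fun U hU => hU)
  · intro x
    obtain ⟨_, ⟨V, hV, rfl⟩, hxV, -⟩ :=
      X.isBasis_affineOpens.exists_subset_of_mem_open (Set.mem_univ x) isOpen_univ
    exact ⟨V, hV, hxV⟩
  · intro U hU y
    have hy : (Dual3.idealMulι J B).app U y ∈
        J.ideal ⟨U, hU⟩ • (⊤ : Submodule Γ(X, U) Γ(B, U)) :=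
      (mem_range_idealMulι_app_iff J B hU _).1 ⟨y, rfl⟩
    have htop : (⊤ : Submodule Γ(X, U) Γ(B, U)) = LinearMap.range (appL π U) := by
      symm
      rw [LinearMap.range_eq_top]
      exact app_surjective_of_epi π hU
    rw [htop] at hy
    have hy' : (Dual3.idealMulι J B).app U y ∈ Set.range ((Dual3.idealMulι J A ≫ π).app U) := by
      rw [range_idealMulι_comp_app J π hU]
      exact hy
    obtain ⟨z, hz⟩ := hy'
    refine ⟨z, idealMulι_app_injective J B U ?_⟩
    rw [← hz, ← comp_app_apply, Dual3.idealMul_map_ι]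

/-- **Sections-level Artin–Rees**, uniform over all affine opens. -/
theorem artinRees_sections [IsNoetherian X] (E G : X.Modules) (hE : Coh.IsCoh E)
    [G.IsQuasicoherent] (k : G ⟶ E) [Mono k] (I : X.IdealSheafData) :
    ∃ c₀ : ℕ, ∀ c : ℕ, c₀ ≤ c → ∀ n : ℕ, c ≤ n → ∀ (U : X.Opens) (hU : IsAffineOpen U),
      ((I ^ n).ideal ⟨U, hU⟩ • (⊤ : Submodule Γ(X, U) Γ(E, U))) ⊓ LinearMap.range (appL k U) ≤
        (I ^ (n - c)).ideal ⟨U, hU⟩ • LinearMap.range (appL k U) := by
  haveI hEq : E.IsQuasicoherent := hE.1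
  obtain ⟨c₀, hc₀⟩ := artinRees E G hE inferInstance k I
  refine ⟨c₀, fun c hc n hn U hU e he => ?_⟩
  have hn₀ : c₀ ≤ n := hc.trans hn
  haveI q1 : ∀ m : ℕ, ((Subobject.mk (Dual3.idealMulι (I ^ m) E) : Subobject E) :
      X.Modules).IsQuasicoherent := fun m =>
    PullbackAff.isQuasicoherent_of_iso (Subobject.underlyingIso (Dual3.idealMulι (I ^ m) E)).symm
  haveI q2 : ((Subobject.mk k : Subobject E) : X.Modules).IsQuasicoherent :=
    PullbackAff.isQuasicoherent_of_iso (Subobject.underlyingIso k).symm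
  haveI q3 : ∀ m : ℕ, ((Subobject.mk (Dual3.idealMulι (I ^ m) E) ⊓ Subobject.mk k :
      Subobject E) : X.Modules).IsQuasicoherent := fun m => isQuasicoherent_inf _ _
  have h1 : e ∈ Set.range ((Subobject.mk (Dual3.idealMulι (I ^ n) E) ⊓
      Subobject.mk k).arrow.app U) := by
    rw [range_inf_arrow_app, range_mk_idealMulι (I ^ n) E hU, range_mk_arrow_app]
    exact ⟨he.1, he.2⟩
  rw [← hc₀ n hn₀, range_mk_idealMulι_comp (I ^ (n - c₀)) _ hU] at h1
  refine Submodule.smul_mono (ideal_pow_le I (by omega) hU) ?_ h1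
  rintro _ ⟨w, rfl⟩
  have h2 : (Subobject.mk (Dual3.idealMulι (I ^ c₀) E) ⊓ Subobject.mk k).arrow.app U w ∈
      Set.range ((Subobject.mk (Dual3.idealMulι (I ^ c₀) E) ⊓ Subobject.mk k).arrow.app U) :=
    ⟨w, rfl⟩
  rw [range_inf_arrow_app, range_mk_arrow_app k U] at h2
  exact h2.2

end Groth.Agent.Lib.Helper21.DeligneAR
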