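import Groth.Agent.Lib.Helper21.DeligneAR

/-!
# Artin–Rees for the homology of the Deligne system `I^n F^•` (helper21)
-/

set_option autoImplicit false
set_option linter.style.haveILetI false
universe u

open AlgebraicGeometry CategoryTheory Limits Opposite TopologicalSpace

namespace Groth.Agent.Lib.Helper21.DeligneAR

open Scheme.Modules Groth.Agent.Lib.Lead.QCohAff Groth.Agent.Lib.Lead
  Groth.Agent.Lib.Helper2.KerSec Groth.Agent.Lib.Helper21.QCohSections
  Groth.Agent.Lib.Helper21.ArtinReesSheaf Groth.Agent.Lib.Helper21.ArtinReesS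
  Groth.Agent.Lib.Helper21.IdealMulSec Groth.Agent.Lib.Helper21.MLImage

variable {X : Scheme.{u}}

section Complex

variable (K : CochainComplex X.Modules ℤ) (hK : ∀ q : ℤ, (K.X q).IsQuasicoherent) (p : ℤ)

include hK in
theorem isQuasicoherent_cycles : (K.cycles p).IsQuasicoherent := by
  haveI := hK p
  haveI := hK (p + 1)
  haveI : (kernel (K.d p (p + 1))).IsQuasicoherent :=
    Groth.Agent.Lib.Helper21.QCohKernel.isQuasicoherent_kernel _
  let e : K.cycles p ≅ kernel (K.d p (p + 1)) :=
    IsLimit.conePointUniqueUpToIso (K.cyclesIsKernel p (p + 1) (by simp)) (limit.isLimit _)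
  exact PullbackAff.isQuasicoherent_of_iso e.symm

include hK in
theorem isQuasicoherent_homology : (K.homology p).IsQuasicoherent := by
  haveI := hK (p - 1)
  haveI := isQuasicoherent_cycles K hK p
  haveI : (cokernel (K.toCycles (p - 1) p)).IsQuasicoherent :=
    Groth.Agent.Lib.Helper21.QCohKernel.isQuasicoherent_cokernel _
  let e : K.homology p ≅ cokernel (K.toCycles (p - 1) p) :=
    IsColimit.coconePointUniqueUpToIso (K.homologyIsCokernel (p - 1) p (by simp))
      (colimit.isColimit _)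
  exact PullbackAff.isQuasicoherent_of_iso e.symm

include hK in
/-- On affine opens, a cycle section which dies in homology is a boundary. -/
theorem exists_toCycles_eq {U : X.Opens} (hU : IsAffineOpen U) (z : Γ(K.cycles p, U))
    (hz : (K.homologyπ p).app U z = 0) :
    ∃ t : Γ(K.X (p - 1), U), (K.toCycles (p - 1) p).app U t = z := by
  haveI := hK (p - 1)
  haveI := isQuasicoherent_cycles K hK p
  haveI := isQuasicoherent_homology K hK p
  let S : ShortComplex X.Modules :=
    ShortComplex.mk (K.toCycles (p - 1) p) (K.homologyπ p) (K.toCycles_comp_homologyπ (p - 1) p)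
  have hS : S.Exact := S.exact_of_g_is_cokernel (K.homologyIsCokernel (p - 1) p (by simp))
  haveI : Epi (kernel.lift S.g S.f S.zero) := S.exact_iff_epi_kernel_lift.1 hS
  haveI : (kernel S.g).IsQuasicoherent :=
    Groth.Agent.Lib.Helper21.QCohKernel.isQuasicoherent_kernel _
  obtain ⟨z', hz'⟩ := exists_of_app_eq_zero S.g U z hz
  obtain ⟨t, ht⟩ := app_surjective_of_epi (kernel.lift S.g S.f S.zero) hU z'
  refine ⟨t, ?_⟩
  rw [← hz', ← ht, ← comp_app_apply, kernel.lift_ι]

end Complex

section Main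

variable [IsNoetherian X] (I : X.IdealSheafData) (F : CochainComplex X.Modules ℤ)
  (hFc : ∀ q : ℤ, Coh.IsCoh (F.X q)) (p : ℤ)

omit [AlgebraicGeometry.IsNoetherian X] in
include hFc in
theorem isQuasicoherent_deligne_X (n : ℕ) (q : ℤ) :
    (((Dual3.deligne I n).obj F).X q).IsQuasicoherent := by
  haveI := (hFc q).1
  exact inferInstanceAs ((Dual3.idealMul (I ^ n)).obj (F.X q)).IsQuasicoherent

omit [AlgebraicGeometry.IsNoetherian X] in
theorem affine_cover (x : X) : ∃ U ∈ {U : X.Opens | IsAffineOpen U}, x ∈ U := by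
  obtain ⟨_, ⟨V, hV, rfl⟩, hxV, -⟩ :=
    X.isBasis_affineOpens.exists_subset_of_mem_open (Set.mem_univ x) isOpen_univ
  exact ⟨V, hV, hxV⟩

include hFc in
/-- Artin–Rees for cycles: `Z ∩ I^n F^p ⊆ I^(n-c) Z`. -/
theorem exists_alpha :
    ∃ c₀ : ℕ, ∀ c : ℕ, c₀ ≤ c → ∀ n : ℕ, c ≤ n →
      ∃ α : ((Dual3.deligne I n).obj F).cycles p ⟶
          (Dual3.idealMul (I ^ (n - c))).obj (F.cycles p),
        α ≫ Dual3.idealMulι (I ^ (n - c)) (F.cycles p) ≫ F.iCycles p =
          ((Dual3.deligne I n).obj F).iCycles p ≫ Dual3.idealMulι (I ^ n) (F.X p) := by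
  have hq : ∀ q, (F.X q).IsQuasicoherent := fun q => (hFc q).1
  haveI := isQuasicoherent_cycles F hq p
  haveI := hq p
  obtain ⟨c₀, h⟩ := artinRees_sections (F.X p) (F.cycles p) (hFc p) (F.iCycles p) I
  refine ⟨c₀, fun c hc n hn => ?_⟩
  haveI := isQuasicoherent_cycles _ (isQuasicoherent_deligne_X I F hFc n) p
  haveI : Mono (Dual3.idealMulι (I ^ (n - c)) (F.cycles p) ≫ F.iCycles p) := mono_comp _ _
  apply exists_factor_of_range_subset
  intro U hU e he
  obtain ⟨s, rfl⟩ := he
  rw [range_idealMulι_comp_app (I ^ (n - c)) (F.iCycles p) hU]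
  apply h c hc n hn U hU
  constructor
  · apply (mem_range_idealMulι_app_iff (I ^ n) (F.X p) hU _).1
    exact ⟨(((Dual3.deligne I n).obj F).iCycles p).app U s, rfl⟩
  · have h1 := HomologicalComplex.cyclesMap_i (Dual3.deligneι I n F) p
    refine ⟨(HomologicalComplex.cyclesMap (Dual3.deligneι I n F) p).app U s, ?_⟩
    rw [appL_apply, ← comp_app_apply, h1]
    rfl

include hFc in
/-- Artin–Rees for boundaries: `B ∩ I^n F^p ⊆ d(I^(n-c) F^(p-1))`, in the form needed to descend
maps to the homology of `I^(n-c) F^•`. -/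
theorem exists_vanishing :
    ∃ c₀ : ℕ, ∀ c : ℕ, c₀ ≤ c → ∀ n : ℕ, c ≤ n →
      ∀ β : (Dual3.idealMul (I ^ n)).obj (F.cycles p) ⟶
          ((Dual3.deligne I (n - c)).obj F).cycles p,
        β ≫ ((Dual3.deligne I (n - c)).obj F).iCycles p ≫
            Dual3.idealMulι (I ^ (n - c)) (F.X p) =
          Dual3.idealMulι (I ^ n) (F.cycles p) ≫ F.iCycles p →
        kernel.ι ((Dual3.idealMul (I ^ n)).map (F.homologyπ p)) ≫ β ≫
          ((Dual3.deligne I (n - c)).obj F).homologyπ p = 0 := by
  have hq : ∀ q, (F.X q).IsQuasicoherent := fun q => (hFc q).1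
  haveI := isQuasicoherent_cycles F hq p
  haveI := isQuasicoherent_homology F hq p
  haveI := hq p
  haveI := hq (p - 1)
  haveI := isQuasicoherent_imageSubobject (F.d (p - 1) p)
  obtain ⟨c₀, h⟩ := artinRees_sections (F.X p)
    ((imageSubobject (F.d (p - 1) p) : Subobject (F.X p)) : X.Modules) (hFc p)
    (imageSubobject (F.d (p - 1) p)).arrow I
  refine ⟨c₀, fun c hc n hn β hβ => ?_⟩
  haveI : (kernel ((Dual3.idealMul (I ^ n)).map (F.homologyπ p))).IsQuasicoherent :=
    Groth.Agent.Lib.Helper21.QCohKernel.isQuasicoherent_kernel _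
  apply eq_zero_of_app_cover _ {U : X.Opens | IsAffineOpen U} affine_cover (fun U hU => hU)
  intro U hU s
  have hz : ((Dual3.idealMul (I ^ n)).map (F.homologyπ p)).app U
      ((kernel.ι ((Dual3.idealMul (I ^ n)).map (F.homologyπ p))).app U s) = 0 :=
    app_kernelι_comp _ U s
  rw [comp_app_apply, comp_app_apply]
  generalize (kernel.ι ((Dual3.idealMul (I ^ n)).map (F.homologyπ p))).app U s = z at hz ⊢
  have hz₀ : (F.homologyπ p).app U ((Dual3.idealMulι (I ^ n) (F.cycles p)).app U z) = 0 := by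
    rw [← comp_app_apply, ← Dual3.idealMul_map_ι, comp_app_apply, hz, map_zero]
  obtain ⟨t, ht⟩ := exists_toCycles_eq F hq p hU _ hz₀
  have he1 : (Dual3.idealMulι (I ^ n) (F.cycles p) ≫ F.iCycles p).app U z ∈
      (I ^ n).ideal ⟨U, hU⟩ • (⊤ : Submodule Γ(X, U) Γ(F.X p, U)) := by
    apply (mem_range_idealMulι_app_iff (I ^ n) (F.X p) hU _).1
    refine ⟨((Dual3.idealMul (I ^ n)).map (F.iCycles p)).app U z, ?_⟩
    rw [← comp_app_apply, Dual3.idealMul_map_ι]
  have he2 : (Dual3.idealMulι (I ^ n) (F.cycles p) ≫ F.iCycles p).app U z ∈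
      LinearMap.range (appL (imageSubobject (F.d (p - 1) p)).arrow U) := by
    have h2 : (Dual3.idealMulι (I ^ n) (F.cycles p) ≫ F.iCycles p).app U z ∈
        Set.range ((imageSubobject (F.d (p - 1) p)).arrow.app U) := by
      rw [range_imageSubobject_arrow_app (F.d (p - 1) p) hU]
      refine ⟨t, ?_⟩
      rw [← HomologicalComplex.toCycles_i F (p - 1) p, comp_app_apply, ht, comp_app_apply]
    exact h2
  have he3 := h c hc n hn U hU ⟨he1, he2⟩
  have hrange : LinearMap.range (appL (imageSubobject (F.d (p - 1) p)).arrow U) =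
      LinearMap.range (appL (F.d (p - 1) p) U) := by
    apply SetLike.coe_injective
    exact range_imageSubobject_arrow_app (F.d (p - 1) p) hU
  rw [hrange] at he3
  have he4 : (Dual3.idealMulι (I ^ n) (F.cycles p) ≫ F.iCycles p).app U z ∈
      Set.range ((Dual3.idealMulι (I ^ (n - c)) (F.X (p - 1)) ≫ F.d (p - 1) p).app U) := by
    rw [range_idealMulι_comp_app (I ^ (n - c)) (F.d (p - 1) p) hU]
    exact he3
  obtain ⟨t', ht'⟩ := he4
  have hy : β.app U z = (((Dual3.deligne I (n - c)).obj F).toCycles (p - 1) p).app U t' := by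
    have hm2 := Dual3.mono_idealMulι (I ^ (n - c)) (F.X p)
    haveI : Mono (((Dual3.deligne I (n - c)).obj F).iCycles p ≫
        Dual3.idealMulι (I ^ (n - c)) (F.X p)) :=
      @mono_comp _ _ _ _ _ (((Dual3.deligne I (n - c)).obj F).iCycles p) inferInstance
        (Dual3.idealMulι (I ^ (n - c)) (F.X p)) hm2
    have key : ((Dual3.deligne I (n - c)).obj F).toCycles (p - 1) p ≫
        ((Dual3.deligne I (n - c)).obj F).iCycles p ≫ Dual3.idealMulι (I ^ (n - c)) (F.X p) =
        Dual3.idealMulι (I ^ (n - c)) (F.X (p - 1)) ≫ F.d (p - 1) p := by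
      rw [← Category.assoc, HomologicalComplex.toCycles_i]
      exact Dual3.idealMul_map_ι (I ^ (n - c)) (F.d (p - 1) p)
    apply app_injective_of_mono (((Dual3.deligne I (n - c)).obj F).iCycles p ≫
        Dual3.idealMulι (I ^ (n - c)) (F.X p)) U
    rw [← comp_app_apply, hβ, ← comp_app_apply, key]
    exact ht'.symm
  rw [hy, ← comp_app_apply, HomologicalComplex.toCycles_comp_homologyπ]
  rfl

end Main

end Groth.Agent.Lib.Helper21.DeligneAR
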