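import Groth.Agent.Lib.Helper21.DeligneAR2

/-!
# The pro-isomorphism `H^p(I^n F^•) ↔ I^n H^p(F^•)` (helper21)
-/

set_option autoImplicit false
set_option linter.style.haveILetI false
universe u

open AlgebraicGeometry CategoryTheory Limits Opposite TopologicalSpace

namespace Groth.Agent.Lib.Helper21.DeligneAR

open Scheme.Modules Groth.Agent.Lib.Helper21.ArtinReesS

variable {X : Scheme.{u}}

theorem main [IsNoetherian X] (I : X.IdealSheafData) (F : CochainComplex X.Modules ℤ)
    (hFc : ∀ q : ℤ, Coh.IsCoh (F.X q)) (p : ℤ) :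
    ∃ (c : ℕ) (φ : ∀ n : ℕ, ((Dual3.deligne I n).obj F).homology p ⟶
        (Dual3.idealMul (I ^ (n - c))).obj (F.homology p))
      (ψ : ∀ n : ℕ, (Dual3.idealMul (I ^ n)).obj (F.homology p) ⟶
        ((Dual3.deligne I (n - c)).obj F).homology p), 0 < c ∧
      (∀ n : ℕ, c ≤ n → φ n ≫ Dual3.idealMulι (I ^ (n - c)) (F.homology p) =
        HomologicalComplex.homologyMap (Dual3.deligneι I n F) p) ∧
      (∀ n : ℕ, c ≤ n → ψ n ≫ HomologicalComplex.homologyMap (Dual3.deligneι I (n - c) F) p =
        Dual3.idealMulι (I ^ n) (F.homology p)) ∧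
      (∀ n : ℕ, 2 * c ≤ n → (ψ n ≫ φ (n - c)) ≫ Dual3.idealMulι (I ^ (n - c - c)) (F.homology p) =
        Dual3.idealMulι (I ^ n) (F.homology p)) ∧
      ∀ (n : ℕ), 2 * c ≤ n → ∀ t : (Dual3.deligne I n).obj F ⟶ (Dual3.deligne I (n - c - c)).obj F,
        t ≫ Dual3.deligneι I (n - c - c) F = Dual3.deligneι I n F →
          φ n ≫ ψ (n - c) = HomologicalComplex.homologyMap t p := by
  classical
  have hq : ∀ q, (F.X q).IsQuasicoherent := fun q => (hFc q).1
  haveI hZq := isQuasicoherent_cycles F hq p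
  haveI hHq := isQuasicoherent_homology F hq p
  obtain ⟨cA, hA⟩ := exists_alpha I F hFc p
  obtain ⟨cB, hB⟩ := exists_vanishing I F hFc p
  obtain ⟨c, hc, hcA, hcB⟩ : ∃ c : ℕ, 0 < c ∧ cA ≤ c ∧ cB ≤ c :=
    ⟨max cA cB + 1, by omega, by omega, by omega⟩
  -- cycle maps through `α`
  have hcyc : ∀ n, c ≤ n → ∀ α : ((Dual3.deligne I n).obj F).cycles p ⟶
      (Dual3.idealMul (I ^ (n - c))).obj (F.cycles p),
      α ≫ Dual3.idealMulι (I ^ (n - c)) (F.cycles p) ≫ F.iCycles p =
        ((Dual3.deligne I n).obj F).iCycles p ≫ Dual3.idealMulι (I ^ n) (F.X p) →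
      HomologicalComplex.cyclesMap (Dual3.deligneι I n F) p =
        α ≫ Dual3.idealMulι (I ^ (n - c)) (F.cycles p) := by
    intro n hn α hα
    rw [← cancel_mono (F.iCycles p), HomologicalComplex.cyclesMap_i, Category.assoc, hα]
    rfl
  have hφ : ∀ n, c ≤ n → ∃ φ : ((Dual3.deligne I n).obj F).homology p ⟶
      (Dual3.idealMul (I ^ (n - c))).obj (F.homology p),
      φ ≫ Dual3.idealMulι (I ^ (n - c)) (F.homology p) =
        HomologicalComplex.homologyMap (Dual3.deligneι I n F) p := by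
    intro n hn
    obtain ⟨α, hα⟩ := hA c hcA n hn
    have hk : Dual3.idealMulι (I ^ (n - c)) (F.homology p) ≫
        (pullbackPushforwardAdjunction (I ^ (n - c)).subschemeι).unit.app (F.homology p) = 0 :=
      kernel.condition _
    have h0 : HomologicalComplex.homologyMap (Dual3.deligneι I n F) p ≫
        (pullbackPushforwardAdjunction (I ^ (n - c)).subschemeι).unit.app (F.homology p) = 0 := by
      rw [← cancel_epi (((Dual3.deligne I n).obj F).homologyπ p),
        HomologicalComplex.homologyπ_naturality_assoc, hcyc n hn α hα, comp_zero, Category.assoc,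
        ← Dual3.idealMul_map_ι_assoc, hk, comp_zero, comp_zero]
    exact ⟨kernel.lift _ _ h0, kernel.lift_ι _ _ _⟩
  have hψ : ∀ n, c ≤ n → ∃ ψ : (Dual3.idealMul (I ^ n)).obj (F.homology p) ⟶
      ((Dual3.deligne I (n - c)).obj F).homology p,
      ∃ β : (Dual3.idealMul (I ^ n)).obj (F.cycles p) ⟶
          ((Dual3.deligne I (n - c)).obj F).cycles p,
        β ≫ ((Dual3.deligne I (n - c)).obj F).iCycles p ≫
            Dual3.idealMulι (I ^ (n - c)) (F.X p) =
          Dual3.idealMulι (I ^ n) (F.cycles p) ≫ F.iCycles p ∧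
        (Dual3.idealMul (I ^ n)).map (F.homologyπ p) ≫ ψ =
          β ≫ ((Dual3.deligne I (n - c)).obj F).homologyπ p := by
    intro n hn
    obtain ⟨τ, hτ⟩ := exists_transition I (Nat.sub_le n c) (F.cycles p)
    let k : (Dual3.idealMul (I ^ n)).obj (F.cycles p) ⟶ ((Dual3.deligne I (n - c)).obj F).X p :=
      τ ≫ (Dual3.idealMul (I ^ (n - c))).map (F.iCycles p)
    have hk : k ≫ ((Dual3.deligne I (n - c)).obj F).d p (p + 1) = 0 := by
      change (τ ≫ (Dual3.idealMul (I ^ (n - c))).map (F.iCycles p)) ≫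
        (Dual3.idealMul (I ^ (n - c))).map (F.d p (p + 1)) = 0
      rw [Category.assoc, ← Functor.map_comp, F.iCycles_d, Functor.map_zero, comp_zero]
    let β := ((Dual3.deligne I (n - c)).obj F).liftCycles k (p + 1) (by simp) hk
    have hβ : β ≫ ((Dual3.deligne I (n - c)).obj F).iCycles p ≫
        Dual3.idealMulι (I ^ (n - c)) (F.X p) =
        Dual3.idealMulι (I ^ n) (F.cycles p) ≫ F.iCycles p := by
      rw [← Category.assoc, HomologicalComplex.liftCycles_i]
      change (τ ≫ (Dual3.idealMul (I ^ (n - c))).map (F.iCycles p)) ≫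
        Dual3.idealMulι (I ^ (n - c)) (F.X p) = _
      rw [Category.assoc, Dual3.idealMul_map_ι, ← Category.assoc, hτ]
    have hv := hB c hcB n hn β hβ
    haveI := epi_idealMul_map (I ^ n) (F.homologyπ p)
    exact ⟨Abelian.epiDesc _ _ hv, β, hβ, Abelian.comp_epiDesc _ _ hv⟩
  let φ : ∀ n : ℕ, ((Dual3.deligne I n).obj F).homology p ⟶
      (Dual3.idealMul (I ^ (n - c))).obj (F.homology p) :=
    fun n => if h : c ≤ n then (hφ n h).choose else 0
  let ψ : ∀ n : ℕ, (Dual3.idealMul (I ^ n)).obj (F.homology p) ⟶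
      ((Dual3.deligne I (n - c)).obj F).homology p :=
    fun n => if h : c ≤ n then (hψ n h).choose else 0
  have P1 : ∀ n : ℕ, c ≤ n → φ n ≫ Dual3.idealMulι (I ^ (n - c)) (F.homology p) =
      HomologicalComplex.homologyMap (Dual3.deligneι I n F) p := by
    intro n hn
    simp only [φ, dif_pos hn]
    exact (hφ n hn).choose_spec
  have Q2 : ∀ n : ℕ, c ≤ n → ∃ β : (Dual3.idealMul (I ^ n)).obj (F.cycles p) ⟶
      ((Dual3.deligne I (n - c)).obj F).cycles p,
      β ≫ ((Dual3.deligne I (n - c)).obj F).iCycles p ≫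
          Dual3.idealMulι (I ^ (n - c)) (F.X p) =
        Dual3.idealMulι (I ^ n) (F.cycles p) ≫ F.iCycles p ∧
      (Dual3.idealMul (I ^ n)).map (F.homologyπ p) ≫ ψ n =
        β ≫ ((Dual3.deligne I (n - c)).obj F).homologyπ p := by
    intro n hn
    simp only [ψ, dif_pos hn]
    exact (hψ n hn).choose_spec
  have P2 : ∀ n : ℕ, c ≤ n →
      ψ n ≫ HomologicalComplex.homologyMap (Dual3.deligneι I (n - c) F) p =
        Dual3.idealMulι (I ^ n) (F.homology p) := by
    intro n hn
    obtain ⟨β, hβ, hψβ⟩ := Q2 n hn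
    haveI := epi_idealMul_map (I ^ n) (F.homologyπ p)
    have h1 : β ≫ HomologicalComplex.cyclesMap (Dual3.deligneι I (n - c) F) p =
        Dual3.idealMulι (I ^ n) (F.cycles p) := by
      rw [← cancel_mono (F.iCycles p), Category.assoc, HomologicalComplex.cyclesMap_i]
      exact hβ
    rw [← cancel_epi ((Dual3.idealMul (I ^ n)).map (F.homologyπ p)), ← Category.assoc, hψβ,
      Category.assoc, HomologicalComplex.homologyπ_naturality, Dual3.idealMul_map_ι,
      ← Category.assoc, h1]
  refine ⟨c, φ, ψ, hc, P1, P2, ?_, ?_⟩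
  · intro n hn
    have h1 : c ≤ n := by omega
    have h2 : c ≤ n - c := by omega
    rw [Category.assoc, P1 (n - c) h2, P2 n h1]
  · intro n hn t ht
    have h1 : c ≤ n := by omega
    have h2 : c ≤ n - c := by omega
    obtain ⟨α, hα⟩ := hA c hcA n h1
    obtain ⟨β, hβ, hψβ⟩ := Q2 (n - c) h2
    have e1 : ((Dual3.deligne I n).obj F).homologyπ p ≫ φ n =
        α ≫ (Dual3.idealMul (I ^ (n - c))).map (F.homologyπ p) := by
      rw [← cancel_mono (Dual3.idealMulι (I ^ (n - c)) (F.homology p)), Category.assoc, P1 n h1,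
        HomologicalComplex.homologyπ_naturality, Category.assoc, Dual3.idealMul_map_ι,
        hcyc n h1 α hα, Category.assoc]
    have hm2 := Dual3.mono_idealMulι (I ^ (n - c - c)) (F.X p)
    haveI : Mono (((Dual3.deligne I (n - c - c)).obj F).iCycles p ≫
        Dual3.idealMulι (I ^ (n - c - c)) (F.X p)) :=
      @mono_comp _ _ _ _ _ (((Dual3.deligne I (n - c - c)).obj F).iCycles p) inferInstance
        (Dual3.idealMulι (I ^ (n - c - c)) (F.X p)) hm2
    have htf : t.f p ≫ Dual3.idealMulι (I ^ (n - c - c)) (F.X p) =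
        Dual3.idealMulι (I ^ n) (F.X p) := by
      have := congrArg (fun g => HomologicalComplex.Hom.f g p) ht
      exact this
    have e2 : α ≫ β = HomologicalComplex.cyclesMap t p := by
      rw [← cancel_mono (((Dual3.deligne I (n - c - c)).obj F).iCycles p ≫
        Dual3.idealMulι (I ^ (n - c - c)) (F.X p)), Category.assoc, hβ, hα,
        ← Category.assoc, HomologicalComplex.cyclesMap_i, Category.assoc, htf]
    rw [← cancel_epi (((Dual3.deligne I n).obj F).homologyπ p), ← Category.assoc, e1,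
      Category.assoc, hψβ, HomologicalComplex.homologyπ_naturality, ← Category.assoc, e2]

end Groth.Agent.Lib.Helper21.DeligneAR
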