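import Groth.Prelude.Def_CAlg
import Mathlib.RingTheory.Ideal.AssociatedPrime.Finiteness
import Mathlib.RingTheory.Regular.RegularSequence
import Mathlib.RingTheory.Nakayama

set_option autoImplicit false
universe u v

namespace Groth.Agent.Lib.Helper21.DepthOne

open RingTheory.Sequence

variable (R : Type u) [CommRing R] [IsLocalRing R] [IsNoetherianRing R]
  (M : Type v) [AddCommGroup M] [Module R M] [Module.Finite R M]

/-- Depth at least one means that the maximal ideal is not an associated prime. -/
theorem one_le_depth_iff :
    (1 : ℕ∞) ≤ LocCoh.depth R M ↔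
      ¬ IsAssociatedPrime (IsLocalRing.maximalIdeal R) M := by
  classical
  unfold LocCoh.depth LocCoh.idealDepth
  by_cases hM : IsLocalRing.maximalIdeal R • (⊤ : Submodule R M) = ⊤
  · rw [if_pos hM]
    simp only [le_top, true_iff]
    -- Nakayama: M = 0
    have hfg : (⊤ : Submodule R M).FG := Module.Finite.fg_top
    have h0 : (⊤ : Submodule R M) = ⊥ := by
      refine Submodule.eq_bot_of_le_smul_of_le_jacobson_bot (IsLocalRing.maximalIdeal R) ⊤ hfg
        (le_of_eq hM.symm) ?_
      rw [IsLocalRing.jacobson_eq_maximalIdeal ⊥ bot_ne_top]
    intro hass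
    rw [isAssociatedPrime_iff] at hass
    obtain ⟨-, x, hx⟩ := hass
    have hx0 : x = 0 := by
      have : x ∈ (⊤ : Submodule R M) := trivial
      rw [h0] at this
      exact this
    have h1 : (1 : R) ∈ IsLocalRing.maximalIdeal R := by
      rw [hx, Submodule.mem_colon_singleton, hx0, smul_zero]
      exact Submodule.zero_mem _
    exact (Ideal.ne_top_iff_one _).mp (IsLocalRing.maximalIdeal.isMaximal R).ne_top h1
  · rw [if_neg hM]
    constructor
    · intro h hass
      -- there is a weakly regular sequence of positive length
      have hex : ∃ rs : List R, (IsWeaklyRegular M rs ∧ ∀ r ∈ rs, r ∈ IsLocalRing.maximalIdeal R) ∧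
          1 ≤ rs.length := by
        by_contra hcon
        push Not at hcon
        have : (⨆ (rs : List R) (_ : IsWeaklyRegular M rs ∧ ∀ r ∈ rs, r ∈ IsLocalRing.maximalIdeal R),
            (rs.length : ℕ∞)) ≤ 0 := by
          refine iSup₂_le fun rs hrs => ?_
          have := hcon rs hrs
          have h0 : rs.length = 0 := by omega
          rw [h0]; rfl
        have h1 := h.trans this
        exact absurd h1 (by norm_num)
      obtain ⟨rs, ⟨hreg, hmem⟩, hlen⟩ := hex
      obtain ⟨r, rs', rfl⟩ : ∃ r rs', rs = r :: rs' := by
        cases rs with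
        | nil => simp at hlen
        | cons r rs' => exact ⟨r, rs', rfl⟩
      rw [isWeaklyRegular_cons_iff] at hreg
      have hr : r ∈ IsLocalRing.maximalIdeal R := hmem r (List.mem_cons_self)
      rw [isAssociatedPrime_iff] at hass
      obtain ⟨-, x, hx⟩ := hass
      have hx0 : x ≠ 0 := by
        rintro rfl
        have h1 : (1 : R) ∈ IsLocalRing.maximalIdeal R := by
          rw [hx, Submodule.mem_colon_singleton, smul_zero]
          exact Submodule.zero_mem _
        exact (Ideal.ne_top_iff_one _).mp (IsLocalRing.maximalIdeal.isMaximal R).ne_top h1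
      rw [hx, Submodule.mem_colon_singleton, Submodule.mem_bot] at hr
      exact hx0 (hreg.1 (by change r • x = r • 0; rw [hr, smul_zero]))
    · intro hass
      -- find a regular element in the maximal ideal by prime avoidance
      have hfin : (associatedPrimes R M).Finite := associatedPrimes.finite R M
      have hex : ∃ r ∈ IsLocalRing.maximalIdeal R, IsSMulRegular M r := by
        by_contra hcon
        push Not at hcon
        have hsub : ((IsLocalRing.maximalIdeal R : Ideal R) : Set R) ⊆
            ⋃ p ∈ (↑hfin.toFinset : Set (Ideal R)), (p : Set R) := by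
          intro r hr
          have hnr : ¬ IsSMulRegular M r := hcon r hr
          have : r ∈ {r : R | ∃ x : M, x ≠ 0 ∧ r • x = 0} := by
            by_contra hn
            apply hnr
            intro x y hxy
            by_contra hne
            apply hn
            refine ⟨x - y, sub_ne_zero.mpr hne, ?_⟩
            rw [smul_sub]
            exact sub_eq_zero.mpr hxy
          rw [← biUnion_associatedPrimes_eq_zero_divisors R M] at this
          simpa using this
        rw [Ideal.subset_union_prime (R := R) (f := fun p : Ideal R => p) ⊥ ⊥
          (fun p hp _ _ => (hfin.mem_toFinset.mp hp).isPrime)] at hsub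
        obtain ⟨p, hp, hle⟩ := hsub
        have hpass : IsAssociatedPrime p M := hfin.mem_toFinset.mp hp
        have hpeq : p = IsLocalRing.maximalIdeal R :=
          ((IsLocalRing.maximalIdeal.isMaximal R).eq_of_le hpass.isPrime.ne_top hle).symm
        exact hass (hpeq ▸ hpass)
      obtain ⟨r, hr, hreg⟩ := hex
      have hw : IsWeaklyRegular M [r] := by
        rw [isWeaklyRegular_cons_iff]
        exact ⟨hreg, IsWeaklyRegular.nil R _⟩
      refine le_trans ?_ (le_iSup₂ (f := fun (rs : List R)
        (_ : IsWeaklyRegular M rs ∧ ∀ r ∈ rs, r ∈ IsLocalRing.maximalIdeal R) => (rs.length : ℕ∞))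
        [r] ⟨hw, by simpa using hr⟩)
      simp

end Groth.Agent.Lib.Helper21.DepthOne
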