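import Groth.Agent.Lib.Helper1.CSASeparable
import Groth.Prelude.Def_GSzCSA
import Mathlib.Tactic

set_option autoImplicit false
universe u v

namespace Groth.Agent.Lib.Helper21

open Polynomial TensorProduct Groth.Agent.Lib.Helper1.CSA

attribute [local instance] Groth.Agent.Lib.Helper1.CSA.algCent

theorem natDegree_minpoly_dvd (K : Type u) [Field K] (A : Type v) [DivisionRing A] [Algebra K A]
    [Algebra.IsCentral K A] [FiniteDimensional K A] (n : ℕ) (hA : Module.finrank K A = n ^ 2)
    (x : A) : (minpoly K x).natDegree ∣ n := by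
  have hint : IsIntegral K x := Algebra.IsIntegral.isIntegral x
  have hirr : Irreducible (minpoly K x) := minpoly.irreducible hint
  have : Fact (Irreducible (minpoly K x)) := ⟨hirr⟩
  have hp0 : minpoly K x ≠ 0 := hirr.ne_zero
  let ι : AdjoinRoot (minpoly K x) →ₐ[K] A :=
    Ideal.Quotient.liftₐ (Ideal.span {minpoly K x}) (Polynomial.aeval x) (fun a ha => by
      obtain ⟨q, rfl⟩ := Ideal.mem_span_singleton.mp ha
      rw [map_mul, minpoly.aeval, zero_mul])
  have hfinL : FiniteDimensional K (AdjoinRoot (minpoly K x)) :=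
    (AdjoinRoot.powerBasis hp0).finite
  have hdim : Module.finrank K (AdjoinRoot (minpoly K x)) = (minpoly K x).natDegree := by
    rw [(AdjoinRoot.powerBasis hp0).finrank, AdjoinRoot.powerBasis_dim]
  have hB : IsSimpleRing ι.range := isSimpleRing_subalgebra_of_division K A ι.range
  have h1 := finrank_eq_mul_centralizer K A ι.range
  rw [finrank_range_eq K A (AdjoinRoot (minpoly K x)) ι, hdim, hA] at h1
  have hfinC : Module.Finite (AdjoinRoot (minpoly K x))
      (Subalgebra.centralizer K (ι.range : Set A)) :=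
    Module.Finite.of_restrictScalars_finite K _ _
  have h2 := Module.finrank_mul_finrank K (AdjoinRoot (minpoly K x))
    (Subalgebra.centralizer K (ι.range : Set A))
  rw [hdim] at h2
  rw [← h2, ← mul_assoc, ← pow_two] at h1
  have h3 : (minpoly K x).natDegree ^ 2 ∣ n ^ 2 := ⟨_, h1⟩
  exact (Nat.pow_dvd_pow_iff two_ne_zero).mp h3

theorem redNorm_algebraMap (K : Type u) [Field K] (A : Type v) [Ring A] [Algebra K A]
    [FiniteDimensional K A] (n : ℕ) (hA : Module.finrank K A = n ^ 2)
    (N : A →* K) (hN : CSAGal.IsRedNorm K A N) (c : K) : N (algebraMap K A c) = c ^ n := by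
  obtain ⟨K', _, _, _, n₁, φ, hφ⟩ := hN
  have h1 : Module.finrank K' (K' ⊗[K] A) = Module.finrank K A := Module.finrank_baseChange
  have h2 : Module.finrank K' (Matrix (Fin n₁) (Fin n₁) K') = n₁ * n₁ := by
    rw [Module.finrank_matrix]
    simp
  have h3 := φ.toLinearEquiv.finrank_eq
  rw [h1, h2, hA, ← pow_two] at h3
  have hn : n₁ = n := (Nat.pow_left_injective two_ne_zero h3).symm
  have e1 : (1 : K') ⊗ₜ[K] (algebraMap K A c) =
      algebraMap K' (K' ⊗[K] A) (algebraMap K K' c) := by
    rw [Algebra.TensorProduct.algebraMap_apply]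
    have a1 : algebraMap K A c = c • (1 : A) := Algebra.algebraMap_eq_smul_one c
    have a2 : algebraMap K' K' (algebraMap K K' c) = c • (1 : K') := by
      rw [Algebra.algebraMap_self_apply]
      exact Algebra.algebraMap_eq_smul_one c
    rw [a1, a2, TensorProduct.smul_tmul]
  have e2 := hφ (algebraMap K A c)
  rw [e1, φ.commutes, Algebra.algebraMap_eq_smul_one (A := Matrix (Fin n₁) (Fin n₁) K'),
    Matrix.det_smul, Matrix.det_one, mul_one, Fintype.card_fin, hn, ← map_pow] at e2
  exact (algebraMap K K').injective e2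

end Groth.Agent.Lib.Helper21
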