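import Groth.Agent.Lib.Helper21.FinDescent
import Mathlib.Algebra.Module.FinitePresentation
import Mathlib.LinearAlgebra.TensorProduct.RightExactness

set_option autoImplicit false
set_option linter.style.haveILetI false
universe u

open TensorProduct

namespace Groth.Agent.Lib.Helper21.FinDescent

variable {A : Type u} [CommRing A] {J : Type u} [Finite J] (B : J → Type u)
  [∀ i, CommRing (B i)] [∀ i, Algebra A (B i)] [∀ i, Module.Flat A (B i)]
  (hsurj : ∀ p : PrimeSpectrum A, ∃ (i : J) (q : PrimeSpectrum (B i)),
    PrimeSpectrum.comap (algebraMap A (B i)) q = p)

include hsurj in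
/-- Faithfully flat descent of finite presentation along a finite jointly surjective flat
family. -/
theorem finitePresentation_of_forall_finitePresentation_tensor
    (M : Type u) [AddCommGroup M] [Module A M]
    (hfp : ∀ i, Module.FinitePresentation (B i) (B i ⊗[A] M)) :
    Module.FinitePresentation A M := by
  haveI : Module.Finite A M :=
    finite_of_forall_finite_tensor B hsurj M (fun i => inferInstance)
  obtain ⟨n, π, hπ⟩ := Module.Finite.exists_fin' A M
  let K : Submodule A (Fin n → A) := LinearMap.ker π
  have hK : Module.Finite A K := by
    refine finite_of_forall_finite_tensor B hsurj K (fun i => ?_)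
    -- `B i ⊗ K ≅ ker (B i ⊗ π)` which is f.g.
    have hex : Function.Exact (LinearMap.baseChange (B i) K.subtype)
        (LinearMap.baseChange (B i) π) := by
      have := lTensor_exact (B i) (LinearMap.exact_subtype_ker_map π) hπ
      exact this
    have hinj : Function.Injective (LinearMap.baseChange (B i) K.subtype) :=
      Module.Flat.lTensor_preserves_injective_linearMap (M := B i) K.subtype
        K.injective_subtype
    have hsur : Function.Surjective (LinearMap.baseChange (B i) π) :=
      LinearMap.lTensor_surjective (B i) hπ
    have hfg : (LinearMap.ker (LinearMap.baseChange (B i) π)).FG :=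
      Module.FinitePresentation.fg_ker _ hsur
    have hrange : LinearMap.range (LinearMap.baseChange (B i) K.subtype) =
        LinearMap.ker (LinearMap.baseChange (B i) π) :=
      (LinearMap.exact_iff.mp hex).symm
    rw [← hrange] at hfg
    haveI : Module.Finite (B i) (LinearMap.range (LinearMap.baseChange (B i) K.subtype)) :=
      Module.Finite.iff_fg.mpr hfg
    exact Module.Finite.equiv
      (LinearEquiv.ofInjective (LinearMap.baseChange (B i) K.subtype) hinj).symm
  exact Module.finitePresentation_of_surjective π hπ (Module.Finite.iff_fg.mp hK)

end Groth.Agent.Lib.Helper21.FinDescent
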