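import Groth.Agent.Lib.Helper21.PullNat
import Groth.Agent.Lib.Lead.PullbackAff4
import Groth.Agent.Lib.Helper78.ModStalk
import Mathlib.AlgebraicGeometry.Morphisms.Flat

set_option autoImplicit false
set_option linter.style.haveILetI false
universe u

open AlgebraicGeometry CategoryTheory Opposite TopologicalSpace

namespace Groth.Agent.Lib.Helper21.FlatPullMono

open Scheme.Modules TensorProduct Groth.Agent.Lib.Lead.PullbackAff
  Groth.Agent.Lib.Helper21.QCohSections Groth.Agent.Lib.Helper21.PullNat

/-- A morphism of modules which is injective on all sections is a monomorphism. -/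
theorem mono_of_app_injective {X : Scheme.{u}} {M N : X.Modules} (φ : M ⟶ N)
    (h : ∀ U : X.Opens, Function.Injective (φ.app U)) : Mono φ := by
  apply (Scheme.Modules.toPresheaf X).mono_of_mono_map
  rw [NatTrans.mono_iff_mono_app]
  intro U
  rw [AddCommGrpCat.mono_iff_injective]
  exact h U.unop

variable {X Y : Scheme.{u}} (f : X ⟶ Y) {G G' : Y.Modules} (α : G ⟶ G')
  [G.IsQuasicoherent] [G'.IsQuasicoherent]

/-- For flat `f` and `α` mono between quasi-coherent modules, `f^* α` is injective on sections over
small affine opens. -/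
theorem app_injective_of_flat_of_affine [Flat f] [Mono α] {U : X.Opens} {V : Y.Opens}
    (hU : IsAffineOpen U) (hV : IsAffineOpen V) (e : U ≤ f ⁻¹ᵁ V) :
    Function.Injective (((pullback f).map α).app U) := by
  letI := (f.appLE V U e).hom.toAlgebra
  haveI : Module.Flat Γ(Y, V) Γ(X, U) := (Flat.flat_appLE f hV hU e : (f.appLE V U e).hom.Flat)
  have hinj : Function.Injective (appL α V) :=
    Groth.Agent.Lib.Helper78.ModStalk.app_injective_of_mono α V
  have h2 : Function.Injective (LinearMap.lTensor Γ(X, U) (appL α V)) :=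
    Module.Flat.lTensor_preserves_injective_linearMap _ hinj
  intro s t hst
  apply (sectionsPullbackEquiv f G hU hV e).injective
  apply h2
  rw [← sectionsPullbackEquiv_naturality, ← sectionsPullbackEquiv_naturality, hst]

/-- **Flat pullback preserves monomorphisms of quasi-coherent modules.** -/
theorem mono_pullback_map_of_flat [Flat f] [Mono α] : Mono ((pullback f).map α) := by
  apply mono_of_app_injective
  intro W
  rw [injective_iff_map_eq_zero]
  intro t ht
  apply TopCat.Presheaf.IsSheaf.section_ext ((pullback f).obj G).isSheaf (U := op W)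
  intro x hx
  obtain ⟨V, U, hV, hU, hxU, hUV⟩ := exists_affines f x
  obtain ⟨U', hU', hxU', hle⟩ : ∃ U' : X.Opens, IsAffineOpen U' ∧ x ∈ U' ∧ U' ≤ U ⊓ W := by
    obtain ⟨_, ⟨U', hU', rfl⟩, hxU', hle⟩ := X.isBasis_affineOpens.exists_subset_of_mem_open
      (show x ∈ ((U ⊓ W : X.Opens) : Set X) from ⟨hxU, hx⟩) (U ⊓ W).2
    exact ⟨U', hU', hxU', hle⟩
  refine ⟨U', hle.trans inf_le_right, hxU', ?_⟩
  have e' : U' ≤ f ⁻¹ᵁ V := (hle.trans inf_le_left).trans hUV
  apply app_injective_of_flat_of_affine f α hU' hV e'
  rw [Groth.Agent.Lib.Helper2.KerSec.naturality_apply, ht, map_zero, map_zero, map_zero]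

end Groth.Agent.Lib.Helper21.FlatPullMono
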