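import Groth.Agent.Lib.Helper21.RelFPSch
import Groth.Agent.Lib.Helper55.TildeEpi
import Mathlib.RingTheory.Localization.Finiteness

/-!
# Quasi-coherent modules of finite type have finitely generated sections over affine opens
-/

set_option autoImplicit false
set_option linter.style.haveILetI false
universe u

open AlgebraicGeometry CategoryTheory Opposite TopologicalSpace Limits

namespace Groth.Agent.Lib.Helper21.QCohFinite

set_option backward.isDefEq.respectTransparency.types false

open Groth.Agent.Lib.Helper55.TildeEpi Scheme.Modules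

noncomputable section

section SpecLevel

variable {R : CommRingCat.{u}}

theorem finite_Γ_free (ι : Type u) [Finite ι] :
    Module.Finite R
      (moduleSpecΓFunctor.obj (SheafOfModules.free.{u} ι : (Spec R).Modules)) := by
  let e1 : ModuleCat.of R (ι →₀ R) ≅
      moduleSpecΓFunctor.obj (tilde (ModuleCat.of R (ι →₀ R))) :=
    tilde.toTildeΓNatIso.app _
  let e2 := (moduleSpecΓFunctor (R := R)).mapIso (tildeFinsupp (R := R) ι)
  exact Module.Finite.equiv (e1 ≪≫ e2).toLinearEquiv

theorem finite_Γ_of_generatingSections (M : (Spec R).Modules) [M.IsQuasicoherent]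
    (σ : M.GeneratingSections) [σ.IsFiniteType] :
    Module.Finite R (moduleSpecΓFunctor.obj M) := by
  have h0 : IsIso (Scheme.Modules.fromTildeΓ (R := R) (SheafOfModules.free.{u} σ.I)) :=
    inferInstance
  have hq := (isQuasicoherent_iff_isIso_fromTildeΓ _).mpr h0
  have hE : Epi σ.π := σ.epi
  have hepi : Epi ((moduleSpecΓFunctor (R := R)).map σ.π) :=
    @epi_Γ_map_of_epi R _ M hq _ σ.π hE
  rw [ModuleCat.epi_iff_surjective] at hepi
  have := finite_Γ_free (R := R) σ.I
  exact Module.Finite.of_surjective ((moduleSpecΓFunctor (R := R)).map σ.π).hom hepi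

end SpecLevel

section Chart

variable {X : Scheme.{u}}

theorem finite_sections_chart {R : CommRingCat.{u}} (j : Spec R ⟶ X) [IsOpenImmersion j]
    (F : X.Modules) [F.IsQuasicoherent] (σ : (F.restrict j).GeneratingSections) [σ.IsFiniteType]
    (V : X.Opens) (hV : j ''ᵁ ⊤ = V) : Module.Finite Γ(X, V) Γ(F, V) := by
  subst hV
  have h := finite_Γ_of_generatingSections (F.restrict j) σ
  let ρ : R →+* Γ(X, j ''ᵁ ⊤) := (j.appIso ⊤).inv.hom.comp (Scheme.ΓSpecIso R).inv.hom
  letI : Algebra R Γ(X, j ''ᵁ ⊤) := ρ.toAlgebra
  letI modR : Module R Γ(F, j ''ᵁ ⊤) := inferInstanceAs (Module R Γ(F.restrict j, ⊤))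
  have hst : IsScalarTower R Γ(X, j ''ᵁ ⊤) Γ(F, j ''ᵁ ⊤) :=
    IsScalarTower.of_algebraMap_smul (fun r s => rfl)
  have hfin : Module.Finite R Γ(F, j ''ᵁ ⊤) := h
  exact Module.Finite.of_restrictScalars_finite R _ _

end Chart

section Global

variable {X : Scheme.{u}}

set_option backward.isDefEq.respectTransparency false in
/-- Generating sections of `M` over (the slice site of) an open `W` restrict to generating
sections of the restriction of `M` to a smaller open `V`. -/
def gensRestrict (M : X.Modules) (W V : X.Opens) (hVW : V ≤ W)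
    (g : (M.over W).GeneratingSections) : (M.restrict V.ι).GeneratingSections :=
  let u := X.homOfLE hVW
  have : PreservesColimitsOfSize.{u, u} (restrictFunctor u) := inferInstance
  let F := (overEquiv W).functor ⋙ restrictFunctor u
  let iso : SheafOfModules.overFunctor X.ringCatSheaf _ ⋙ F ≅ restrictFunctor
      (Scheme.Opens.ι V) := (Functor.associator _ _ _).symm ≪≫
      Functor.isoWhiskerRight (Scheme.Modules.overFunctorEquiv _) _ ≪≫
      (restrictFunctorComp _ _).symm ≪≫ (restrictFunctorCongr (by simp [u]))
  (g.map F (Scheme.Modules.restrictUnitIso _).symm).ofEpi (iso.app M).hom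

instance (M : X.Modules) (W V : X.Opens) (hVW : V ≤ W)
    (g : (M.over W).GeneratingSections) [g.IsFiniteType] :
    (gensRestrict M W V hVW g).IsFiniteType where
  finite := inferInstanceAs (Finite g.I)

set_option backward.isDefEq.respectTransparency false in
/-- Generating sections on an affine open, transported to the affine chart. -/
def gensFromSpec (M : X.Modules) {V : X.Opens} (hV : IsAffineOpen V)
    (g : (M.restrict V.ι).GeneratingSections) : (M.restrict hV.fromSpec).GeneratingSections :=
  have : PreservesColimitsOfSize.{u, u} (restrictFunctor hV.isoSpec.inv) := inferInstance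
  (g.map (restrictFunctor hV.isoSpec.inv) (Scheme.Modules.restrictUnitIso _).symm).ofEpi
    ((restrictFunctorComp _ _).app M).inv

instance (M : X.Modules) {V : X.Opens} (hV : IsAffineOpen V)
    (g : (M.restrict V.ι).GeneratingSections) [g.IsFiniteType] :
    (gensFromSpec M hV g).IsFiniteType where
  finite := inferInstanceAs (Finite g.I)

/-- If `M` is quasi-coherent and generated over `W` by finitely many sections, then its sections
over any affine open inside `W` form a finite module. -/
theorem finite_sections_of_gens (M : X.Modules) [M.IsQuasicoherent] (W : X.Opens)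
    (g : (M.over W).GeneratingSections) [g.IsFiniteType] {V : X.Opens} (hV : IsAffineOpen V)
    (hVW : V ≤ W) : Module.Finite Γ(X, V) Γ(M, V) :=
  finite_sections_chart hV.fromSpec M (gensFromSpec M hV (gensRestrict M W V hVW g)) V
    (hV.fromSpec.image_top_eq_opensRange.trans hV.opensRange_fromSpec)

open RelFPSch in
/-- A quasi-coherent module of finite type has finitely generated sections over every affine
open. -/
theorem finite_sections_of_isFiniteType (M : X.Modules) [M.IsQuasicoherent]
    (hM : SheafOfModules.IsFiniteType (R := X.ringCatSheaf) M) {U : X.Opens} (hU : IsAffineOpen U) :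
    Module.Finite Γ(X, U) Γ(M, U) := by
  obtain ⟨σ, hσ⟩ := SheafOfModules.IsFiniteType.exists_localGeneratorsData M
  have hcov : IsOpenCover σ.X := (Opens.coversTop_iff _ _).mp σ.coversTop
  let s : Set Γ(X, U) := {a | Module.Finite Γ(X, X.basicOpen a) Γ(M, X.basicOpen a)}
  have hs : Ideal.span s = ⊤ := by
    rw [← hU.self_le_iSup_basicOpen_iff]
    intro x hx
    have hx' : x ∈ (⊤ : X.Opens) := trivial
    rw [← hcov.iSup_eq_top, Opens.mem_iSup] at hx'
    obtain ⟨i, hxi⟩ := hx'
    obtain ⟨a, haW, hxa⟩ := hU.exists_basicOpen_le (V := σ.X i) ⟨x, hxi⟩ hx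
    rw [Opens.mem_iSup]
    have := hσ.isFiniteType i
    exact ⟨⟨a, finite_sections_of_gens M (σ.X i) (σ.generators i) (hU.basicOpen a) haW⟩, hxa⟩
  letI : ∀ g : s, Module Γ(X, U) Γ(M, X.basicOpen g.1) := fun g =>
    Module.compHom _ (resRing X (X.basicOpen_le g.1))
  have : ∀ g : s, IsScalarTower Γ(X, U) Γ(X, X.basicOpen g.1) Γ(M, X.basicOpen g.1) := fun g =>
    IsScalarTower.of_algebraMap_smul fun _ _ => rfl
  have : ∀ g : s, IsLocalization.Away g.1 Γ(X, X.basicOpen g.1) := fun g =>
    hU.isLocalization_basicOpen g.1
  have : ∀ g : s, IsLocalizedModule.Away g.1 (resL M (X.basicOpen_le g.1)) := fun g =>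
    isLocalizedModule_resL M hU g.1
  exact Module.Finite.of_localizationSpan' s hs (Rₚ := fun g => Γ(X, X.basicOpen g.1))
    (Mₚ := fun g => Γ(M, X.basicOpen g.1)) (fun g => resL M (X.basicOpen_le g.1))
    (fun g => g.2)

end Global

end

end Groth.Agent.Lib.Helper21.QCohFinite
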