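import Groth.Agent.Lib.Helper21.FinDescent
import Groth.Agent.Lib.Helper21.FlatPullMono
import Groth.Agent.Lib.Helper21.QCohFinite
import Groth.Agent.Lib.Lead.CohAff4
import Mathlib.AlgebraicGeometry.Morphisms.QuasiCompact
import Mathlib.AlgebraicGeometry.Morphisms.Flat

set_option autoImplicit false
set_option linter.style.haveILetI false
universe u

open AlgebraicGeometry CategoryTheory Opposite TopologicalSpace

namespace Groth.Agent.Lib.Helper21.FinDescentSch

open Scheme.Modules TensorProduct Groth.Agent.Lib.Lead.PullbackAff Groth.Agent.Lib.Lead.CohAff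
  Groth.Agent.Lib.Helper21.QCohFinite

variable {X Y : Scheme.{u}} (f : Y ⟶ X) [QuasiCompact f] [Flat f] [Surjective f]
  (P : X.Modules) [P.IsQuasicoherent]

/-- **Faithfully flat descent of finite type**: if `f` is flat, surjective and quasi-compact and
`f^* P` is of finite type for a quasi-coherent `P`, then `P` is of finite type. -/
theorem isFiniteType_of_pullback
    (h : SheafOfModules.IsFiniteType (R := Y.ringCatSheaf) ((pullback f).obj P)) :
    SheafOfModules.IsFiniteType (R := X.ringCatSheaf) P := by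
  rw [isFiniteType_iff_finite_sections]
  intro U hU
  have hc : IsCompact ((f ⁻¹ᵁ U : Y.Opens) : Set Y) := f.isCompact_preimage hU.isCompact
  obtain ⟨s, hs, hsU⟩ := isCompact_iff_finite_and_eq_biUnion_affineOpens.mp hc
  haveI : Finite ↥s := hs.to_subtype
  have hle : ∀ i : ↥s, ((i.1 : Y.affineOpens) : Y.Opens) ≤ f ⁻¹ᵁ U := by
    intro i
    rw [hsU]
    exact le_iSup₂ (f := fun (j : Y.affineOpens) (_ : j ∈ s) => (j : Y.Opens)) i.1 i.2
  letI alg : ∀ i : ↥s, Algebra Γ(X, U) Γ(Y, (i.1 : Y.Opens)) :=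
    fun i => (f.appLE U i.1 (hle i)).hom.toAlgebra
  haveI : ∀ i : ↥s, Module.Flat Γ(X, U) Γ(Y, (i.1 : Y.Opens)) := fun i =>
    (Flat.flat_appLE f hU i.1.2 (hle i) : (f.appLE U i.1 (hle i)).hom.Flat)
  refine Groth.Agent.Lib.Helper21.FinDescent.finite_of_forall_finite_tensor
    (A := Γ(X, U)) (J := ↥s) (fun i => Γ(Y, (i.1 : Y.Opens))) ?_ Γ(P, U) ?_
  · -- joint surjectivity on spectra
    intro p
    obtain ⟨y, hy⟩ := f.surjective (hU.fromSpec p)
    have hyU : y ∈ f ⁻¹ᵁ U := by
      change f y ∈ U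
      rw [hy]
      have : hU.fromSpec p ∈ Set.range hU.fromSpec := ⟨p, rfl⟩
      rw [hU.range_fromSpec] at this
      exact this
    rw [hsU] at hyU
    simp only [Opens.mem_iSup] at hyU
    obtain ⟨i, hi, hyi⟩ := hyU
    obtain ⟨q, hq⟩ : ∃ q, i.2.fromSpec q = y := by
      have : y ∈ Set.range i.2.fromSpec := by
        rw [i.2.range_fromSpec]; exact hyi
      exact this
    refine ⟨⟨i, hi⟩, q, ?_⟩
    apply hU.fromSpec.isOpenEmbedding.injective
    have h1 := hU.SpecMap_appLE_fromSpec f i.2 (hle ⟨i, hi⟩)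
    have h2 := congr($(h1) q)
    rw [Scheme.Hom.comp_apply, Scheme.Hom.comp_apply, hq, hy] at h2
    exact h2
  · intro i
    haveI : Module.Finite Γ(Y, (i.1 : Y.Opens)) Γ((pullback f).obj P, (i.1 : Y.Opens)) :=
      Groth.Agent.Lib.Helper21.QCohFinite.finite_sections_of_isFiniteType _ h i.1.2
    exact Module.Finite.equiv (sectionsPullbackEquiv f P i.1.2 hU (hle i))

end Groth.Agent.Lib.Helper21.FinDescentSch
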