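import Mathlib.Algebra.Module.FinitePresentation
import Mathlib.Algebra.Module.Projective

/-!
# The kernel of a surjection from a finitely presented module onto a finite projective module
is finitely presented (helper21)
-/

set_option autoImplicit false
universe u v w

namespace Groth.Agent.Lib.Helper21.FPKerProj

theorem fp_ker_of_projective {R : Type u} [Ring R] {M : Type v} {P : Type w}
    [AddCommGroup M] [Module R M] [AddCommGroup P] [Module R P]
    [Module.FinitePresentation R M] [Module.Finite R P] [Module.Projective R P]
    (p : M →ₗ[R] P) (hp : Function.Surjective p) :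
    Module.FinitePresentation R (LinearMap.ker p) := by
  obtain ⟨s, hs⟩ := Module.projective_lifting_property p LinearMap.id hp
  have hs' : ∀ x, p (s x) = x := fun x => by
    have := congrArg (fun f => f x) hs
    simpa using this
  let q : M →ₗ[R] LinearMap.ker p :=
    LinearMap.codRestrict (LinearMap.ker p) (LinearMap.id - s ∘ₗ p) (fun m => by
      rw [LinearMap.mem_ker, LinearMap.sub_apply, map_sub, LinearMap.id_apply,
        LinearMap.comp_apply, hs', sub_self])
  have hq : Function.Surjective q := by
    rintro ⟨m, hm⟩
    refine ⟨m, Subtype.ext ?_⟩
    rw [LinearMap.mem_ker] at hm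
    change m - s (p m) = m
    rw [hm, map_zero, sub_zero]
  have hker : LinearMap.ker q = LinearMap.range s := by
    ext m
    rw [LinearMap.mem_ker, LinearMap.mem_range]
    constructor
    · intro h
      have h' : m - s (p m) = 0 := congrArg Subtype.val h
      exact ⟨p m, (sub_eq_zero.1 h').symm⟩
    · rintro ⟨x, rfl⟩
      apply Subtype.ext
      change s x - s (p (s x)) = 0
      rw [hs', sub_self]
  refine Module.finitePresentation_of_surjective q hq ?_
  rw [hker, LinearMap.range_eq_map]
  exact Submodule.FG.map _ Module.Finite.fg_top

end Groth.Agent.Lib.Helper21.FPKerProj
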