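import Groth.Agent.Lib.Helper21.TorsionFreeAss
import Groth.Agent.Lib.Helper21.PowFactor
import Mathlib.Topology.NoetherianSpace
import Mathlib.AlgebraicGeometry.Noetherian

/-!
# Points whose local ring is a field (helper21)

* `eq_of_specializes_of_isField`: a point with field local ring has no proper generizations;
* `closure_mem_irreducibleComponents_of_isField`: its closure is an irreducible component;
* `mem_of_dense_of_isField`: in a Noetherian scheme it belongs to every dense open;
* `isOpen_singleton_of_isField`: in a Noetherian scheme, if it is closed then it is open;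
* `eq_zero_of_restrict_eq_zero`: a morphism into a torsion-free quasi-coherent module on a reduced
  Noetherian scheme which vanishes on a dense open is zero.
-/

set_option autoImplicit false
set_option linter.style.haveILetI false
universe u
open CategoryTheory AlgebraicGeometry TopologicalSpace

namespace Groth.Agent.Lib.Helper21.FieldStalk

variable {X : Scheme.{u}}

theorem eq_of_specializes_of_isField (z z' : X) (hf : IsField (X.presheaf.stalk z))
    (h : z' ⤳ z) : z' = z := by
  have h1 : z' ∈ Set.range (X.fromSpecStalk z) := by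
    rw [Scheme.range_fromSpecStalk]
    exact h
  have h2 : z ∈ Set.range (X.fromSpecStalk z) := by
    rw [Scheme.range_fromSpecStalk]
    exact specializes_rfl
  obtain ⟨p, hp⟩ := h1
  obtain ⟨q, hq⟩ := h2
  have hbot : ∀ P : PrimeSpectrum (X.presheaf.stalk z), P.asIdeal = ⊥ := by
    intro P
    rw [eq_bot_iff]
    intro y hyP
    by_contra hy0
    obtain ⟨w, hw⟩ := hf.mul_inv_cancel hy0
    exact P.2.ne_top ((Ideal.eq_top_iff_one _).mpr (hw ▸ P.asIdeal.mul_mem_right w hyP))
  have hpq : p = q := PrimeSpectrum.ext ((hbot p).trans (hbot q).symm)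
  rw [← hq, ← hp, hpq]

theorem closure_mem_irreducibleComponents_of_isField (z : X)
    (hf : IsField (X.presheaf.stalk z)) :
    closure ({z} : Set X) ∈ irreducibleComponents X := by
  refine ⟨isIrreducible_singleton.closure, fun T hT hle => ?_⟩
  have hTc : IsIrreducible (closure T) := hT.closure
  obtain ⟨z', hz'⟩ := QuasiSober.sober hTc isClosed_closure
  have hz : z ∈ closure T := subset_closure (hle (subset_closure rfl))
  have hspec : z' ⤳ z := by
    rw [specializes_iff_mem_closure, hz'.def]
    exact hz
  have hzz := eq_of_specializes_of_isField z z' hf hspec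
  subst hzz
  rw [hz'.def]
  exact subset_closure

theorem mem_of_dense_of_isField [NoetherianSpace X] (z : X)
    (hf : IsField (X.presheaf.stalk z)) (U : X.Opens) (hU : Dense (U : Set X)) : z ∈ U := by
  obtain ⟨o, ho, hne, hsub⟩ :=
    NoetherianSpace.exists_isOpen_nonempty_subset_irreducibleComponent _
      (closure_mem_irreducibleComponents_of_isField z hf)
  obtain ⟨q, hqo, hqU⟩ := hU.inter_open_nonempty o ho hne
  have hzq : z ⤳ q := specializes_iff_mem_closure.mpr (hsub hqo)
  exact hzq.mem_open U.isOpen hqU

theorem isOpen_singleton_of_isField [NoetherianSpace X] (z : X)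
    (hf : IsField (X.presheaf.stalk z)) (hcl : IsClosed ({z} : Set X)) :
    IsOpen ({z} : Set X) := by
  obtain ⟨o, ho, hne, hsub⟩ :=
    NoetherianSpace.exists_isOpen_nonempty_subset_irreducibleComponent _
      (closure_mem_irreducibleComponents_of_isField z hf)
  rw [hcl.closure_eq] at hsub
  have : o = {z} := (Set.Nonempty.subset_singleton_iff hne).mp hsub
  rw [← this]
  exact ho

open Groth.Agent.Lib.Helper29.QCohLoc Groth.Agent.Lib.Helper78.ModStalk in
/-- a morphism into a torsion-free quasi-coherent module on a reduced Noetherian scheme which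
vanishes on a dense open is zero -/
theorem eq_zero_of_restrict_eq_zero [IsLocallyNoetherian X] [NoetherianSpace X] [IsReduced X]
    {H G : X.Modules} [G.IsQuasicoherent] (htG : TorSh.IsTorsionFree G) (α : H ⟶ G)
    (U : X.Opens) (hU : Dense (U : Set X))
    (h : (Scheme.Modules.restrictFunctor U.ι).map α = 0) : α = 0 := by
  ext V s
  change α.app V s = 0
  refine Groth.Agent.Lib.Helper64.HomSh.sec_ext G _ 0 (fun y hy => ?_)
  rw [map_zero]
  by_contra hne
  obtain ⟨_, ⟨V', hV' : IsAffineOpen V', rfl⟩, hyV', hV'V⟩ :=
    X.isBasis_affineOpens.exists_subset_of_mem_open hy V.isOpen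
  have hle : V' ≤ V := hV'V
  set t' := G.presheaf.map (homOfLE hle).op (α.app V s) with ht'
  have hne' : G.presheaf.germ V' y hyV' t' ≠ 0 := by
    rw [ht', germ_res]
    exact hne
  obtain ⟨z, hzV', hzass, hzy, hzne⟩ := exists_isAssPoint_specializes G hV'
    (LocAt.of_isQuasicoherent G hV') y hyV' t' hne'
  haveI := htG z
  haveI : IsNoetherianRing (X.presheaf.stalk z) := inferInstance
  have hfld : IsField (X.presheaf.stalk z) :=
    Groth.Agent.Lib.Helper21.TorsionFreeAss.isField_of_isAssociatedPrime_of_torsionFree
      (X.presheaf.stalk z) (G.presheaf.stalk z) hzass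
  have hzU : z ∈ U := mem_of_dense_of_isField z hfld U hU
  apply hzne
  rw [ht', germ_res, ← stalkMap_germ α z V (hle hzV') s]
  exact Groth.Agent.Lib.Helper21.PowFactor.stalkMap_eq_zero_of_restrict_eq_zero α U h z hzU _

end Groth.Agent.Lib.Helper21.FieldStalk
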