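import Groth.Agent.Lib.Helper21.ClImmDev
import Groth.Agent.Lib.Helper21.AbLemmas

/-!
# Filtrations of coherent modules by `i_* I` (helper21)

`Filt M`: `M` has a finite filtration whose graded pieces are of the form `i_* I` for nonzero
quasi-coherent ideals `I` of integral closed subschemes.
-/

set_option autoImplicit false
set_option linter.style.haveILetI false
universe u
open AlgebraicGeometry CategoryTheory Opposite TopologicalSpace Limits

namespace Groth.Agent.Lib.Helper21.Filt

open Groth.Agent.Lib.Helper21.Devissage Groth.Agent.Lib.Helper21.AbLemmas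

variable {X : Scheme.{u}}

/-- `N` is isomorphic to `i_* I` for a nonzero quasi-coherent ideal of an integral closed
subscheme. -/
def Basic (N : X.Modules) : Prop :=
  ∃ (Z : Scheme.{u}) (i : Z ⟶ X), IsClosedImmersion i ∧ IsIntegral Z ∧
    ∃ (I : Z.Modules) (ι : I ⟶ Coh.structureModule Z), Mono ι ∧ Coh.IsQCoh I ∧ ¬ IsZero I ∧
      Nonempty (N ≅ (Coh.push i).obj I)

theorem Basic.of_iso {N N' : X.Modules} (h : Basic N) (e : N ≅ N') : Basic N' := by
  obtain ⟨Z, i, h1, h2, I, ι, h3, h4, h5, ⟨e'⟩⟩ := h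
  exact ⟨Z, i, h1, h2, I, ι, h3, h4, h5, ⟨e.symm ≪≫ e'⟩⟩

/-- Finite filtrations with basic graded pieces (built from the bottom). -/
inductive Filt : X.Modules → Prop
  | zero (M : X.Modules) (h : IsZero M) : Filt M
  | cons (M N : X.Modules) (ψ : N ⟶ M) (hψ : Mono ψ) (hM : Coh.IsCoh M) (hNc : Coh.IsCoh N)
      (hN : Basic N) (h : Filt (cokernel ψ)) : Filt M

theorem Filt.of_iso {M M' : X.Modules} (h : Filt M) (e : M ≅ M') : Filt M' := by
  induction h generalizing M' with
  | zero M h => exact Filt.zero _ (h.of_iso e.symm)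
  | cons M N ψ hψ hM hNc hN h ih =>
    haveI := hψ
    exact Filt.cons M' N (ψ ≫ e.hom) inferInstance (isCoh_of_iso e hM) hNc hN
      (ih (cokernelCompIsIso ψ e.hom).symm)

theorem Filt.ext_aux {A : X.Modules} (hA : Filt A) :
    ∀ (B C : X.Modules) (f : A ⟶ B) (g : B ⟶ C) (w : f ≫ g = 0),
      (ShortComplex.mk f g w).ShortExact → Coh.IsCoh B → Filt C → Filt B := by
  induction hA with
  | zero A h =>
    intro B C f g w hS hB hC
    haveI : IsIso g := (hS.isIso_g_iff).mpr h
    exact hC.of_iso (asIso g).symm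
  | cons A N ψ hψ hA hNc hN h ih =>
    intro B C f g w hS hB hC
    haveI := hψ
    haveI : Mono f := hS.mono_f
    refine Filt.cons B N (ψ ≫ f) inferInstance hB hNc hN ?_
    exact ih _ _ _ _ _ (shortExact_cokernel_map ψ f g w hS) (isCoh_cokernel _ hNc hB) hC

theorem Filt.ext {S : ShortComplex X.Modules} (hS : S.ShortExact) (h2 : Coh.IsCoh S.X₂)
    (hA : Filt S.X₁) (hC : Filt S.X₃) : Filt S.X₂ :=
  hA.ext_aux S.X₂ S.X₃ S.f S.g S.zero hS h2 hC

/-- Every coherent module on a Noetherian scheme has a filtration. -/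
theorem filt_of_isCoh [IsNoetherian X] (M : X.Modules) (hM : Coh.IsCoh M) : Filt M := by
  refine Groth.Agent.Lib.Helper21.ClImmDev.ext_devissage Set.univ
    (fun M => Coh.IsCoh M → Filt M) ?_ ?_ ?_ ?_ M hM (Set.subset_univ _) hM
  · rintro M N ⟨e⟩ h hN
    exact (h (isCoh_of_iso e.symm hN)).of_iso e
  · intro M h _
    exact Filt.zero M h
  · intro S hS h1 h2 h3 _ p1 p3 _
    exact Filt.ext hS h2 (p1 h1) (p3 h3)
  · intro Z i hcl hint _ I ι hι hI hc
    by_cases hz : IsZero I
    · exact Filt.zero _ (Groth.Agent.Lib.Helper21.ClImmDev.isZero_pushforward i hz)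
    · refine Filt.cons _ _ (𝟙 _) inferInstance hc hc ⟨Z, i, hcl, hint, I, ι, hι, hI, hz, ⟨Iso.refl _⟩⟩
        (Filt.zero _ ?_)
      exact isZero_cokernel_of_epi _

end Groth.Agent.Lib.Helper21.Filt
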