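import Groth.Agent.Lib.Helper21.Filt

/-!
# From `Filt` to chains of subobjects (helper21)
-/

set_option autoImplicit false
set_option linter.style.haveILetI false
set_option linter.dupNamespace false
universe u
open AlgebraicGeometry CategoryTheory Opposite TopologicalSpace Limits

namespace Groth.Agent.Lib.Helper21.Filt

open Groth.Agent.Lib.Helper21.Devissage Groth.Agent.Lib.Helper21.AbLemmas

variable {X : Scheme.{u}}

/-- Prepend an object to a sequence. -/
def consQ (M : X.Modules) (Q : ℕ → X.Modules) : ℕ → X.Modules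
  | 0 => M
  | j + 1 => Q j

/-- Prepend a morphism to a sequence of composable morphisms. -/
def consρ (M : X.Modules) (Q : ℕ → X.Modules) (ρ : ∀ j, Q j ⟶ Q (j + 1)) (p : M ⟶ Q 0) :
    ∀ j, consQ M Q j ⟶ consQ M Q (j + 1)
  | 0 => p
  | j + 1 => ρ j

/-- A filtration gives a chain of quotients. -/
theorem Filt.exists_quot_chain {M : X.Modules} (h : Filt M) :
    ∃ (m : ℕ) (Q : ℕ → X.Modules) (ρ : ∀ j, Q j ⟶ Q (j + 1)),
      Nonempty (M ≅ Q 0) ∧ IsZero (Q m) ∧ (∀ j ≤ m, Coh.IsCoh (Q j)) ∧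
        ∀ j < m, Epi (ρ j) ∧ Basic (kernel (ρ j)) := by
  induction h with
  | zero M h =>
    refine ⟨0, fun _ => M, fun _ => 𝟙 M, ⟨Iso.refl _⟩, h, fun j _ => isCoh_of_isZero h, ?_⟩
    intro j hj
    exact absurd hj (Nat.not_lt_zero _)
  | cons M N ψ hψ hM hNc hN h ih =>
    haveI := hψ
    obtain ⟨m, Q, ρ, ⟨e⟩, hz, hc, hstep⟩ := ih
    refine ⟨m + 1, consQ M Q, consρ M Q ρ (cokernel.π ψ ≫ e.hom), ⟨Iso.refl _⟩, hz, ?_, ?_⟩
    · intro j hj
      cases j with
      | zero => exact hM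
      | succ j => exact hc j (Nat.le_of_succ_le_succ hj)
    · intro j hj
      cases j with
      | zero =>
        refine ⟨inferInstanceAs (Epi (cokernel.π ψ ≫ e.hom)), ?_⟩
        have e1 : N ≅ kernel (cokernel.π ψ) :=
          IsLimit.conePointUniqueUpToIso (Abelian.monoIsKernelOfCokernel _ (colimit.isColimit _))
            (limit.isLimit _)
        have e2 : kernel (cokernel.π ψ ≫ e.hom) ≅ kernel (cokernel.π ψ) :=
          kernelCompMono (cokernel.π ψ) e.hom
        exact hN.of_iso (e1 ≪≫ e2.symm)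
      | succ j => exact hstep j (Nat.lt_of_succ_lt_succ hj)

/-- Composite of the first `j` maps in a chain. -/
def compQ {M : X.Modules} (Q : ℕ → X.Modules) (ρ : ∀ j, Q j ⟶ Q (j + 1)) (p : M ⟶ Q 0) :
    ∀ j, M ⟶ Q j
  | 0 => p
  | j + 1 => compQ Q ρ p j ≫ ρ j

/-- A filtration gives a chain of subobjects. -/
theorem Filt.exists_sub_chain [IsLocallyNoetherian X] {M : X.Modules} (h : Filt M) :
    ∃ (m : ℕ) (F : ℕ → X.Modules) (φ : (j : ℕ) → (F j ⟶ F (j + 1))),
      IsZero (F 0) ∧ Nonempty (F m ≅ M) ∧ (∀ j ≤ m, Coh.IsCoh (F j)) ∧ ∀ j < m, Mono (φ j) ∧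
        Basic (cokernel (φ j)) := by
  obtain ⟨m, Q, ρ, ⟨e⟩, hz, hc, hstep⟩ := h.exists_quot_chain
  have hM : Coh.IsCoh M := isCoh_of_iso e.symm (hc 0 (Nat.zero_le _))
  let q : ∀ j, M ⟶ Q j := compQ Q ρ e.hom
  have hq : ∀ j, q (j + 1) = q j ≫ ρ j := fun j => rfl
  have hepi : ∀ j ≤ m, Epi (q j) := by
    intro j
    induction j with
    | zero => intro _; exact inferInstanceAs (Epi e.hom)
    | succ j ih =>
      intro hj
      haveI := ih (Nat.le_of_succ_le hj)
      haveI := (hstep j hj).1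
      rw [hq]
      infer_instance
  refine ⟨m, fun j => kernel (q j),
    fun j => kernel.map (q j) (q (j + 1)) (𝟙 M) (ρ j) (by rw [hq]; simp), ?_, ?_, ?_, ?_⟩
  · exact isZero_kernel_of_mono (f := e.hom)
  · have h0 : q m = 0 := hz.eq_of_tgt _ _
    exact ⟨kernelIsoOfEq h0 ≪≫ kernelZeroIsoSource⟩
  · intro j hj
    exact isCoh_kernel (q j) hM (hc j hj)
  · intro j hj
    haveI := hepi j hj.le
    have hS := shortExact_kernel_comp (q j) (ρ j)
    refine ⟨hS.mono_f, ?_⟩
    have e1 : cokernel (kernel.map (q j) (q j ≫ ρ j) (𝟙 M) (ρ j) (by simp)) ≅ kernel (ρ j) :=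
      IsColimit.coconePointUniqueUpToIso (colimit.isColimit _) hS.gIsCokernel
    exact (hstep j hj).2.of_iso e1.symm

end Groth.Agent.Lib.Helper21.Filt
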