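import Groth.Agent.Lib.Helper28.FiltSheaf
import Groth.Agent.Lib.Helper42.ModSheaf
import Mathlib.AlgebraicGeometry.Modules.Sheaf
import Mathlib.AlgebraicGeometry.Noetherian
import Mathlib.Algebra.Category.Grp.FilteredColimits

set_option autoImplicit false
set_option linter.style.haveILetI false
universe u

open AlgebraicGeometry CategoryTheory Opposite TopologicalSpace Limits

namespace Groth.Agent.Lib.Helper21.FiltColimSec

variable {X : Scheme.{u}}

/-- In a locally Noetherian scheme, an open subset of a compact open subset is compact. -/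
theorem isCompact_of_le [IsLocallyNoetherian X] {W U : X.Opens} (hW : IsCompact (W : Set X))
    (h : U ≤ W) : IsCompact (U : Set X) := by
  haveI : CompactSpace (W : Scheme.{u}) := isCompact_iff_compactSpace.mp hW
  haveI : IsNoetherian (W : Scheme.{u}) := ⟨⟩
  haveI : NoetherianSpace (W : Scheme.{u}) := inferInstance
  have h1 : IsCompact ((W.ι ⁻¹ᵁ U : (W : Scheme.{u}).Opens) : Set W) :=
    NoetherianSpace.isCompact _
  have h2 := h1.image W.ι.continuous
  convert h2 using 1
  ext x
  constructor
  · intro hx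
    exact ⟨⟨x, h hx⟩, hx, rfl⟩
  · rintro ⟨y, hy, rfl⟩
    exact hy

/-- The compact opens. -/
def compactOpens (X : Scheme.{u}) : Set X.Opens := {V | IsCompact (V : Set X)}

/-- Compact opens of a locally Noetherian scheme satisfy the finite-cover condition. -/
theorem finCovers [IsLocallyNoetherian X] :
    Groth.Agent.Lib.Helper28.FiltSheaf.FinCovers.{u} (Opens.grothendieckTopology X)
      (compactOpens X) := by
  intro W hW T hT
  -- choose for each point of `W` an open in the sieve
  have h1 : ∀ x : W, ∃ (U : X.Opens) (f : U ⟶ W), T f ∧ (x : X) ∈ U := fun x => hT x.1 x.2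
  choose U f hTf hxU using h1
  obtain ⟨t, ht⟩ := hW.elim_finite_subcover (fun x : W => ((U x : X.Opens) : Set X))
    (fun x => (U x).2) (fun x hx => Set.mem_iUnion.mpr ⟨⟨x, hx⟩, hxU ⟨x, hx⟩⟩)
  refine ⟨↥t, inferInstance, fun i => U i.1, fun i => f i.1, fun i j => U i.1 ⊓ U j.1,
    fun i j => homOfLE inf_le_left, fun i j => homOfLE inf_le_right, fun i => hTf i.1, ?_, ?_, ?_, ?_⟩
  · intro x hx
    obtain ⟨i, hi⟩ := Set.mem_iUnion.mp (ht hx)
    obtain ⟨hi', hxi⟩ := Set.mem_iUnion.mp hi
    exact ⟨U i, f i, ⟨_, 𝟙 _, f i, ⟨(⟨i, hi'⟩ : ↥t)⟩, by simp⟩, hxi⟩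
  · intro i j
    exact isCompact_of_le hW (inf_le_left.trans (leOfHom (f i.1)))
  · intro i j
    exact Subsingleton.elim _ _
  · intro i j Z' g₁ g₂ _
    exact ⟨homOfLE (le_inf (leOfHom g₁) (leOfHom g₂)), Subsingleton.elim _ _,
      Subsingleton.elim _ _⟩

/-- The sections functor over an open `V`. -/
noncomputable def secFunctor (V : X.Opens) : X.Modules ⥤ Ab.{u} :=
  Scheme.Modules.toPresheaf X ⋙ (evaluation _ _).obj (op V)

theorem secFunctor_map {M N : X.Modules} (φ : M ⟶ N) (V : X.Opens) :
    (secFunctor V).map φ = φ.app V := rfl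

variable [IsLocallyNoetherian X] {K : Type u} [SmallCategory K] [IsFiltered K]

/-- Sections over compact opens of a locally Noetherian scheme commute with filtered colimits
(version for `SheafOfModules`). -/
theorem preservesColimit_sec' (D : K ⥤ SheafOfModules.{u} X.ringCatSheaf) {V : X.Opens}
    (hV : IsCompact (V : Set X)) :
    PreservesColimit D (SheafOfModules.toSheaf.{u} X.ringCatSheaf ⋙
      sheafToPresheaf (Opens.grothendieckTopology X) AddCommGrpCat.{u} ⋙
        (evaluation (X.Opens)ᵒᵖ AddCommGrpCat.{u}).obj (op V)) := by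
  haveI h1 : PreservesColimit D (SheafOfModules.toSheaf.{u} X.ringCatSheaf) :=
    Groth.Agent.Lib.Helper42.ModSheaf.toSheaf_preservesColimit X.ringCatSheaf D
  haveI h2 : PreservesColimit (D ⋙ SheafOfModules.toSheaf.{u} X.ringCatSheaf)
      (sheafToPresheaf (Opens.grothendieckTopology X) AddCommGrpCat.{u} ⋙
        (evaluation (X.Opens)ᵒᵖ AddCommGrpCat.{u}).obj (op V)) :=
    Groth.Agent.Lib.Helper28.FiltSheaf.preservesColimit_sections (Opens.grothendieckTopology X)
      (D ⋙ SheafOfModules.toSheaf.{u} X.ringCatSheaf) (compactOpens X) finCovers hV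
  infer_instance

/-- Sections over compact opens of a locally Noetherian scheme commute with filtered colimits. -/
theorem preservesColimit_secFunctor (D : K ⥤ X.Modules) {V : X.Opens} (hV : IsCompact (V : Set X)) :
    PreservesColimit D (secFunctor V) :=
  preservesColimit_sec' (X := X) D hV

theorem exists_rep (D : K ⥤ X.Modules) {V : X.Opens} (hV : IsCompact (V : Set X))
    (s : Γ(colimit D, V)) : ∃ (k : K) (t : Γ(D.obj k, V)), (colimit.ι D k).app V t = s := by
  haveI := preservesColimit_secFunctor D hV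
  have hc : IsColimit ((secFunctor V).mapCocone (colimit.cocone D)) :=
    isColimitOfPreserves (secFunctor V) (colimit.isColimit D)
  obtain ⟨k, t, ht⟩ := Concrete.isColimit_exists_rep (D ⋙ secFunctor V) hc s
  exact ⟨k, t, ht⟩

theorem exists_of_rep_eq (D : K ⥤ X.Modules) {V : X.Opens} (hV : IsCompact (V : Set X))
    {k k' : K} (t : Γ(D.obj k, V)) (t' : Γ(D.obj k', V))
    (h : (colimit.ι D k).app V t = (colimit.ι D k').app V t') :
    ∃ (l : K) (a : k ⟶ l) (b : k' ⟶ l), (D.map a).app V t = (D.map b).app V t' := by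
  haveI := preservesColimit_secFunctor D hV
  have hc : IsColimit ((secFunctor V).mapCocone (colimit.cocone D)) :=
    isColimitOfPreserves (secFunctor V) (colimit.isColimit D)
  obtain ⟨l, a, b, hab⟩ := Concrete.isColimit_exists_of_rep_eq (D ⋙ secFunctor V) hc t t' h
  exact ⟨l, a, b, hab⟩

end Groth.Agent.Lib.Helper21.FiltColimSec
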