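import Groth.Agent.Lib.Helper21.FiltColimSec
import Mathlib.AlgebraicGeometry.AffineScheme

set_option autoImplicit false
set_option linter.style.haveILetI false
universe u

open AlgebraicGeometry CategoryTheory Opposite TopologicalSpace Limits

namespace Groth.Agent.Lib.Helper21.FiltColimSecAff

open Groth.Agent.Lib.Helper21.FiltColimSec

variable {X : Scheme.{u}}

/-- The affine opens of a scheme. -/
def affOpens (X : Scheme.{u}) : Set X.Opens := {V | IsAffineOpen V}

/-- Affine opens of any scheme satisfy the finite-cover condition. -/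
theorem finCovers_affine :
    Groth.Agent.Lib.Helper28.FiltSheaf.FinCovers.{u} (Opens.grothendieckTopology X)
      (affOpens X) := by
  intro W hW T hT
  have hW' : IsAffineOpen W := hW
  have h1 : ∀ x : W, ∃ f : Γ(X, W), T (homOfLE (X.basicOpen_le f)) ∧ (x : X) ∈ X.basicOpen f := by
    intro x
    obtain ⟨U, g, hTg, hxU⟩ := hT x.1 x.2
    obtain ⟨f, hf1, hf2⟩ := hW'.exists_basicOpen_le (V := U) ⟨x.1, hxU⟩ x.2
    refine ⟨f, ?_, hf2⟩
    have := T.downward_closed hTg (homOfLE hf1)
    rwa [show homOfLE hf1 ≫ g = homOfLE (X.basicOpen_le f) from Subsingleton.elim _ _] at this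
  choose f hTf hxf using h1
  obtain ⟨t, ht⟩ := hW'.isCompact.elim_finite_subcover
    (fun x : W => ((X.basicOpen (f x) : X.Opens) : Set X))
    (fun x => (X.basicOpen (f x)).2) (fun x hx => Set.mem_iUnion.mpr ⟨⟨x, hx⟩, hxf ⟨x, hx⟩⟩)
  refine ⟨↥t, inferInstance, fun i => X.basicOpen (f i.1),
    fun i => homOfLE (X.basicOpen_le (f i.1)),
    fun i j => X.basicOpen (f i.1) ⊓ X.basicOpen (f j.1),
    fun i j => homOfLE inf_le_left, fun i j => homOfLE inf_le_right, fun i => hTf i.1, ?_, ?_, ?_, ?_⟩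
  · intro x hx
    obtain ⟨i, hi⟩ := Set.mem_iUnion.mp (ht hx)
    obtain ⟨hi', hxi⟩ := Set.mem_iUnion.mp hi
    exact ⟨X.basicOpen (f i), homOfLE (X.basicOpen_le (f i)),
      ⟨_, 𝟙 _, homOfLE (X.basicOpen_le (f i)), ⟨(⟨i, hi'⟩ : ↥t)⟩, by simp⟩, hxi⟩
  · intro i j
    change IsAffineOpen (X.basicOpen (f i.1) ⊓ X.basicOpen (f j.1))
    rw [← Scheme.basicOpen_mul]
    exact hW'.basicOpen _
  · intro i j
    exact Subsingleton.elim _ _
  · intro i j Z' g₁ g₂ _
    exact ⟨homOfLE (le_inf (leOfHom g₁) (leOfHom g₂)), Subsingleton.elim _ _,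
      Subsingleton.elim _ _⟩

variable {K : Type u} [SmallCategory K] [IsFiltered K]

theorem preservesColimit_sec_aff' (D : K ⥤ SheafOfModules.{u} X.ringCatSheaf) {V : X.Opens}
    (hV : IsAffineOpen V) :
    PreservesColimit D (SheafOfModules.toSheaf.{u} X.ringCatSheaf ⋙
      sheafToPresheaf (Opens.grothendieckTopology X) AddCommGrpCat.{u} ⋙
        (evaluation (X.Opens)ᵒᵖ AddCommGrpCat.{u}).obj (op V)) := by
  haveI h1 : PreservesColimit D (SheafOfModules.toSheaf.{u} X.ringCatSheaf) :=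
    Groth.Agent.Lib.Helper42.ModSheaf.toSheaf_preservesColimit X.ringCatSheaf D
  haveI h2 : PreservesColimit (D ⋙ SheafOfModules.toSheaf.{u} X.ringCatSheaf)
      (sheafToPresheaf (Opens.grothendieckTopology X) AddCommGrpCat.{u} ⋙
        (evaluation (X.Opens)ᵒᵖ AddCommGrpCat.{u}).obj (op V)) :=
    Groth.Agent.Lib.Helper28.FiltSheaf.preservesColimit_sections (Opens.grothendieckTopology X)
      (D ⋙ SheafOfModules.toSheaf.{u} X.ringCatSheaf) (affOpens X) finCovers_affine hV
  infer_instance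

/-- Sections over affine opens of any scheme commute with filtered colimits of modules. -/
theorem preservesColimit_secFunctor_aff (D : K ⥤ X.Modules) {V : X.Opens} (hV : IsAffineOpen V) :
    PreservesColimit D (secFunctor V) :=
  preservesColimit_sec_aff' (X := X) D hV

theorem exists_rep_aff {D : K ⥤ X.Modules} {c : Cocone D} (hc : IsColimit c) {V : X.Opens}
    (hV : IsAffineOpen V) (s : Γ(c.pt, V)) :
    ∃ (k : K) (t : Γ(D.obj k, V)), (c.ι.app k).app V t = s := by
  haveI := preservesColimit_secFunctor_aff D hV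
  have hc' : IsColimit ((secFunctor V).mapCocone c) := isColimitOfPreserves (secFunctor V) hc
  obtain ⟨k, t, ht⟩ := Concrete.isColimit_exists_rep (D ⋙ secFunctor V) hc' s
  exact ⟨k, t, ht⟩

theorem exists_of_rep_eq_aff {D : K ⥤ X.Modules} {c : Cocone D} (hc : IsColimit c) {V : X.Opens}
    (hV : IsAffineOpen V) {k k' : K} (t : Γ(D.obj k, V)) (t' : Γ(D.obj k', V))
    (h : (c.ι.app k).app V t = (c.ι.app k').app V t') :
    ∃ (l : K) (a : k ⟶ l) (b : k' ⟶ l), (D.map a).app V t = (D.map b).app V t' := by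
  haveI := preservesColimit_secFunctor_aff D hV
  have hc' : IsColimit ((secFunctor V).mapCocone c) := isColimitOfPreserves (secFunctor V) hc
  obtain ⟨l, a, b, hab⟩ := Concrete.isColimit_exists_of_rep_eq (D ⋙ secFunctor V) hc' t t' h
  exact ⟨l, a, b, hab⟩

end Groth.Agent.Lib.Helper21.FiltColimSecAff
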