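import Mathlib.RingTheory.Flat.Basic
import Mathlib.LinearAlgebra.TensorProduct.Quotient
import Mathlib.LinearAlgebra.TensorProduct.Finiteness
import Mathlib.RingTheory.Spectrum.Prime.RingHom
import Mathlib.RingTheory.Ideal.Maximal
import Mathlib.RingTheory.TensorProduct.Basic

set_option autoImplicit false
set_option linter.style.haveILetI false
universe u

open TensorProduct

namespace Groth.Agent.Lib.Helper21.FinDescent

variable {A : Type u} [CommRing A] {J : Type u} [Finite J] (B : J → Type u)
  [∀ i, CommRing (B i)] [∀ i, Algebra A (B i)] [∀ i, Module.Flat A (B i)]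
  (hsurj : ∀ p : PrimeSpectrum A, ∃ (i : J) (q : PrimeSpectrum (B i)),
    PrimeSpectrum.comap (algebraMap A (B i)) q = p)

include hsurj in
omit [Finite J] in
/-- A module killed by a jointly faithfully flat family of base changes is zero. -/
theorem subsingleton_of_forall_tensor (Q : Type u) [AddCommGroup Q] [Module A Q]
    (h : ∀ i, Subsingleton (B i ⊗[A] Q)) : Subsingleton Q := by
  by_contra hQ
  rw [not_subsingleton_iff_nontrivial] at hQ
  obtain ⟨n, hn⟩ := exists_ne (0 : Q)
  let I : Ideal A := LinearMap.ker (LinearMap.toSpanSingleton A Q n)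
  have hI : I ≠ ⊤ := by
    intro htop
    have h1 : (1 : A) ∈ I := htop ▸ Submodule.mem_top
    have h2 : (1 : A) • n = 0 := by simpa [I] using h1
    exact hn (by simpa using h2)
  obtain ⟨p, hp, hIp⟩ := Ideal.exists_le_maximal I hI
  obtain ⟨i, q, hq⟩ := hsurj ⟨p, hp.isPrime⟩
  let g : (A ⧸ I) →ₗ[A] Q := Submodule.liftQ I (LinearMap.toSpanSingleton A Q n) le_rfl
  have hg : Function.Injective g := by
    rw [← LinearMap.ker_eq_bot]
    exact Submodule.ker_liftQ_eq_bot _ _ _ le_rfl
  have h2 : Function.Injective (LinearMap.lTensor (B i) g) :=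
    Module.Flat.lTensor_preserves_injective_linearMap _ hg
  haveI : Subsingleton (B i ⊗[A] (A ⧸ I)) := h2.subsingleton
  haveI : Subsingleton (B i ⧸ (I • ⊤ : Submodule A (B i))) :=
    (TensorProduct.tensorQuotEquivQuotSMul (B i) I).symm.toEquiv.subsingleton
  have h3 : (I • ⊤ : Submodule A (B i)) = ⊤ := Submodule.Quotient.subsingleton_iff.mp ‹_›
  have h4 : ∀ b ∈ (I • ⊤ : Submodule A (B i)), b ∈ q.asIdeal := by
    intro b hb
    refine Submodule.smul_induction_on hb (fun a ha b _ => ?_) (fun x y hx hy => Ideal.add_mem _ hx hy)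
    rw [Algebra.smul_def]
    apply Ideal.mul_mem_right
    have : a ∈ (PrimeSpectrum.comap (algebraMap A (B i)) q).asIdeal := by rw [hq]; exact hIp ha
    exact this
  have h5 : (1 : B i) ∈ (I • ⊤ : Submodule A (B i)) := by rw [h3]; exact Submodule.mem_top
  exact q.isPrime.ne_top ((Ideal.eq_top_iff_one _).2 (h4 1 h5))

include hsurj in
/-- Faithfully flat descent of finiteness along a finite jointly surjective flat family. -/
theorem finite_of_forall_finite_tensor (M : Type u) [AddCommGroup M] [Module A M]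
    (hfin : ∀ i, Module.Finite (B i) (B i ⊗[A] M)) : Module.Finite A M := by
  classical
  cases nonempty_fintype J
  -- choose finitely generated submodules capturing generators
  have h1 : ∀ i, ∃ M' : Submodule A M, M'.FG ∧
      Function.Surjective (LinearMap.baseChange (B i) M'.subtype) := by
    intro i
    obtain ⟨s, hs⟩ := (hfin i).fg_top
    obtain ⟨M', hM', hsM'⟩ := TensorProduct.exists_finite_submodule_right_of_setFinite
      (s : Set (B i ⊗[A] M)) s.finite_toSet
    refine ⟨M', Module.Finite.iff_fg.mp hM', ?_⟩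
    rw [← LinearMap.range_eq_top, eq_top_iff, ← hs, Submodule.span_le]
    intro t ht
    obtain ⟨y, hy⟩ := hsM' ht
    exact ⟨y, by rw [← hy]; rfl⟩
  choose M' hM'fg hM'surj using h1
  let M₀ : Submodule A M := ⨆ i, M' i
  have hM₀ : M₀.FG := Submodule.fg_iSup _ hM'fg
  have h2 : ∀ i, Function.Surjective (LinearMap.lTensor (B i) M₀.subtype) := by
    intro i t
    obtain ⟨y, hy⟩ := hM'surj i t
    refine ⟨LinearMap.lTensor (B i) (Submodule.inclusion (le_iSup M' i)) y, ?_⟩
    rw [← LinearMap.comp_apply, ← LinearMap.lTensor_comp]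
    exact hy
  have h3 : ∀ i, Subsingleton (B i ⊗[A] (M ⧸ M₀)) := by
    intro i
    refine ⟨fun a b => ?_⟩
    have hz : ∀ c : B i ⊗[A] (M ⧸ M₀), c = 0 := by
      intro c
      obtain ⟨t, rfl⟩ := LinearMap.lTensor_surjective (B i) M₀.mkQ_surjective c
      obtain ⟨y, rfl⟩ := h2 i t
      rw [← LinearMap.comp_apply, ← LinearMap.lTensor_comp]
      have : M₀.mkQ ∘ₗ M₀.subtype = 0 := by
        ext m; simp
      rw [this, LinearMap.lTensor_zero, LinearMap.zero_apply]
    rw [hz a, hz b]
  haveI := subsingleton_of_forall_tensor B hsurj (M ⧸ M₀) h3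
  have h4 : M₀ = ⊤ := Submodule.Quotient.subsingleton_iff.mp ‹_›
  exact ⟨h4 ▸ hM₀⟩

end Groth.Agent.Lib.Helper21.FinDescent
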