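import Groth.Agent.Lib.Helper22.DedekindFree
import Groth.Agent.Lib.Helper29.AssNoeth
import Groth.Agent.Lib.Helper64.CohPush
import Groth.Agent.Lib.Helper76.RegularLocal
import Groth.Agent.Lib.Helper21.ClImmDev

/-!
# Pushforward of the structure sheaf along a finite morphism to a regular base of dimension `≤ 1`
(helper21)

* `isField_of_regular_of_dim_zero`
* `torsionFree_stalk_push`: if every associated point of `C` maps to a point of `C'` whose local
  ring is a field, and the local ring of `C'` at `y` is a domain, then `(f_* O_C)_y` is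
  torsion-free (`f` affine).
* `isFinLocFree_push_structureModule`
-/

set_option autoImplicit false
set_option linter.style.haveILetI false
universe u
open CategoryTheory CategoryTheory.Limits AlgebraicGeometry TopologicalSpace

namespace Groth.Agent.Lib.Helper21.FinPushFree

open Groth.Agent.Lib.Helper29.QCohLoc

/-- A regular local ring of dimension zero is a field. -/
theorem isField_of_regular_of_dim_zero (R : Type*) [CommRing R] [IsRegularLocalRing R]
    (h : ringKrullDim R = 0) : IsField R := by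
  have h1 := (IsRegularLocalRing.iff_finrank_cotangentSpace R).mp inferInstance
  rw [h] at h1
  have h2 : Module.finrank (IsLocalRing.ResidueField R) (IsLocalRing.CotangentSpace R) = 0 := by
    exact_mod_cast h1
  exact IsLocalRing.finrank_cotangentSpace_eq_zero_iff.mp h2

variable {C C' : Scheme.{u}} (f : C ⟶ C')

/-- `f_* O_C` -/
noncomputable abbrev pO : C'.Modules :=
  (Scheme.Modules.pushforward f).obj (Coh.structureModule C)

/-- torsion-freeness of the stalks of `f_* O_C` -/
theorem torsionFree_stalk_push [IsAffineHom f]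
    (hass : ∀ x : C, Curv2.IsAssPoint (Coh.structureModule C) x →
      IsField (C'.presheaf.stalk (f.base x)))
    (y : C') [IsDomain (C'.presheaf.stalk y)]
    (r : C'.presheaf.stalk y)
    (m : ((Scheme.Modules.pushforward f).obj (Coh.structureModule C)).presheaf.stalk y)
    (hrm : r • m = 0) : r = 0 ∨ m = 0 := by
  haveI : (Coh.structureModule C).IsQuasicoherent :=
    Groth.Agent.Lib.Helper21.ClImmDev.isQuasicoherent_structureModule C
  haveI : (pO f).IsQuasicoherent :=
    Groth.Agent.Lib.Lead.QCohPush.isQuasicoherent_pushforward_of_isAffineHom f _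
  by_contra hcon
  push Not at hcon
  obtain ⟨hr0, hm0⟩ := hcon
  obtain ⟨V, hV, hyV, -⟩ := exists_isAffineOpen_mem_and_subset (U := (⊤ : C'.Opens))
    (x := y) trivial
  have hF : LocAt (pO f) V := LocAt.of_isQuasicoherent (pO f) hV
  obtain ⟨a, s0, ha, hs0⟩ := exists_germ_eq_smul (pO f) hV hF y hyV m
  have hau : IsUnit (C'.presheaf.germ V y hyV a) := (Scheme.mem_basicOpen C' a y hyV).mp ha
  letI alg : Algebra Γ(C', V) (C'.presheaf.stalk y) := C'.presheaf.algebra_section_stalk ⟨y, hyV⟩
  haveI loc := hV.isLocalization_stalk ⟨y, hyV⟩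
  obtain ⟨⟨b, c⟩, hbc⟩ := IsLocalization.surj (hV.primeIdealOf ⟨y, hyV⟩).asIdeal.primeCompl r
  have hbc' : r * C'.presheaf.germ V y hyV c.1 = C'.presheaf.germ V y hyV b := hbc
  have hcu : IsUnit (C'.presheaf.germ V y hyV c.1) :=
    IsLocalization.map_units (C'.presheaf.stalk y) c
  have hb0 : C'.presheaf.germ V y hyV b ≠ 0 := by
    rw [← hbc']
    exact mul_ne_zero hr0 hcu.ne_zero
  have h1 : (pO f).presheaf.germ V y hyV (b • s0) = 0 := by
    rw [germ_smul, hs0, ← hbc', mul_smul, smul_comm r, smul_comm r, hrm, smul_zero, smul_zero]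
  obtain ⟨d, hd1, hd2⟩ := (germ_eq_zero_iff (pO f) hV hF y hyV (b • s0)).mp h1
  have hdu : IsUnit (C'.presheaf.germ V y hyV d) := (Scheme.mem_basicOpen C' d y hyV).mp hd1
  set s' : Γ((pO f), V) := d • s0 with hs'
  have hs'germ : (pO f).presheaf.germ V y hyV s' ≠ 0 := by
    rw [hs', germ_smul, hs0]
    intro h0
    exact hm0 (hau.smul_eq_zero.mp (hdu.smul_eq_zero.mp h0))
  have hbs' : b • s' = 0 := by
    rw [hs', smul_comm]
    exact hd2
  -- pass to `C`
  set W : C.Opens := f ⁻¹ᵁ V with hWdef
  have hW : IsAffineOpen W := hV.preimage f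
  set G := Coh.structureModule C with hGdef
  have hG : LocAt G W := locAt_structureModule C hW
  let s'' : Γ(G, W) := s'
  have hsmul : ∀ a' : Γ(C', V), (f.app V).hom a' • s'' = (a' • s' : Γ((pO f), V)) := fun a' =>
    (Groth.Agent.Lib.Helper64.CohPush.pushforward_smul f G V a' s').symm
  set q := (hV.primeIdealOf ⟨y, hyV⟩).asIdeal with hq
  set S : Submonoid Γ(C, W) := q.primeCompl.map (f.app V).hom with hS
  have hdisj : Disjoint ((ann G s'' : Ideal Γ(C, W)) : Set Γ(C, W)) S := by
    rw [Set.disjoint_left]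
    rintro z hz ⟨a', ha', rfl⟩
    apply hs'germ
    refine (germ_eq_zero_iff (pO f) hV hF y hyV s').mpr ⟨a', ?_, ?_⟩
    · by_contra hya
      exact ha' ((mem_primeIdealOf_iff hV y hyV a').mpr hya)
    · rw [← hsmul]
      exact (mem_ann G s'' _).mp hz
  obtain ⟨P, hP, hIP, hPS⟩ := Ideal.exists_le_prime_disjoint (ann G s'') S hdisj
  obtain ⟨x, hx, hxass, hx1, hx2⟩ := exists_isAssPoint_le G hW hG s'' P hIP
  have hfx : f.base x ∈ V := hx
  -- membership in the prime of `f x`
  have hmem : ∀ a' : Γ(C', V), a' ∈ (hV.primeIdealOf ⟨f.base x, hfx⟩).asIdeal ↔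
      (f.app V).hom a' ∈ (hW.primeIdealOf ⟨x, hx⟩).asIdeal := by
    intro a'
    rw [mem_primeIdealOf_iff, mem_primeIdealOf_iff, not_iff_not]
    rw [← Scheme.preimage_basicOpen]
    rfl
  have hbmem : b ∈ (hV.primeIdealOf ⟨f.base x, hfx⟩).asIdeal := by
    rw [hmem]
    apply hx1
    rw [mem_ann, hsmul, hbs']
    rfl
  have hfield := hass x hxass
  have hb0' : C'.presheaf.germ V (f.base x) hfx b = 0 := by
    rw [mem_primeIdealOf_iff, Scheme.mem_basicOpen C' b _ hfx] at hbmem
    letI := hfield.toField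
    by_contra hne
    exact hbmem (isUnit_iff_ne_zero.mpr hne)
  letI alg' : Algebra Γ(C', V) (C'.presheaf.stalk (f.base x)) :=
    C'.presheaf.algebra_section_stalk ⟨f.base x, hfx⟩
  haveI loc' := hV.isLocalization_stalk ⟨f.base x, hfx⟩
  have hb0'' : algebraMap Γ(C', V) (C'.presheaf.stalk (f.base x)) b = 0 := hb0'
  obtain ⟨c', hc'⟩ := (IsLocalization.map_eq_zero_iff
    (hV.primeIdealOf ⟨f.base x, hfx⟩).asIdeal.primeCompl _ b).mp hb0''
  have hc'0 : C'.presheaf.germ V y hyV c'.1 = 0 := by
    have h2 : C'.presheaf.germ V y hyV c'.1 * C'.presheaf.germ V y hyV b = 0 := by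
      rw [← map_mul, hc', map_zero]
    exact (mul_eq_zero.mp h2).resolve_right hb0
  have hc'0' : algebraMap Γ(C', V) (C'.presheaf.stalk y) c'.1 = 0 := hc'0
  obtain ⟨d', hd'⟩ := (IsLocalization.map_eq_zero_iff q.primeCompl _ c'.1).mp hc'0'
  have hd'notin : d'.1 ∉ (hV.primeIdealOf ⟨f.base x, hfx⟩).asIdeal := by
    intro hd'mem
    rw [hmem] at hd'mem
    have h3 : (f.app V).hom d'.1 ∈ S := ⟨d'.1, d'.2, rfl⟩
    exact Set.disjoint_left.mp hPS (hx2 hd'mem) h3
  have hprod : d'.1 * c'.1 ∈ (hV.primeIdealOf ⟨f.base x, hfx⟩).asIdeal := by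
    rw [hd']
    exact Ideal.zero_mem _
  rcases (hV.primeIdealOf ⟨f.base x, hfx⟩).isPrime.mem_or_mem hprod with h4 | h4
  · exact hd'notin h4
  · exact c'.2 h4

open Groth.Agent.Lib.Lead.QCohAff Groth.Agent.Lib.Helper2.FinTypeAff
  Groth.Agent.Lib.Helper22.FibreFree in
/-- `f_* O_C` is finite locally free for `f` finite to a locally Noetherian scheme whose local
rings are regular of dimension `≤ 1`, when the associated points of `C` map to points with
zero-dimensional local ring. -/
theorem isFinLocFree_push_structureModule [IsFinite f] [IsLocallyNoetherian C']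
    (hreg : ∀ y : C', IsRegularLocalRing (C'.presheaf.stalk y))
    (hdim : ∀ y : C', ringKrullDim (C'.presheaf.stalk y) ≤ 1)
    (hass : ∀ x : C, Curv2.IsAssPoint (Coh.structureModule C) x →
      ringKrullDim (C'.presheaf.stalk (f.base x)) = 0) :
    FlatMod.IsFinLocFree (pO f) := by
  have hcoh : Coh.IsCoh (pO f) :=
    Groth.Agent.Lib.Helper64.CohPush.isCoh_pushforward_of_isFinite f _
      (Groth.Agent.Lib.Helper21.ClImmDev.isCoh_structureModule C)
  haveI : (pO f).IsQuasicoherent := hcoh.1
  haveI : SheafOfModules.IsFiniteType (R := C'.ringCatSheaf) (pO f) := hcoh.2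
  have hass' : ∀ x : C, Curv2.IsAssPoint (Coh.structureModule C) x →
      IsField (C'.presheaf.stalk (f.base x)) := fun x hx => by
    haveI := hreg (f.base x)
    exact isField_of_regular_of_dim_zero _ (hass x hx)
  intro y
  obtain ⟨V, hV, hyV, -⟩ := exists_isAffineOpen_mem_and_subset (U := (⊤ : C'.Opens))
    (x := y) trivial
  haveI : IsNoetherianRing Γ(C', V) := IsLocallyNoetherian.component_noetherian ⟨V, hV⟩
  haveI hfin : Module.Finite Γ(C', V) Γ(pO f, V) := finite_sections (pO f) hV
  haveI : Module.FinitePresentation Γ(C', V) Γ(pO f, V) := Module.finitePresentation_of_finite _ _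
  refine exists_open_iso_freeMod_of_stalk_free' (pO f) hV y hyV ?_
  haveI := hreg y
  haveI : IsDomain (C'.presheaf.stalk y) :=
    Groth.Agent.Lib.Helper76.isDomain_of_isRegularLocalRing _
  haveI : IsPrincipalIdealRing (C'.presheaf.stalk y) :=
    Groth.Agent.Lib.Helper22.DedekindFree.isPrincipalIdealRing_of_regular_of_dim_le_one _ (hdim y)
  letI alg : Algebra Γ(C', V) (C'.presheaf.stalk y) := C'.presheaf.algebra_section_stalk ⟨y, hyV⟩
  haveI loc := hV.isLocalization_stalk ⟨y, hyV⟩
  haveI t1 : IsScalarTower Γ(C', V) (C'.presheaf.stalk y) (StalkOver (pO f) V y hyV) :=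
    IsScalarTower.of_algebraMap_smul fun r m => rfl
  haveI h3 : Module.Finite (C'.presheaf.stalk y) (StalkOver (pO f) V y hyV) :=
    Module.Finite.of_isLocalizedModule (hV.primeIdealOf ⟨y, hyV⟩).asIdeal.primeCompl
      (germL (pO f) V y hyV)
  haveI h4 : Module.Finite (C'.presheaf.stalk y) ((pO f).presheaf.stalk y) := h3
  haveI : NoZeroSMulDivisors (C'.presheaf.stalk y) ((pO f).presheaf.stalk y) :=
    ⟨fun {r m} h => torsionFree_stalk_push f hass' y r m h⟩
  exact Module.free_of_finite_type_torsion_free'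

end Groth.Agent.Lib.Helper21.FinPushFree
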