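import Groth.Agent.S8874
import Groth.Agent.S8875
import Groth.Agent.Lib.Helper2.FittPullback
import Groth.Agent.Lib.Helper75.Fitting22
import Groth.Agent.Lib.Lead.CohAff3
import Mathlib.AlgebraicGeometry.Morphisms.Immersion
import Mathlib.AlgebraicGeometry.Morphisms.IsIso
import Mathlib.AlgebraicGeometry.IdealSheaf.Functorial

/-!
# The rank `r` stratum of a finite type quasi-coherent module (helper21)

For a quasi-coherent module `F` of finite type on `X` and `r : ℕ`, the locally closed subscheme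
`V(Fit_{r-1} F) ∖ V(Fit_r F)` represents the functor of morphisms `f : T ⟶ X` with `f^* F` locally
free of rank `r`.
-/

set_option autoImplicit false
set_option linter.style.haveILetI false
universe u

open AlgebraicGeometry CategoryTheory TopologicalSpace

namespace Groth.Agent.Lib.Helper21.FittStratum

open Groth.Agent.Lib.Helper2.FittSheaf

variable {X : Scheme.{u}}

theorem sheafIdeal_mono (F : X.Modules) [F.IsQuasicoherent]
    (hfinF : ∀ V : X.affineOpens, Module.Finite Γ(X, V.1) Γ(F, V.1)) {j k : ℕ} (hjk : j ≤ k) :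
    Fitt.sheafIdeal F j ≤ Fitt.sheafIdeal F k := by
  rw [Scheme.IdealSheafData.le_def]
  intro U
  haveI := hfinF U
  rw [sheafIdeal_ideal' F hfinF j U, sheafIdeal_ideal' F hfinF k U]
  exact Groth.Agent.Lib.Helper75.Fitting.fitt_mono hjk

/-- The ideal cutting out the locus where the rank is at least `r`. -/
noncomputable def lowIdeal (F : X.Modules) (r : ℕ) : X.IdealSheafData :=
  if r = 0 then ⊥ else Fitt.sheafIdeal F (r - 1)

theorem comap_lowIdeal_eq_bot_iff (F : X.Modules) [F.IsQuasicoherent]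
    (hfinF : ∀ V : X.affineOpens, Module.Finite Γ(X, V.1) Γ(F, V.1)) (r : ℕ)
    {T : Scheme.{u}} (f : T ⟶ X) :
    (lowIdeal F r).comap f = ⊥ ↔ ∀ k, k < r → (Fitt.sheafIdeal F k).comap f = ⊥ := by
  unfold lowIdeal
  split_ifs with h
  · subst h
    simp
  · constructor
    · intro h0 k hk
      rw [eq_bot_iff, ← h0]
      exact Scheme.IdealSheafData.comap_mono f (sheafIdeal_mono F hfinF (by omega))
    · intro h0
      exact h0 (r - 1) (by omega)

theorem comap_eq_top_iff (K : X.IdealSheafData) {T : Scheme.{u}} (f : T ⟶ X) :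
    K.comap f = ⊤ ↔ ∀ t : T, f t ∈ (K.support.compl : X.Opens) := by
  rw [← Scheme.IdealSheafData.support_eq_bot_iff]
  constructor
  · intro h t ht
    have h1 : t ∈ (K.comap f).support := by
      rw [Scheme.IdealSheafData.support_comap]
      exact ht
    rw [h] at h1
    exact h1
  · intro h
    rw [eq_bot_iff]
    intro t ht
    rw [Scheme.IdealSheafData.support_comap] at ht
    exact (h t ht).elim

/-- `f^* F` is locally free of rank `r` iff `f` kills `Fit_{r-1} F` and avoids `V(Fit_r F)`. -/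
theorem isFinLocFreeOfRank_pullback_iff (F : X.Modules) [F.IsQuasicoherent]
    (hF : SheafOfModules.IsFiniteType (R := X.ringCatSheaf) F) (r : ℕ)
    {T : Scheme.{u}} (f : T ⟶ X) :
    FlatMod.IsFinLocFreeOfRank r ((Scheme.Modules.pullback f).obj F) ↔
      (lowIdeal F r).comap f = ⊥ ∧ ∀ t : T, f t ∈ ((Fitt.sheafIdeal F r).support.compl : X.Opens) := by
  haveI := hF
  have hfinF : ∀ V : X.affineOpens, Module.Finite Γ(X, V.1) Γ(F, V.1) :=
    fun V => Groth.Agent.Lib.Helper2.FinTypeAff.finite_sections F V.2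
  have hfinP := finite_sections_pullback f F hfinF
  have hPq : ((Scheme.Modules.pullback f).obj F).IsQuasicoherent := inferInstance
  have hPft : CohB1.IsFT ((Scheme.Modules.pullback f).obj F) := by
    apply Groth.Agent.Lib.Lead.CohAff.isFiniteType_of_finite_sections
    intro x
    obtain ⟨_, ⟨V, hV, rfl⟩, hxV, -⟩ :=
      T.isBasis_affineOpens.exists_subset_of_mem_open (Set.mem_univ x) isOpen_univ
    exact ⟨V, hV, hxV, hfinP ⟨V, hV⟩⟩
  rw [Groth.Agent.S8875.result T _ hPq hPft r, comap_lowIdeal_eq_bot_iff F hfinF r f,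
    ← comap_eq_top_iff]
  constructor
  · rintro ⟨h1, h2⟩
    refine ⟨fun k hk => ?_, ?_⟩
    · rw [sheafIdeal_comap f F hfinF k]; exact h1 k hk
    · rw [sheafIdeal_comap f F hfinF r]; exact h2 r le_rfl
  · rintro ⟨h1, h2⟩
    refine ⟨fun k hk => ?_, fun k hk => ?_⟩
    · rw [← sheafIdeal_comap f F hfinF k]; exact h1 k hk
    · rw [← sheafIdeal_comap f F hfinF k, eq_top_iff, ← h2]
      exact Scheme.IdealSheafData.comap_mono f (sheafIdeal_mono F hfinF hk)

/-- Factoring through the locally closed subscheme `V(J) ∩ U`. -/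
theorem exists_fac_iff (J : X.IdealSheafData) (U : X.Opens) {T : Scheme.{u}} (f : T ⟶ X) :
    (∃ g : T ⟶ ((J.subschemeι ⁻¹ᵁ U : J.subscheme.Opens) : Scheme.{u}),
      g ≫ (J.subschemeι ⁻¹ᵁ U).ι ≫ J.subschemeι = f) ↔
      J.comap f = ⊥ ∧ ∀ t : T, f t ∈ U := by
  constructor
  · rintro ⟨g, rfl⟩
    constructor
    · rw [eq_bot_iff, ← Scheme.IdealSheafData.le_map_iff_comap_le,
        Scheme.IdealSheafData.map_bot, ← Category.assoc]
      have h1 := Scheme.Hom.le_ker_comp (g ≫ (J.subschemeι ⁻¹ᵁ U).ι) J.subschemeι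
      rwa [Scheme.IdealSheafData.ker_subschemeι] at h1
    · intro t
      have h1 : (J.subschemeι ⁻¹ᵁ U).ι (g t) ∈ J.subschemeι ⁻¹ᵁ U := ((g t).2)
      exact h1
  · rintro ⟨h1, h2⟩
    have hle : J.subschemeι.ker ≤ f.ker := by
      rw [Scheme.IdealSheafData.ker_subschemeι, ← Scheme.IdealSheafData.map_bot,
        Scheme.IdealSheafData.le_map_iff_comap_le, h1]
    let g' : T ⟶ J.subscheme := IsClosedImmersion.lift J.subschemeι f hle
    have hg' : g' ≫ J.subschemeι = f := IsClosedImmersion.lift_fac _ _ _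
    have hrange : Set.range g' ⊆ Set.range (J.subschemeι ⁻¹ᵁ U).ι := by
      rw [Scheme.Opens.range_ι]
      rintro _ ⟨t, rfl⟩
      change J.subschemeι (g' t) ∈ U
      have := h2 t
      rw [← hg'] at this
      exact this
    refine ⟨IsOpenImmersion.lift (J.subschemeι ⁻¹ᵁ U).ι g' hrange, ?_⟩
    rw [← Category.assoc, IsOpenImmersion.lift_fac, hg']

/-- The rank `r` stratum. -/
theorem exists_stratum (F : X.Modules) [F.IsQuasicoherent]
    (hF : SheafOfModules.IsFiniteType (R := X.ringCatSheaf) F) (r : ℕ) :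
    ∃ (Z : Scheme.{u}) (i : Z ⟶ X), IsImmersion i ∧
      (∀ (T : Scheme.{u}) (f : T ⟶ X),
        (∃ g : T ⟶ Z, g ≫ i = f) ↔
          FlatMod.IsFinLocFreeOfRank r ((Scheme.Modules.pullback f).obj F)) ∧
      ((∀ s : X, ∃ U : X.Opens, s ∈ U ∧ ∃ p : FlatMod.freeMod (↑U) r ⟶ F.restrict U.ι, Epi p) →
        IsClosedImmersion i) := by
  set J := lowIdeal F r with hJ
  set U : X.Opens := (Fitt.sheafIdeal F r).support.compl with hU
  refine ⟨((J.subschemeι ⁻¹ᵁ U : J.subscheme.Opens) : Scheme.{u}),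
    (J.subschemeι ⁻¹ᵁ U).ι ≫ J.subschemeι, inferInstance, ?_, ?_⟩
  · intro T f
    rw [isFinLocFreeOfRank_pullback_iff F hF r f]
    exact exists_fac_iff J U f
  · intro hgen
    have hUtop : U = ⊤ := by
      rw [eq_top_iff]
      intro s _
      exact (Groth.Agent.S8874.result X F inferInstance hF s r).1 (hgen s)
    have hsurj : Function.Surjective (J.subschemeι ⁻¹ᵁ U).ι := by
      intro z
      refine ⟨⟨z, ?_⟩, rfl⟩
      rw [hUtop]
      trivial
    haveI : IsIso (J.subschemeι ⁻¹ᵁ U).ι :=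
      (isIso_iff_isOpenImmersion_and_surjective _).2 ⟨inferInstance, ⟨hsurj⟩⟩
    infer_instance

end Groth.Agent.Lib.Helper21.FittStratum
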