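import Groth.Agent.S8875
import Groth.Agent.Lib.Helper2.FittPullback
import Groth.Agent.Lib.Helper21.QCohKernel
import Groth.Agent.Lib.Lead.Inv2
import Mathlib.AlgebraicGeometry.Morphisms.QuasiCompact

/-!
# Fitting ideals and strict transforms: auxiliary lemmas (helper21)
-/

set_option autoImplicit false
set_option linter.style.haveILetI false
universe u

open AlgebraicGeometry CategoryTheory TopologicalSpace

namespace Groth.Agent.Lib.Helper21.FittStrict

open Groth.Agent.Lib.Helper2.FreeModAff Groth.Agent.Lib.Helper21.QCohKernel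
  Groth.Agent.Lib.Helper2.FittSheaf

/-- If `F|_U` is locally free of rank `k`, every point of `U` has an affine neighbourhood inside
`U` on which the Fitting ideals `Fit_j`, `j < k`, of the sections vanish. -/
theorem exists_affine_fitt_eq_bot {S : Scheme.{u}} (F : S.Modules) [F.IsQuasicoherent] (k : ℕ)
    (U : S.Opens) (hfree : FlatMod.IsFinLocFreeOfRank k (F.restrict U.ι)) (s : S) (hs : s ∈ U) :
    ∃ V : S.affineOpens, s ∈ V.1 ∧ V.1 ≤ U ∧
      ∀ j, j < k → Fitt.ideal Γ(S, V.1) Γ(F, V.1) j = ⊥ := by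
  obtain ⟨U', hsU', hU'⟩ := hfree ⟨s, hs⟩
  obtain ⟨_, ⟨W', hW', rfl⟩, hsW', hWU'⟩ :=
    (U : Scheme.{u}).isBasis_affineOpens.exists_subset_of_mem_open hsU' U'.isOpen
  obtain ⟨e⟩ := (nonempty_iso_freeMod_iff (F.restrict U.ι) hW' k).1
    (nonempty_iso_freeMod_of_le (F.restrict U.ι) (show W' ≤ U' from hWU') k hU')
  refine ⟨⟨U.ι ''ᵁ W', hW'.image_of_isOpenImmersion U.ι⟩, ⟨⟨s, hs⟩, hsW', rfl⟩, ?_, ?_⟩
  · exact U.ι_image_le W'
  · intro j hj
    have h := (Groth.Agent.S8875.fitt_of_equiv_fun k e).1 j hj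
    have hinst : (inferInstance : Module Γ(U, W') Γ(F.restrict U.ι, W')) =
        (show Module Γ(U, W') Γ(F.restrict U.ι, W') from
          (inferInstance : Module Γ(S, U.ι ''ᵁ W') Γ(F, U.ι ''ᵁ W'))) :=
      Module.ext' _ _ (fun r m => Groth.Agent.Lib.Lead.Inv.restrict_smul U W' r m)
    have key : @Fitt.ideal Γ(U, W') _ Γ(F.restrict U.ι, W') _
        (show Module Γ(U, W') Γ(F.restrict U.ι, W') from
          (inferInstance : Module Γ(S, U.ι ''ᵁ W') Γ(F, U.ι ''ᵁ W'))) j = ⊥ := by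
      rw [← hinst]; exact h
    exact key

/-- Elements of the pulled-back lower Fitting ideals are killed by a power of a generator of the
pulled-back `k`-th Fitting ideal, when `F` is locally free of rank `k` away from `V(Fit_k)`. -/
theorem exists_pow_mul_eq_zero {S S' : Scheme.{u}} (F : S.Modules) [F.IsQuasicoherent]
    (hfinF : ∀ V : S.affineOpens, Module.Finite Γ(S, V.1) Γ(F, V.1)) (k : ℕ)
    (hfree : FlatMod.IsFinLocFreeOfRank k
      (F.restrict (Scheme.Opens.ι (Fitt.sheafIdeal F k).support.compl)))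
    (b : S' ⟶ S) (W : S'.affineOpens) (t : Γ(S', W.1))
    (ht : ((Fitt.sheafIdeal F k).comap b).ideal W = Ideal.span {t})
    (j : ℕ) (hj : j < k) (y : Γ(S', W.1)) (hy : y ∈ ((Fitt.sheafIdeal F j).comap b).ideal W) :
    ∃ N : ℕ, t ^ N * y = 0 := by
  apply exists_pow_mul_eq_zero_of_res_basicOpen_eq_zero_of_isAffineOpen S' W.2
  refine TopCat.Presheaf.section_ext S'.sheaf _ _ _ (fun x' hx' => ?_)
  have hx'W : x' ∈ W.1 := S'.basicOpen_le t hx'
  -- `b x'` lies outside the support of `Fit_k F`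
  have hbx : b x' ∈ ((Fitt.sheafIdeal F k).support.compl : S.Opens) := by
    intro hmem
    have h1 : x' ∈ ((Fitt.sheafIdeal F k).comap b).support := by
      rw [Scheme.IdealSheafData.support_comap]
      exact hmem
    rw [Scheme.IdealSheafData.mem_support_iff_of_mem (U := W) hx'W, ht,
      Scheme.zeroLocus_span, Scheme.zeroLocus_singleton] at h1
    exact h1 hx'
  obtain ⟨V, hbV, -, hV⟩ := exists_affine_fitt_eq_bot F k _ hfree (b x') hbx
  obtain ⟨_, ⟨W', hW', rfl⟩, hx'W', hW'le⟩ :=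
    S'.isBasis_affineOpens.exists_subset_of_mem_open
      (show x' ∈ ((W.1 ⊓ b ⁻¹ᵁ V.1 : S'.Opens) : Set S') from ⟨hx'W, hbV⟩)
      (W.1 ⊓ b ⁻¹ᵁ V.1).isOpen
  have hW'W : W' ≤ W.1 := fun z hz => (hW'le hz).1
  have hW'V : W' ≤ b ⁻¹ᵁ V.1 := fun z hz => (hW'le hz).2
  have h0 : ((Fitt.sheafIdeal F j).comap b).ideal ⟨W', hW'⟩ = ⊥ := by
    rw [Groth.Agent.Lib.Helper82.ideal_comap_of_le b _ W' hW' V.1 V.2 hW'V,
      sheafIdeal_ideal' F hfinF j V, hV j hj, Ideal.map_bot]
  have h1 : (S'.presheaf.map (homOfLE hW'W).op).hom y ∈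
      ((Fitt.sheafIdeal F j).comap b).ideal ⟨W', hW'⟩ := by
    rw [← ((Fitt.sheafIdeal F j).comap b).map_ideal (U := ⟨W', hW'⟩) (V := W) hW'W]
    exact Ideal.mem_map_of_mem _ hy
  rw [h0, Ideal.mem_bot] at h1
  have h2 : S'.presheaf.germ (S'.basicOpen t) x' hx'
      ((S'.presheaf.map (homOfLE (S'.basicOpen_le t)).op).hom y) =
      S'.presheaf.germ W.1 x' hx'W y := TopCat.Presheaf.germ_res_apply _ _ _ _ _
  have h3 : S'.presheaf.germ W' x' hx'W' ((S'.presheaf.map (homOfLE hW'W).op).hom y) =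
      S'.presheaf.germ W.1 x' hx'W y := TopCat.Presheaf.germ_res_apply _ _ _ _ _
  refine Eq.trans ?_ (map_zero _).symm
  change S'.presheaf.germ (S'.basicOpen t) x' hx'
      ((S'.presheaf.map (homOfLE (S'.basicOpen_le t)).op).hom y) = 0
  rw [h2, ← h3, h1, map_zero]

end Groth.Agent.Lib.Helper21.FittStrict
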