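import Groth.Agent.Lib.Helper21.FittStrict
import Groth.Prelude.Def_CInt

/-!
# Fitting ideals of a module which is locally free on a schematically dense open (helper21)
-/

set_option autoImplicit false
set_option linter.style.haveILetI false
universe u

open AlgebraicGeometry CategoryTheory TopologicalSpace

namespace Groth.Agent.Lib.Helper21.FittStrict2

open Groth.Agent.Lib.Helper2.FreeModAff Groth.Agent.Lib.Helper21.QCohKernel
  Groth.Agent.Lib.Helper2.FittSheaf

/-- If `F|_U` is locally free of rank `k`, every point of `U` has an affine neighbourhood inside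
`U` on which the Fitting ideals `Fit_j` of the sections are `⊥` for `j < k` and `⊤` for
`k ≤ j`. -/
theorem exists_affine_fitt {S : Scheme.{u}} (F : S.Modules) [F.IsQuasicoherent] (k : ℕ)
    (U : S.Opens) (hfree : FlatMod.IsFinLocFreeOfRank k (F.restrict U.ι)) (s : S) (hs : s ∈ U) :
    ∃ V : S.affineOpens, s ∈ V.1 ∧ V.1 ≤ U ∧
      (∀ j, j < k → Fitt.ideal Γ(S, V.1) Γ(F, V.1) j = ⊥) ∧
      (∀ j, k ≤ j → Fitt.ideal Γ(S, V.1) Γ(F, V.1) j = ⊤) := by
  obtain ⟨U', hsU', hU'⟩ := hfree ⟨s, hs⟩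
  obtain ⟨_, ⟨W', hW', rfl⟩, hsW', hWU'⟩ :=
    (U : Scheme.{u}).isBasis_affineOpens.exists_subset_of_mem_open hsU' U'.isOpen
  obtain ⟨e⟩ := (nonempty_iso_freeMod_iff (F.restrict U.ι) hW' k).1
    (nonempty_iso_freeMod_of_le (F.restrict U.ι) (show W' ≤ U' from hWU') k hU')
  refine ⟨⟨U.ι ''ᵁ W', hW'.image_of_isOpenImmersion U.ι⟩, ⟨⟨s, hs⟩, hsW', rfl⟩, ?_, ?_, ?_⟩
  · exact U.ι_image_le W'
  · intro j hj
    have h := (Groth.Agent.S8875.fitt_of_equiv_fun k e).1 j hj
    have hinst : (inferInstance : Module Γ(U, W') Γ(F.restrict U.ι, W')) =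
        (show Module Γ(U, W') Γ(F.restrict U.ι, W') from
          (inferInstance : Module Γ(S, U.ι ''ᵁ W') Γ(F, U.ι ''ᵁ W'))) :=
      Module.ext' _ _ (fun r m => Groth.Agent.Lib.Lead.Inv.restrict_smul U W' r m)
    have key : @Fitt.ideal Γ(U, W') _ Γ(F.restrict U.ι, W') _
        (show Module Γ(U, W') Γ(F.restrict U.ι, W') from
          (inferInstance : Module Γ(S, U.ι ''ᵁ W') Γ(F, U.ι ''ᵁ W'))) j = ⊥ := by
      rw [← hinst]; exact h
    exact key
  · intro j hj
    have h := (Groth.Agent.S8875.fitt_of_equiv_fun k e).2 j hj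
    have hinst : (inferInstance : Module Γ(U, W') Γ(F.restrict U.ι, W')) =
        (show Module Γ(U, W') Γ(F.restrict U.ι, W') from
          (inferInstance : Module Γ(S, U.ι ''ᵁ W') Γ(F, U.ι ''ᵁ W'))) :=
      Module.ext' _ _ (fun r m => Groth.Agent.Lib.Lead.Inv.restrict_smul U W' r m)
    have key : @Fitt.ideal Γ(U, W') _ Γ(F.restrict U.ι, W') _
        (show Module Γ(U, W') Γ(F.restrict U.ι, W') from
          (inferInstance : Module Γ(S, U.ι ''ᵁ W') Γ(F, U.ι ''ᵁ W'))) j = ⊤ := by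
      rw [← hinst]; exact h
    exact key

/-- If `F|_U` is locally free of rank `k`, the support of `Fit_k(F)` is disjoint from `U`. -/
theorem support_disjoint {S : Scheme.{u}} (F : S.Modules) [F.IsQuasicoherent]
    (hfinF : ∀ V : S.affineOpens, Module.Finite Γ(S, V.1) Γ(F, V.1)) (k : ℕ)
    (U : S.Opens) (hfree : FlatMod.IsFinLocFreeOfRank k (F.restrict U.ι)) :
    Disjoint ((Fitt.sheafIdeal F k).support : Set S) (U : Set S) := by
  rw [Set.disjoint_left]
  intro s hs hsU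
  obtain ⟨V, hsV, -, -, hV⟩ := exists_affine_fitt F k U hfree s hsU
  have hs : s ∈ (Fitt.sheafIdeal F k).support := hs
  rw [Scheme.IdealSheafData.mem_support_iff_of_mem (U := V) hsV,
    sheafIdeal_ideal' F hfinF k V, hV k le_rfl] at hs
  simp at hs
  exact hs hsV

/-- If `F|_U` is locally free of rank `k` and `U` is schematically dense, then `Fit_j(F) = 0`
for `j < k`. -/
theorem sheafIdeal_eq_bot {S : Scheme.{u}} (F : S.Modules) [F.IsQuasicoherent]
    (hfinF : ∀ V : S.affineOpens, Module.Finite Γ(S, V.1) Γ(F, V.1)) (k : ℕ)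
    (U : S.Opens) (hU : CInt.IsSchematicallyDense U)
    (hfree : FlatMod.IsFinLocFreeOfRank k (F.restrict U.ι)) (j : ℕ) (hj : j < k) :
    Fitt.sheafIdeal F j = ⊥ := by
  rw [eq_bot_iff]
  intro V d hd
  rw [Scheme.IdealSheafData.ideal_bot, Pi.bot_apply, Ideal.mem_bot]
  apply hU V.1
  rw [map_zero]
  refine TopCat.Presheaf.section_ext S.sheaf _ _ _ (fun x hx => ?_)
  obtain ⟨V', hxV', -, hV', -⟩ := exists_affine_fitt F k U hfree x hx.2
  obtain ⟨_, ⟨W', hW', rfl⟩, hxW', hW'le⟩ :=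
    S.isBasis_affineOpens.exists_subset_of_mem_open
      (show x ∈ ((V.1 ⊓ U ⊓ V'.1 : S.Opens) : Set S) from ⟨hx, hxV'⟩)
      (V.1 ⊓ U ⊓ V'.1).isOpen
  have hW'VU : W' ≤ V.1 ⊓ U := fun z hz => (hW'le hz).1
  have hW'V : W' ≤ V.1 := fun z hz => (hW'le hz).1.1
  have hW'V' : W' ≤ V'.1 := fun z hz => (hW'le hz).2
  have h0 : (Fitt.sheafIdeal F j).ideal ⟨W', hW'⟩ = ⊥ := by
    rw [← (Fitt.sheafIdeal F j).map_ideal (U := ⟨W', hW'⟩) (V := V') hW'V',
      sheafIdeal_ideal' F hfinF j V', hV' j hj, Ideal.map_bot]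
  have h1 : (S.presheaf.map (homOfLE hW'V).op).hom d ∈
      (Fitt.sheafIdeal F j).ideal ⟨W', hW'⟩ := by
    rw [← (Fitt.sheafIdeal F j).map_ideal (U := ⟨W', hW'⟩) (V := V) hW'V]
    exact Ideal.mem_map_of_mem _ hd
  rw [h0, Ideal.mem_bot] at h1
  have h2 : (S.presheaf.map (homOfLE hW'VU).op).hom
      ((S.presheaf.map (homOfLE (inf_le_left : V.1 ⊓ U ≤ V.1)).op).hom d) = 0 := by
    rw [← h1, ← CommRingCat.comp_apply, ← Functor.map_comp]
    rfl
  have h3 := TopCat.Presheaf.germ_res_apply S.presheaf (homOfLE hW'VU) x hxW'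
    ((S.presheaf.map (homOfLE (inf_le_left : V.1 ⊓ U ≤ V.1)).op).hom d)
  refine h3.symm.trans ?_
  erw [h2]
  rw [map_zero]
  exact (map_zero _).symm

end Groth.Agent.Lib.Helper21.FittStrict2
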