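import Mathlib.RingTheory.Flat.Basic
import Mathlib.LinearAlgebra.TensorProduct.Pi

/-!
# Flat base change of the Čech-type conditions describing `N → Γ(⋃ D(aᵢ), N~)` bijective

For an `A`-module `N` and a finite family `a : ι → A`, `InjCond a N` and `SurjCond a N` express
elementwise that `N → Γ(⋃ D(aᵢ), N~)` is injective, resp. surjective.  Both conditions pass to
`B ⊗[A] N` for a flat `A`-algebra `B`.
-/

set_option autoImplicit false

open TensorProduct

namespace Groth.Agent.Lib.Helper21.FlatCech

variable {A : Type*} [CommRing A] {ι : Type*} (a : ι → A)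

/-- An element killed by a power of each `aᵢ` is zero. -/
def InjCond (N : Type*) [AddCommGroup N] [Module A N] : Prop :=
  ∀ m : N, (∀ i, ∃ p : ℕ, a i ^ p • m = 0) → m = 0

/-- Compatible families of fractions `mᵢ / aᵢ^n` come (up to torsion) from an element. -/
def SurjCond (N : Type*) [AddCommGroup N] [Module A N] : Prop :=
  ∀ (n : ℕ) (m : ι → N), (∀ i j, a j ^ n • m i = a i ^ n • m j) →
    ∃ (m₀ : N) (p : ℕ), ∀ i, a i ^ p • (a i ^ n • m₀ - m i) = 0

variable (B : Type*) [CommRing B] [Algebra A B]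
  {N : Type*} [AddCommGroup N] [Module A N]

/-- The map `m ↦ (aᵢ^p m)ᵢ`. -/
def powMap (p : ℕ) : N →ₗ[A] (ι → N) := LinearMap.pi (fun i => (a i ^ p) • LinearMap.id)

theorem powMap_apply (p : ℕ) (m : N) (i : ι) : powMap a p m i = a i ^ p • m := rfl

/-- The map `(mᵢ) ↦ (aⱼ^n mᵢ - aᵢ^n mⱼ)`. -/
def diffMap (n : ℕ) : (ι → N) →ₗ[A] (ι × ι → N) :=
  LinearMap.pi (fun q => (a q.2 ^ n) • LinearMap.proj q.1 - (a q.1 ^ n) • LinearMap.proj q.2)

theorem diffMap_apply (n : ℕ) (m : ι → N) (q : ι × ι) :
    diffMap a n m q = a q.2 ^ n • m q.1 - a q.1 ^ n • m q.2 := rfl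

theorem piRightHom_lTensor_powMap (p : ℕ) (σ : B ⊗[A] N) :
    piRightHom A A B (fun _ : ι => N) ((powMap a p).lTensor B σ) = fun i => a i ^ p • σ := by
  induction σ using TensorProduct.induction_on with
  | zero =>
    funext i
    simp
  | tmul b m =>
    rw [LinearMap.lTensor_tmul, piRightHom_tmul]
    funext i
    rw [powMap_apply, TensorProduct.tmul_smul]
  | add x y hx hy =>
    rw [map_add, map_add, hx, hy]
    funext i
    simp [smul_add]

theorem piRightHom_lTensor_diffMap (n : ℕ) (S : B ⊗[A] (ι → N)) :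
    piRightHom A A B (fun _ : ι × ι => N) ((diffMap a n).lTensor B S) =
      fun q => a q.2 ^ n • piRightHom A A B (fun _ : ι => N) S q.1 -
        a q.1 ^ n • piRightHom A A B (fun _ : ι => N) S q.2 := by
  induction S using TensorProduct.induction_on with
  | zero =>
    funext q
    simp
  | tmul b m =>
    rw [LinearMap.lTensor_tmul, piRightHom_tmul, piRightHom_tmul]
    funext q
    rw [diffMap_apply, TensorProduct.tmul_sub, TensorProduct.tmul_smul, TensorProduct.tmul_smul]
  | add x y hx hy =>
    rw [map_add, map_add, hx, hy]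
    funext q
    simp only [map_add, Pi.add_apply, smul_add]
    abel

variable [Module.Flat A B] [Fintype ι] [DecidableEq ι]

theorem injCond_tensor (h : InjCond a N) : InjCond a (B ⊗[A] N) := by
  intro σ hσ
  choose p hp using hσ
  have hP : ∀ i, a i ^ (Finset.univ.sup p) • σ = 0 := fun i => by
    have hle : p i ≤ Finset.univ.sup p := Finset.le_sup (Finset.mem_univ i)
    obtain ⟨k, hk⟩ := Nat.exists_eq_add_of_le hle
    rw [hk, pow_add, mul_comm, mul_smul, hp i, smul_zero]
  have hinj : Function.Injective (powMap (N := N) a (Finset.univ.sup p)) := by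
    intro m m' hmm
    rw [← sub_eq_zero]
    apply h
    intro i
    refine ⟨Finset.univ.sup p, ?_⟩
    have h1 := congrFun hmm i
    rw [powMap_apply, powMap_apply] at h1
    rw [smul_sub, h1, sub_self]
  have h2 := Module.Flat.lTensor_preserves_injective_linearMap (M := B)
    (powMap (N := N) a (Finset.univ.sup p)) hinj
  apply h2
  rw [map_zero]
  apply (piRight A A B (fun _ : ι => N)).injective
  rw [piRight_apply, piRightHom_lTensor_powMap, map_zero]
  funext i
  exact hP i

theorem surjCond_tensor (h : SurjCond a N) : SurjCond a (B ⊗[A] N) := by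
  intro n σ hσ
  set S := (piRight A A B (fun _ : ι => N)).symm σ with hSdef
  have hS : piRightHom A A B (fun _ : ι => N) S = σ := by
    rw [← piRight_apply, hSdef, LinearEquiv.apply_symm_apply]
  have h0 : (diffMap (N := N) a n).lTensor B S = 0 := by
    apply (piRight A A B (fun _ : ι × ι => N)).injective
    rw [piRight_apply, piRightHom_lTensor_diffMap, hS, map_zero]
    funext q
    rw [hσ q.1 q.2, sub_self]
    rfl
  have hex : Function.Exact (LinearMap.ker (diffMap (N := N) a n)).subtype (diffMap a n) :=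
    LinearMap.exact_subtype_ker_map _
  have hex' := Module.Flat.lTensor_exact B hex
  obtain ⟨κ, hκ⟩ := (hex' S).1 h0
  have key : ∀ κ : B ⊗[A] (LinearMap.ker (diffMap (N := N) a n)),
      ∃ (σ₀ : B ⊗[A] N) (p : ℕ), ∀ i, a i ^ p • (a i ^ n • σ₀ -
        piRightHom A A B (fun _ : ι => N)
          ((LinearMap.ker (diffMap (N := N) a n)).subtype.lTensor B κ) i) = 0 := by
    intro κ
    induction κ using TensorProduct.induction_on with
    | zero => exact ⟨0, 0, fun i => by simp⟩
    | tmul c k =>
      obtain ⟨m₀, p, hm₀⟩ := h n k.1 (fun i j => by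
        have h1 := congrFun (LinearMap.mem_ker.1 k.2) (i, j)
        rw [diffMap_apply] at h1
        exact sub_eq_zero.1 h1)
      refine ⟨c ⊗ₜ m₀, p, fun i => ?_⟩
      rw [LinearMap.lTensor_tmul, piRightHom_tmul]
      change a i ^ p • (a i ^ n • c ⊗ₜ[A] m₀ - c ⊗ₜ[A] (k.1 i)) = 0
      rw [← TensorProduct.tmul_smul, ← TensorProduct.tmul_sub, ← TensorProduct.tmul_smul, hm₀ i,
        TensorProduct.tmul_zero]
    | add x y hx hy =>
      obtain ⟨s1, p1, h1⟩ := hx
      obtain ⟨s2, p2, h2⟩ := hy
      refine ⟨s1 + s2, p1 + p2, fun i => ?_⟩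
      rw [map_add, map_add, Pi.add_apply, smul_add, add_sub_add_comm, smul_add]
      have e1 : a i ^ (p1 + p2) • (a i ^ n • s1 - piRightHom A A B (fun _ : ι => N)
          ((LinearMap.ker (diffMap (N := N) a n)).subtype.lTensor B x) i) = 0 := by
        rw [pow_add, mul_comm, mul_smul, h1 i, smul_zero]
      have e2 : a i ^ (p1 + p2) • (a i ^ n • s2 - piRightHom A A B (fun _ : ι => N)
          ((LinearMap.ker (diffMap (N := N) a n)).subtype.lTensor B y) i) = 0 := by
        rw [pow_add, mul_smul, h2 i, smul_zero]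
      rw [e1, e2, add_zero]
  obtain ⟨σ₀, p, hσ₀⟩ := key κ
  refine ⟨σ₀, p, fun i => ?_⟩
  have := hσ₀ i
  rw [hκ, hS] at this
  exact this

end Groth.Agent.Lib.Helper21.FlatCech
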