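import Groth.Agent.Lib.Helper21.CechCond
import Groth.Agent.Lib.Helper40.AffBC1
import Groth.Agent.Lib.Lead.PullbackAff4
import Mathlib.AlgebraicGeometry.Morphisms.Flat

/-!
# Flat base change for bijectivity of restriction to a quasi-compact open of an affine open

`f : X' ⟶ X` flat, `H` quasi-coherent on `X`, `U ⊆ X` and `V' ⊆ f⁻¹ U` affine, `U₀ = ⋃ D(aᵢ) ⊆ U`.
If `H(U) → H(U₀)` is bijective then so is `(f^*H)(V') → (f^*H)(V' ∩ f⁻¹ U₀)`.
-/

set_option autoImplicit false
set_option linter.style.haveILetI false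
universe u

open AlgebraicGeometry CategoryTheory Opposite TopologicalSpace TensorProduct

namespace Groth.Agent.Lib.Helper21.FlatResBC

open Groth.Agent.Lib.Helper21.ModBasis Groth.Agent.Lib.Helper21.FlatCech
  Groth.Agent.Lib.Helper21.CechCond Groth.Agent.Lib.Helper40.AffBC
open Groth.Agent.Lib.Helper29.QCohLoc (LocAt)

section Transfer

variable {A B : Type*} [CommRing A] [CommRing B] (φ : A →+* B) {N₁ N₂ : Type*}
  [AddCommGroup N₁] [Module A N₁] [AddCommGroup N₂] [Module B N₂]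
  (ψ : N₁ →+ N₂) (hψ : Function.Bijective ψ) (hsm : ∀ (a : A) (x : N₁), ψ (a • x) = φ a • ψ x)
  {ι : Type*} (a : ι → A)

include hψ hsm in
theorem injCond_transfer (h : InjCond a N₁) : InjCond (fun i => φ (a i)) N₂ := by
  intro m hm
  obtain ⟨x, rfl⟩ := hψ.2 m
  have hx : x = 0 := h x (fun i => by
    obtain ⟨p, hp⟩ := hm i
    refine ⟨p, hψ.1 ?_⟩
    rw [hsm, map_pow, hp, map_zero])
  rw [hx, map_zero]

include hψ hsm in
theorem surjCond_transfer (h : SurjCond a N₁) : SurjCond (fun i => φ (a i)) N₂ := by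
  intro n m hm
  choose x hx using fun i => hψ.2 (m i)
  obtain ⟨x₀, p, hx₀⟩ := h n x (fun i j => hψ.1 (by
    rw [hsm, hsm, map_pow, map_pow, hx, hx]
    exact hm i j))
  refine ⟨ψ x₀, p, fun i => ?_⟩
  have h1 := congrArg ψ (hx₀ i)
  rw [hsm, map_sub, hsm, map_pow, map_pow, hx i, map_zero] at h1
  exact h1

end Transfer

theorem bijective_res_pullback {X' X : Scheme.{u}} (f : X' ⟶ X) [Flat f] (H : X.Modules)
    [H.IsQuasicoherent] {U : X.Opens} {V' : X'.Opens} (hU : IsAffineOpen U)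
    (hV' : IsAffineOpen V') (e : V' ≤ f ⁻¹ᵁ U) {ι : Type u} [Fintype ι] (a : ι → Γ(X, U))
    {U₀ : X.Opens} (hU₀ : U₀ = ⨆ i, X.basicOpen (a i)) (hle : U₀ ≤ U)
    (hb : Function.Bijective (res H hle)) :
    Function.Bijective (res ((Scheme.Modules.pullback f).obj H)
      (inf_le_left : V' ⊓ f ⁻¹ᵁ U₀ ≤ V')) := by
  classical
  letI alg : Algebra Γ(X, U) Γ(X', V') := (f.appLE U V' e).hom.toAlgebra
  haveI : Module.Flat Γ(X, U) Γ(X', V') := f.flat_appLE hU hV' e
  have hH := LocAt.of_isQuasicoherent H hU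
  have c1 := injCond_of_injective H a hU₀ hle hb.1
  have c2 := surjCond_of_bijective H hH a hU₀ hle hb
  have d1 := injCond_tensor a Γ(X', V') c1
  have d2 := surjCond_tensor a Γ(X', V') c2
  have hψ := pullTensorHom_bijective f H hV' hU e
  have hsm : ∀ (r : Γ(X, U)) (x : Γ(X', V') ⊗[Γ(X, U)] Γ(H, U)),
      pullTensorHom f H e (r • x) = (f.appLE U V' e).hom r • pullTensorHom f H e x := by
    intro r x
    rw [← algebraMap_smul Γ(X', V') r x, map_smul]
    rfl
  have e1 := injCond_transfer (f.appLE U V' e).hom (pullTensorHom f H e).toAddMonoidHom hψ hsm a d1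
  have e2 := surjCond_transfer (f.appLE U V' e).hom (pullTensorHom f H e).toAddMonoidHom hψ hsm a d2
  have hM := LocAt.of_isQuasicoherent ((Scheme.Modules.pullback f).obj H) hV'
  have hV₀ : V' ⊓ f ⁻¹ᵁ U₀ = ⨆ i, X'.basicOpen ((f.appLE U V' e).hom (a i)) := by
    rw [hU₀, Scheme.Hom.preimage_iSup, inf_iSup_eq]
    congr 1
    funext i
    exact (Scheme.basicOpen_appLE f V' U e (a i)).symm
  exact bijective_of_cond _ hM _ hV₀ inf_le_left e1 e2

end Groth.Agent.Lib.Helper21.FlatResBC
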