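import Groth.Agent.Lib.Helper40.AffBC1
import Groth.Agent.Lib.Helper40.ClPull
import Groth.Agent.Lib.Helper22.IsoLocus
import Groth.Agent.Lib.Helper29.QCohLoc
import Groth.Agent.Lib.Lead.PullbackAff4
import Groth.Prelude.Def_RefHull
import Mathlib.AlgebraicGeometry.Morphisms.Flat

/-!
# Flat pullback preserves bijectivity on stalks of a morphism of quasi-coherent modules
-/

set_option autoImplicit false
set_option linter.style.haveILetI false
universe u

open AlgebraicGeometry CategoryTheory Opposite TopologicalSpace TensorProduct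

namespace Groth.Agent.Lib.Helper21.FlatStalkBij

open Groth.Agent.Lib.Helper40.AffBC Groth.Agent.Lib.Helper48.OmegaAff
  Groth.Agent.Lib.Helper22.IsoLocus
open Groth.Agent.Lib.Helper29.QCohLoc (LocAt germ_eq_zero_iff exists_germ_eq_smul germ_smul)

variable {X' X : Scheme.{u}} (f : X' ⟶ X) {F G : X.Modules} [F.IsQuasicoherent]
  [G.IsQuasicoherent] (φ : F ⟶ G)

section Affine

variable {U : X.Opens} {V' : X'.Opens} (e : V' ≤ f ⁻¹ᵁ U)

/-- Naturality of `pullTensorHom` in the module. -/
theorem pullTensorHom_nat :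
    letI := (f.appLE U V' e).hom.toAlgebra
    ∀ τ : Γ(X', V') ⊗[Γ(X, U)] Γ(F, U),
      ((Scheme.Modules.pullback f).map φ).app V' (pullTensorHom f F e τ) =
        pullTensorHom f G e ((appL φ U).lTensor Γ(X', V') τ) := by
  letI := (f.appLE U V' e).hom.toAlgebra
  intro τ
  induction τ using TensorProduct.induction_on with
  | zero => simp
  | tmul b m =>
    rw [LinearMap.lTensor_tmul, pullTensorHom_tmul, pullTensorHom_tmul,
      Scheme.Modules.Hom.app_smul, Groth.Agent.Lib.Helper40.ClPull.pullRes_nat]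
    rfl
  | add x y hx hy =>
    rw [map_add, map_add, map_add, map_add, hx, hy]

theorem pullTensorHom_smul (r : Γ(X, U)) :
    letI := (f.appLE U V' e).hom.toAlgebra
    ∀ τ : Γ(X', V') ⊗[Γ(X, U)] Γ(F, U),
      pullTensorHom f F e (r • τ) = (f.appLE U V' e).hom r • pullTensorHom f F e τ := by
  letI := (f.appLE U V' e).hom.toAlgebra
  intro τ
  rw [← algebraMap_smul Γ(X', V') r τ, map_smul]
  rfl

end Affine

theorem lTensor_smul' {A B : Type*} [CommRing A] [CommRing B] [Algebra A B] {N N' : Type*}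
    [AddCommGroup N] [Module A N] [AddCommGroup N'] [Module A N'] (g : N →ₗ[A] N') (b : B)
    (τ : B ⊗[A] N) : g.lTensor B (b • τ) = b • g.lTensor B τ := by
  induction τ using TensorProduct.induction_on with
  | zero => simp
  | tmul c n =>
    rw [TensorProduct.smul_tmul', LinearMap.lTensor_tmul, LinearMap.lTensor_tmul,
      TensorProduct.smul_tmul']
  | add x y hx hy => rw [smul_add, map_add, map_add, smul_add, hx, hy]

/-- **Flat pullback preserves bijectivity on stalks.** -/
theorem bijective_stalkMap_pullback [Flat f] (x' : X')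
    (hφ : Function.Bijective (RefHull.stalkMapₗ φ (f.base x'))) :
    Function.Bijective (RefHull.stalkMapₗ ((Scheme.Modules.pullback f).map φ) x') := by
  classical
  obtain ⟨U, V', hU, hV', hx', e⟩ := Groth.Agent.Lib.Lead.PullbackAff.exists_affines f x'
  have hx : f.base x' ∈ U := e hx'
  letI alg : Algebra Γ(X, U) Γ(X', V') := (f.appLE U V' e).hom.toAlgebra
  haveI : Module.Flat Γ(X, U) Γ(X', V') := f.flat_appLE hU hV' e
  have hF := LocAt.of_isQuasicoherent F hU
  have hG := LocAt.of_isQuasicoherent G hU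
  have hF' := LocAt.of_isQuasicoherent ((Scheme.Modules.pullback f).obj F) hV'
  have hG' := LocAt.of_isQuasicoherent ((Scheme.Modules.pullback f).obj G) hV'
  have hψF := pullTensorHom_bijective f F hV' hU e
  have hψG := pullTensorHom_bijective f G hV' hU e
  -- points of basic opens
  have hmem : ∀ a : Γ(X, U), f.base x' ∈ X.basicOpen a →
      x' ∈ X'.basicOpen ((f.appLE U V' e).hom a) := by
    intro a ha
    have h1 := Scheme.basicOpen_appLE f V' U e a
    have h2 : x' ∈ V' ⊓ f ⁻¹ᵁ X.basicOpen a := ⟨hx', ha⟩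
    rw [← h1] at h2
    exact h2
  have hunit : ∀ b : Γ(X', V'), x' ∈ X'.basicOpen b → IsUnit (X'.presheaf.germ V' x' hx' b) :=
    fun b hb => (Scheme.mem_basicOpen X' b x' hx').1 hb
  constructor
  · rw [injective_iff_map_eq_zero]
    intro ξ hξ
    obtain ⟨b₀, t, hb₀, ht⟩ :=
      exists_germ_eq_smul ((Scheme.Modules.pullback f).obj F) hV' hF' x' hx' ξ
    have h1 : ((Scheme.Modules.pullback f).obj G).presheaf.germ V' x' hx'
        (((Scheme.Modules.pullback f).map φ).app V' t) = 0 := by
      rw [← RefHull.stalkMapₗ_germ, ht, map_smul, hξ, smul_zero]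
    obtain ⟨b₁, hb₁, hb₁t⟩ :=
      (germ_eq_zero_iff ((Scheme.Modules.pullback f).obj G) hV' hG' x' hx' _).1 h1
    obtain ⟨τ, rfl⟩ := hψF.2 t
    rw [pullTensorHom_nat f φ e τ, ← map_smul, ← lTensor_smul'] at hb₁t
    have h2 : (appL φ U).lTensor Γ(X', V') (b₁ • τ) = 0 := hψG.1 (hb₁t.trans (map_zero _).symm)
    have hex : Function.Exact (LinearMap.ker (appL φ U)).subtype (appL φ U) :=
      LinearMap.exact_subtype_ker_map _
    have hex' := Module.Flat.lTensor_exact Γ(X', V') hex
    obtain ⟨κ, hκ⟩ := (hex' (b₁ • τ)).1 h2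
    have key : ∀ κ : Γ(X', V') ⊗[Γ(X, U)] (LinearMap.ker (appL φ U)),
        ∃ a : Γ(X, U), f.base x' ∈ X.basicOpen a ∧ a • κ = 0 := by
      intro κ
      induction κ using TensorProduct.induction_on with
      | zero => exact ⟨1, by rw [Scheme.basicOpen_of_isUnit _ isUnit_one]; exact hx, smul_zero _⟩
      | tmul b k =>
        have hk : φ.app U k.1 = 0 := k.2
        have hk0 : F.presheaf.germ U (f.base x') hx k.1 = 0 := by
          apply hφ.1
          rw [RefHull.stalkMapₗ_germ, hk, map_zero, map_zero]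
        obtain ⟨a, ha, hak⟩ := (germ_eq_zero_iff F hU hF (f.base x') hx k.1).1 hk0
        refine ⟨a, ha, ?_⟩
        have hak' : a • k = 0 := Subtype.ext hak
        rw [← TensorProduct.tmul_smul, hak', TensorProduct.tmul_zero]
      | add y z hy hz =>
        obtain ⟨a₁, ha₁, h₁⟩ := hy
        obtain ⟨a₂, ha₂, h₂⟩ := hz
        refine ⟨a₁ * a₂, by rw [X.basicOpen_mul]; exact ⟨ha₁, ha₂⟩, ?_⟩
        rw [smul_add, mul_comm, mul_smul, h₁, smul_zero, mul_comm, mul_smul, h₂, smul_zero,
          add_zero]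
    obtain ⟨a, ha, haκ⟩ := key κ
    have h3 : a • (b₁ • τ) = 0 := by
      rw [← hκ, ← map_smul, haκ, map_zero]
    have h4 : (f.appLE U V' e).hom a • b₁ • pullTensorHom f F e τ = 0 := by
      rw [← map_smul, ← pullTensorHom_smul f e a, h3, map_zero]
    have h5 := congrArg (((Scheme.Modules.pullback f).obj F).presheaf.germ V' x' hx') h4
    rw [germ_smul, germ_smul, map_zero] at h5
    have h6 := (hunit _ hb₁).smul_eq_zero.1 ((hunit _ (hmem a ha)).smul_eq_zero.1 h5)
    rw [ht] at h6
    exact (hunit _ hb₀).smul_eq_zero.1 h6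
  · intro η
    obtain ⟨b₀, s, hb₀, hs⟩ :=
      exists_germ_eq_smul ((Scheme.Modules.pullback f).obj G) hV' hG' x' hx' η
    obtain ⟨σ, rfl⟩ := hψG.2 s
    have key : ∀ σ : Γ(X', V') ⊗[Γ(X, U)] Γ(G, U),
        ∃ a : Γ(X, U), f.base x' ∈ X.basicOpen a ∧
          a • σ ∈ LinearMap.range ((appL φ U).lTensor Γ(X', V')) := by
      intro σ
      induction σ using TensorProduct.induction_on with
      | zero =>
        exact ⟨1, by rw [Scheme.basicOpen_of_isUnit _ isUnit_one]; exact hx,
          by rw [smul_zero]; exact Submodule.zero_mem _⟩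
      | tmul b h =>
        obtain ⟨ξ, hξ⟩ := hφ.2 (G.presheaf.germ U (f.base x') hx h)
        obtain ⟨a₀, m, ha₀, hm⟩ := exists_germ_eq_smul F hU hF (f.base x') hx ξ
        have h0 : G.presheaf.germ U (f.base x') hx (a₀ • h - φ.app U m) = 0 := by
          rw [map_sub, germ_smul, ← hξ, ← map_smul, ← hm, RefHull.stalkMapₗ_germ, sub_self]
        obtain ⟨a₁, ha₁, h1⟩ := (germ_eq_zero_iff G hU hG (f.base x') hx _).1 h0
        refine ⟨a₁ * a₀, by rw [X.basicOpen_mul]; exact ⟨ha₁, ha₀⟩, b ⊗ₜ (a₁ • m), ?_⟩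
        rw [LinearMap.lTensor_tmul, ← TensorProduct.tmul_smul]
        congr 1
        rw [smul_sub, sub_eq_zero] at h1
        rw [mul_smul, h1, map_smul]
        rfl
      | add y z hy hz =>
        obtain ⟨a₁, ha₁, h₁⟩ := hy
        obtain ⟨a₂, ha₂, h₂⟩ := hz
        refine ⟨a₁ * a₂, by rw [X.basicOpen_mul]; exact ⟨ha₁, ha₂⟩, ?_⟩
        rw [smul_add]
        refine Submodule.add_mem _ ?_ ?_
        · rw [mul_comm, mul_smul]
          exact Submodule.smul_mem _ _ h₁
        · rw [mul_smul]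
          exact Submodule.smul_mem _ _ h₂
    obtain ⟨a, ha, τ, hτ⟩ := key σ
    have h1 : (f.appLE U V' e).hom a • pullTensorHom f G e σ =
        ((Scheme.Modules.pullback f).map φ).app V' (pullTensorHom f F e τ) := by
      rw [← pullTensorHom_smul f e a, ← hτ, pullTensorHom_nat f φ e τ]
    have hu := (hunit _ (hmem a ha)).mul (hunit _ hb₀)
    obtain ⟨w, hw⟩ := hu
    refine ⟨(↑w⁻¹ : X'.presheaf.stalk x') •
      ((Scheme.Modules.pullback f).obj F).presheaf.germ V' x' hx' (pullTensorHom f F e τ), ?_⟩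
    rw [map_smul, RefHull.stalkMapₗ_germ, ← h1, germ_smul, hs, smul_smul, smul_smul, mul_assoc,
      ← hw, Units.inv_mul, one_smul]

end Groth.Agent.Lib.Helper21.FlatStalkBij
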