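import Groth.Agent.Lib.Helper64.HartogsMod
import Groth.Agent.Lib.Helper64.FinTypeStalk
import Groth.Agent.Lib.Helper21.ModBasis

set_option autoImplicit false
set_option linter.style.haveILetI false
universe u

open AlgebraicGeometry CategoryTheory Opposite TopologicalSpace Limits

namespace Groth.Agent.Lib.Helper21.HartogsHom

open Groth.Agent.Lib.Helper29.QCohLoc Groth.Agent.Lib.Helper64.HartogsMod

variable {Y : Scheme.{u}} [IsLocallyNoetherian Y]

/-- Under the depth-2 condition outside `U`, the unit `E ⟶ j_*(E|_U)` is an isomorphism. -/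
theorem isIso_unit_of_depth (E : Y.Modules) (hE : Coh.IsCoh E) (U : Y.Opens)
    (hdepth : ∀ y : Y, y ∉ U → (2 : ℕ∞) ≤ LocCoh.depth (Y.presheaf.stalk y) (E.presheaf.stalk y)) :
    IsIso ((Scheme.Modules.restrictAdjunction U.ι).unit.app E) := by
  haveI : E.IsQuasicoherent := hE.1
  refine Scheme.Modules.Hom.isIso_iff_isIso_app.mpr fun V => ?_
  rw [ConcreteCategory.isIso_iff_bijective]
  have hreg : ∀ x : Y, x ∉ U → HasRegPairMod (Y.presheaf.stalk x) (E.presheaf.stalk x) := by
    intro x hx
    haveI : Module.Finite (Y.presheaf.stalk x) (E.presheaf.stalk x) :=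
      Groth.Agent.Lib.Helper64.FinTypeStalk.finite_stalk E hE.2 x
    exact hasRegPairMod_of_two_le_depth (hdepth x hx)
  have hle : U.ι ''ᵁ U.ι ⁻¹ᵁ V ≤ V := U.ι.image_preimage_le V
  have heq : U.ι ''ᵁ U.ι ⁻¹ᵁ V = V ⊓ U := by
    rw [Scheme.Hom.image_preimage_eq_opensRange_inf, Scheme.Opens.opensRange_ι, inf_comm]
  exact bijective_res E (fun W hW => LocAt.of_isQuasicoherent E hW) U hreg hle heq

/-- Restriction of homomorphisms to `U` is bijective when the target has depth at least 2 at the
points outside `U`. -/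
theorem bijective_restrict_hom (E F : Y.Modules) (hE : Coh.IsCoh E) (U : Y.Opens)
    (hdepth : ∀ y : Y, y ∉ U → (2 : ℕ∞) ≤ LocCoh.depth (Y.presheaf.stalk y) (E.presheaf.stalk y)) :
    Function.Bijective (fun φ : F ⟶ E => (Scheme.Modules.restrictFunctor U.ι).map φ) := by
  haveI := isIso_unit_of_depth E hE U hdepth
  let adj := Scheme.Modules.restrictAdjunction U.ι
  let e := adj.homEquiv F ((Scheme.Modules.restrictFunctor U.ι).obj E)
  have key : ∀ φ : F ⟶ E, e ((Scheme.Modules.restrictFunctor U.ι).map φ) = φ ≫ adj.unit.app E := by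
    intro φ
    rw [Adjunction.homEquiv_unit]
    exact (adj.unit.naturality φ).symm
  constructor
  · intro φ ψ h
    have h' : (Scheme.Modules.restrictFunctor U.ι).map φ =
        (Scheme.Modules.restrictFunctor U.ι).map ψ := h
    have := congrArg e h'
    rw [key, key] at this
    exact (cancel_mono (adj.unit.app E)).mp this
  · intro χ
    refine ⟨e χ ≫ inv (adj.unit.app E), ?_⟩
    apply e.injective
    change e ((Scheme.Modules.restrictFunctor U.ι).map _) = _
    rw [key, Category.assoc, IsIso.inv_hom_id, Category.comp_id]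

end Groth.Agent.Lib.Helper21.HartogsHom
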