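import Groth.Agent.Lib.Helper22.IsoLocus

/-!
# The locus where a morphism of coherent modules is bijective on stalks is open
(generalisation of `Helper22.IsoLocus.isOpen_isoLocus`, same proof)
-/

set_option autoImplicit false
set_option linter.style.haveILetI false
universe u

open AlgebraicGeometry CategoryTheory Opposite TopologicalSpace CategoryTheory.Limits

namespace Groth.Agent.Lib.Helper21.IsoLocusGen

open Groth.Agent.Lib.Lead.QCohAff Groth.Agent.Lib.Helper2.FinTypeAff Groth.Agent.Lib.Helper22.IsoLocus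

variable {X : Scheme.{u}}

theorem isOpen_bijLocus [IsLocallyNoetherian X] (E F : X.Modules) [E.IsQuasicoherent]
    [SheafOfModules.IsFiniteType (R := X.ringCatSheaf) E] [F.IsQuasicoherent]
    [SheafOfModules.IsFiniteType (R := X.ringCatSheaf) F]
    (s : E ⟶ F) : IsOpen {x : X | Function.Bijective (RefHull.stalkMapₗ s x)} := by
  rw [isOpen_iff_forall_mem_open]
  intro x hx
  obtain ⟨U, hU, hxU, -⟩ :=
    exists_isAffineOpen_mem_and_subset (X := X) (x := x) (U := ⊤) trivial
  haveI hnoeth : IsNoetherianRing Γ(X, U) := IsLocallyNoetherian.component_noetherian ⟨U, hU⟩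
  haveI hfin : Module.Finite Γ(X, U) Γ(F, U) := finite_sections F hU
  haveI hfinE : Module.Finite Γ(X, U) Γ(E, U) := finite_sections E hU
  haveI : IsNoetherian Γ(X, U) Γ(E, U) := isNoetherian_of_isNoetherianRing_of_finite _ _
  set φ := appL s U with hφ
  set p := (hU.primeIdealOf ⟨x, hxU⟩).asIdeal with hpdef
  haveI : p.IsPrime := (hU.primeIdealOf ⟨x, hxU⟩).isPrime
  have hp : ∀ r : Γ(X, U), r ∉ p ↔ x ∈ X.basicOpen r := fun r =>
    (mem_basicOpen_iff_notMem_primeIdealOf hU x hxU r).symm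
  have hbij : Function.Bijective (RefHull.stalkMapₗ s x) := hx
  -- kernel
  obtain ⟨S, hS⟩ := IsNoetherian.noetherian (LinearMap.ker φ)
  have h1 : ∀ n ∈ S, ∃ u : Γ(X, U), u ∉ p ∧
      u • n ∈ (⊥ : Submodule Γ(X, U) Γ(E, U)) := by
    intro n hn
    have hnk : φ n = 0 := by
      have : n ∈ LinearMap.ker φ := hS ▸ Submodule.subset_span hn
      exact this
    have hg : (E).presheaf.germ U x hxU n = 0 := by
      apply hbij.1
      rw [RefHull.stalkMapₗ_germ, map_zero]
      have : s.app U n = 0 := hnk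
      rw [this, map_zero]
    obtain ⟨r, hxr, hr⟩ := (germ_eq_zero_iff _ hU x hxU n).mp hg
    exact ⟨r, (hp r).mpr hxr, by rw [hr]; exact Submodule.zero_mem _⟩
  obtain ⟨f1, hf1p, hf1⟩ := exists_smul_mem_of_forall p ⊥ S h1
  -- cokernel
  obtain ⟨T, hT⟩ := hfin.fg_top
  have h2 : ∀ m ∈ T, ∃ u : Γ(X, U), u ∉ p ∧ u • m ∈ LinearMap.range φ := by
    intro m hm
    obtain ⟨w, hw⟩ := hbij.2 (F.presheaf.germ U x hxU m)
    obtain ⟨r, a, hxr, hra⟩ := exists_germ_smul_eq_germ (E) hU x hxU w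
    have h3 : F.presheaf.germ U x hxU (r • m - φ a) = 0 := by
      rw [map_sub, germ_smul, ← hw, ← map_smul, hra, RefHull.stalkMapₗ_germ, sub_eq_zero]
      rfl
    obtain ⟨r', hxr', hr'⟩ := (germ_eq_zero_iff F hU x hxU _).mp h3
    refine ⟨r' * r, ?_, ?_⟩
    · rw [hp, X.basicOpen_mul]
      exact ⟨hxr', hxr⟩
    · refine ⟨r' • a, ?_⟩
      rw [smul_sub, sub_eq_zero] at hr'
      rw [map_smul, mul_smul, hr']
  obtain ⟨f2, hf2p, hf2⟩ := exists_smul_mem_of_forall p (LinearMap.range φ) T h2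
  refine ⟨(X.basicOpen (f1 * f2) : Set X), ?_, (X.basicOpen _).2, ?_⟩
  · intro y hy
    have hyU : y ∈ U := X.basicOpen_le _ hy
    have hy12 : y ∈ X.basicOpen f1 ⊓ X.basicOpen f2 := by
      rw [← X.basicOpen_mul]; exact hy
    show Function.Bijective (RefHull.stalkMapₗ s y)
    have hu1 : IsUnit (X.presheaf.germ U y hyU f1) :=
      isUnit_germ_of_mem_basicOpen _ y hyU hy12.1
    have hu2 : IsUnit (X.presheaf.germ U y hyU f2) :=
      isUnit_germ_of_mem_basicOpen _ y hyU hy12.2
    constructor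
    · rw [injective_iff_map_eq_zero]
      intro w hw
      obtain ⟨r, a, hyr, hra⟩ := exists_germ_smul_eq_germ (E) hU y hyU w
      have hur : IsUnit (X.presheaf.germ U y hyU r) := isUnit_germ_of_mem_basicOpen _ y hyU hyr
      have h3 : F.presheaf.germ U y hyU (φ a) = 0 := by
        have := RefHull.stalkMapₗ_germ s y hyU a
        rw [← hra, map_smul, hw, smul_zero] at this
        exact this.symm
      obtain ⟨r', hyr', hr'⟩ := (germ_eq_zero_iff F hU y hyU _).mp h3
      have hur' : IsUnit (X.presheaf.germ U y hyU r') :=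
        isUnit_germ_of_mem_basicOpen _ y hyU hyr'
      have h4 : r' • a ∈ Submodule.span Γ(X, U) (S : Set Γ(E, U)) := by
        rw [hS, LinearMap.mem_ker, map_smul, hr']
      have h5 : f1 • (r' • a) = 0 := (Submodule.mem_bot _).mp (hf1 _ h4)
      have h6 := congrArg ((E).presheaf.germ U y hyU) h5
      rw [germ_smul, germ_smul, ← hra, map_zero] at h6
      have h7 := (hu1.smul_eq_zero).mp h6
      have h8 := (hur'.smul_eq_zero).mp h7
      exact (hur.smul_eq_zero).mp h8
    · intro v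
      obtain ⟨r, m, hyr, hrm⟩ := exists_germ_smul_eq_germ F hU y hyU v
      have hur : IsUnit (X.presheaf.germ U y hyU r) := isUnit_germ_of_mem_basicOpen _ y hyU hyr
      obtain ⟨a, ha⟩ : f2 • m ∈ LinearMap.range φ := hf2 m (by rw [hT]; trivial)
      obtain ⟨u2, hu2'⟩ := hu2
      obtain ⟨ur, hur'⟩ := hur
      refine ⟨((↑ur⁻¹ : X.presheaf.stalk y) * (↑u2⁻¹ : X.presheaf.stalk y)) •
        (E).presheaf.germ U y hyU a, ?_⟩
      rw [map_smul, RefHull.stalkMapₗ_germ]
      have : s.app U a = f2 • m := ha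
      rw [this, germ_smul, ← hrm, ← hu2', ← hur', smul_smul, smul_smul]
      have : (↑ur⁻¹ : X.presheaf.stalk y) * ↑u2⁻¹ * (↑u2 * ↑ur) = 1 := by
        rw [mul_assoc, ← mul_assoc (↑u2⁻¹ : X.presheaf.stalk y), Units.inv_mul, one_mul,
          Units.inv_mul]
      rw [mul_assoc, this, one_smul]
  · refine (hp (f1 * f2)).mp ?_
    intro h
    exact (Ideal.IsPrime.mem_or_mem ‹_› h).elim hf1p hf2p

end Groth.Agent.Lib.Helper21.IsoLocusGen
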