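import Groth.Agent.Lib.Helper21.HartogsFinite
import Groth.Agent.Lib.Helper21.ReflexiveNormal
import Groth.Agent.Lib.Helper64.HartogsRing
import Groth.Agent.Lib.Helper64.CohPush
import Groth.Agent.Lib.Helper2.KerSec
import Groth.Agent.Lib.Lead.QCohAff8
import Groth.Agent.Lib.Helper2.DCohFlat

/-!
# Direct image of a torsion-free coherent module from a big open (helper21)

`X` integral locally Noetherian, `U` an open such that `depth O_{X,x} ≥ 2` for `x ∉ U`, `G` a
coherent module on `U` with torsion-free stalks.  Then `j_* G` is coherent.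
-/

set_option autoImplicit false
set_option linter.style.haveILetI false
universe u
open CategoryTheory CategoryTheory.Limits AlgebraicGeometry TopologicalSpace

namespace Groth.Agent.Lib.Helper21.PushOpenCoh

open Groth.Agent.Lib.Lead.QCohAff Groth.Agent.Lib.Helper2.FinTypeAff

variable {X : Scheme.{u}} (U : X.Opens)

section torsionFree

variable [IsIntegral X] (G : (U : Scheme.{u}).Modules)

/-- sections of `j_* G` are torsion-free when the stalks of `G` are -/
theorem isTorsionFree_sections_push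
    (htf : ∀ x : (U : Scheme.{u}),
      Module.IsTorsionFree ((U : Scheme.{u}).presheaf.stalk x) (G.presheaf.stalk x))
    (V : X.Opens) :
    Module.IsTorsionFree Γ(X, V) Γ((Scheme.Modules.pushforward U.ι).obj G, V) := by
  constructor
  intro r hr n1 n2 h
  have h' : ((U.ι.app V).hom r • (show Γ(G, U.ι ⁻¹ᵁ V) from n1) : Γ(G, U.ι ⁻¹ᵁ V)) =
      (U.ι.app V).hom r • (show Γ(G, U.ι ⁻¹ᵁ V) from n2) := h
  refine Groth.Agent.Lib.Helper64.HomSh.sec_ext G (W := U.ι ⁻¹ᵁ V) n1 n2 (fun x' hx' => ?_)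
  have h2 := congrArg (G.presheaf.germ (U.ι ⁻¹ᵁ V) x' hx') h'
  rw [Groth.Agent.Lib.Helper29.QCohLoc.germ_smul, Groth.Agent.Lib.Helper29.QCohLoc.germ_smul] at h2
  haveI := htf x'
  have hxV : U.ι x' ∈ V := hx'
  have hne : X.presheaf.germ V (U.ι x') hxV r ≠ 0 := by
    intro h0
    have : r = 0 := germ_injective_of_isIntegral X (U.ι x') hxV (h0.trans (map_zero _).symm)
    subst this
    have h1 := hr.1 (show (0 : Γ(X, V)) * 1 = 0 * 0 by simp)
    haveI : Nonempty V := ⟨⟨U.ι x', hxV⟩⟩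
    exact one_ne_zero h1
  have hst : (U : Scheme.{u}).presheaf.germ (U.ι ⁻¹ᵁ V) x' hx' ((U.ι.app V).hom r) =
      (U.ι.stalkMap x').hom (X.presheaf.germ V (U.ι x') hxV r) :=
    (Scheme.Hom.germ_stalkMap_apply U.ι V x' hxV r).symm
  have hbij := Groth.Agent.Lib.Helper2.DCohFlat.stalkMap_bijective U.ι x'
  haveI : IsDomain ((U : Scheme.{u}).presheaf.stalk x') :=
    (RingEquiv.ofBijective (U.ι.stalkMap x').hom hbij).symm.toMulEquiv.isDomain _
  have hne' : (U : Scheme.{u}).presheaf.germ (U.ι ⁻¹ᵁ V) x' hx' ((U.ι.app V).hom r) ≠ 0 := by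
    rw [hst]
    intro h0
    exact hne (hbij.1 (h0.trans (map_zero _).symm))
  exact (smul_right_injective _ hne') h2

end torsionFree

section hartogs

variable [IsIntegral X] [IsLocallyNoetherian X]

theorem mapX_comp {V1 V2 V3 : X.Opens} (h12 : V2 ≤ V1) (h23 : V3 ≤ V2) (h13 : V3 ≤ V1)
    (s : Γ(X, V1)) :
    X.presheaf.map (homOfLE h23).op (X.presheaf.map (homOfLE h12).op s) =
      X.presheaf.map (homOfLE h13).op s := by
  rw [← ConcreteCategory.comp_apply, ← X.presheaf.map_comp]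
  rfl

/-- compatible fractions `a i / f i ^ k i` on basic opens covering `V ⊓ U` come from `Γ(X, V)` -/
theorem hartogs_fractions
    (hU : ∀ x : X, x ∉ U → (2 : ℕ∞) ≤ LocCoh.depth (X.presheaf.stalk x) (X.presheaf.stalk x))
    {V : X.Opens} (hV : IsAffineOpen V) [Nonempty V]
    {ι : Type*} (f : ι → Γ(X, V)) (hf : ∀ i, f i ≠ 0)
    (hle : ∀ i, X.basicOpen (f i) ≤ V ⊓ U) (hcov : V ⊓ U ≤ ⨆ i, X.basicOpen (f i))
    (a : ι → Γ(X, V)) (k : ι → ℕ) (hcompat : ∀ i j, a i * f j ^ k j = a j * f i ^ k i) :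
    ∃ b : Γ(X, V), ∀ i, a i = b * f i ^ k i := by
  have hreg : ∀ x : X, x ∉ U →
      Groth.Agent.Lib.Helper64.HartogsRing.HasRegPair (X.presheaf.stalk x) := fun x hx =>
    Groth.Agent.Lib.Helper64.HartogsRing.hasRegPair_of_two_le_depth (hU x hx)
  let D : ι → X.Opens := fun i => X.basicOpen (f i)
  have hDV : ∀ i, D i ≤ V := fun i => X.basicOpen_le (f i)
  have hu : ∀ i, IsUnit (X.presheaf.map (homOfLE (hDV i)).op (f i)) := fun i =>
    isUnit_res_basicOpen (f i)
  let c : ∀ i, Γ(X, D i) := fun i =>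
    X.presheaf.map (homOfLE (hDV i)).op (a i) * (((hu i).unit⁻¹ : (Γ(X, D i))ˣ) : Γ(X, D i)) ^ k i
  have hc : ∀ i, c i * (X.presheaf.map (homOfLE (hDV i)).op (f i)) ^ k i =
      X.presheaf.map (homOfLE (hDV i)).op (a i) := by
    intro i
    change X.presheaf.map (homOfLE (hDV i)).op (a i) *
      (((hu i).unit⁻¹ : (Γ(X, D i))ˣ) : Γ(X, D i)) ^ k i * _ = _
    rw [mul_assoc, ← mul_pow]
    have : (((hu i).unit⁻¹ : (Γ(X, D i))ˣ) : Γ(X, D i)) *
        X.presheaf.map (homOfLE (hDV i)).op (f i) = 1 := by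
      have := (hu i).unit.inv_mul
      simpa using this
    rw [this, one_pow, mul_one]
  have hcomp : TopCat.Presheaf.IsCompatible X.presheaf D c := by
    intro i j
    have hij : D i ⊓ D j ≤ V := inf_le_left.trans (hDV i)
    let φ := X.presheaf.map (homOfLE hij).op
    have e1 : ∀ s : Γ(X, V), X.presheaf.map (Opens.infLELeft (D i) (D j)).op
        (X.presheaf.map (homOfLE (hDV i)).op s) = φ s := fun s =>
      mapX_comp (hDV i) inf_le_left hij s
    have e2 : ∀ s : Γ(X, V), X.presheaf.map (Opens.infLERight (D i) (D j)).op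
        (X.presheaf.map (homOfLE (hDV j)).op s) = φ s := fun s =>
      mapX_comp (hDV j) inf_le_right hij s
    have ui : IsUnit (φ (f i)) := by
      rw [← e1]
      exact (hu i).map _
    have uj : IsUnit (φ (f j)) := by
      rw [← e2]
      exact (hu j).map _
    have h1 := congrArg (X.presheaf.map (Opens.infLELeft (D i) (D j)).op) (hc i)
    have h2 := congrArg (X.presheaf.map (Opens.infLERight (D i) (D j)).op) (hc j)
    rw [map_mul, map_pow, e1, e1] at h1
    rw [map_mul, map_pow, e2, e2] at h2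
    have h3 := congrArg φ (hcompat i j)
    rw [map_mul, map_mul, map_pow, map_pow] at h3
    have h4 : X.presheaf.map (Opens.infLELeft (D i) (D j)).op (c i) *
          (φ (f i) ^ k i * φ (f j) ^ k j) =
        X.presheaf.map (Opens.infLERight (D i) (D j)).op (c j) *
          (φ (f i) ^ k i * φ (f j) ^ k j) := by
      rw [← mul_assoc, h1, h3, ← h2]
      ring
    exact ((ui.pow (k i)).mul (uj.pow (k j))).mul_left_injective h4
  obtain ⟨r, hr, -⟩ := X.sheaf.existsUnique_gluing' D (V ⊓ U) (fun i => homOfLE (hle i)) hcov c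
    hcomp
  obtain ⟨b, hb⟩ := (Groth.Agent.Lib.Helper64.HartogsRing.bijective_res_inf U hreg V).2 r
  refine ⟨b, fun i => ?_⟩
  have h5 : X.presheaf.map (homOfLE (hDV i)).op b = c i := by
    rw [← hr i, ← hb]
    exact (mapX_comp inf_le_left (hle i) (hDV i) b).symm
  have h6 : X.presheaf.map (homOfLE (hDV i)).op (a i) =
      X.presheaf.map (homOfLE (hDV i)).op (b * f i ^ k i) := by
    rw [map_mul, map_pow, h5, hc i]
  haveI := hV.isLocalization_basicOpen (f i)
  have hinj : Function.Injective (algebraMap Γ(X, V) Γ(X, X.basicOpen (f i))) :=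
    IsLocalization.injective Γ(X, X.basicOpen (f i))
      (powers_le_nonZeroDivisors_of_noZeroDivisors (hf i))
  exact hinj h6

end hartogs

section pieces

/-- `j^♯` over an open contained in `U` is bijective -/
theorem bijective_ι_app_of_le {D : X.Opens} (hDU : D ≤ U) :
    Function.Bijective (U.ι.app D).hom := by
  rw [Scheme.Opens.ι_app]
  have e : U.ι ''ᵁ U.ι ⁻¹ᵁ D = D := by
    rw [Scheme.Hom.image_preimage_eq_opensRange_inf, Scheme.Opens.opensRange_ι]
    exact inf_eq_right.mpr hDU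
  have h1 : (homOfLE (x := U.ι ''ᵁ U.ι ⁻¹ᵁ D) (Set.image_preimage_subset _ _) :
      U.ι ''ᵁ U.ι ⁻¹ᵁ D ⟶ D) = eqToHom e := Subsingleton.elim _ _
  rw [h1]
  exact ConcreteCategory.bijective_of_isIso (X.presheaf.map (eqToHom e).op)

/-- sections of `j_* G` over an affine open inside `U` are finite, for `G` coherent -/
theorem finite_sections_push_of_le (G : (U : Scheme.{u}).Modules) (hG : Coh.IsCoh G)
    {D : X.Opens} (hD : IsAffineOpen D) (hDU : D ≤ U) :
    Module.Finite Γ(X, D) Γ((Scheme.Modules.pushforward U.ι).obj G, D) := by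
  haveI : G.IsQuasicoherent := hG.1
  haveI : SheafOfModules.IsFiniteType (R := (U : Scheme.{u}).ringCatSheaf) G := hG.2
  have hD' : IsAffineOpen (U.ι ⁻¹ᵁ D) :=
    hD.preimage_of_isOpenImmersion U.ι (by rw [Scheme.Opens.opensRange_ι]; exact hDU)
  have h1 : Module.Finite Γ((U : Scheme.{u}), U.ι ⁻¹ᵁ D) Γ(G, U.ι ⁻¹ᵁ D) := finite_sections G hD'
  have h2 := bijective_ι_app_of_le U hDU
  letI alg : Algebra Γ(X, D) Γ((U : Scheme.{u}), U.ι ⁻¹ᵁ D) := (U.ι.app D).hom.toAlgebra
  letI m : Module Γ(X, D) Γ(G, U.ι ⁻¹ᵁ D) := Module.compHom _ (U.ι.app D).hom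
  haveI : IsScalarTower Γ(X, D) Γ((U : Scheme.{u}), U.ι ⁻¹ᵁ D) Γ(G, U.ι ⁻¹ᵁ D) :=
    ⟨fun a b c => by
      show ((U.ι.app D).hom a * b) • c = (U.ι.app D).hom a • (b • c)
      rw [mul_smul]⟩
  haveI : Module.Finite Γ(X, D) Γ((U : Scheme.{u}), U.ι ⁻¹ᵁ D) :=
    Module.Finite.of_surjective (Algebra.linearMap Γ(X, D) Γ((U : Scheme.{u}), U.ι ⁻¹ᵁ D)) h2.2
  have h3 : Module.Finite Γ(X, D) Γ(G, U.ι ⁻¹ᵁ D) :=
    Module.Finite.trans Γ((U : Scheme.{u}), U.ι ⁻¹ᵁ D) _
  let e : Γ(G, U.ι ⁻¹ᵁ D) →ₗ[Γ(X, D)] Γ((Scheme.Modules.pushforward U.ι).obj G, D) :=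
    { toFun := fun t => t
      map_add' := fun _ _ => rfl
      map_smul' := fun a t =>
        (Groth.Agent.Lib.Helper64.CohPush.pushforward_smul U.ι G D a t).symm }
  exact Module.Finite.of_surjective e (fun t => ⟨t, rfl⟩)

/-- a finitely generated submodule of `Γ(H, V)` generating `Γ(H, D(f))` -/
theorem exists_fg_basicOpen (H : X.Modules) [H.IsQuasicoherent] {V : X.Opens}
    (hV : IsAffineOpen V) (f : Γ(X, V))
    (hfin : Module.Finite Γ(X, X.basicOpen f) Γ(H, X.basicOpen f)) :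
    ∃ L : Submodule Γ(X, V) Γ(H, V), L.FG ∧ ∀ n : Γ(H, V), ∃ k : ℕ, f ^ k • n ∈ L := by
  haveI := hV.isLocalization_basicOpen f
  haveI := isLocalizedModule_resL H hV f
  haveI : Module.Finite Γ(X, X.basicOpen f) (SecOver H V f) := hfin
  obtain ⟨L, hL, h⟩ := Groth.Agent.Lib.Helper21.HartogsFinite.exists_fg_of_isLocalizedModule_finite
    (Submonoid.powers f) (resL H V f) Γ(X, X.basicOpen f)
  refine ⟨L, hL, fun n => ?_⟩
  obtain ⟨⟨_, k, rfl⟩, hk⟩ := h n
  exact ⟨k, hk⟩

/-- a quasi-compact open inside an affine open of a locally Noetherian scheme is a finite union of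
nonempty basic opens -/
theorem exists_finite_basicOpen_cover [IsLocallyNoetherian X] {V : X.Opens} (hV : IsAffineOpen V)
    (W : X.Opens) (hWV : W ≤ V) :
    ∃ (m : ℕ) (f : Fin m → Γ(X, V)), (∀ i, X.basicOpen (f i) ≤ W) ∧
      (∀ i, ∃ x, x ∈ X.basicOpen (f i)) ∧ W ≤ ⨆ i, X.basicOpen (f i) := by
  haveI : IsNoetherianRing Γ(X, V) := IsLocallyNoetherian.component_noetherian ⟨V, hV⟩
  have hns : NoetherianSpace V := noetherianSpace_of_isAffineOpen V hV
  have hcomp : IsCompact (W : Set X) := (noetherianSpace_set_iff _).mp hns _ hWV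
  choose g hg1 hg2 using fun x : W => hV.exists_basicOpen_le x (hWV x.2)
  obtain ⟨t, ht⟩ := hcomp.elim_finite_subcover (fun x : W => ((X.basicOpen (g x) : X.Opens) : Set X))
    (fun x => (X.basicOpen (g x)).isOpen) (fun x hx => Set.mem_iUnion.mpr ⟨⟨x, hx⟩, hg2 ⟨x, hx⟩⟩)
  refine ⟨t.card, fun i => g (t.equivFin.symm i).1, fun i => hg1 _, fun i => ⟨_, hg2 _⟩, ?_⟩
  intro x hx
  have hx' := ht hx
  simp only [Set.mem_iUnion] at hx'
  obtain ⟨y, hyt, hxy⟩ := hx'
  refine Opens.mem_iSup.mpr ⟨t.equivFin ⟨y, hyt⟩, ?_⟩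
  change x ∈ X.basicOpen (g (t.equivFin.symm (t.equivFin ⟨y, hyt⟩)).1)
  rw [Equiv.symm_apply_apply]
  exact hxy

end pieces

end Groth.Agent.Lib.Helper21.PushOpenCoh
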