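import Groth.Agent.Lib.Helper21.GenericBasis
import Groth.Agent.Lib.Helper21.PushOpenCoh
import Groth.Agent.Lib.Helper21.MLImage
import Groth.Agent.Lib.Helper21.CohNoeth
import Groth.Agent.Lib.Helper35.GlobGen
import Groth.Agent.Lib.Helper35.PushRes
import Groth.Agent.Lib.Helper64.FinTypeStalk
import Groth.Agent.Lib.Helper2.KerSec
import Mathlib.AlgebraicGeometry.Morphisms.SchemeTheoreticallyDominant
import Mathlib.AlgebraicGeometry.Morphisms.Finite

/-!
# Finite surjective morphisms of integral Noetherian schemes: generic data (helper21)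
-/

set_option autoImplicit false
set_option linter.style.haveILetI false
universe u
open CategoryTheory CategoryTheory.Limits AlgebraicGeometry TopologicalSpace Opposite

namespace Groth.Agent.Lib.Helper21.GenFin

variable {X Y : Scheme.{u}} [IsIntegral X] [IsIntegral Y] (f : X ⟶ Y) [IsFinite f] [Surjective f]

/-- algebraic data on an affine open of `Y` -/
theorem exists_data :
    ∃ (V : Y.Opens) (_ : IsAffineOpen V) (_ : genericPoint Y ∈ V) (r : ℕ)
      (c : Fin r → Γ(X, f ⁻¹ᵁ V)), 0 < r ∧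
      (∀ b : Fin r → Γ(Y, V), ∑ i, (f.app V).hom (b i) * c i = 0 → b = 0) ∧
      ∀ t : Γ(X, f ⁻¹ᵁ V), ∃ (b₀ : Γ(Y, V)) (b : Fin r → Γ(Y, V)), b₀ ≠ 0 ∧
        (f.app V).hom b₀ * t = ∑ i, (f.app V).hom (b i) * c i := by
  obtain ⟨V, hV, hηV, -⟩ := exists_isAffineOpen_mem_and_subset (X := Y) (x := genericPoint Y)
    (U := ⊤) trivial
  haveI : Nonempty V := ⟨⟨_, hηV⟩⟩
  haveI : IsSchemeTheoreticallyDominant f := .of_isDominant f
  have hinj : Function.Injective (f.app V).hom := f.app_injective V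
  have hfin : (f.app V).hom.Finite := f.finite_app V hV
  letI := (f.app V).hom.toAlgebra
  haveI : Module.Finite Γ(Y, V) Γ(X, f ⁻¹ᵁ V) := hfin
  obtain ⟨r, c, hr, hc, hspan⟩ :=
    Groth.Agent.Lib.Helper21.GenericBasis.exists_maximal_linearIndependent Γ(Y, V) Γ(X, f ⁻¹ᵁ V) hinj
  refine ⟨V, hV, hηV, r, c, hr, ?_, ?_⟩
  · intro b hb
    funext i
    exact Fintype.linearIndependent_iff.mp hc b hb i
  · intro t
    obtain ⟨b₀, b, hb₀, hb⟩ := hspan t
    exact ⟨b₀, b, hb₀, hb⟩

end Groth.Agent.Lib.Helper21.GenFin
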