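import Groth.Agent.Lib.Helper21.GenFin1
import Groth.Agent.Lib.Helper21.QCohSections

/-!
# `j_* O_U` and its sections (helper21)
-/

set_option autoImplicit false
set_option linter.style.haveILetI false
universe u
open CategoryTheory CategoryTheory.Limits AlgebraicGeometry TopologicalSpace Opposite

namespace Groth.Agent.Lib.Helper21.GenFin

section NN

variable {X : Scheme.{u}} (U : X.Opens)

/-- `N = j_* O_U` -/
noncomputable def NN : X.Modules :=
  (Scheme.Modules.pushforward U.ι).obj (Coh.structureModule (U : Scheme.{u}))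

/-- `κ_D : Γ(X, D) → Γ(N, D)` -/
noncomputable def kap (D : X.Opens) (a : Γ(X, D)) : Γ(NN U, D) :=
  (show Γ(Coh.structureModule (U : Scheme.{u}), U.ι ⁻¹ᵁ D) from (U.ι.app D).hom a)

theorem kap_add (D : X.Opens) (a b : Γ(X, D)) : kap U D (a + b) = kap U D a + kap U D b := by
  unfold kap
  rw [map_add]
  rfl

theorem kap_zero (D : X.Opens) : kap U D 0 = 0 := by
  unfold kap
  rw [map_zero]
  rfl

theorem kap_sum {ι : Type*} (s : Finset ι) (D : X.Opens) (a : ι → Γ(X, D)) :
    kap U D (∑ i ∈ s, a i) = ∑ i ∈ s, kap U D (a i) := by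
  classical
  induction s using Finset.induction_on with
  | empty => simp [kap_zero]
  | insert k s hk ih => rw [Finset.sum_insert hk, Finset.sum_insert hk, kap_add, ih]

theorem kap_mul (D : X.Opens) (a b : Γ(X, D)) : kap U D (a * b) = a • kap U D b := by
  unfold kap
  rw [map_mul]
  rfl

theorem kap_injective {D : X.Opens} (hD : D ≤ U) : Function.Injective (kap U D) :=
  (Groth.Agent.Lib.Helper21.PushOpenCoh.bijective_ι_app_of_le U hD).1

theorem kap_surjective {D : X.Opens} (hD : D ≤ U) : Function.Surjective (kap U D) :=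
  (Groth.Agent.Lib.Helper21.PushOpenCoh.bijective_ι_app_of_le U hD).2

theorem kap_res {D D' : X.Opens} (h : D' ≤ D) (a : Γ(X, D)) :
    ((NN U).presheaf.map (homOfLE h).op).hom (kap U D a) =
      kap U D' ((X.presheaf.map (homOfLE h).op).hom a) := by
  have h1 := U.ι.naturality (homOfLE h).op
  have h2 := congrArg (fun g => g.hom a) h1
  exact h2.symm

/-- the global section of `N` attached to a section of `O_X` over `U` -/
noncomputable def topSec (c : Γ(X, U)) : Γ(NN U, ⊤) :=
  (show Γ(Coh.structureModule (U : Scheme.{u}), U.ι ⁻¹ᵁ ⊤) from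
    ((U : Scheme.{u}).presheaf.map (homOfLE (show U.ι ⁻¹ᵁ ⊤ ≤ U.ι ⁻¹ᵁ U by
      rw [Scheme.Opens.ι_preimage_self]; exact le_top)).op).hom ((U.ι.app U).hom c))

theorem topSec_res {D : X.Opens} (hD : D ≤ U) (c : Γ(X, U)) :
    ((NN U).presheaf.map (homOfLE (le_top : D ≤ ⊤)).op).hom (topSec U c) =
      kap U D ((X.presheaf.map (homOfLE hD).op).hom c) := by
  rw [← kap_res U hD c]
  unfold topSec kap
  change (((U : Scheme.{u}).presheaf.map _).hom (((U : Scheme.{u}).presheaf.map _).hom _)) =
    (((U : Scheme.{u}).presheaf.map _).hom _)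
  rw [← ConcreteCategory.comp_apply, ← Functor.map_comp]
  rfl

end NN

end Groth.Agent.Lib.Helper21.GenFin
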