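import Groth.Agent.Lib.Helper21.GenFin2
import Groth.Agent.Lib.Helper21.ClImmDev

/-!
# The coherent module `M = image(O_X^r → j_* O_U)` and the map `O_Y^r → f_* M` (helper21)
-/

set_option autoImplicit false
set_option linter.style.haveILetI false
universe u
open CategoryTheory CategoryTheory.Limits AlgebraicGeometry TopologicalSpace Opposite

namespace Groth.Agent.Lib.Helper21.GenFin

open Groth.Agent.Lib.Helper35.GlobGen

section Construct

variable {X Y : Scheme.{u}} (f : X ⟶ Y) (V : Y.Opens) {r : ℕ} (c : Fin r → Γ(X, f ⁻¹ᵁ V))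

/-- `γ : O_X^r → N` -/
noncomputable def gam :
    FlatMod.freeMod X r ⟶ NN (f ⁻¹ᵁ V) :=
  Sigma.desc (fun i => secHom (NN (f ⁻¹ᵁ V)) (topSec (f ⁻¹ᵁ V) (c i)))

/-- the image of `γ` -/
noncomputable def MM : X.Modules :=
  ((imageSubobject (gam f V c) : Subobject (NN (f ⁻¹ᵁ V))) : X.Modules)

noncomputable def eM : FlatMod.freeMod X r ⟶ MM f V c :=
  factorThruImageSubobject (gam f V c)

noncomputable def iM : MM f V c ⟶ NN (f ⁻¹ᵁ V) := (imageSubobject (gam f V c)).arrow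

instance : Mono (iM f V c) := inferInstanceAs (Mono (imageSubobject (gam f V c)).arrow)

instance : Epi (eM f V c) := inferInstanceAs (Epi (factorThruImageSubobject (gam f V c)))

theorem eM_iM : eM f V c ≫ iM f V c = gam f V c := imageSubobject_arrow_comp _

/-- global sections of `f_* M` -/
noncomputable def mTop (i : ULift.{u} (Fin r)) :
    Γ((Scheme.Modules.pushforward f).obj (MM f V c), ⊤) :=
  (show Γ(MM f V c, f ⁻¹ᵁ ⊤) from ((eM f V c).app (f ⁻¹ᵁ ⊤)).hom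
    (((Sigma.ι (fun _ : Fin r => Coh.structureModule X) i.down).app (f ⁻¹ᵁ ⊤)).hom
      (show Γ(Coh.structureModule X, f ⁻¹ᵁ ⊤) from (1 : Γ(X, f ⁻¹ᵁ ⊤)))))

/-- `α : O_Y^r → f_* M` -/
noncomputable def alp : (SheafOfModules.free (ULift.{u} (Fin r)) : Y.Modules) ⟶
    (Scheme.Modules.pushforward f).obj (MM f V c) :=
  Sigma.desc (fun i => secHom _ (mTop f V c i))

theorem iM_mTop (i : ULift.{u} (Fin r)) :
    ((iM f V c).app (f ⁻¹ᵁ ⊤)).hom (show Γ(MM f V c, f ⁻¹ᵁ ⊤) from mTop f V c i) =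
      ((NN (f ⁻¹ᵁ V)).presheaf.map (homOfLE (le_top : f ⁻¹ᵁ ⊤ ≤ ⊤)).op).hom
        (topSec (f ⁻¹ᵁ V) (c i.down)) := by
  have e1 : Sigma.ι (fun _ : Fin r => Coh.structureModule X) i.down ≫ eM f V c ≫ iM f V c =
      secHom (NN (f ⁻¹ᵁ V)) (topSec (f ⁻¹ᵁ V) (c i.down)) := by
    rw [eM_iM, gam, Sigma.ι_desc]
  have e2 := congrArg (fun φ : Coh.structureModule X ⟶ NN (f ⁻¹ᵁ V) =>
    (Scheme.Modules.Hom.app φ (f ⁻¹ᵁ ⊤)).hom
      (show Γ(Coh.structureModule X, f ⁻¹ᵁ ⊤) from (1 : Γ(X, f ⁻¹ᵁ ⊤)))) e1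
  exact e2.trans (secHom_app_one _ _ _)


/-- sections of `f_* M` over `W` as sections of `M` over `f⁻¹ W` -/
def castM {X Y : Scheme.{u}} (f : X ⟶ Y) (M : X.Modules) (W : Y.Opens)
    (t : Γ((Scheme.Modules.pushforward f).obj M, W)) : Γ(M, f ⁻¹ᵁ W) := t

/-- functions as sections of the structure module -/
def castO (Y : Scheme.{u}) (W : Y.Opens) (b : Γ(Y, W)) : Γ(Coh.structureModule Y, W) := b

theorem ιFree_alp (i : ULift.{u} (Fin r)) :
    SheafOfModules.ιFree (R := Y.ringCatSheaf) i ≫ alp f V c = secHom _ (mTop f V c i) := by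
  unfold alp
  exact Sigma.ι_desc _ i

theorem alp_ιFree_app (W : Y.Opens) (i : ULift.{u} (Fin r)) (b : Γ(Y, W)) :
    (Scheme.Modules.Hom.app (alp f V c) W).hom
      ((Scheme.Modules.Hom.app (SheafOfModules.ιFree (R := Y.ringCatSheaf) i) W).hom
        (castO Y W b)) =
      b • (((Scheme.Modules.pushforward f).obj (MM f V c)).presheaf.map
        (homOfLE (le_top : W ≤ ⊤)).op).hom (mTop f V c i) := by
  have e2 := congrArg (fun φ : Coh.structureModule Y ⟶ (Scheme.Modules.pushforward f).obj (MM f V c) =>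
    (Scheme.Modules.Hom.app φ W).hom (castO Y W b)) (ιFree_alp f V c i)
  exact e2.trans (secHom_app _ _ W b)

theorem iM_res_mTop (W : Y.Opens) (hW : W ≤ V) (i : ULift.{u} (Fin r)) :
    ((iM f V c).app (f ⁻¹ᵁ W)).hom (castM f (MM f V c) W
      ((((Scheme.Modules.pushforward f).obj (MM f V c)).presheaf.map
        (homOfLE (le_top : W ≤ ⊤)).op).hom (mTop f V c i))) =
      kap (f ⁻¹ᵁ V) (f ⁻¹ᵁ W) ((X.presheaf.map
        (homOfLE (show f ⁻¹ᵁ W ≤ f ⁻¹ᵁ V from fun _ hx => hW hx)).op).hom (c i.down)) := by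
  have h1 : castM f (MM f V c) W
      ((((Scheme.Modules.pushforward f).obj (MM f V c)).presheaf.map
        (homOfLE (le_top : W ≤ ⊤)).op).hom (mTop f V c i)) =
      ((MM f V c).presheaf.map (homOfLE (show f ⁻¹ᵁ W ≤ f ⁻¹ᵁ ⊤ from fun _ _ => trivial)).op).hom
        (castM f (MM f V c) ⊤ (mTop f V c i)) := rfl
  rw [h1]
  have h2 := Groth.Agent.Lib.Helper2.KerSec.naturality_apply (iM f V c)
    (homOfLE (show f ⁻¹ᵁ W ≤ f ⁻¹ᵁ ⊤ from fun _ _ => trivial))
    (castM f (MM f V c) ⊤ (mTop f V c i))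
  refine h2.trans ?_
  have h3 : ((iM f V c).app (f ⁻¹ᵁ ⊤)).hom (castM f (MM f V c) ⊤ (mTop f V c i)) =
      ((NN (f ⁻¹ᵁ V)).presheaf.map (homOfLE (le_top : f ⁻¹ᵁ ⊤ ≤ ⊤)).op).hom
        (topSec (f ⁻¹ᵁ V) (c i.down)) := iM_mTop f V c i
  rw [h3]
  rw [← topSec_res (f ⁻¹ᵁ V) (show f ⁻¹ᵁ W ≤ f ⁻¹ᵁ V from fun _ hx => hW hx) (c i.down)]
  rw [← ConcreteCategory.comp_apply, ← Functor.map_comp]
  rfl

theorem castM_smul (M : X.Modules) (W : Y.Opens) (b : Γ(Y, W))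
    (t : Γ((Scheme.Modules.pushforward f).obj M, W)) :
    castM f M W (b • t) = (f.app W).hom b • castM f M W t := rfl

theorem castM_sum (M : X.Modules) (W : Y.Opens) {ι : Type*} (s : Finset ι)
    (t : ι → Γ((Scheme.Modules.pushforward f).obj M, W)) :
    castM f M W (∑ i ∈ s, t i) = ∑ i ∈ s, castM f M W (t i) := rfl

theorem iM_alp (W : Y.Opens) (hW : W ≤ V) (β : ULift.{u} (Fin r) → Γ(Y, W)) :
    ((iM f V c).app (f ⁻¹ᵁ W)).hom (castM f (MM f V c) W
      ((Scheme.Modules.Hom.app (alp f V c) W).hom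
        (∑ i, (Scheme.Modules.Hom.app (SheafOfModules.ιFree (R := Y.ringCatSheaf) i) W).hom
          (castO Y W (β i))))) =
    kap (f ⁻¹ᵁ V) (f ⁻¹ᵁ W) (∑ i, (f.app W).hom (β i) * (X.presheaf.map
        (homOfLE (show f ⁻¹ᵁ W ≤ f ⁻¹ᵁ V from fun _ hx => hW hx)).op).hom (c i.down)) := by
  rw [map_sum, castM_sum, map_sum, kap_sum]
  refine Finset.sum_congr rfl fun i _ => ?_
  rw [alp_ιFree_app, castM_smul, Scheme.Modules.Hom.app_smul, iM_res_mTop f V c W hW i, kap_mul]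


theorem isQuasicoherent_NN [IsNoetherian X] : (NN (f ⁻¹ᵁ V)).IsQuasicoherent := by
  haveI : (Coh.structureModule ((f ⁻¹ᵁ V : X.Opens) : Scheme.{u})).IsQuasicoherent :=
    Groth.Agent.Lib.Helper21.ClImmDev.isQuasicoherent_structureModule _
  exact Groth.Agent.Lib.Helper2.KerSec.isQuasicoherent_pushforward_of_qcqs (f ⁻¹ᵁ V).ι _

theorem isQuasicoherent_MM [IsNoetherian X] : (MM f V c).IsQuasicoherent := by
  haveI := isQuasicoherent_NN f V
  haveI := Groth.Agent.Lib.Helper2.LocFreeAff.freeMod_isQuasicoherent X r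
  exact Groth.Agent.Lib.Helper21.MLImage.isQuasicoherent_imageSubobject (gam f V c)

theorem isCoh_MM [IsNoetherian X] : Coh.IsCoh (MM f V c) := by
  haveI := isQuasicoherent_MM f V c
  haveI := Groth.Agent.Lib.Helper2.LocFreeAff.freeMod_isQuasicoherent X r
  exact ⟨inferInstance, Groth.Agent.Lib.Helper21.CohNoeth.isFiniteType_of_epi (eM f V c)
    (Groth.Agent.Lib.Helper35.PushRes.isFiniteType_freeMod X r)⟩

end Construct

end Groth.Agent.Lib.Helper21.GenFin
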