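import Groth.Agent.Lib.Helper21.GenFin1

/-!
# Localisation lemmas on basic opens for a finite surjective morphism (helper21)
-/

set_option autoImplicit false
set_option linter.style.haveILetI false
universe u
open CategoryTheory CategoryTheory.Limits AlgebraicGeometry TopologicalSpace Opposite

namespace Groth.Agent.Lib.Helper21.GenFin

section Loc

variable {X Y : Scheme.{u}} [IsIntegral X] [IsIntegral Y] (f : X ⟶ Y) [IsFinite f] [Surjective f]

theorem genericPoint_mem' {Z : Scheme.{u}} [IsIntegral Z] {W : Z.Opens} {x : Z} (hx : x ∈ W) :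
    genericPoint Z ∈ W :=
  ((genericPoint_spec Z).specializes (Set.mem_univ x)).mem_open W.isOpen hx

theorem preimage_le {W V : Y.Opens} (h : W ≤ V) : f ⁻¹ᵁ W ≤ f ⁻¹ᵁ V := fun _ hx => h hx

theorem app_res {W V : Y.Opens} (h : W ≤ V) (a : Γ(Y, V)) :
    (f.app W).hom ((Y.presheaf.map (homOfLE h).op).hom a) =
      (X.presheaf.map (homOfLE (preimage_le f h)).op).hom ((f.app V).hom a) := by
  have h1 := f.naturality (homOfLE h).op
  exact congrArg (fun g => g.hom a) h1

theorem resX_injective {W : Y.Opens} (hη : genericPoint Y ∈ W) {D : X.Opens} (h : f ⁻¹ᵁ W ≤ D) :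
    Function.Injective (X.presheaf.map (homOfLE h).op).hom := by
  obtain ⟨x, hx⟩ := f.surjective (genericPoint Y)
  haveI : Nonempty (f ⁻¹ᵁ W : X.Opens) := ⟨⟨x, by show f.base x ∈ W; rw [hx]; exact hη⟩⟩
  exact map_injective_of_isIntegral X (homOfLE h)

variable {V : Y.Opens} (hV : IsAffineOpen V) {r : ℕ} (c : Fin r → Γ(X, f ⁻¹ᵁ V))

include hV in
/-- **L1**: linear independence persists on basic opens -/
theorem indep_basicOpen
    (hind : ∀ b : Fin r → Γ(Y, V), ∑ i, (f.app V).hom (b i) * c i = 0 → b = 0)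
    (b : Γ(Y, V)) (hη : genericPoint Y ∈ Y.basicOpen b)
    (β : Fin r → Γ(Y, Y.basicOpen b))
    (h : ∑ i, (f.app (Y.basicOpen b)).hom (β i) *
      (X.presheaf.map (homOfLE (preimage_le f (Y.basicOpen_le b))).op).hom (c i) = 0) :
    β = 0 := by
  classical
  have hWV : Y.basicOpen b ≤ V := Y.basicOpen_le b
  letI := (Y.presheaf.map (homOfLE hWV).op).hom.toAlgebra
  haveI : IsLocalization.Away b Γ(Y, Y.basicOpen b) := hV.isLocalization_of_eq_basicOpen b (homOfLE hWV) rfl
  obtain ⟨⟨m, hm⟩, hint⟩ := IsLocalization.exist_integer_multiples (Submonoid.powers b)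
    (Finset.univ : Finset (Fin r)) β
  choose b' hb' using fun i => hint i (Finset.mem_univ i)
  have hb'' : ∀ i, (Y.presheaf.map (homOfLE hWV).op).hom (b' i) =
      (Y.presheaf.map (homOfLE hWV).op).hom m * β i := by
    intro i
    have := hb' i
    rw [Algebra.smul_def] at this
    exact this
  have hrel : (X.presheaf.map (homOfLE (preimage_le f hWV)).op).hom
      (∑ i, (f.app V).hom (b' i) * c i) = 0 := by
    rw [map_sum]
    have : ∀ i, (X.presheaf.map (homOfLE (preimage_le f hWV)).op).hom ((f.app V).hom (b' i) * c i) =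
        (f.app (Y.basicOpen b)).hom ((Y.presheaf.map (homOfLE hWV).op).hom m) * ((f.app (Y.basicOpen b)).hom (β i) *
          (X.presheaf.map (homOfLE (preimage_le f hWV)).op).hom (c i)) := by
      intro i
      rw [map_mul, ← app_res f hWV, hb'' i, map_mul, mul_assoc]
    simp_rw [this]
    rw [← Finset.mul_sum, h, mul_zero]
  have hzero := resX_injective f hη (preimage_le f hWV) (hrel.trans (map_zero _).symm)
  have hb0 := hind b' hzero
  have hunit : IsUnit ((Y.presheaf.map (homOfLE hWV).op).hom m) :=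
    IsLocalization.map_units Γ(Y, Y.basicOpen b) (⟨m, hm⟩ : Submonoid.powers b)
  funext i
  have h1 := hb'' i
  rw [hb0, Pi.zero_apply, map_zero] at h1
  exact (hunit.mul_right_eq_zero).mp h1.symm

omit [IsIntegral X] [IsIntegral Y] [IsFinite f] [Surjective f] in
theorem resX_comp {D1 D2 D3 : X.Opens} (h12 : D2 ≤ D1) (h23 : D3 ≤ D2) (s : Γ(X, D1)) :
    (X.presheaf.map (homOfLE h23).op).hom ((X.presheaf.map (homOfLE h12).op).hom s) =
      (X.presheaf.map (homOfLE (h23.trans h12)).op).hom s := by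
  rw [← CommRingCat.comp_apply, ← Functor.map_comp]
  rfl

include hV in
/-- **L2**: generic spanning on basic opens -/
theorem span_basicOpen
    (hspan : ∀ t : Γ(X, f ⁻¹ᵁ V), ∃ (b₀ : Γ(Y, V)) (b : Fin r → Γ(Y, V)), b₀ ≠ 0 ∧
        (f.app V).hom b₀ * t = ∑ i, (f.app V).hom (b i) * c i)
    (b : Γ(Y, V)) (hη : genericPoint Y ∈ Y.basicOpen b)
    (τ : Γ(X, f ⁻¹ᵁ (Y.basicOpen b))) :
    ∃ (b' : Γ(Y, V)) (_ : genericPoint Y ∈ Y.basicOpen b') (hle : Y.basicOpen b' ≤ Y.basicOpen b)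
      (β : Fin r → Γ(Y, Y.basicOpen b')),
      ∑ i, (f.app (Y.basicOpen b')).hom (β i) *
        (X.presheaf.map (homOfLE (preimage_le f (Y.basicOpen_le b'))).op).hom (c i) =
      (X.presheaf.map (homOfLE (preimage_le f hle)).op).hom τ := by
  classical
  have hU : IsAffineOpen (f ⁻¹ᵁ V) := hV.preimage f
  have e : f ⁻¹ᵁ (Y.basicOpen b) = X.basicOpen ((f.app V).hom b) := Scheme.preimage_basicOpen f b
  have hWV : Y.basicOpen b ≤ V := Y.basicOpen_le b
  obtain ⟨n, t₀, ht₀⟩ : ∃ (n : ℕ) (t₀ : Γ(X, f ⁻¹ᵁ V)),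
      τ * (X.presheaf.map (homOfLE (preimage_le f hWV)).op).hom ((f.app V).hom b) ^ n =
        (X.presheaf.map (homOfLE (preimage_le f hWV)).op).hom t₀ := by
    letI := (X.presheaf.map (homOfLE (preimage_le f hWV)).op).hom.toAlgebra
    haveI : IsLocalization.Away ((f.app V).hom b) Γ(X, f ⁻¹ᵁ (Y.basicOpen b)) :=
      hU.isLocalization_of_eq_basicOpen _ (homOfLE (preimage_le f hWV)) e
    exact IsLocalization.Away.surj ((f.app V).hom b) τ
  obtain ⟨b₀, bb, hb₀, hbb⟩ := hspan t₀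
  have hη₀ : genericPoint Y ∈ Y.basicOpen b₀ := by
    have hne : Y.basicOpen b₀ ≠ ⊥ := fun h => hb₀ ((basicOpen_eq_bot_iff b₀).mp h)
    obtain ⟨y, hy⟩ := (Opens.ne_bot_iff_nonempty _).mp hne
    exact genericPoint_mem' hy
  have hmul : Y.basicOpen (b * b₀) = Y.basicOpen b ⊓ Y.basicOpen b₀ := Scheme.basicOpen_mul _ _ _
  have hη' : genericPoint Y ∈ Y.basicOpen (b * b₀) := by rw [hmul]; exact ⟨hη, hη₀⟩
  have hle : Y.basicOpen (b * b₀) ≤ Y.basicOpen b := by rw [hmul]; exact inf_le_left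
  have hW'V : Y.basicOpen (b * b₀) ≤ V := Y.basicOpen_le _
  have hunit : IsUnit ((Y.presheaf.map (homOfLE hW'V).op).hom (b * b₀)) :=
    RingedSpace.isUnit_res_basicOpen Y.toRingedSpace (b * b₀)
  rw [map_mul] at hunit
  have hub : IsUnit ((Y.presheaf.map (homOfLE hW'V).op).hom b) := isUnit_of_mul_isUnit_left hunit
  have hub₀ : IsUnit ((Y.presheaf.map (homOfLE hW'V).op).hom b₀) := isUnit_of_mul_isUnit_right hunit
  obtain ⟨u, hu⟩ := (hub.pow n).mul hub₀
  refine ⟨b * b₀, hη', hle, fun i => ↑u⁻¹ * (Y.presheaf.map (homOfLE hW'V).op).hom (bb i), ?_⟩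
  have h1 : ∀ i, (f.app (Y.basicOpen (b * b₀))).hom
      (↑u⁻¹ * (Y.presheaf.map (homOfLE hW'V).op).hom (bb i)) *
      (X.presheaf.map (homOfLE (preimage_le f hW'V)).op).hom (c i) =
      (f.app (Y.basicOpen (b * b₀))).hom ↑u⁻¹ *
        (X.presheaf.map (homOfLE (preimage_le f hW'V)).op).hom ((f.app V).hom (bb i) * c i) := by
    intro i
    rw [map_mul, map_mul, app_res f hW'V, mul_assoc]
  simp_rw [h1]
  rw [← Finset.mul_sum, ← map_sum, ← hbb, map_mul, ← app_res f hW'V]
  have h2 : (X.presheaf.map (homOfLE (preimage_le f hW'V)).op).hom t₀ =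
      (X.presheaf.map (homOfLE (preimage_le f hle)).op).hom τ *
        (f.app (Y.basicOpen (b * b₀))).hom ((Y.presheaf.map (homOfLE hW'V).op).hom b) ^ n := by
    rw [← resX_comp (preimage_le f hWV) (preimage_le f hle) t₀, ← ht₀, map_mul, map_pow,
      resX_comp, app_res f hW'V]
  rw [h2]
  have h3 : (f.app (Y.basicOpen (b * b₀))).hom ↑u⁻¹ *
      ((f.app (Y.basicOpen (b * b₀))).hom ((Y.presheaf.map (homOfLE hW'V).op).hom b₀) *
        ((X.presheaf.map (homOfLE (preimage_le f hle)).op).hom τ *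
          (f.app (Y.basicOpen (b * b₀))).hom ((Y.presheaf.map (homOfLE hW'V).op).hom b) ^ n)) =
      (f.app (Y.basicOpen (b * b₀))).hom (↑u⁻¹ * ↑u) *
        (X.presheaf.map (homOfLE (preimage_le f hle)).op).hom τ := by
    rw [hu, map_mul, map_mul, map_pow]
    ring
  rw [h3, Units.inv_mul, map_one, one_mul]

end Loc

end Groth.Agent.Lib.Helper21.GenFin
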