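import Groth.Agent.Lib.Helper21.GenFin3
import Groth.Agent.Lib.Helper21.GenFin4

/-!
# The generic isomorphism `O_Y^r → f_* M` (helper21)
-/

set_option autoImplicit false
set_option linter.style.haveILetI false
universe u
open CategoryTheory CategoryTheory.Limits AlgebraicGeometry TopologicalSpace Opposite

namespace Groth.Agent.Lib.Helper21.GenFin

open Groth.Agent.Lib.Helper64.FinTypeStalk

section Decomp

variable {Y : Scheme.{u}}

/-- the free module of rank `r` on `Y` -/
noncomputable abbrev freeY (Y : Scheme.{u}) (r : ℕ) : Y.Modules :=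
  SheafOfModules.free (R := Y.ringCatSheaf) (ULift.{u} (Fin r))

theorem sum_app_apply' {M N : Y.Modules} {κ : Type*} (s : Finset κ) (φ : κ → (M ⟶ N)) (U : Y.Opens)
    (a : Γ(M, U)) :
    (Scheme.Modules.Hom.app (∑ i ∈ s, φ i) U).hom a =
      ∑ i ∈ s, (Scheme.Modules.Hom.app (φ i) U).hom a := by
  classical
  induction s using Finset.induction_on with
  | empty => simp
  | insert k s hk ih =>
    rw [Finset.sum_insert hk, Finset.sum_insert hk, Scheme.Modules.Hom.add_app]
    rw [← ih]
    rfl

/-- every section of a finite free module is the sum of its components -/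
theorem free_decomp (r : ℕ) (W : Y.Opens)
    (s : Γ((SheafOfModules.free (ULift.{u} (Fin r)) : Y.Modules), W)) :
    s = ∑ i, (Scheme.Modules.Hom.app (SheafOfModules.ιFree (R := Y.ringCatSheaf) i) W).hom
      (castO Y W ((Scheme.Modules.Hom.app
        (proj (R := Y.ringCatSheaf) (I := ULift.{u} (Fin r)) i) W).hom s)) := by
  have h := sum_proj_ι (R := Y.ringCatSheaf) (I := ULift.{u} (Fin r))
  have h2 := congrArg (fun φ : (SheafOfModules.free (ULift.{u} (Fin r)) : Y.Modules) ⟶
    (SheafOfModules.free (ULift.{u} (Fin r)) : Y.Modules) => (Scheme.Modules.Hom.app φ W).hom s) h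
  have h3 := (sum_app_apply' Finset.univ (fun i : ULift.{u} (Fin r) =>
    proj (R := Y.ringCatSheaf) i ≫ SheafOfModules.ιFree (R := Y.ringCatSheaf) i) W s).symm.trans h2
  exact h3.symm

end Decomp

section Main

variable {X Y : Scheme.{u}} [IsIntegral X] [IsIntegral Y] (f : X ⟶ Y) [IsFinite f] [Surjective f]
  {V : Y.Opens} (hV : IsAffineOpen V) (hηV : genericPoint Y ∈ V) {r : ℕ}
  (c : Fin r → Γ(X, f ⁻¹ᵁ V))

omit [IsIntegral X] [IsIntegral Y] [IsFinite f] [Surjective f] in
theorem sum_ulift {A : Type*} [AddCommMonoid A] (F : Fin r → A) :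
    ∑ i : ULift.{u} (Fin r), F i.down = ∑ j : Fin r, F j :=
  Fintype.sum_equiv Equiv.ulift _ _ (fun _ => rfl)

include hV hηV in
theorem injective_stalk
    (hind : ∀ b : Fin r → Γ(Y, V), ∑ i, (f.app V).hom (b i) * c i = 0 → b = 0) :
    Function.Injective ((TopCat.Presheaf.stalkFunctor AddCommGrpCat.{u} (genericPoint Y)).map
      (Scheme.Modules.Hom.mapPresheaf (alp f V c))).hom := by
  rw [injective_iff_map_eq_zero]
  intro x hx
  obtain ⟨W, hWV, hηW, s, rfl⟩ := TopCat.Presheaf.exists_le_germ_eq _ x hηV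
  have hx' := (TopCat.Presheaf.stalkFunctor_map_germ_apply W (genericPoint Y) hηW
    (Scheme.Modules.Hom.mapPresheaf (alp f V c)) s).symm.trans hx
  have h0 : ((Scheme.Modules.pushforward f).obj (MM f V c)).presheaf.germ W (genericPoint Y) hηW
      (0 : Γ((Scheme.Modules.pushforward f).obj (MM f V c), W)) = 0 := map_zero _
  obtain ⟨W1, hηW1, iU, iV, hres⟩ := TopCat.Presheaf.germ_eq _ (genericPoint Y) hηW hηW _ _
    (hx'.trans h0.symm)
  obtain ⟨b, hbW1, hηb⟩ := hV.exists_basicOpen_le ⟨genericPoint Y, hηW1⟩ hηV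
  have hbW : Y.basicOpen b ≤ W := hbW1.trans iU.le
  -- restrict to the basic open
  set s2 : Γ((freeY Y r), Y.basicOpen b) :=
    ((freeY Y r).presheaf.map (homOfLE hbW).op).hom s
    with hs2
  have hα2 : (Scheme.Modules.Hom.app (alp f V c) (Y.basicOpen b)).hom s2 = 0 := by
    have h1 : (Scheme.Modules.Hom.app (alp f V c) (Y.basicOpen b)).hom s2 =
        (((Scheme.Modules.pushforward f).obj (MM f V c)).presheaf.map (homOfLE hbW).op).hom
          ((Scheme.Modules.Hom.app (alp f V c) W).hom s) :=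
      Groth.Agent.Lib.Helper2.KerSec.naturality_apply (alp f V c) (homOfLE hbW) s
    refine h1.trans ?_
    have h2 : ((Scheme.Modules.pushforward f).obj (MM f V c)).presheaf.map (homOfLE hbW).op =
        ((Scheme.Modules.pushforward f).obj (MM f V c)).presheaf.map iU.op ≫
        ((Scheme.Modules.pushforward f).obj (MM f V c)).presheaf.map (homOfLE hbW1).op := by
      rw [← Functor.map_comp]
      rfl
    rw [h2]
    have h3 : (((Scheme.Modules.pushforward f).obj (MM f V c)).presheaf.map iU.op).hom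
        ((Scheme.Modules.Hom.app (alp f V c) W).hom s) = 0 := hres.trans (map_zero _)
    have h4 : (((Scheme.Modules.pushforward f).obj (MM f V c)).presheaf.map iU.op ≫
        ((Scheme.Modules.pushforward f).obj (MM f V c)).presheaf.map (homOfLE hbW1).op).hom
          ((Scheme.Modules.Hom.app (alp f V c) W).hom s) =
        (((Scheme.Modules.pushforward f).obj (MM f V c)).presheaf.map (homOfLE hbW1).op).hom
          ((((Scheme.Modules.pushforward f).obj (MM f V c)).presheaf.map iU.op).hom
            ((Scheme.Modules.Hom.app (alp f V c) W).hom s)) := rfl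
    rw [h4, h3, map_zero]
  -- decompose
  have hdec := free_decomp r (Y.basicOpen b) s2
  set β : ULift.{u} (Fin r) → Γ(Y, Y.basicOpen b) := fun i =>
    (Scheme.Modules.Hom.app (proj (R := Y.ringCatSheaf) (I := ULift.{u} (Fin r)) i)
      (Y.basicOpen b)).hom s2 with hβ
  have hkey := iM_alp f V c (Y.basicOpen b) (Y.basicOpen_le b) β
  have hdec' : s2 = ∑ i, (Scheme.Modules.Hom.app (SheafOfModules.ιFree (R := Y.ringCatSheaf) i)
      (Y.basicOpen b)).hom (castO Y (Y.basicOpen b) (β i)) := hdec
  rw [← hdec', hα2] at hkey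
  have hk0 : ((iM f V c).app (f ⁻¹ᵁ Y.basicOpen b)).hom
      (castM f (MM f V c) (Y.basicOpen b) 0) = 0 := map_zero _
  rw [hk0] at hkey
  have hsum := kap_injective (f ⁻¹ᵁ V) (preimage_le f (Y.basicOpen_le b))
    ((kap_zero _ _).trans hkey)
  have hsum' : ∑ j : Fin r, (f.app (Y.basicOpen b)).hom (β ⟨j⟩) *
      (X.presheaf.map (homOfLE (preimage_le f (Y.basicOpen_le b))).op).hom (c j) = 0 := by
    rw [← sum_ulift (fun j : Fin r => (f.app (Y.basicOpen b)).hom (β ⟨j⟩) *
      (X.presheaf.map (homOfLE (preimage_le f (Y.basicOpen_le b))).op).hom (c j))]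
    exact hsum.symm
  have hβ0 := indep_basicOpen f hV c hind b hηb (fun j => β ⟨j⟩) hsum'
  have hs20 : s2 = 0 := by
    rw [hdec']
    apply Finset.sum_eq_zero
    intro i _
    have : β i = 0 := congrFun hβ0 i.down
    rw [this]
    exact map_zero _
  have hg : (freeY Y r).presheaf.germ W (genericPoint Y)
      hηW s = (freeY Y r).presheaf.germ (Y.basicOpen b)
        (genericPoint Y) hηb s2 :=
    (TopCat.Presheaf.germ_res_apply _ (homOfLE hbW) (genericPoint Y) hηb s).symm
  rw [hg, hs20]
  exact map_zero _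

include hV hηV in
theorem surjective_stalk
    (hspan : ∀ t : Γ(X, f ⁻¹ᵁ V), ∃ (b₀ : Γ(Y, V)) (b : Fin r → Γ(Y, V)), b₀ ≠ 0 ∧
        (f.app V).hom b₀ * t = ∑ i, (f.app V).hom (b i) * c i) :
    Function.Surjective ((TopCat.Presheaf.stalkFunctor AddCommGrpCat.{u} (genericPoint Y)).map
      (Scheme.Modules.Hom.mapPresheaf (alp f V c))).hom := by
  intro y
  obtain ⟨W, hWV, hηW, t, rfl⟩ := TopCat.Presheaf.exists_le_germ_eq _ y hηV
  obtain ⟨b, hbW, hηb⟩ := hV.exists_basicOpen_le ⟨genericPoint Y, hηW⟩ hηV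
  obtain ⟨τ, hτ⟩ := kap_surjective (f ⁻¹ᵁ V) (preimage_le f (Y.basicOpen_le b))
    (((iM f V c).app (f ⁻¹ᵁ Y.basicOpen b)).hom (castM f (MM f V c) (Y.basicOpen b)
      ((((Scheme.Modules.pushforward f).obj (MM f V c)).presheaf.map (homOfLE hbW).op).hom t)))
  obtain ⟨b', hηb', hle, β', hβ'⟩ := span_basicOpen f hV c hspan b hηb τ
  have hkey := iM_alp f V c (Y.basicOpen b') (Y.basicOpen_le b') (fun i => β' i.down)
  rw [sum_ulift (fun j : Fin r => (f.app (Y.basicOpen b')).hom (β' j) *
      (X.presheaf.map (homOfLE (preimage_le f (Y.basicOpen_le b'))).op).hom (c j)), hβ',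
    ← kap_res (f ⁻¹ᵁ V) (preimage_le f hle) τ, hτ] at hkey
  have hnat := Groth.Agent.Lib.Helper2.KerSec.naturality_apply (iM f V c)
    (homOfLE (preimage_le f hle)) (castM f (MM f V c) (Y.basicOpen b)
      ((((Scheme.Modules.pushforward f).obj (MM f V c)).presheaf.map (homOfLE hbW).op).hom t))
  have hcomp : ((MM f V c).presheaf.map (homOfLE (preimage_le f hle)).op).hom
      (castM f (MM f V c) (Y.basicOpen b)
        ((((Scheme.Modules.pushforward f).obj (MM f V c)).presheaf.map (homOfLE hbW).op).hom t)) =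
      castM f (MM f V c) (Y.basicOpen b')
        ((((Scheme.Modules.pushforward f).obj (MM f V c)).presheaf.map
          (homOfLE (hle.trans hbW)).op).hom t) := by
    unfold castM
    change (((MM f V c).presheaf.map _).hom (((MM f V c).presheaf.map _).hom _)) =
      (((MM f V c).presheaf.map _).hom _)
    rw [← ConcreteCategory.comp_apply, ← Functor.map_comp]
    rfl
  have e1 : ((iM f V c).app (f ⁻¹ᵁ Y.basicOpen b')).hom (castM f (MM f V c) (Y.basicOpen b')
      ((Scheme.Modules.Hom.app (alp f V c) (Y.basicOpen b')).hom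
        (∑ i : ULift.{u} (Fin r),
          (Scheme.Modules.Hom.app (SheafOfModules.ιFree (R := Y.ringCatSheaf) i)
            (Y.basicOpen b')).hom (castO Y (Y.basicOpen b') (β' i.down))))) =
      ((iM f V c).app (f ⁻¹ᵁ Y.basicOpen b')).hom (castM f (MM f V c) (Y.basicOpen b')
        ((((Scheme.Modules.pushforward f).obj (MM f V c)).presheaf.map
          (homOfLE (hle.trans hbW)).op).hom t)) := by
    rw [hkey, ← hcomp]
    exact hnat.symm
  have hαs : (Scheme.Modules.Hom.app (alp f V c) (Y.basicOpen b')).hom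
      (∑ i : ULift.{u} (Fin r),
        (Scheme.Modules.Hom.app (SheafOfModules.ιFree (R := Y.ringCatSheaf) i)
          (Y.basicOpen b')).hom (castO Y (Y.basicOpen b') (β' i.down))) =
      (((Scheme.Modules.pushforward f).obj (MM f V c)).presheaf.map
        (homOfLE (hle.trans hbW)).op).hom t :=
    Groth.Agent.Lib.Helper21.QCohSections.app_injective_of_mono (iM f V c)
      (f ⁻¹ᵁ Y.basicOpen b') e1
  refine ⟨(freeY Y r).presheaf.germ (Y.basicOpen b') (genericPoint Y) hηb'
    (∑ i : ULift.{u} (Fin r),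
      (Scheme.Modules.Hom.app (SheafOfModules.ιFree (R := Y.ringCatSheaf) i)
        (Y.basicOpen b')).hom (castO Y (Y.basicOpen b') (β' i.down))), ?_⟩
  refine (TopCat.Presheaf.stalkFunctor_map_germ_apply (Y.basicOpen b') (genericPoint Y) hηb'
    (Scheme.Modules.Hom.mapPresheaf (alp f V c)) _).trans ?_
  have hg := TopCat.Presheaf.germ_res_apply
    ((Scheme.Modules.pushforward f).obj (MM f V c)).presheaf (homOfLE (hle.trans hbW))
    (genericPoint Y) hηb' t
  refine Eq.trans ?_ hg
  exact congrArg _ hαs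

end Main

end Groth.Agent.Lib.Helper21.GenFin
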