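import Groth.Agent.Lib.Helper21.SubStep
import Groth.Agent.Lib.Helper82.EffCartier
import Groth.Agent.Lib.Lead.QCohPush

set_option autoImplicit false
set_option linter.style.haveILetI false
set_option backward.isDefEq.respectTransparency.types false
universe u
open AlgebraicGeometry CategoryTheory Opposite TopologicalSpace Limits

namespace Groth.Agent.Lib.Helper21.PushIdealMul
noncomputable section

open Scheme.Modules Groth.Agent.Lib.Helper21.SubStep Groth.Agent.Lib.Helper21.IdealMulSec

variable {X : Scheme.{u}}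

/-- Lifting through a monomorphism can be checked on sections over affine opens. -/
theorem exists_lift_of_forall_affine {P Q A : X.Modules} (a : P ⟶ A) (b : Q ⟶ A) [Mono b]
    (h : ∀ U : X.Opens, IsAffineOpen U → ∀ t : Γ(P, U), a.app U t ∈ Set.range (b.app U)) :
    ∃ l : P ⟶ Q, l ≫ b = a := by
  have hzero : a ≫ cokernel.π b = 0 := by
    refine eq_zero_of_forall_affine _ (fun U hU t => ?_)
    obtain ⟨s, hs⟩ := h U hU t
    change (cokernel.π b).app U (a.app U t) = 0
    rw [← hs]
    have := congr(Scheme.Modules.Hom.app $(cokernel.condition b) U)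
    exact congr($this s)
  have hlim : IsLimit (KernelFork.ofι b (cokernel.condition b)) :=
    Abelian.monoIsKernelOfCokernel _ (colimit.isColimit _)
  obtain ⟨l, hl⟩ := KernelFork.IsLimit.lift' hlim a hzero
  exact ⟨l, hl⟩

/-- Two subobjects with the same sections over all affine opens are isomorphic. -/
theorem exists_iso_of_range_eq {P Q A : X.Modules} (a : P ⟶ A) (b : Q ⟶ A) [Mono a] [Mono b]
    (h : ∀ U : X.Opens, IsAffineOpen U → Set.range (a.app U) = Set.range (b.app U)) :
    ∃ e : P ≅ Q, e.hom ≫ b = a := by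
  obtain ⟨l, hl⟩ := exists_lift_of_forall_affine a b (fun U hU t => h U hU ▸ ⟨t, rfl⟩)
  obtain ⟨l', hl'⟩ := exists_lift_of_forall_affine b a (fun U hU t => (h U hU).symm ▸ ⟨t, rfl⟩)
  refine ⟨⟨l, l', ?_, ?_⟩, hl⟩
  · rw [← cancel_mono a, Category.assoc, hl', hl, Category.id_comp]
  · rw [← cancel_mono b, Category.assoc, hl, hl', Category.id_comp]

/-- `(I B) M = I M` for a `B`-module `M` regarded as an `A`-module along `φ : A → B`. -/
theorem mem_map_smul_top_iff {A B M : Type*} [CommRing A] [CommRing B] (φ : A →+* B)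
    [AddCommGroup M] [Module A M] [Module B M] (hc : ∀ (a : A) (m : M), a • m = φ a • m)
    (I : Ideal A) (m : M) :
    m ∈ (I.map φ) • (⊤ : Submodule B M) ↔ m ∈ I • (⊤ : Submodule A M) := by
  constructor
  · intro hm
    refine Submodule.smul_induction_on hm ?_ ?_
    · intro j hj n _
      have key : ∀ n : M, j • n ∈ I • (⊤ : Submodule A M) := by
        refine Submodule.span_induction (p := fun j _ => ∀ n : M, j • n ∈ I • (⊤ : Submodule A M))
          ?_ ?_ ?_ ?_ hj
        · rintro _ ⟨i, hi, rfl⟩ n
          rw [← hc]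
          exact Submodule.smul_mem_smul hi Submodule.mem_top
        · intro n
          rw [zero_smul]
          exact Submodule.zero_mem _
        · intro x y _ _ hx hy n
          rw [add_smul]
          exact Submodule.add_mem _ (hx n) (hy n)
        · intro b x _ hx n
          rw [smul_eq_mul, mul_comm, mul_smul]
          exact hx (b • n)
      exact key n
    · intro x y hx hy
      exact Submodule.add_mem _ hx hy
  · intro hm
    refine Submodule.smul_induction_on hm ?_ ?_
    · intro i hi n _
      rw [hc]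
      exact Submodule.smul_mem_smul (Ideal.mem_map_of_mem φ hi) Submodule.mem_top
    · intro x y hx hy
      exact Submodule.add_mem _ hx hy

/-- `I · f_* F = f_* ((f⁻¹ I) O_Y · F)` as subobjects of `f_* F`, for `f` affine, `F` qcoh. -/
theorem exists_iso_idealMul_pushforward {Y : Scheme.{u}} (f : Y ⟶ X) [IsAffineHom f]
    (F : Y.Modules) [F.IsQuasicoherent] (I : X.IdealSheafData) :
    ∃ e : (Dual3.idealMul I).obj ((pushforward f).obj F) ≅
        (pushforward f).obj ((Dual3.idealMul (I.comap f)).obj F),
      e.hom ≫ (pushforward f).map (Dual3.idealMulι (I.comap f) F) =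
        Dual3.idealMulι I ((pushforward f).obj F) := by
  haveI : Mono ((pushforward f).map (Dual3.idealMulι (I.comap f) F)) := inferInstance
  refine exists_iso_of_range_eq _ _ (fun U hU => ?_)
  ext s
  have hV : IsAffineOpen (f ⁻¹ᵁ U) := hU.preimage f
  have h1 := mem_range_idealMulι_app_iff I ((pushforward f).obj F) hU s
  have h2 := mem_range_idealMulι_app_iff (I.comap f) F hV s
  rw [Groth.Agent.Lib.Helper82.ideal_comap_of_le f I (f ⁻¹ᵁ U) hV U hU le_rfl] at h2
  letI iM : Module Γ(X, U) Γ(F, f ⁻¹ᵁ U) :=
    inferInstanceAs (Module Γ(X, U) Γ((pushforward f).obj F, U))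
  have h3 := mem_map_smul_top_iff (M := Γ(F, f ⁻¹ᵁ U)) (f.appLE U (f ⁻¹ᵁ U) le_rfl).hom
    (fun a m => by
      rw [← Scheme.Hom.app_eq_appLE]
      rfl) (I.ideal ⟨U, hU⟩) s
  exact h1.trans (h3.symm.trans h2.symm)

end
end Groth.Agent.Lib.Helper21.PushIdealMul
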