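import Groth.Agent.Lib.Helper21.GenFin5
import Groth.Agent.Lib.Helper21.HomExtend2
import Groth.Agent.Lib.Helper21.RestrictIso
import Groth.Agent.Lib.Helper21.PushIdealMul
import Groth.Agent.Lib.Helper21.SerreCoh
import Groth.Agent.Lib.Helper2.LocFreeAff
import Groth.Agent.Lib.Helper2.DCohBase
import Groth.Agent.Lib.Helper15.DCohLocal
import Groth.Agent.Lib.Helper40.QCohCoprod
import Groth.Agent.Lib.Helper64.CohPush

/-!
# `f_* G → F^r` generically an isomorphism, for `f` finite surjective (helper21)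

* `nonempty_sections_sigma_equiv`: sections of a finite coproduct `∐_{ι} F` over any open are
  `ι → Γ(F, V)`.
* `free_localizedModule_of_eq_bot`, `exists_free_basicOpen`: a coherent module on an integral
  Noetherian scheme is free on a basic open neighbourhood of the generic point.
* `exists_iso_restrict`: `f_* (O_X^m)` and `F^d` are isomorphic over an affine open neighbourhood of
  the generic point.
* `exists_generic_iso`: the statement.
-/

set_option autoImplicit false
set_option linter.style.haveILetI false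
universe u w
open CategoryTheory CategoryTheory.Limits AlgebraicGeometry TopologicalSpace Opposite

namespace Groth.Agent.Lib.Helper21.GenFin

section SigmaSec

variable {Y : Scheme.{u}}

/-- sections of a finite coproduct of copies of `F` -/
theorem nonempty_sections_sigma_equiv {ι : Type w} [Finite ι] (F : Y.Modules) (V : Y.Opens) :
    Nonempty (Γ((∐ fun _ : ι => F), V) ≃ₗ[Γ(Y, V)] (ι → Γ(F, V))) := by
  classical
  haveI := Fintype.ofFinite ι
  let Z : ι → Y.Modules := fun _ => F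
  let p : ∀ _ : ι, (∐ Z) ⟶ F := fun j => Sigma.desc (fun k => if k = j then 𝟙 F else 0)
  let i : ∀ _ : ι, F ⟶ (∐ Z) := fun j => Sigma.ι Z j
  have h0 : ∀ j k, i j ≫ p k = if j = k then 𝟙 F else 0 := by
    intro j k
    exact Sigma.ι_desc _ j
  have h1 : ∀ j, i j ≫ p j = 𝟙 F := by
    intro j
    rw [h0, if_pos rfl]
  have h1' : ∀ j k, j ≠ k → i j ≫ p k = 0 := by
    intro j k hjk
    rw [h0, if_neg hjk]
  have h2 : ∑ j, p j ≫ i j = 𝟙 (∐ Z) := by
    refine Sigma.hom_ext _ _ (fun k => ?_)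
    rw [Preadditive.comp_sum, Category.comp_id]
    rw [Finset.sum_eq_single k]
    · change i k ≫ p k ≫ i k = i k
      rw [← Category.assoc, h1, Category.id_comp]
    · intro j _ hjk
      change i k ≫ p j ≫ i j = 0
      rw [← Category.assoc, h1' k j (Ne.symm hjk), zero_comp]
    · intro hk
      exact absurd (Finset.mem_univ k) hk
  refine ⟨
    { toFun := fun s j => (Scheme.Modules.Hom.app (p j) V).hom s
      map_add' := fun s t => by
        funext j
        exact map_add _ s t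
      map_smul' := fun b s => by
        funext j
        exact Scheme.Modules.Hom.app_smul (p j) b s
      invFun := fun t => ∑ j, (Scheme.Modules.Hom.app (i j) V).hom (t j)
      left_inv := fun s => ?_
      right_inv := fun t => ?_ }⟩
  · have h3 := sum_app_apply' Finset.univ (fun j => p j ≫ i j) V s
    rw [h2] at h3
    exact h3.symm.trans rfl
  · funext k
    change (Scheme.Modules.Hom.app (p k) V).hom (∑ j, (Scheme.Modules.Hom.app (i j) V).hom (t j)) = t k
    rw [map_sum]
    rw [Finset.sum_eq_single k]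
    · have := congrArg (fun φ : F ⟶ F => (Scheme.Modules.Hom.app φ V).hom (t k)) (h1 k)
      exact this
    · intro j _ hjk
      have := congrArg (fun φ : F ⟶ F => (Scheme.Modules.Hom.app φ V).hom (t j)) (h1' j k hjk)
      exact this.trans rfl
    · intro hk
      exact absurd (Finset.mem_univ k) hk

end SigmaSec

section FreeGeneric

theorem free_localizedModule_of_eq_bot {R M : Type*} [CommRing R] [IsDomain R] [AddCommGroup M]
    [Module R M] (p : Ideal R) [hp' : p.IsPrime] (hp : p = ⊥) :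
    Module.Free (Localization.AtPrime p) (LocalizedModule p.primeCompl M) := by
  subst hp
  letI : Field (Localization.AtPrime (⊥ : Ideal R)) := IsField.toField <| by
    simp [IsLocalRing.isField_iff_maximalIdeal_eq, ← Localization.AtPrime.map_eq_maximalIdeal]
  exact Module.Free.of_divisionRing _ _

variable {Y : Scheme.{u}} [IsIntegral Y] [IsLocallyNoetherian Y]

open Groth.Agent.Lib.Helper2.LocFreeAff Groth.Agent.Lib.Helper2.FreeModAff in
/-- a coherent module on an integral Noetherian scheme is free near the generic point -/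
theorem exists_free_basicOpen {V₀ : Y.Opens} (hV₀ : IsAffineOpen V₀) (hη : genericPoint Y ∈ V₀)
    (M : Y.Modules) [M.IsQuasicoherent]
    [SheafOfModules.IsFiniteType (R := Y.ringCatSheaf) M] :
    ∃ (r : Γ(Y, V₀)), genericPoint Y ∈ Y.basicOpen r ∧ ∃ m : ℕ,
      Nonempty (M.restrict (Y.basicOpen r).ι ≅ FlatMod.freeMod (Y.basicOpen r) m) := by
  haveI : Nonempty V₀ := ⟨⟨_, hη⟩⟩
  haveI : IsNoetherianRing Γ(Y, V₀) := IsLocallyNoetherian.component_noetherian ⟨V₀, hV₀⟩
  haveI : Module.Finite Γ(Y, V₀) Γ(M, V₀) := Groth.Agent.Lib.Helper2.FinTypeAff.finite_sections M hV₀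
  haveI : Module.FinitePresentation Γ(Y, V₀) Γ(M, V₀) := Module.finitePresentation_of_finite _ _
  have hp : (hV₀.primeIdealOf ⟨genericPoint Y, hη⟩).asIdeal = ⊥ := by
    have h1 := hV₀.primeIdealOf_genericPoint
    rw [genericPoint_eq_bot_of_affine] at h1
    exact congrArg PrimeSpectrum.asIdeal h1
  obtain ⟨r, hr, hiso⟩ := exists_basicOpen_iso_freeMod M hV₀ (genericPoint Y) hη
    (free_localizedModule_of_eq_bot _ hp)
  exact ⟨r, hr, _, hiso⟩

end FreeGeneric

section Main

variable {X Y : Scheme.{u}} [IsIntegral X] [IsNoetherian X] [IsIntegral Y] [IsNoetherian Y]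
  (f : X ⟶ Y) [IsFinite f] [Surjective f]

/-- sections of `f_* O_X` over `V` as functions on `f⁻¹ V` -/
def castS (V : Y.Opens)
    (t : Γ((Scheme.Modules.pushforward f).obj (Coh.structureModule X), V)) :
    Γ(Coh.structureModule X, f ⁻¹ᵁ V) := t

/-- sections of `f_* (O_X^m)` over `V` are `m`-tuples of sections of `f_* O_X` -/
theorem nonempty_sections_push_freeMod_equiv (m : ℕ) (V : Y.Opens) :
    Nonempty (Γ((Scheme.Modules.pushforward f).obj (FlatMod.freeMod X m), V) ≃ₗ[Γ(Y, V)]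
      (Fin m → Γ((Scheme.Modules.pushforward f).obj (Coh.structureModule X), V))) := by
  obtain ⟨T⟩ := nonempty_sections_sigma_equiv (ι := Fin m) (Coh.structureModule X) (f ⁻¹ᵁ V)
  refine ⟨
    { toFun := fun s => T (castM f (FlatMod.freeMod X m) V s)
      map_add' := fun s t => T.map_add _ _
      map_smul' := fun b s => ?_
      invFun := fun t => T.symm t
      left_inv := fun s => T.left_inv _
      right_inv := fun t => T.right_inv _ }⟩
  have h1 : castM f (FlatMod.freeMod X m) V (b • s) =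
      (f.app V).hom b • castM f (FlatMod.freeMod X m) V s := rfl
  rw [h1]
  exact T.map_smul _ _

open Groth.Agent.Lib.Helper2.LocFreeAff Groth.Agent.Lib.Helper2.FreeModAff in
/-- `f_* (O_X^m)` and `F^d` are isomorphic near the generic point -/
theorem exists_iso_restrict (F : Y.Modules) (hF : Coh.IsCoh F) :
    ∃ (V : Y.Opens) (_ : IsAffineOpen V) (_ : genericPoint Y ∈ V) (d m : ℕ), 0 < d ∧
      Nonempty (((Scheme.Modules.pushforward f).obj (FlatMod.freeMod X m)).restrict V.ι ≅
        (∐ fun _ : ULift.{u} (Fin d) => F).restrict V.ι) := by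
  obtain ⟨V₀, hV₀, hη₀, -⟩ := exists_isAffineOpen_mem_and_subset (X := Y) (x := genericPoint Y)
    (U := ⊤) trivial
  haveI : F.IsQuasicoherent := hF.1
  haveI : SheafOfModules.IsFiniteType (R := Y.ringCatSheaf) F := hF.2
  have hOX : Coh.IsCoh (Coh.structureModule X) :=
    Groth.Agent.Lib.Helper21.ClImmDev.isCoh_structureModule X
  let 𝒜 : Y.Modules := (Scheme.Modules.pushforward f).obj (Coh.structureModule X)
  have h𝒜 : Coh.IsCoh 𝒜 := Groth.Agent.Lib.Helper64.CohPush.isCoh_pushforward_of_isFinite f _ hOX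
  haveI : 𝒜.IsQuasicoherent := h𝒜.1
  haveI : SheafOfModules.IsFiniteType (R := Y.ringCatSheaf) 𝒜 := h𝒜.2
  obtain ⟨r₁, hr₁, d, e₁⟩ := exists_free_basicOpen hV₀ hη₀ 𝒜
  obtain ⟨r₂, hr₂, m, e₂⟩ := exists_free_basicOpen hV₀ hη₀ F
  have hV : IsAffineOpen (Y.basicOpen (r₁ * r₂)) := hV₀.basicOpen _
  have hV1 : Y.basicOpen (r₁ * r₂) ≤ Y.basicOpen r₁ := by
    rw [Y.basicOpen_mul]; exact inf_le_left
  have hV2 : Y.basicOpen (r₁ * r₂) ≤ Y.basicOpen r₂ := by
    rw [Y.basicOpen_mul]; exact inf_le_right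
  have hηV : genericPoint Y ∈ Y.basicOpen (r₁ * r₂) := by
    rw [Y.basicOpen_mul]; exact ⟨hr₁, hr₂⟩
  have e₁' := nonempty_iso_freeMod_of_le 𝒜 hV1 d e₁
  have e₂' := nonempty_iso_freeMod_of_le F hV2 m e₂
  obtain ⟨E₁⟩ := (nonempty_iso_freeMod_iff 𝒜 hV d).1 e₁'
  obtain ⟨E₂⟩ := (nonempty_iso_freeMod_iff F hV m).1 e₂'
  refine ⟨Y.basicOpen (r₁ * r₂), hV, hηV, d, m, ?_, ?_⟩
  · -- `d > 0`
    rcases Nat.eq_zero_or_pos d with hd | hd
    · exfalso
      subst hd
      have hsub : Subsingleton Γ(𝒜, Y.basicOpen (r₁ * r₂)) := E₁.toEquiv.subsingleton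
      have hsub' : Subsingleton Γ(X, f ⁻¹ᵁ Y.basicOpen (r₁ * r₂)) := hsub
      obtain ⟨x, hx⟩ := Surjective.surj (f := f) (genericPoint Y)
      haveI hne : Nonempty ↥(f ⁻¹ᵁ Y.basicOpen (r₁ * r₂)) := ⟨⟨x, by
        change f x ∈ Y.basicOpen (r₁ * r₂)
        rw [hx]; exact hηV⟩⟩
      haveI : Nontrivial Γ(X, f ⁻¹ᵁ Y.basicOpen (r₁ * r₂)) :=
        @Scheme.component_nontrivial X (f ⁻¹ᵁ Y.basicOpen (r₁ * r₂)) hne
      exact not_subsingleton _ hsub'
    · exact hd
  · -- the isomorphism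
    haveI hfq : (FlatMod.freeMod X m).IsQuasicoherent := freeMod_isQuasicoherent X m
    haveI hAq : ((Scheme.Modules.pushforward f).obj (FlatMod.freeMod X m)).IsQuasicoherent :=
      Groth.Agent.Lib.Helper2.KerSec.isQuasicoherent_pushforward_of_qcqs f _
    haveI hPq : (∐ fun _ : ULift.{u} (Fin d) => F).IsQuasicoherent :=
      Groth.Agent.Lib.Helper40.QCohCoprod.isQuasicoherent_sigma _
    obtain ⟨T₁⟩ := nonempty_sections_push_freeMod_equiv f m (Y.basicOpen (r₁ * r₂))
    obtain ⟨T₂⟩ := nonempty_sections_sigma_equiv (ι := ULift.{u} (Fin d)) F (Y.basicOpen (r₁ * r₂))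
    let B := Γ(Y, Y.basicOpen (r₁ * r₂))
    let EA : Γ((Scheme.Modules.pushforward f).obj (FlatMod.freeMod X m), Y.basicOpen (r₁ * r₂))
        ≃ₗ[B] (Fin (m * d) → B) :=
      T₁ ≪≫ₗ (LinearEquiv.piCongrRight (fun _ => E₁)) ≪≫ₗ
        (LinearEquiv.curry B B (Fin m) (Fin d)).symm ≪≫ₗ
        LinearEquiv.funCongrLeft B B finProdFinEquiv.symm
    let eP : Fin (m * d) ≃ ULift.{u} (Fin d) × Fin m :=
      (Fintype.equivFinOfCardEq (by simp [mul_comm])).symm
    let EP : Γ((∐ fun _ : ULift.{u} (Fin d) => F), Y.basicOpen (r₁ * r₂))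
        ≃ₗ[B] (Fin (m * d) → B) :=
      T₂ ≪≫ₗ (LinearEquiv.piCongrRight (fun _ => E₂)) ≪≫ₗ
        (LinearEquiv.curry B B (ULift.{u} (Fin d)) (Fin m)).symm ≪≫ₗ
        LinearEquiv.funCongrLeft B B eP
    obtain ⟨φ₁⟩ := (nonempty_iso_freeMod_iff
      ((Scheme.Modules.pushforward f).obj (FlatMod.freeMod X m)) hV (m * d)).2 ⟨EA⟩
    obtain ⟨φ₂⟩ := (nonempty_iso_freeMod_iff
      (∐ fun _ : ULift.{u} (Fin d) => F) hV (m * d)).2 ⟨EP⟩
    exact ⟨φ₁ ≪≫ φ₂.symm⟩

open Groth.Agent.Lib.Helper2.LocFreeAff Groth.Agent.Lib.Helper78.ModStalk in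
/-- the statement: `β : f_* G → F^r`, an isomorphism at the generic point -/
theorem exists_generic_iso (F : Y.Modules) (hF : Coh.IsCoh F) :
    ∃ (r : ℕ) (G : X.Modules)
      (β : (Scheme.Modules.pushforward f).obj G ⟶ ∐ fun _ : ULift.{u} (Fin r) => F),
      0 < r ∧ Coh.IsCoh G ∧ Function.Bijective (stalkMap β (genericPoint Y)) := by
  obtain ⟨V, hV, hηV, d, m, hd, ⟨φ⟩⟩ := exists_iso_restrict f F hF
  haveI : F.IsQuasicoherent := hF.1
  have hfc : Coh.IsCoh (FlatMod.freeMod X m) :=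
    Groth.Agent.Lib.Helper15.DCohLocal.isCoh_of_isFinLocFree _
      (Groth.Agent.Lib.Helper2.DCohBase.isFinLocFree_freeMod X m)
  haveI hfq : (FlatMod.freeMod X m).IsQuasicoherent := hfc.1
  have hA : Coh.IsCoh ((Scheme.Modules.pushforward f).obj (FlatMod.freeMod X m)) :=
    Groth.Agent.Lib.Helper64.CohPush.isCoh_pushforward_of_isFinite f _ hfc
  haveI hPq : (∐ fun _ : ULift.{u} (Fin d) => F).IsQuasicoherent :=
    Groth.Agent.Lib.Helper40.QCohCoprod.isQuasicoherent_sigma _
  let Z : Closeds Y := ⟨(V : Set Y)ᶜ, V.isOpen.isClosed_compl⟩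
  let I := Scheme.IdealSheafData.vanishingIdeal Z
  have hsupp : (I.support : Set Y) = (V : Set Y)ᶜ :=
    Scheme.IdealSheafData.coe_support_vanishingIdeal Z
  obtain ⟨n, ψ, hψ⟩ := Groth.Agent.Lib.Helper21.HomExtend.exists_pow_hom_extension
    (∐ fun _ : ULift.{u} (Fin d) => F) _ hA I V (by rw [hsupp, compl_compl]) φ.hom
  have hiso : IsIso ((Scheme.Modules.restrictFunctor V.ι).map (Dual3.idealMulι (I ^ n)
      ((Scheme.Modules.pushforward f).obj (FlatMod.freeMod X m)))) :=
    Groth.Agent.Lib.Helper21.RestrictIso.isIso_restrict_idealMulι (I ^ n) _ V (fun x hx =>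
      Groth.Agent.Lib.Helper21.HomExtend.notMem_support_pow I n x
        (by rw [hsupp]; exact fun h => h hx))
  have hψiso : IsIso ((Scheme.Modules.restrictFunctor V.ι).map ψ) := by
    rw [hψ]
    infer_instance
  obtain ⟨e, -⟩ := Groth.Agent.Lib.Helper21.PushIdealMul.exists_iso_idealMul_pushforward f
    (FlatMod.freeMod X m) (I ^ n)
  refine ⟨d, (Dual3.idealMul ((I ^ n).comap f)).obj (FlatMod.freeMod X m), e.inv ≫ ψ, hd,
    Groth.Agent.Lib.Helper21.SerreCoh.isCoh_idealMul _ hfc, ?_⟩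
  have hβiso : IsIso ((Scheme.Modules.restrictFunctor V.ι).map (e.inv ≫ ψ)) := by
    rw [Functor.map_comp]
    infer_instance
  exact Groth.Agent.Lib.Helper21.HomExtend.stalkMap_bijective_of_isIso_restrict _ V hβiso
    (genericPoint Y) hηV

end Main

end Groth.Agent.Lib.Helper21.GenFin
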