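import Groth.Agent.Lib.Helper21.GenFin6
import Groth.Agent.Lib.Helper29.QCohLoc
import Groth.Prelude.Def_FlatMod2
import Mathlib.RingTheory.LocalProperties.Projective
import Mathlib.AlgebraicGeometry.FunctionField

/-!
# Rank of the generic stalk of a generically free quasi-coherent module (helper21)

* `finrank_stalk_genericPoint`: if `Γ(M, V) ≃ Γ(Y, V)^d` on an affine open `V` of an integral scheme,
  then the stalk of `M` at the generic point has dimension `d` over the function field.
* `exists_iso_restrict'`, `exists_generic_iso'`: variants of `GenFin.exists_iso_restrict`,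
  `GenFin.exists_generic_iso` with the number of copies of `F` identified with the degree of `f`.
-/

set_option autoImplicit false
set_option linter.style.haveILetI false
universe u w
open CategoryTheory CategoryTheory.Limits AlgebraicGeometry TopologicalSpace Opposite

namespace Groth.Agent.Lib.Helper21.GenRank

open Groth.Agent.Lib.Helper29.QCohLoc

section Rank

variable {Y : Scheme.{u}} [IsIntegral Y]

theorem finrank_stalk_genericPoint (M : Y.Modules) [M.IsQuasicoherent]
    {V : Y.Opens} (hV : IsAffineOpen V) (hη : genericPoint Y ∈ V) (d : ℕ)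
    (E : Γ(M, V) ≃ₗ[Γ(Y, V)] (Fin d → Γ(Y, V))) :
    Module.finrank Y.functionField (M.presheaf.stalk (genericPoint Y)) = d := by
  haveI : Nonempty V := ⟨⟨_, hη⟩⟩
  haveI := functionField_isFractionRing_of_isAffineOpen Y V hV
  have hloc : LocAt M V := LocAt.of_isQuasicoherent M hV
  letI instB : Module Γ(Y, V) (M.presheaf.stalk (genericPoint Y)) :=
    Module.compHom _ (algebraMap Γ(Y, V) Y.functionField)
  haveI : IsScalarTower Γ(Y, V) Y.functionField (M.presheaf.stalk (genericPoint Y)) :=
    ⟨fun b k s => by
      show (algebraMap Γ(Y, V) Y.functionField b * k) • s =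
        algebraMap Γ(Y, V) Y.functionField b • (k • s)
      rw [mul_smul]⟩
  have halg : ∀ b : Γ(Y, V), algebraMap Γ(Y, V) Y.functionField b =
      Y.presheaf.germ V (genericPoint Y) hη b := fun b => rfl
  let g : Γ(M, V) →ₗ[Γ(Y, V)] (M.presheaf.stalk (genericPoint Y)) :=
    { toFun := fun s => M.presheaf.germ V (genericPoint Y) hη s
      map_add' := fun s t => map_add _ s t
      map_smul' := fun b s => by
        show M.presheaf.germ V (genericPoint Y) hη (b • s) =
          algebraMap Γ(Y, V) Y.functionField b • M.presheaf.germ V (genericPoint Y) hη s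
        rw [halg]
        exact germ_smul M V (genericPoint Y) hη b s }
  have hne : ∀ a : Γ(Y, V), genericPoint Y ∈ Y.basicOpen a → a ∈ nonZeroDivisors Γ(Y, V) := by
    intro a ha
    apply mem_nonZeroDivisors_of_ne_zero
    rintro rfl
    rw [Scheme.basicOpen_zero] at ha
    exact ha
  haveI : IsLocalizedModule (nonZeroDivisors Γ(Y, V)) g := by
    refine ⟨fun x => ?_, fun m => ?_, fun {x₁ x₂} h => ?_⟩
    · rw [Module.End.isUnit_iff]
      have hu : IsUnit (algebraMap Γ(Y, V) Y.functionField x) :=
        IsLocalization.map_units Y.functionField x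
      constructor
      · intro a b hab
        have hab' : algebraMap Γ(Y, V) Y.functionField x • a =
            algebraMap Γ(Y, V) Y.functionField x • b := hab
        exact hu.smul_left_cancel.1 hab'
      · intro b
        obtain ⟨u, hu'⟩ := hu
        refine ⟨(↑u⁻¹ : Y.functionField) • b, ?_⟩
        show algebraMap Γ(Y, V) Y.functionField x • ((↑u⁻¹ : Y.functionField) • b) = b
        rw [← hu', ← mul_smul, Units.mul_inv, one_smul]
    · obtain ⟨a, s, ha, hs⟩ := exists_germ_eq_smul M hV hloc (genericPoint Y) hη m
      refine ⟨(s, ⟨a, hne a ha⟩), ?_⟩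
      show algebraMap Γ(Y, V) Y.functionField a • m = M.presheaf.germ V (genericPoint Y) hη s
      rw [halg]
      exact hs.symm
    · have h0 : M.presheaf.germ V (genericPoint Y) hη (x₁ - x₂) = 0 := by
        rw [map_sub]
        exact sub_eq_zero.2 h
      obtain ⟨a, ha, has⟩ := (germ_eq_zero_iff M hV hloc (genericPoint Y) hη _).1 h0
      refine ⟨⟨a, hne a ha⟩, ?_⟩
      show a • x₁ = a • x₂
      rw [smul_sub] at has
      exact sub_eq_zero.1 has
  haveI : Module.Free Γ(Y, V) Γ(M, V) := Module.Free.of_equiv E.symm
  rw [Module.finrank_of_isLocalizedModule_of_free Y.functionField (nonZeroDivisors Γ(Y, V)) g,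
    LinearEquiv.finrank_eq E, Module.finrank_fin_fun]

end Rank

end Groth.Agent.Lib.Helper21.GenRank
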