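import Groth.Agent.Lib.Helper21.GenRank

/-!
# `f_* G → F^{deg f}` generically an isomorphism (helper21)

Variants of `GenFin.exists_iso_restrict`, `GenFin.exists_generic_iso` with the number of copies of
`F` identified with the rank of `(f_* O_X)_η` over the function field, and the open set exposed.
-/

set_option autoImplicit false
set_option linter.style.haveILetI false
universe u w
open CategoryTheory CategoryTheory.Limits AlgebraicGeometry TopologicalSpace Opposite

namespace Groth.Agent.Lib.Helper21.GenRank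

open Groth.Agent.Lib.Helper21.GenFin

variable {X Y : Scheme.{u}} [IsIntegral X] [IsNoetherian X] [IsIntegral Y] [IsNoetherian Y]
  (f : X ⟶ Y) [IsFinite f] [Surjective f]

open Groth.Agent.Lib.Helper2.LocFreeAff Groth.Agent.Lib.Helper2.FreeModAff in
/-- `f_* (O_X^m)` and `F^d` are isomorphic near the generic point, `d` the degree of `f` -/
theorem exists_iso_restrict' (F : Y.Modules) (hF : Coh.IsCoh F) :
    ∃ (V : Y.Opens) (_ : IsAffineOpen V) (_ : genericPoint Y ∈ V) (d m : ℕ),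
      d = Module.finrank Y.functionField
        (((Scheme.Modules.pushforward f).obj (Coh.structureModule X)).presheaf.stalk
          (genericPoint Y)) ∧
      Nonempty (((Scheme.Modules.pushforward f).obj (FlatMod.freeMod X m)).restrict V.ι ≅
        (∐ fun _ : ULift.{u} (Fin d) => F).restrict V.ι) := by
  obtain ⟨V₀, hV₀, hη₀, -⟩ := exists_isAffineOpen_mem_and_subset (X := Y) (x := genericPoint Y)
    (U := ⊤) trivial
  haveI : F.IsQuasicoherent := hF.1
  haveI : SheafOfModules.IsFiniteType (R := Y.ringCatSheaf) F := hF.2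
  have hOX : Coh.IsCoh (Coh.structureModule X) :=
    Groth.Agent.Lib.Helper21.ClImmDev.isCoh_structureModule X
  let 𝒜 : Y.Modules := (Scheme.Modules.pushforward f).obj (Coh.structureModule X)
  have h𝒜 : Coh.IsCoh 𝒜 := Groth.Agent.Lib.Helper64.CohPush.isCoh_pushforward_of_isFinite f _ hOX
  haveI : 𝒜.IsQuasicoherent := h𝒜.1
  haveI : SheafOfModules.IsFiniteType (R := Y.ringCatSheaf) 𝒜 := h𝒜.2
  obtain ⟨r₁, hr₁, d, e₁⟩ := exists_free_basicOpen hV₀ hη₀ 𝒜
  obtain ⟨r₂, hr₂, m, e₂⟩ := exists_free_basicOpen hV₀ hη₀ F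
  have hV : IsAffineOpen (Y.basicOpen (r₁ * r₂)) := hV₀.basicOpen _
  have hV1 : Y.basicOpen (r₁ * r₂) ≤ Y.basicOpen r₁ := by
    rw [Y.basicOpen_mul]; exact inf_le_left
  have hV2 : Y.basicOpen (r₁ * r₂) ≤ Y.basicOpen r₂ := by
    rw [Y.basicOpen_mul]; exact inf_le_right
  have hηV : genericPoint Y ∈ Y.basicOpen (r₁ * r₂) := by
    rw [Y.basicOpen_mul]; exact ⟨hr₁, hr₂⟩
  have e₁' := nonempty_iso_freeMod_of_le 𝒜 hV1 d e₁
  have e₂' := nonempty_iso_freeMod_of_le F hV2 m e₂
  obtain ⟨E₁⟩ := (nonempty_iso_freeMod_iff 𝒜 hV d).1 e₁'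
  obtain ⟨E₂⟩ := (nonempty_iso_freeMod_iff F hV m).1 e₂'
  refine ⟨Y.basicOpen (r₁ * r₂), hV, hηV, d, m, ?_, ?_⟩
  · exact (finrank_stalk_genericPoint 𝒜 hV hηV d E₁).symm
  · -- the isomorphism
    haveI hfq : (FlatMod.freeMod X m).IsQuasicoherent := freeMod_isQuasicoherent X m
    haveI hAq : ((Scheme.Modules.pushforward f).obj (FlatMod.freeMod X m)).IsQuasicoherent :=
      Groth.Agent.Lib.Helper2.KerSec.isQuasicoherent_pushforward_of_qcqs f _
    haveI hPq : (∐ fun _ : ULift.{u} (Fin d) => F).IsQuasicoherent :=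
      Groth.Agent.Lib.Helper40.QCohCoprod.isQuasicoherent_sigma _
    obtain ⟨T₁⟩ := nonempty_sections_push_freeMod_equiv f m (Y.basicOpen (r₁ * r₂))
    obtain ⟨T₂⟩ := nonempty_sections_sigma_equiv (ι := ULift.{u} (Fin d)) F (Y.basicOpen (r₁ * r₂))
    let B := Γ(Y, Y.basicOpen (r₁ * r₂))
    let EA : Γ((Scheme.Modules.pushforward f).obj (FlatMod.freeMod X m), Y.basicOpen (r₁ * r₂))
        ≃ₗ[B] (Fin (m * d) → B) :=
      T₁ ≪≫ₗ (LinearEquiv.piCongrRight (fun _ => E₁)) ≪≫ₗ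
        (LinearEquiv.curry B B (Fin m) (Fin d)).symm ≪≫ₗ
        LinearEquiv.funCongrLeft B B finProdFinEquiv.symm
    let eP : Fin (m * d) ≃ ULift.{u} (Fin d) × Fin m :=
      (Fintype.equivFinOfCardEq (by simp [mul_comm])).symm
    let EP : Γ((∐ fun _ : ULift.{u} (Fin d) => F), Y.basicOpen (r₁ * r₂))
        ≃ₗ[B] (Fin (m * d) → B) :=
      T₂ ≪≫ₗ (LinearEquiv.piCongrRight (fun _ => E₂)) ≪≫ₗ
        (LinearEquiv.curry B B (ULift.{u} (Fin d)) (Fin m)).symm ≪≫ₗ
        LinearEquiv.funCongrLeft B B eP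
    obtain ⟨φ₁⟩ := (nonempty_iso_freeMod_iff
      ((Scheme.Modules.pushforward f).obj (FlatMod.freeMod X m)) hV (m * d)).2 ⟨EA⟩
    obtain ⟨φ₂⟩ := (nonempty_iso_freeMod_iff
      (∐ fun _ : ULift.{u} (Fin d) => F) hV (m * d)).2 ⟨EP⟩
    exact ⟨φ₁ ≪≫ φ₂.symm⟩

open Groth.Agent.Lib.Helper2.LocFreeAff in
/-- `β : f_* G → F^{deg f}`, an isomorphism over an open neighbourhood of the generic point -/
theorem exists_generic_iso' (F : Y.Modules) (hF : Coh.IsCoh F) :
    ∃ (G : X.Modules)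
      (β : (Scheme.Modules.pushforward f).obj G ⟶ ∐ fun _ : Fin (Module.finrank Y.functionField
        (((Scheme.Modules.pushforward f).obj (Coh.structureModule X)).presheaf.stalk
          (genericPoint Y))) => F),
      Coh.IsCoh G ∧ ∃ V : Y.Opens, genericPoint Y ∈ V ∧
        IsIso ((Scheme.Modules.restrictFunctor V.ι).map β) := by
  obtain ⟨V, hV, hηV, d, m, hd, ⟨φ⟩⟩ := exists_iso_restrict' f F hF
  subst hd
  haveI : F.IsQuasicoherent := hF.1
  have hfc : Coh.IsCoh (FlatMod.freeMod X m) :=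
    Groth.Agent.Lib.Helper15.DCohLocal.isCoh_of_isFinLocFree _
      (Groth.Agent.Lib.Helper2.DCohBase.isFinLocFree_freeMod X m)
  haveI hfq : (FlatMod.freeMod X m).IsQuasicoherent := hfc.1
  have hA : Coh.IsCoh ((Scheme.Modules.pushforward f).obj (FlatMod.freeMod X m)) :=
    Groth.Agent.Lib.Helper64.CohPush.isCoh_pushforward_of_isFinite f _ hfc
  set d := Module.finrank Y.functionField
    (((Scheme.Modules.pushforward f).obj (Coh.structureModule X)).presheaf.stalk
      (genericPoint Y)) with hd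
  haveI hPq : (∐ fun _ : ULift.{u} (Fin d) => F).IsQuasicoherent :=
    Groth.Agent.Lib.Helper40.QCohCoprod.isQuasicoherent_sigma _
  let Z : Closeds Y := ⟨(V : Set Y)ᶜ, V.isOpen.isClosed_compl⟩
  let I := Scheme.IdealSheafData.vanishingIdeal Z
  have hsupp : (I.support : Set Y) = (V : Set Y)ᶜ :=
    Scheme.IdealSheafData.coe_support_vanishingIdeal Z
  obtain ⟨n, ψ, hψ⟩ := Groth.Agent.Lib.Helper21.HomExtend.exists_pow_hom_extension
    (∐ fun _ : ULift.{u} (Fin d) => F) _ hA I V (by rw [hsupp, compl_compl]) φ.hom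
  have hiso : IsIso ((Scheme.Modules.restrictFunctor V.ι).map (Dual3.idealMulι (I ^ n)
      ((Scheme.Modules.pushforward f).obj (FlatMod.freeMod X m)))) :=
    Groth.Agent.Lib.Helper21.RestrictIso.isIso_restrict_idealMulι (I ^ n) _ V (fun x hx =>
      Groth.Agent.Lib.Helper21.HomExtend.notMem_support_pow I n x
        (by rw [hsupp]; exact fun h => h hx))
  have hψiso : IsIso ((Scheme.Modules.restrictFunctor V.ι).map ψ) := by
    rw [hψ]
    infer_instance
  obtain ⟨e, -⟩ := Groth.Agent.Lib.Helper21.PushIdealMul.exists_iso_idealMul_pushforward f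
    (FlatMod.freeMod X m) (I ^ n)
  let ρ : (∐ fun _ : ULift.{u} (Fin d) => F) ≅ ∐ fun _ : Fin d => F :=
    Sigma.reindex (Equiv.ulift : ULift.{u} (Fin d) ≃ Fin d) (fun _ : Fin d => F)
  refine ⟨(Dual3.idealMul ((I ^ n).comap f)).obj (FlatMod.freeMod X m), e.inv ≫ ψ ≫ ρ.hom,
    Groth.Agent.Lib.Helper21.SerreCoh.isCoh_idealMul _ hfc, V, hηV, ?_⟩
  rw [Functor.map_comp, Functor.map_comp]
  infer_instance

end Groth.Agent.Lib.Helper21.GenRank
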