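import Mathlib.LinearAlgebra.FreeModule.StrongRankCondition
import Mathlib.LinearAlgebra.Dimension.StrongRankCondition
import Mathlib.LinearAlgebra.Dimension.Finite
import Mathlib.LinearAlgebra.Dimension.Constructions
import Mathlib.RingTheory.Finiteness.Basic
import Mathlib.Algebra.Algebra.Basic

/-!
# A maximal linearly independent family in a finite algebra over a domain (helper21)

`exists_maximal_linearIndependent`: for an injective finite algebra `B → C` (`B` nontrivial
commutative), there are `r > 0` and `c : Fin r → C` linearly independent over `B` such that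
every `t : C` has a nonzero multiple `b₀ • t` in the `B`-span of the `c i`.
-/

set_option autoImplicit false
universe u

namespace Groth.Agent.Lib.Helper21.GenericBasis

theorem exists_maximal_linearIndependent (B C : Type u) [CommRing B] [Nontrivial B] [CommRing C]
    [Algebra B C] [Module.Finite B C] (hinj : Function.Injective (algebraMap B C)) :
    ∃ (r : ℕ) (c : Fin r → C), 0 < r ∧ LinearIndependent B c ∧
      ∀ t : C, ∃ (b₀ : B) (b : Fin r → B), b₀ ≠ 0 ∧ b₀ • t = ∑ i, b i • c i := by
  classical
  let P : ℕ → Prop := fun r => ∃ c : Fin r → C, LinearIndependent B c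
  have hP0 : P 0 := ⟨Fin.elim0, linearIndependent_empty_type⟩
  have hbound : ∀ r, P r → r ≤ Module.finrank B C := by
    rintro r ⟨c, hc⟩
    have := hc.fintype_card_le_finrank
    simpa using this
  set r := Nat.findGreatest P (Module.finrank B C) with hr
  have hPr : P r := Nat.findGreatest_spec (Nat.zero_le _) hP0
  have hmax : ∀ r', P r' → r' ≤ r := fun r' h => Nat.le_findGreatest (hbound r' h) h
  obtain ⟨c, hc⟩ := hPr
  have hspan : ∀ t : C, ∃ (b₀ : B) (b : Fin r → B), b₀ ≠ 0 ∧ b₀ • t = ∑ i, b i • c i := by
    intro t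
    have hnot : ¬ LinearIndependent B (Fin.cons t c : Fin (r + 1) → C) := by
      intro h
      have := hmax (r + 1) ⟨_, h⟩
      omega
    rw [Fintype.not_linearIndependent_iff] at hnot
    obtain ⟨g, hg, i0, hi0⟩ := hnot
    rw [Fin.sum_univ_succ] at hg
    simp only [Fin.cons_zero, Fin.cons_succ] at hg
    have hg0 : g 0 ≠ 0 := by
      intro h0
      rw [h0, zero_smul, zero_add] at hg
      have h1 := Fintype.linearIndependent_iff.mp hc (fun i => g i.succ) hg
      refine hi0 ?_
      refine Fin.cases h0 (fun j => h1 j) i0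
    refine ⟨g 0, fun i => - g i.succ, hg0, ?_⟩
    rw [eq_comm, ← sub_eq_zero]
    have : ∑ i, (- g i.succ) • c i - g 0 • t = - (g 0 • t + ∑ i, g i.succ • c i) := by
      simp only [neg_smul, Finset.sum_neg_distrib]
      abel
    rw [this, hg, neg_zero]
  refine ⟨r, c, ?_, hc, hspan⟩
  by_contra h0
  have hr0 : r = 0 := by omega
  obtain ⟨b₀, b, hb₀, hb⟩ := hspan 1
  have hsum : ∑ i, b i • c i = 0 := by
    apply Finset.sum_eq_zero
    intro i _
    exact (Fin.elim0 (hr0 ▸ i))
  rw [hsum, Algebra.smul_def, mul_one] at hb
  exact hb₀ (hinj (hb.trans (map_zero _).symm))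

end Groth.Agent.Lib.Helper21.GenericBasis
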