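import Groth.Agent.Lib.Helper21.CohSplit

import Groth.Agent.Lib.Helper21.CohNoeth
import Groth.Agent.Lib.Helper2.QCohLim
import Groth.Agent.Lib.Helper21.CohBiprod
/-!
# Closure of the graph of a morphism defined on an open subscheme (helper21)

For an open immersion `j : V ⟶ X`, `O_X`-modules `A`, `B` and `α : A|_V ⟶ B|_V`, the module
`H ⊆ A ⊞ B` of pairs `(a, b)` with `α (a|_V) = b|_V`, with its projections `p₁`, `p₂`.
`p₁` is an isomorphism over `V`, and `p₂ = α ∘ p₁` over `V`.
-/

set_option autoImplicit false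
set_option linter.style.haveILetI false
set_option backward.isDefEq.respectTransparency.types false
universe u
open AlgebraicGeometry CategoryTheory Opposite TopologicalSpace Limits

namespace Groth.Agent.Lib.Helper21.GraphClosure
open Scheme.Modules Groth.Agent.Lib.Helper21.ClImmUnit Groth.Agent.Lib.Helper78.ModStalk
  Groth.Agent.Lib.Helper21.CohStalkLocal Groth.Agent.Lib.Helper21.CohSplit

variable {X V : Scheme.{u}} (j : V ⟶ X) [IsOpenImmersion j] (A B : X.Modules)
  (α : A.restrict j ⟶ B.restrict j)

noncomputable instance (W : X.Opens) : PreservesFiniteLimits (secF (X := X) W) := by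
  have h1 : PreservesFiniteLimits (toPresheaf X) :=
    Groth.Agent.Lib.Helper21.QCohKernel.preservesFiniteLimits_toPresheaf X
  have h2 : PreservesFiniteLimits ((evaluation (X.Opens)ᵒᵖ Ab).obj (op W)) := inferInstance
  unfold secF
  exact comp_preservesFiniteLimits _ _

/-- `A ⟶ j_* (B|_V)`, `a ↦ α (a|_V)`. -/
noncomputable def u : A ⟶ (Scheme.Modules.pushforward j).obj (B.restrict j) :=
  (restrictAdjunction j).unit.app A ≫ (Scheme.Modules.pushforward j).map α

/-- `B ⟶ j_* (B|_V)`. -/
noncomputable abbrev ηB : B ⟶ (Scheme.Modules.pushforward j).obj (B.restrict j) :=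
  (restrictAdjunction j).unit.app B

/-- The closure of the graph of `α`: pairs `(a, b)` with `α (a|_V) = b|_V`. -/
noncomputable def H : X.Modules := pullback (u j A B α) (ηB j B)

noncomputable def p₁ : H j A B α ⟶ A := pullback.fst _ _
noncomputable def p₂ : H j A B α ⟶ B := pullback.snd _ _

lemma isPullback : IsPullback (p₁ j A B α) (p₂ j A B α) (u j A B α) (ηB j B) :=
  IsPullback.of_hasPullback _ _

lemma hom_ext {T : X.Modules} (g h : T ⟶ H j A B α) (h₁ : g ≫ p₁ j A B α = h ≫ p₁ j A B α)
    (h₂ : g ≫ p₂ j A B α = h ≫ p₂ j A B α) : g = h :=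
  pullback.hom_ext h₁ h₂

lemma isIso_p₁_app (W : X.Opens) (hW : W ≤ j.opensRange) : IsIso ((p₁ j A B α).app W) := by
  have h := (isPullback j A B α).map (secF W)
  have : IsIso ((secF W).map (ηB j B)) := isIso_restrictAdjunction_unit_app_app j B W hW
  exact h.isIso_fst_of_isIso

lemma isIso_p₂_app [IsIso α] (W : X.Opens) (hW : W ≤ j.opensRange) :
    IsIso ((p₂ j A B α).app W) := by
  have h := (isPullback j A B α).map (secF W)
  have h1 : IsIso ((secF W).map ((restrictAdjunction j).unit.app A)) :=
    isIso_restrictAdjunction_unit_app_app j A W hW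
  have : IsIso ((secF W).map (u j A B α)) := by
    rw [u, Functor.map_comp]
    infer_instance
  exact h.isIso_snd_of_isIso

lemma condition_app (W : X.Opens) (h : Γ(H j A B α, W)) :
    (u j A B α).app W ((p₁ j A B α).app W h) = (ηB j B).app W ((p₂ j A B α).app W h) := by
  have := (isPullback j A B α).w
  exact congr($(congr(($this).app W)) h)

instance isQuasicoherent_H [A.IsQuasicoherent] [B.IsQuasicoherent] [QuasiCompact j] :
    (H j A B α).IsQuasicoherent := by
  haveI : (B.restrict j).IsQuasicoherent := inferInstance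
  haveI : ((Scheme.Modules.pushforward j).obj (B.restrict j)).IsQuasicoherent :=
    Groth.Agent.Lib.Helper2.KerSec.isQuasicoherent_pushforward_of_qcqs j (B.restrict j)
  exact Groth.Agent.Lib.Helper2.KerSec.isQuasicoherent_pullback _ _

/-- The inclusion of the graph closure in `A ⊞ B`. -/
noncomputable def incl : H j A B α ⟶ A ⊞ B := biprod.lift (p₁ j A B α) (p₂ j A B α)

instance mono_incl : Mono (incl j A B α) := by
  constructor
  intro T g h hgh
  apply hom_ext
  · have := congr($hgh ≫ biprod.fst)
    simpa [incl] using this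
  · have := congr($hgh ≫ biprod.snd)
    simpa [incl] using this

theorem isFiniteType_H [IsLocallyNoetherian X] [A.IsQuasicoherent] [B.IsQuasicoherent]
    (hA : SheafOfModules.IsFiniteType (R := X.ringCatSheaf) A)
    (hB : SheafOfModules.IsFiniteType (R := X.ringCatSheaf) B) :
    SheafOfModules.IsFiniteType (R := X.ringCatSheaf) (H j A B α) := by
  haveI : (A ⊞ B).IsQuasicoherent := Groth.Agent.Lib.Helper2.KerSec.isQuasicoherent_biprod A B
  exact Groth.Agent.Lib.Helper21.CohNoeth.isFiniteType_of_mono (incl j A B α)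
    (Groth.Agent.Lib.Helper21.CohBiprod.isFiniteType_biprod A B hA hB)

/-- The stalk of `H` vanishes where the stalks of `A` and `B` vanish. -/
theorem subsingleton_stalk_H (x : X) (hA : Subsingleton (A.presheaf.stalk x))
    (hB : Subsingleton (B.presheaf.stalk x)) : Subsingleton ((H j A B α).presheaf.stalk x) := by
  have hinj := stalkMap_injective_of_mono (incl j A B α) x
  suffices h : Subsingleton ((A ⊞ B : X.Modules).presheaf.stalk x) from hinj.subsingleton
  refine ⟨fun s t => ?_⟩
  suffices h0 : ∀ s : (A ⊞ B : X.Modules).presheaf.stalk x, s = 0 by rw [h0 s, h0 t]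
  intro s
  obtain ⟨W, hxW, t, rfl⟩ := (A ⊞ B : X.Modules).presheaf.exists_germ_eq (x := x) s
  rw [← Groth.Agent.Lib.Helper2.KerSec.biprod_total_apply A B W t, map_add]
  have e1 : A.presheaf.germ W x hxW ((biprod.fst : A ⊞ B ⟶ A).app W t) = 0 :=
    Subsingleton.elim _ _
  have e2 : B.presheaf.germ W x hxW ((biprod.snd : A ⊞ B ⟶ B).app W t) = 0 :=
    Subsingleton.elim _ _
  have f1 := stalkMap_germ (biprod.inl : A ⟶ A ⊞ B) x W hxW ((biprod.fst : A ⊞ B ⟶ A).app W t)
  have f2 := stalkMap_germ (biprod.inr : B ⟶ A ⊞ B) x W hxW ((biprod.snd : A ⊞ B ⟶ B).app W t)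
  rw [e1, map_zero] at f1
  rw [e2, map_zero] at f2
  rw [← f1, ← f2, add_zero]

theorem support_H_subset :
    CohB1.support (H j A B α) ⊆ CohB1.support A ∪ CohB1.support B := by
  intro x hx
  by_contra hcon
  simp only [Set.mem_union, not_or, CohB1.support, Set.mem_ofPred_eq, not_not] at hcon
  exact hx (subsingleton_stalk_H j A B α x hcon.1 hcon.2)

end Groth.Agent.Lib.Helper21.GraphClosure
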