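import Groth.Agent.Lib.Helper24.BezoutFP

/-!
# A finiteness criterion from Hartogs' property (helper21)

* `exists_fg_of_isLocalizedModule_finite`: if the localization `N_S` is finite over `R_S`, there is
  a finitely generated `L ⊆ N` with `∀ n, ∃ s ∈ S, s • n ∈ L`.
* `finite_of_hartogs`: `A` a Noetherian domain, `N` torsion-free, `f i` nonzero elements such that
  `N[1/f i] = L[1/f i]` for a finitely generated `L ⊆ N`, and such that a compatible family of
  fractions `a i / f i ^ k i` comes from `A` (Hartogs). Then `N` is finite.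
-/

set_option autoImplicit false
universe u

namespace Groth.Agent.Lib.Helper21.HartogsFinite

section Loc

variable {R : Type*} [CommRing R] (S : Submonoid R) {N N' : Type*} [AddCommGroup N] [Module R N]
  [AddCommGroup N'] [Module R N'] (g : N →ₗ[R] N') [IsLocalizedModule S g]
  (R' : Type*) [CommRing R'] [Algebra R R'] [IsLocalization S R'] [Module R' N']
  [IsScalarTower R R' N']

include R' g in
theorem exists_fg_of_isLocalizedModule_finite [Module.Finite R' N'] :
    ∃ L : Submodule R N, L.FG ∧ ∀ n : N, ∃ s : S, (s : R) • n ∈ L := by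
  classical
  obtain ⟨T, hT⟩ := (Module.finite_def (R := R') (M := N')).mp inferInstance
  choose p hp using fun t : N' => IsLocalizedModule.surj S g t
  let L : Submodule R N := Submodule.span R ((fun t => (p t).1) '' (T : Set N'))
  have hLfg : L.FG := Submodule.fg_span ((T.finite_toSet).image _)
  refine ⟨L, hLfg, ?_⟩
  have key : ∀ x : N', ∃ (s : S) (l : N), l ∈ L ∧ (s : R) • x = g l := by
    intro x
    have hx : x ∈ Submodule.span R' (T : Set N') := by rw [hT]; trivial
    induction hx using Submodule.span_induction with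
    | mem t ht =>
      refine ⟨(p t).2, (p t).1, Submodule.subset_span ⟨t, ht, rfl⟩, ?_⟩
      exact hp t
    | zero => exact ⟨1, 0, L.zero_mem, by simp⟩
    | add x y _ _ hx hy =>
      obtain ⟨s1, l1, hl1, h1⟩ := hx
      obtain ⟨s2, l2, hl2, h2⟩ := hy
      refine ⟨s1 * s2, (s2 : R) • l1 + (s1 : R) • l2,
        L.add_mem (L.smul_mem _ hl1) (L.smul_mem _ hl2), ?_⟩
      rw [Submonoid.coe_mul, smul_add, map_add, map_smul, map_smul, ← h1, ← h2, mul_smul,
        mul_comm, mul_smul, smul_comm (s1 : R) (s2 : R) x, smul_comm (s1 : R) (s2 : R) y]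
    | smul r' x _ hx =>
      obtain ⟨s, l, hl, h⟩ := hx
      obtain ⟨⟨a, s0⟩, has⟩ := IsLocalization.surj S r'
      refine ⟨s0 * s, a • l, L.smul_mem _ hl, ?_⟩
      have has' : r' * algebraMap R R' (s0 : R) = algebraMap R R' a := has
      rw [map_smul, ← h, Submonoid.coe_mul, mul_smul]
      rw [← algebraMap_smul R' (s0 : R), ← algebraMap_smul R' (s : R), ← algebraMap_smul R' a,
        ← algebraMap_smul R' (s : R), ← has']
      simp only [smul_smul]
      ring_nf
  intro n
  obtain ⟨s, l, hl, h⟩ := key (g n)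
  have h0 : g ((s : R) • n - l) = 0 := by rw [map_sub, map_smul, h, sub_self]
  obtain ⟨s', hs'⟩ := (IsLocalizedModule.eq_zero_iff S g).mp h0
  refine ⟨s' * s, ?_⟩
  have : ((s' * s : S) : R) • n = (s' : R) • l := by
    have h1 : (s' : R) • ((s : R) • n - l) = 0 := hs'
    rw [smul_sub, sub_eq_zero] at h1
    rw [Submonoid.coe_mul, mul_smul]
    exact h1
  rw [this]
  exact L.smul_mem _ hl

end Loc

section Hartogs

open Module

variable {A : Type u} [CommRing A] [IsDomain A] [IsNoetherianRing A]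
  (N : Type u) [AddCommGroup N] [Module A N] [Module.IsTorsionFree A N]
  {ι : Type*} [Nonempty ι] (f : ι → A) (hf : ∀ i, f i ≠ 0)
  (L : Submodule A N) (hL : L.FG)
  (hgen : ∀ i (n : N), ∃ k : ℕ, f i ^ k • n ∈ L)
  (hA : ∀ (a : ι → A) (k : ι → ℕ), (∀ i j, a i * f j ^ k j = a j * f i ^ k i) →
        ∃ b : A, ∀ i, a i = b * f i ^ k i)

include hf hL hgen hA in
theorem finite_of_hartogs : Module.Finite A N := by
  classical
  haveI : Module.Finite A L := Module.Finite.iff_fg.mpr hL
  obtain ⟨r, ε, hε⟩ := Groth.Agent.Lib.Helper24.RDProj.exists_injective_fin_of_torsionFree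
    (R := A) L
  have hpow : ∀ i (n : N) (k k' : ℕ), k ≤ k' → f i ^ k • n ∈ L → f i ^ k' • n ∈ L := by
    intro i n k k' hkk' h
    obtain ⟨d, rfl⟩ := Nat.exists_eq_add_of_le hkk'
    rw [pow_add, mul_comm, mul_smul]
    exact L.smul_mem _ h
  have hex : ∀ n : N, ∃ e : Fin r → A, ∀ i k (h : f i ^ k • n ∈ L),
      ε ⟨f i ^ k • n, h⟩ = f i ^ k • e := by
    intro n
    choose k hk using fun i => hgen i n
    have hc : ∀ c : Fin r, ∃ b : A, ∀ i, ε ⟨_, hk i⟩ c = b * f i ^ k i := by
      intro c
      apply hA (fun i => ε ⟨_, hk i⟩ c) k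
      intro i j
      have h1 : (f j ^ k j) • (⟨f i ^ k i • n, hk i⟩ : L) =
          (f i ^ k i) • (⟨f j ^ k j • n, hk j⟩ : L) :=
        Subtype.ext (by simp only [SetLike.mk_smul_mk]; rw [smul_comm])
      have h2 := congrArg (fun v => ε v c) h1
      simp only [map_smul, Pi.smul_apply, smul_eq_mul] at h2
      rw [mul_comm, h2, mul_comm]
    choose b hb using hc
    refine ⟨b, fun i k' h => ?_⟩
    funext c
    have h1 : (f i ^ k i) • (⟨f i ^ k' • n, h⟩ : L) =
        (f i ^ k') • (⟨f i ^ k i • n, hk i⟩ : L) :=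
      Subtype.ext (by simp only [SetLike.mk_smul_mk]; rw [smul_comm])
    have h2 := congrArg (fun v => ε v c) h1
    simp only [map_smul, Pi.smul_apply, smul_eq_mul] at h2
    rw [hb c i] at h2
    have hne : f i ^ k i ≠ 0 := pow_ne_zero _ (hf i)
    apply mul_left_cancel₀ hne
    rw [h2, Pi.smul_apply, smul_eq_mul]
    ring
  choose E hE using hex
  obtain ⟨i0⟩ := ‹Nonempty ι›
  have hcancel : ∀ (k : ℕ) (e e' : Fin r → A), f i0 ^ k • e = f i0 ^ k • e' → e = e' := by
    intro k e e' h
    funext c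
    have h1 := congrFun h c
    simp only [Pi.smul_apply, smul_eq_mul] at h1
    exact mul_left_cancel₀ (pow_ne_zero _ (hf i0)) h1
  have hadd : ∀ n n' : N, E (n + n') = E n + E n' := by
    intro n n'
    obtain ⟨k1, h1⟩ := hgen i0 n
    obtain ⟨k2, h2⟩ := hgen i0 n'
    obtain ⟨k3, h3⟩ := hgen i0 (n + n')
    have m1 := hpow i0 n k1 (k1 + k2 + k3) (by omega) h1
    have m2 := hpow i0 n' k2 (k1 + k2 + k3) (by omega) h2
    have m3 := hpow i0 (n + n') k3 (k1 + k2 + k3) (by omega) h3
    apply hcancel (k1 + k2 + k3)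
    rw [smul_add, ← hE n _ _ m1, ← hE n' _ _ m2, ← hE (n + n') _ _ m3, ← map_add]
    congr 1
    exact Subtype.ext (by simp only [Submodule.coe_add]; rw [smul_add])
  have hsmul : ∀ (a : A) (n : N), E (a • n) = a • E n := by
    intro a n
    obtain ⟨k1, h1⟩ := hgen i0 n
    obtain ⟨k3, h3⟩ := hgen i0 (a • n)
    have m1 := hpow i0 n k1 (k1 + k3) (by omega) h1
    have m3 := hpow i0 (a • n) k3 (k1 + k3) (by omega) h3
    apply hcancel (k1 + k3)
    rw [smul_comm, ← hE n _ _ m1, ← hE (a • n) _ _ m3, ← map_smul]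
    congr 1
    exact Subtype.ext (by simp only [SetLike.mk_smul_mk]; rw [smul_comm])
  let El : N →ₗ[A] (Fin r → A) :=
    { toFun := E
      map_add' := hadd
      map_smul' := fun a n => by simpa using hsmul a n }
  have hinj : Function.Injective El := by
    rw [← LinearMap.ker_eq_bot, LinearMap.ker_eq_bot']
    intro n hn
    have hn' : E n = 0 := hn
    obtain ⟨k1, h1⟩ := hgen i0 n
    have h2 := hE n i0 k1 h1
    rw [hn', smul_zero] at h2
    have h3 : (⟨f i0 ^ k1 • n, h1⟩ : L) = 0 := hε (h2.trans (map_zero ε).symm)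
    have h4 : f i0 ^ k1 • n = 0 := congrArg Subtype.val h3
    exact (smul_eq_zero_iff_right (pow_ne_zero _ (hf i0))).mp h4
  exact Module.Finite.of_injective El hinj

end Hartogs

end Groth.Agent.Lib.Helper21.HartogsFinite
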