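import Mathlib.RingTheory.Localization.AtPrime.Basic
import Mathlib.RingTheory.Localization.Ideal
import Mathlib.RingTheory.Noetherian.Basic

set_option autoImplicit false
universe u

namespace Groth.Agent.Lib.Helper21.IdealGen

/-- Uniform denominator for the `𝔭`-saturation of an ideal in a Noetherian ring. -/
theorem exists_uniform_denominator {A : Type*} [CommRing A] [IsNoetherianRing A]
    (p : Ideal A) [p.IsPrime] (I : Ideal A) :
    ∃ f : A, f ∉ p ∧ ∀ a : A, (∃ u : A, u ∉ p ∧ u * a ∈ I) → f * a ∈ I := by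
  classical
  let J : Ideal A :=
    { carrier := {a | ∃ u : A, u ∉ p ∧ u * a ∈ I}
      add_mem' := by
        rintro a b ⟨u, hu, hua⟩ ⟨v, hv, hvb⟩
        refine ⟨u * v, ?_, ?_⟩
        · intro h
          rcases Ideal.IsPrime.mem_or_mem ‹_› h with h | h
          · exact hu h
          · exact hv h
        · have h1 : u * v * (a + b) = v * (u * a) + u * (v * b) := by ring
          rw [h1]
          exact I.add_mem (I.mul_mem_left _ hua) (I.mul_mem_left _ hvb)
      zero_mem' := ⟨1, fun h => ‹p.IsPrime›.ne_top (p.eq_top_of_isUnit_mem h isUnit_one), by simp⟩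
      smul_mem' := by
        rintro c a ⟨u, hu, hua⟩
        refine ⟨u, hu, ?_⟩
        have h1 : u * (c • a) = c * (u * a) := by simp only [smul_eq_mul]; ring
        rw [h1]
        exact I.mul_mem_left _ hua }
  obtain ⟨T, hT⟩ := (isNoetherianRing_iff_ideal_fg A).mp inferInstance J
  have hmem : ∀ t ∈ T, ∃ u : A, u ∉ p ∧ u * t ∈ I := by
    intro t ht
    have : t ∈ J := hT ▸ Ideal.subset_span ht
    exact this
  choose! u hu hut using hmem
  refine ⟨∏ t ∈ T, u t, ?_, ?_⟩
  · intro h
    obtain ⟨t, ht, htp⟩ := (Ideal.IsPrime.prod_mem_iff).mp h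
    exact hu t ht htp
  · intro a ha
    have haJ : a ∈ J := ha
    rw [← hT] at haJ
    refine Submodule.span_induction (p := fun a _ => (∏ t ∈ T, u t) * a ∈ I) ?_ ?_ ?_ ?_ haJ
    · intro t ht
      rw [← Finset.prod_erase_mul T u ht, mul_assoc]
      exact I.mul_mem_left _ (hut t ht)
    · simp
    · intro x y _ _ hx hy
      rw [mul_add]
      exact I.add_mem hx hy
    · intro c x _ hx
      have h1 : (∏ t ∈ T, u t) * (c • x) = c * ((∏ t ∈ T, u t) * x) := by
        simp only [smul_eq_mul]; ring
      rw [h1]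
      exact I.mul_mem_left _ hx

end Groth.Agent.Lib.Helper21.IdealGen
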