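import Groth.Agent.Lib.Helper21.SpanGerm
import Groth.Agent.Lib.Helper21.IdealGen
import Groth.Agent.Lib.Helper21.ClImmDev
import Groth.Agent.Lib.Helper2.KerSec

set_option autoImplicit false
set_option linter.style.haveILetI false
universe u
open AlgebraicGeometry CategoryTheory Opposite TopologicalSpace Limits

namespace Groth.Agent.Lib.Helper21.IdealSubsheaf

open Groth.Agent.Lib.Lead.QCohAff Groth.Agent.Lib.Helper21.SpanGerm
  Groth.Agent.Lib.Helper21.IdealGen Groth.Agent.Lib.Helper21.ClImmDev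
  Groth.Agent.Lib.Helper78.ModStalk Scheme.Modules

variable {X : Scheme.{u}} [IsLocallyNoetherian X] (G : X.Modules)
  (ι : G ⟶ Coh.structureModule X) [Mono ι]

include ι in
theorem exists_basicOpen_generating {U : X.Opens} (hU : IsAffineOpen U) (ξ : X) (hξ : ξ ∈ U)
    {k : ℕ} (s : Fin k → Γ(G, U))
    (hgen : Submodule.span (X.presheaf.stalk ξ)
      (Set.range fun j => G.presheaf.germ U ξ hξ (s j)) = ⊤) :
    ∃ f : Γ(X, U), ξ ∈ X.basicOpen f ∧ ∀ (y : X) (hy : y ∈ X.basicOpen f), ξ ⤳ y →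
      Submodule.span (X.presheaf.stalk y)
        (Set.range fun j => G.presheaf.germ U y (X.basicOpen_le f hy) (s j)) = ⊤ := by
  haveI := isQuasicoherent_structureModule X
  haveI : IsNoetherianRing Γ(X, U) := IsLocallyNoetherian.component_noetherian ⟨U, hU⟩
  let O := Coh.structureModule X
  let a : Fin k → Γ(X, U) := fun j => ι.app U (s j)
  let I : Ideal Γ(X, U) := Ideal.span (Set.range a)
  obtain ⟨f, hfp, hf⟩ := exists_uniform_denominator (hU.primeIdealOf ⟨ξ, hξ⟩).asIdeal I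
  have hξf : ξ ∈ X.basicOpen f := (mem_basicOpen_iff_notMem_primeIdealOf hU ξ hξ f).2 hfp
  refine ⟨f, hξf, fun y hy hsp => ?_⟩
  have hyU : y ∈ U := X.basicOpen_le f hy
  rw [eq_top_iff]
  rintro g -
  obtain ⟨W, hyW, g', rfl⟩ := G.presheaf.exists_germ_eq (x := y) g
  obtain ⟨h, hhW, hyh⟩ := hU.exists_basicOpen_le (V := W ⊓ X.basicOpen f) ⟨y, ⟨hyW, hy⟩⟩ hyU
  have hDU : X.basicOpen h ≤ U := X.basicOpen_le h
  have hDW : X.basicOpen h ≤ W := hhW.trans inf_le_left
  have hDf : X.basicOpen h ≤ X.basicOpen f := hhW.trans inf_le_right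
  let g'' : Γ(G, X.basicOpen h) := G.presheaf.map (homOfLE hDW).op g'
  let b : Γ(O, X.basicOpen h) := ι.app _ g''
  obtain ⟨n, a₀, ha₀⟩ := exists_res_eq_pow_smul O hU h b
  let hr : Γ(X, X.basicOpen h) := X.presheaf.map (homOfLE hDU).op h
  let t : Γ(G, X.basicOpen h) := hr ^ n • g''
  have hιt : ι.app _ t = O.presheaf.map (homOfLE hDU).op a₀ := by
    rw [Hom.app_smul]
    exact ha₀.symm
  have hξh : ξ ∈ X.basicOpen h := hsp.mem_open (X.basicOpen h).2 hyh
  -- the germ of `a₀` at `ξ` lies in the span of the germs of the `a j`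
  have h1 : O.presheaf.germ U ξ hξ a₀ ∈ Submodule.span (X.presheaf.stalk ξ)
      (Set.range fun j => O.presheaf.germ U ξ hξ (a j)) := by
    have h2 : G.presheaf.germ _ ξ hξh t ∈ Submodule.span (X.presheaf.stalk ξ)
        (Set.range fun j => G.presheaf.germ U ξ hξ (s j)) := by
      rw [hgen]
      trivial
    have h3 := Submodule.apply_mem_span_image_of_mem_span (stalkMap ι ξ) h2
    have e1 : stalkMap ι ξ (G.presheaf.germ _ ξ hξh t) = O.presheaf.germ U ξ hξ a₀ := by
      rw [stalkMap_germ, hιt]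
      exact TopCat.Presheaf.germ_res_apply O.presheaf (homOfLE hDU) ξ hξh a₀
    have e2 : (stalkMap ι ξ) '' (Set.range fun j => G.presheaf.germ U ξ hξ (s j)) =
        Set.range fun j => O.presheaf.germ U ξ hξ (a j) := by
      rw [← Set.range_comp]
      congr 1
      funext j
      exact stalkMap_germ ι ξ U hξ (s j)
    rw [e1, e2] at h3
    exact h3
  obtain ⟨u, hu, hua⟩ := exists_smul_mem_span O hU ξ hξ a a₀ h1
  let a₁ : Γ(X, U) := a₀
  have hfa : f * a₁ ∈ I :=
    hf a₁ ⟨u, (mem_basicOpen_iff_notMem_primeIdealOf hU ξ hξ u).1 hu, hua⟩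
  obtain ⟨d, hd⟩ := Ideal.mem_span_range_iff_exists_fun.mp hfa
  let res : Γ(X, U) →+* Γ(X, X.basicOpen h) := (X.presheaf.map (homOfLE hDU).op).hom
  have key : res f • t = ∑ j, res (d j) • G.presheaf.map (homOfLE hDU).op (s j) := by
    apply app_injective_of_mono ι (X.basicOpen h)
    rw [Hom.app_smul, hιt, map_sum]
    have e3 : ∀ j, ι.app (X.basicOpen h) (res (d j) • G.presheaf.map (homOfLE hDU).op (s j)) =
        (res (d j) * res (a j) : Γ(X, X.basicOpen h)) := by
      intro j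
      rw [Hom.app_smul, Groth.Agent.Lib.Helper2.KerSec.naturality_apply]
      rfl
    rw [Finset.sum_congr rfl (fun j _ => e3 j)]
    change (res f * res a₁ : Γ(X, X.basicOpen h)) = _
    rw [← map_mul, ← hd, map_sum]
    simp_rw [map_mul]
    rfl
  have e4 := congrArg (G.presheaf.germ (X.basicOpen h) y hyh) key
  rw [Groth.Agent.Lib.Lead.QCohAff.germ_smul, map_sum] at e4
  have hunit_f : IsUnit (X.presheaf.germ (X.basicOpen h) y hyh (res f)) := by
    have := germX_res hDU y hyh f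
    rw [show X.presheaf.germ (X.basicOpen h) y hyh (res f) = X.presheaf.germ U y hyU f from this]
    exact isUnit_germ_of_mem_basicOpen f y hyU hy
  have hunit_h : IsUnit (X.presheaf.germ (X.basicOpen h) y hyh hr) := by
    have := germX_res hDU y hyh h
    rw [show X.presheaf.germ (X.basicOpen h) y hyh hr = X.presheaf.germ U y hyU h from this]
    exact isUnit_germ_of_mem_basicOpen h y hyU hyh
  have ht : G.presheaf.germ (X.basicOpen h) y hyh t ∈ Submodule.span (X.presheaf.stalk y)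
      (Set.range fun j => G.presheaf.germ U y (X.basicOpen_le f hy) (s j)) := by
    rw [← Submodule.smul_mem_iff_of_isUnit _ hunit_f, e4]
    refine Submodule.sum_mem _ (fun j _ => ?_)
    rw [Groth.Agent.Lib.Lead.QCohAff.germ_smul]
    refine Submodule.smul_mem _ _ (Submodule.subset_span ⟨j, ?_⟩)
    exact (TopCat.Presheaf.germ_res_apply G.presheaf (homOfLE hDU) y hyh (s j)).symm
  have e5 : G.presheaf.germ (X.basicOpen h) y hyh t =
      (X.presheaf.germ (X.basicOpen h) y hyh hr) ^ n • G.presheaf.germ W y hyW g' := by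
    change G.presheaf.germ (X.basicOpen h) y hyh (hr ^ n • g'') = _
    rw [Groth.Agent.Lib.Lead.QCohAff.germ_smul, map_pow]
    congr 1
    exact TopCat.Presheaf.germ_res_apply G.presheaf (homOfLE hDW) y hyh g'
  rw [e5, Submodule.smul_mem_iff_of_isUnit _ (hunit_h.pow n)] at ht
  exact ht

omit [IsLocallyNoetherian X] in
/-- In a Noetherian sober space, a nonempty closed set has a point `ξ` with an open neighbourhood
all of whose points in the closed set are specializations of `ξ`. -/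
theorem exists_generic_nhd {T : Type*} [TopologicalSpace T] [NoetherianSpace T] [QuasiSober T]
    (Z : Set T) (hZ : IsClosed Z) (hne : Z.Nonempty) :
    ∃ ξ ∈ Z, ∃ V₀ : Set T, IsOpen V₀ ∧ ξ ∈ V₀ ∧ ∀ y ∈ V₀ ∩ Z, ξ ⤳ y := by
  obtain ⟨S, hSfin, hScl, hSirr, hZS⟩ :=
    NoetherianSpace.exists_finite_set_isClosed_irreducible hZ
  have hSne : S.Nonempty := by
    by_contra h
    rw [Set.not_nonempty_iff_eq_empty] at h
    rw [hZS, h, Set.sUnion_empty] at hne
    exact Set.not_nonempty_empty hne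
  obtain ⟨Z₁, hZ₁⟩ := hSfin.exists_maximal hSne
  have hZ₁S : Z₁ ∈ S := hZ₁.prop
  have hgen := (hSirr Z₁ hZ₁S).isGenericPoint_genericPoint_closure
  rw [(hScl Z₁ hZ₁S).closure_eq] at hgen
  set ξ := (hSirr Z₁ hZ₁S).genericPoint with hξdef
  have hξZ₁ : ξ ∈ Z₁ := hgen.mem
  have hcl : IsClosed (⋃₀ (S \ {Z₁})) := by
    rw [Set.sUnion_eq_biUnion]
    exact (hSfin.subset Set.sdiff_subset).isClosed_biUnion (fun t ht => hScl t ht.1)
  refine ⟨ξ, hZS ▸ Set.mem_sUnion.mpr ⟨Z₁, hZ₁S, hξZ₁⟩, (⋃₀ (S \ {Z₁}))ᶜ, hcl.isOpen_compl, ?_, ?_⟩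
  · rintro ⟨t, ⟨htS, htne⟩, hξt⟩
    apply htne
    have h1 : Z₁ ⊆ t := by
      rw [← hgen.def]
      exact (hScl t htS).closure_subset_iff.mpr (Set.singleton_subset_iff.mpr hξt)
    exact Set.mem_singleton_iff.mpr (le_antisymm (hZ₁.le_of_ge htS h1) h1)
  · rintro y ⟨hyV, hyZ⟩
    rw [hZS] at hyZ
    obtain ⟨t, htS, hyt⟩ := hyZ
    have htZ₁ : t = Z₁ := by
      by_contra hne'
      exact hyV ⟨t, ⟨htS, hne'⟩, hyt⟩
    rw [specializes_iff_mem_closure, hgen.def]
    exact htZ₁ ▸ hyt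

include ι in
/-- Finitely many sections over a small affine neighbourhood generating the stalk at `ξ`. -/
theorem exists_affine_generators (ξ : X) (V₀ : X.Opens) (hξV : ξ ∈ V₀) :
    ∃ (U : X.Opens) (_ : IsAffineOpen U) (hξ : ξ ∈ U) (_ : U ≤ V₀) (k : ℕ) (s : Fin k → Γ(G, U)),
      Submodule.span (X.presheaf.stalk ξ)
        (Set.range fun j => G.presheaf.germ U ξ hξ (s j)) = ⊤ := by
  haveI := isQuasicoherent_structureModule X
  haveI : Module.Finite (X.presheaf.stalk ξ) ((Coh.structureModule X).presheaf.stalk ξ) :=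
    Groth.Agent.Lib.Helper64.FinTypeStalk.finite_stalk _ (isCoh_structureModule X).2 ξ
  haveI : IsNoetherian (X.presheaf.stalk ξ) ((Coh.structureModule X).presheaf.stalk ξ) :=
    isNoetherian_of_isNoetherianRing_of_finite _ _
  haveI : Module.Finite (X.presheaf.stalk ξ) (G.presheaf.stalk ξ) :=
    Module.Finite.of_injective (stalkMap ι ξ) (stalkMap_injective_of_mono ι ξ)
  obtain ⟨k, g, hg⟩ := Module.Finite.exists_fin (R := X.presheaf.stalk ξ) (M := G.presheaf.stalk ξ)
  have hrep : ∀ j, ∃ (W : X.Opens) (hξW : ξ ∈ W) (s' : Γ(G, W)), G.presheaf.germ W ξ hξW s' = g j :=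
    fun j => G.presheaf.exists_germ_eq (x := ξ) (g j)
  choose W hξW s' hs' using hrep
  let W₀ : X.Opens := ⟨(V₀ : Set X) ∩ ⋂ j, (W j : Set X),
    V₀.2.inter (isOpen_iInter_of_finite fun j => (W j).2)⟩
  have hξW₀ : ξ ∈ W₀ := ⟨hξV, Set.mem_iInter.mpr hξW⟩
  obtain ⟨_, ⟨U, hU : IsAffineOpen U, rfl⟩, hξU, hUW₀⟩ :=
    X.isBasis_affineOpens.exists_subset_of_mem_open hξW₀ W₀.2
  have hUV : U ≤ V₀ := fun x hx => (hUW₀ hx).1
  have hUW : ∀ j, U ≤ W j := fun j x hx => Set.mem_iInter.mp (hUW₀ hx).2 j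
  refine ⟨U, hU, hξU, hUV, k, fun j => G.presheaf.map (homOfLE (hUW j)).op (s' j), ?_⟩
  rw [← hg]
  congr 2
  funext j
  rw [← hs' j]
  exact TopCat.Presheaf.germ_res_apply G.presheaf (homOfLE (hUW j)) ξ hξU (s' j)

/-- The submodule of the stalk at `x` generated by the germs of the sections in the list. -/
noncomputable def gen (T : List (Σ U : X.Opens, Γ(G, U))) (x : X) :
    Submodule (X.presheaf.stalk x) (G.presheaf.stalk x) :=
  Submodule.span _ {g | ∃ p ∈ T, ∃ hx : x ∈ p.1, G.presheaf.germ p.1 x hx p.2 = g}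

omit [IsLocallyNoetherian X] in
theorem gen_mono {T T' : List (Σ U : X.Opens, Γ(G, U))} (h : T ⊆ T') (x : X) :
    gen G T x ≤ gen G T' x :=
  Submodule.span_mono (fun _ ⟨p, hp, hx, e⟩ => ⟨p, h hp, hx, e⟩)

omit [IsLocallyNoetherian X] in
include ι in
theorem exists_list [IsNoetherian X] :
    ∃ T : List (Σ U : X.Opens, Γ(G, U)), ∀ x, gen G T x = ⊤ := by
  suffices key : ∀ Z : Closeds X, ∀ T : List (Σ U : X.Opens, Γ(G, U)),
      (∀ x, x ∉ Z → gen G T x = ⊤) → ∃ T' : List (Σ U : X.Opens, Γ(G, U)), ∀ x, gen G T' x = ⊤ from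
    key ⊤ [] (fun x hx => (hx trivial).elim)
  intro Z
  induction Z using WellFoundedLT.induction with
  | ind Z IH =>
    intro T hT
    by_cases hZ : (Z : Set X) = ∅
    · refine ⟨T, fun x => hT x (fun hx => ?_)⟩
      have : x ∈ (Z : Set X) := hx
      rw [hZ] at this
      exact this
    · obtain ⟨ξ, hξZ, V₀, hV₀, hξV₀, hspec⟩ := exists_generic_nhd (Z : Set X) Z.isClosed
        (Set.nonempty_iff_ne_empty.mpr hZ)
      obtain ⟨U, hU, hξU, hUV, k, s, hgen⟩ := exists_affine_generators G ι ξ ⟨V₀, hV₀⟩ hξV₀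
      obtain ⟨f, hξf, hf⟩ := exists_basicOpen_generating G ι hU ξ hξU s hgen
      let Z' : Closeds X := ⟨(Z : Set X) ∩ (X.basicOpen f : Set X)ᶜ,
        Z.isClosed.inter (X.basicOpen f).2.isClosed_compl⟩
      have hlt : Z' < Z := by
        refine lt_of_le_of_ne (fun x hx => hx.1) (fun h => ?_)
        have : ξ ∈ Z' := h ▸ hξZ
        exact this.2 hξf
      refine IH Z' hlt (T ++ List.ofFn fun j => (⟨U, s j⟩ : Σ U : X.Opens, Γ(G, U)))
        (fun x hx => ?_)
      by_cases hxZ : x ∈ Z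
      · have hxf : x ∈ X.basicOpen f := by
          by_contra h
          exact hx ⟨hxZ, h⟩
        have hsp : ξ ⤳ x := hspec x ⟨hUV (X.basicOpen_le f hxf), hxZ⟩
        rw [eq_top_iff, ← hf x hxf hsp]
        refine Submodule.span_mono ?_
        rintro _ ⟨j, rfl⟩
        exact ⟨⟨U, s j⟩, List.mem_append_right _ ((List.mem_ofFn' _ _).mpr ⟨j, rfl⟩),
          X.basicOpen_le f hxf, rfl⟩
      · rw [eq_top_iff, ← hT x hxZ]
        exact gen_mono G (List.subset_append_left _ _) x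

omit [IsLocallyNoetherian X] in
include ι in
/-- **Finite generation of ideal subsheaves** on a Noetherian scheme. -/
theorem exists_finite_family [IsNoetherian X] :
    ∃ (m : ℕ) (U : Fin m → X.Opens) (k : Fin m → ℕ)
      (s : (i : Fin m) → Fin (k i) → (G.presheaf.obj (Opposite.op (U i)) : Type u)),
      ∀ x : X, Submodule.span (X.presheaf.stalk x)
          (Set.range (fun p : (Σ i : {i : Fin m // x ∈ U i}, Fin (k i.1)) =>
            (G.presheaf.germ (U p.1.1) x p.1.2) (s p.1.1 p.2))) = ⊤ := by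
  obtain ⟨T, hT⟩ := exists_list G ι
  refine ⟨T.length, fun i => (T.get i).1, fun _ => 1, fun i _ => (T.get i).2, fun x => ?_⟩
  rw [eq_top_iff, ← hT x]
  refine Submodule.span_mono ?_
  rintro g ⟨p, hp, hx, rfl⟩
  obtain ⟨i, rfl⟩ := List.get_of_mem hp
  exact ⟨⟨⟨i, hx⟩, 0⟩, rfl⟩

end Groth.Agent.Lib.Helper21.IdealSubsheaf
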