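import Groth.Agent.Lib.Helper21.RestrictIso
import Groth.Agent.Lib.Helper21.ClImmDev
import Groth.Agent.Lib.Helper35.GlobGen

/-!
# Injective quasi-coherent modules on a Noetherian scheme are flasque (helper21)

Deligne's formula (`HomExtend.exists_pow_hom_extension`) extends a section over `U`, seen as a map
`O_U ⟶ J|_U`, to `I^n ⟶ J`; injectivity in `QCoh` extends this to `O_X ⟶ J`.
-/

set_option autoImplicit false
set_option linter.style.haveILetI false
universe u
open AlgebraicGeometry CategoryTheory Opposite TopologicalSpace Limits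

namespace Groth.Agent.Lib.Helper21.InjFlasque

open Groth.Agent.Lib.Helper35.GlobGen

variable {X : Scheme.{u}}

theorem surjective_res_top [IsNoetherian X]
    (J : ObjectProperty.FullSubcategory (fun M : X.Modules => Coh.IsQCoh M)) (hJ : Injective J)
    (U : X.Opens) :
    Function.Surjective (J.obj.presheaf.map (homOfLE (le_top : U ≤ ⊤)).op).hom := by
  intro s
  haveI : J.obj.IsQuasicoherent := J.property
  let r := Scheme.Modules.restrictFunctor U.ι
  let JU : (U : Scheme.{u}).Modules := r.obj J.obj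
  have hUtop : U.ι ''ᵁ ⊤ = U := Scheme.Opens.ι_image_top U
  let s' : Γ(JU, ⊤) := (J.obj.presheaf.map (eqToHom hUtop).op).hom s
  let φ : r.obj (Coh.structureModule X) ⟶ JU :=
    (Scheme.Modules.restrictUnitIso U.ι).hom ≫ secHom JU s'
  let Z : Closeds X := ⟨(U : Set X)ᶜ, U.isOpen.isClosed_compl⟩
  let I := Scheme.IdealSheafData.vanishingIdeal Z
  have hsupp : (I.support : Set X) = (U : Set X)ᶜ :=
    Scheme.IdealSheafData.coe_support_vanishingIdeal Z
  have hO := Groth.Agent.Lib.Helper21.ClImmDev.isCoh_structureModule X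
  obtain ⟨m, ψ, hψ⟩ := Groth.Agent.Lib.Helper21.HomExtend.exists_pow_hom_extension J.obj
    (Coh.structureModule X) hO I U (by rw [hsupp, compl_compl]) φ
  have hiso : IsIso (r.map (Dual3.idealMulι (I ^ m) (Coh.structureModule X))) :=
    Groth.Agent.Lib.Helper21.RestrictIso.isIso_restrict_idealMulι (I ^ m) _ U (fun x hx =>
      Groth.Agent.Lib.Helper21.HomExtend.notMem_support_pow I m x
        (by rw [hsupp]; exact fun h => h hx))
  have hA : Coh.IsQCoh ((Dual3.idealMul (I ^ m)).obj (Coh.structureModule X)) :=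
    (Groth.Agent.Lib.Helper21.SerreCoh.isCoh_idealMul _ hO).1
  let A : ObjectProperty.FullSubcategory (fun M : X.Modules => Coh.IsQCoh M) := ⟨_, hA⟩
  let B : ObjectProperty.FullSubcategory (fun M : X.Modules => Coh.IsQCoh M) := ⟨_, hO.1⟩
  let i : A ⟶ B := ObjectProperty.homMk (Dual3.idealMulι (I ^ m) (Coh.structureModule X))
  haveI : Mono i := by
    refine (ObjectProperty.ι _).mono_of_mono_map ?_
    exact inferInstanceAs (Mono (Dual3.idealMulι (I ^ m) (Coh.structureModule X)))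
  let g : A ⟶ J := ObjectProperty.homMk ψ
  let t : B ⟶ J := Injective.factorThru g i
  have ht : i ≫ t = g := Injective.comp_factorThru g i
  have ht' : Dual3.idealMulι (I ^ m) (Coh.structureModule X) ≫ t.hom = ψ :=
    congrArg InducedCategory.Hom.hom ht
  have hrt : r.map t.hom = φ := by
    rw [← cancel_epi (r.map (Dual3.idealMulι (I ^ m) (Coh.structureModule X))),
      ← Functor.map_comp, ht', hψ]
  refine ⟨(t.hom.app ⊤).hom (1 : Γ(X, ⊤)), ?_⟩
  have h1 : (t.hom.app (U.ι ''ᵁ ⊤)).hom (1 : Γ(X, U.ι ''ᵁ ⊤)) = s' := by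
    have h := congrArg (fun f : r.obj (Coh.structureModule X) ⟶ JU =>
      (f.app ⊤).hom (1 : Γ(X, U.ι ''ᵁ ⊤))) hrt
    refine Eq.trans h ?_
    change ((secHom JU s').app ⊤).hom
      (((Scheme.Modules.restrictUnitIso U.ι).hom.app ⊤).hom (1 : Γ(X, U.ι ''ᵁ ⊤))) = s'
    have h2 : ((Scheme.Modules.restrictUnitIso U.ι).hom.app ⊤).hom (1 : Γ(X, U.ι ''ᵁ ⊤)) =
        (1 : Γ((U : Scheme.{u}), ⊤)) := map_one (U.ι.appIso ⊤).hom.hom
    rw [h2, secHom_app_one]
    have : (homOfLE (le_top : (⊤ : (U : Scheme.{u}).Opens) ≤ ⊤)).op = 𝟙 (op ⊤) := rfl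
    rw [this, JU.presheaf.map_id]
    rfl
  have h3 : (t.hom.app (U.ι ''ᵁ ⊤)).hom (1 : Γ(X, U.ι ''ᵁ ⊤)) =
      (J.obj.presheaf.map (homOfLE (le_top : U.ι ''ᵁ ⊤ ≤ ⊤)).op).hom
        ((t.hom.app ⊤).hom (1 : Γ(X, ⊤))) := by
    have hn : (t.hom.app (U.ι ''ᵁ ⊤)).hom
        (((Coh.structureModule X).presheaf.map (homOfLE (le_top : U.ι ''ᵁ ⊤ ≤ ⊤)).op).hom
          (1 : Γ(X, ⊤))) = _ :=
      congr($(t.hom.mapPresheaf.naturality (homOfLE (le_top : U.ι ''ᵁ ⊤ ≤ ⊤)).op) (1 : Γ(X, ⊤)))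
    refine Eq.trans ?_ hn
    congr 1
    exact (map_one (X.presheaf.map (homOfLE (le_top : U.ι ''ᵁ ⊤ ≤ ⊤)).op).hom).symm
  have h4 : s = (J.obj.presheaf.map (eqToHom hUtop.symm).op).hom s' := by
    change s = (J.obj.presheaf.map (eqToHom hUtop.symm).op).hom
      ((J.obj.presheaf.map (eqToHom hUtop).op).hom s)
    rw [← AddCommGrpCat.comp_apply, ← J.obj.presheaf.map_comp]
    have : (eqToHom hUtop).op ≫ (eqToHom hUtop.symm).op = 𝟙 (op U) := rfl
    rw [this, J.obj.presheaf.map_id]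
    rfl
  rw [h4, ← h1, h3]
  generalize (t.hom.app ⊤).hom (1 : Γ(X, ⊤)) = T
  rw [← AddCommGrpCat.comp_apply, ← J.obj.presheaf.map_comp]
  rfl

end Groth.Agent.Lib.Helper21.InjFlasque
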