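import Groth.Agent.Lib.Helper26.ExtZeroSch
import Groth.Agent.Lib.Helper78.ModStalk
import Groth.Agent.Lib.Lead.QCohAff
import Groth.Agent.S9498
import Mathlib.Algebra.Module.Injective
import Mathlib.Algebra.Category.ModuleCat.Injective

/-!
# Injective `O_X`-modules: restriction to open immersions, sections over affines, stalks (helper21)

* `injective_restrict`: the restriction of an injective `O_X`-module along any open immersion is
  injective.
* `exists_smul_eq_of_injective`: Baer-type extension in an injective module.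
* `exists_section_smul_eq`: sections of an injective `O_X`-module over an affine open form an
  injective module (in Baer form).
* `injective_stalk`: on a locally Noetherian scheme the stalks of an injective `O_X`-module are
  injective modules over the local rings.
-/

set_option autoImplicit false
set_option linter.style.haveILetI false
universe u
open AlgebraicGeometry CategoryTheory Opposite TopologicalSpace Limits

namespace Groth.Agent.Lib.Helper21.InjStalk

open Scheme.Modules

variable {X Y : Scheme.{u}}

/-- restriction along an isomorphism of schemes is an equivalence of categories -/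
noncomputable def restrictEquivalence (e : X ≅ Y) : Y.Modules ≌ X.Modules :=
  CategoryTheory.Equivalence.mk (restrictFunctor e.hom) (restrictFunctor e.inv)
    (restrictFunctorId.symm ≪≫ restrictFunctorCongr (e.inv_hom_id).symm ≪≫
      restrictFunctorComp e.inv e.hom)
    ((restrictFunctorComp e.hom e.inv).symm ≪≫ restrictFunctorCongr e.hom_inv_id ≪≫
      restrictFunctorId)

theorem injective_restrict_of_isIso (f : X ⟶ Y) [IsIso f] (M : Y.Modules) [Injective M] :
    Injective ((restrictFunctor f).obj M) :=
  ((restrictEquivalence (asIso f)).map_injective_iff M).mpr inferInstance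

/-- The restriction of an injective module along an open immersion is injective. -/
theorem injective_restrict (j : Y ⟶ X) [IsOpenImmersion j] (M : X.Modules) [Injective M] :
    Injective ((restrictFunctor j).obj M) := by
  haveI h1 : Injective ((restrictFunctor j.opensRange.ι).obj M) :=
    Groth.Agent.Lib.Helper26.ExtZeroSch.injective_restrict j.opensRange M
  have h2 := injective_restrict_of_isIso j.isoOpensRange.hom
    ((restrictFunctor j.opensRange.ι).obj M)
  have e : restrictFunctor j ≅
      restrictFunctor j.opensRange.ι ⋙ restrictFunctor j.isoOpensRange.hom :=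
    restrictFunctorCongr (j.isoOpensRange_hom_ι).symm ≪≫ restrictFunctorComp _ _
  exact Injective.of_iso (e.app M).symm h2

/-- Baer-type extension: in an injective module, a family `s` whose relations contain those of a
family `a` of ring elements is of the form `s i = a i • t`. -/
theorem exists_smul_eq_of_injective {A : Type u} [CommRing A] {Q : Type u} [AddCommGroup Q]
    [Module A Q] [Module.Injective A Q] {n : ℕ} (a : Fin n → A) (s : Fin n → Q)
    (h : ∀ c : Fin n → A, ∑ i, c i * a i = 0 → ∑ i, c i • s i = 0) :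
    ∃ t : Q, ∀ i, s i = a i • t := by
  classical
  let α : (Fin n → A) →ₗ[A] A := Fintype.linearCombination A a
  let σ : (Fin n → A) →ₗ[A] Q := Fintype.linearCombination A s
  let f : ((Fin n → A) ⧸ LinearMap.ker α) →ₗ[A] A := (LinearMap.ker α).liftQ α le_rfl
  have finj : Function.Injective f := by
    rw [← LinearMap.ker_eq_bot]
    exact Submodule.ker_liftQ_eq_bot _ _ _ le_rfl
  have hσ : LinearMap.ker α ≤ LinearMap.ker σ := by
    intro c hc
    rw [LinearMap.mem_ker] at hc ⊢
    simp only [α, σ, Fintype.linearCombination_apply, smul_eq_mul] at hc ⊢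
    exact h c hc
  let g : ((Fin n → A) ⧸ LinearMap.ker α) →ₗ[A] Q := (LinearMap.ker α).liftQ σ hσ
  obtain ⟨e, he⟩ := Module.Injective.out f finj g
  refine ⟨e 1, fun i => ?_⟩
  have h1 := he (Submodule.Quotient.mk (Pi.single i 1))
  simp only [f, g, Submodule.liftQ_apply, α, σ, Fintype.linearCombination_apply_single,
    one_smul] at h1
  have h2 : e (a i) = e (a i • (1 : A)) := by rw [smul_eq_mul, mul_one]
  rw [← h1, h2, LinearMap.map_smul]

/-- Relations over a localization `A_f` come from relations over `A`. -/
theorem sum_smul_eq_zero_of_away {A B : Type u} [CommRing A] [CommRing B] [Algebra A B] (f : A)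
    [IsLocalization.Away f B] {Q : Type u} [AddCommGroup Q] [Module B Q] {n : ℕ}
    (a : Fin n → A) (s : Fin n → Q)
    (h : ∀ k : Fin n → A, ∑ i, k i * a i = 0 → ∑ i, algebraMap A B (k i) • s i = 0)
    (c : Fin n → B) (hc : ∑ i, c i * algebraMap A B (a i) = 0) : ∑ i, c i • s i = 0 := by
  obtain ⟨b, hb⟩ := IsLocalization.exist_integer_multiples (Submonoid.powers f) Finset.univ c
  choose c' hc' using fun i => hb i (Finset.mem_univ i)
  have h1 : algebraMap A B (∑ i, c' i * a i) = 0 := by
    rw [map_sum]
    simp only [map_mul, hc', Algebra.smul_def, mul_assoc]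
    rw [← Finset.mul_sum, hc, mul_zero]
  obtain ⟨m, hm⟩ := (IsLocalization.map_eq_zero_iff (Submonoid.powers f) B _).mp h1
  have h2 := h (fun i => m * c' i) (by
    simp only [mul_assoc]
    rw [← Finset.mul_sum, hm])
  have hu : IsUnit (algebraMap A B m * algebraMap A B b) :=
    (IsLocalization.map_units B m).mul (IsLocalization.map_units B b)
  have h3 : (algebraMap A B m * algebraMap A B b) • ∑ i, c i • s i = 0 := by
    rw [Finset.smul_sum, ← h2]
    refine Finset.sum_congr rfl fun i _ => ?_
    rw [map_mul, hc', Algebra.smul_def, smul_smul, mul_assoc]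
  have := congrArg (fun z => (hu.unit⁻¹ : Bˣ) • z) h3
  simpa [Units.smul_def, smul_smul] using this

set_option backward.isDefEq.respectTransparency.types false in
/-- Sections of an injective `O_X`-module over an affine open form an injective module (Baer
form, chart version). -/
theorem exists_section_smul_eq {R : CommRingCat.{u}} (j : Spec R ⟶ X) [IsOpenImmersion j]
    (J : X.Modules) [Injective J] (V : X.Opens) (hV : j ''ᵁ ⊤ = V) {n : ℕ}
    (a : Fin n → Γ(X, V)) (s : Fin n → Γ(J, V))
    (h : ∀ c : Fin n → Γ(X, V), ∑ i, c i * a i = 0 → ∑ i, c i • s i = 0) :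
    ∃ t : Γ(J, V), ∀ i, s i = a i • t := by
  subst hV
  let M : (Spec R).Modules := (restrictFunctor j).obj J
  haveI hM : Injective M := injective_restrict j J
  haveI := (Groth.Agent.S9498.key R).1
  have hQ : Injective (moduleSpecΓFunctor.obj M) :=
    Injective.injective_of_adjoint tilde.adjunction M
  haveI hQ' : Module.Injective R (moduleSpecΓFunctor.obj M) :=
    Module.injective_module_of_injective_object R _
  let θ : R →+* Γ(X, j ''ᵁ ⊤) := ((Scheme.ΓSpecIso R).inv ≫ (j.appIso ⊤).inv).hom
  let θi : Γ(X, j ''ᵁ ⊤) →+* R := ((j.appIso ⊤).hom ≫ (Scheme.ΓSpecIso R).hom).hom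
  have hθ : ∀ r, θ (θi r) = r := fun r => by
    simp [θ, θi]
  have hsmul : ∀ (r : R) (q : Γ(J, j ''ᵁ ⊤)),
      (r • (show (moduleSpecΓFunctor.obj M : Type u) from q) : (moduleSpecΓFunctor.obj M : Type u)) =
        (θ r • q : Γ(J, j ''ᵁ ⊤)) := fun _ _ => rfl
  obtain ⟨t, ht⟩ := exists_smul_eq_of_injective (A := R) (Q := (moduleSpecΓFunctor.obj M : Type u))
    (fun i => θi (a i)) s (by
      intro c hc
      have h1 := h (fun i => θ (c i)) (by
        have := congrArg θ hc
        rw [map_sum, map_zero] at this
        simpa [map_mul, hθ] using this)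
      exact h1)
  exact ⟨t, fun i => by
    have := ht i
    rw [hsmul, hθ] at this
    exact this⟩

open Groth.Agent.Lib.Helper78.ModStalk Groth.Agent.Lib.Lead.QCohAff

/-- common affine representatives of finitely many germs -/
theorem exists_common_affine (J : X.Modules) (x : X) {n : ℕ} (r : Fin n → X.presheaf.stalk x)
    (m : Fin n → J.presheaf.stalk x) :
    ∃ (U : X.Opens) (_ : IsAffineOpen U) (hxU : x ∈ U) (a : Fin n → Γ(X, U))
      (s : Fin n → Γ(J, U)),
      (∀ i, X.presheaf.germ U x hxU (a i) = r i) ∧
        (∀ i, J.presheaf.germ U x hxU (s i) = m i) := by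
  choose W hxW a s ha hs using fun i => exists_germ_eq₂ J x (r i) (m i)
  have hx0 : x ∈ ((⨅ i, W i : X.Opens) : Set X) := by
    rw [Opens.coe_iInf]
    exact Set.mem_iInter.mpr hxW
  obtain ⟨_, ⟨U, hU, rfl⟩, hxU, hUW⟩ :=
    X.isBasis_affineOpens.exists_subset_of_mem_open hx0 (⨅ i, W i : X.Opens).2
  have hle : ∀ i, U ≤ W i := fun i => le_trans hUW (iInf_le W i)
  refine ⟨U, hU, hxU, fun i => X.presheaf.map (homOfLE (hle i)).op (a i),
    fun i => J.presheaf.map (homOfLE (hle i)).op (s i), fun i => ?_, fun i => ?_⟩
  · rw [← ha i]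
    exact TopCat.Presheaf.germ_res_apply _ _ _ _ _
  · rw [← hs i]
    exact TopCat.Presheaf.germ_res_apply _ _ _ _ _

/-- a section with zero germ vanishes on a neighbourhood -/
theorem exists_res_eq_zero (J : X.Modules) (x : X) {U : X.Opens} (hxU : x ∈ U) (w : Γ(J, U))
    (hw : J.presheaf.germ U x hxU w = 0) :
    ∃ (W : X.Opens) (_ : x ∈ W) (hWU : W ≤ U), J.presheaf.map (homOfLE hWU).op w = 0 := by
  have h0 : J.presheaf.germ U x hxU w = J.presheaf.germ U x hxU 0 := by rw [hw, map_zero]
  obtain ⟨W, hxW, iU, iV, hW⟩ := TopCat.Presheaf.germ_eq J.presheaf x hxU hxU _ _ h0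
  refine ⟨W, hxW, iU.le, ?_⟩
  rw [map_zero] at hW
  exact hW

/-- On a locally Noetherian scheme, the stalks of an injective `O_X`-module are injective modules
over the local rings. -/
theorem injective_stalk [IsLocallyNoetherian X] (J : X.Modules) [Injective J] (x : X) :
    Module.Injective (X.presheaf.stalk x) (J.presheaf.stalk x) := by
  classical
  apply Module.Baer.injective
  intro 𝔞 g
  obtain ⟨n, r, hr⟩ := Submodule.fg_iff_exists_fin_generating_family.mp
    ((isNoetherianRing_iff_ideal_fg _).mp inferInstance 𝔞)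
  subst hr
  have hr' : ∀ i, r i ∈ Submodule.span (X.presheaf.stalk x) (Set.range r) :=
    fun i => Submodule.subset_span ⟨i, rfl⟩
  obtain ⟨U, hU, hxU, a, s, ha, hs⟩ := exists_common_affine J x r (fun i => g ⟨r i, hr' i⟩)
  haveI : IsNoetherianRing Γ(X, U) := IsLocallyNoetherian.component_noetherian ⟨U, hU⟩
  let α : (Fin n → Γ(X, U)) →ₗ[Γ(X, U)] Γ(X, U) := Fintype.linearCombination Γ(X, U) a
  obtain ⟨S, hS⟩ : (LinearMap.ker α).FG := IsNoetherian.noetherian _
  have hgerm : ∀ k : Fin n → Γ(X, U), ∑ i, k i * a i = 0 →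
      J.presheaf.germ U x hxU (∑ i, k i • s i) = 0 := by
    intro k hk
    rw [map_sum]
    have h1 : ∀ i, J.presheaf.germ U x hxU (k i • s i) =
        g (X.presheaf.germ U x hxU (k i) • ⟨r i, hr' i⟩) := fun i => by
      rw [germ_smul, hs, LinearMap.map_smul]
    simp only [h1]
    rw [← map_sum]
    have h2 : (∑ i, X.presheaf.germ U x hxU (k i) •
        (⟨r i, hr' i⟩ : Submodule.span (X.presheaf.stalk x) (Set.range r))) = 0 := by
      apply Subtype.ext
      rw [AddSubmonoidClass.coe_finset_sum]
      simp only [Submodule.coe_smul, smul_eq_mul, ← ha, ← map_mul, Submodule.coe_zero]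
      rw [← map_sum, hk, map_zero]
    rw [h2, map_zero]
  have hSker : ∀ k : S, ∑ i, k.1 i * a i = 0 := fun k => by
    have h1 : k.1 ∈ LinearMap.ker α := hS ▸ Submodule.subset_span k.2
    simpa [α, Fintype.linearCombination_apply] using h1
  choose W hxW hWU hW using fun k : S =>
    exists_res_eq_zero J x hxU (∑ i, k.1 i • s i) (hgerm k.1 (hSker k))
  have hx0 : x ∈ ((⨅ k, W k : X.Opens) : Set X) := by
    rw [Opens.coe_iInf]
    exact Set.mem_iInter.mpr hxW
  obtain ⟨f, hfW, hxf⟩ := hU.exists_basicOpen_le (V := ⨅ k, W k) ⟨x, hx0⟩ hxU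
  have hV : IsAffineOpen (X.basicOpen f) := hU.basicOpen f
  haveI := hU.isLocalization_basicOpen f
  have hfU : X.basicOpen f ≤ U := X.basicOpen_le f
  -- relations over `Γ(X, U)` hold after restriction to `D(f)`
  have hspan : ∀ k ∈ Submodule.span Γ(X, U) (S : Set (Fin n → Γ(X, U))),
      J.presheaf.map (homOfLE hfU).op (∑ i, k i • s i) = 0 := by
    intro k hk'
    induction hk' using Submodule.span_induction with
    | mem k hkS =>
      have h2 := hW ⟨k, hkS⟩
      have h3 : X.basicOpen f ≤ W ⟨k, hkS⟩ := le_trans hfW (iInf_le W ⟨k, hkS⟩)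
      rw [← res_res J (hWU ⟨k, hkS⟩) h3, h2, map_zero]
    | zero => simp
    | add k k' _ _ h2 h3 =>
      have : ∑ i, (k + k') i • s i = ∑ i, k i • s i + ∑ i, k' i • s i := by
        rw [← Finset.sum_add_distrib]
        exact Finset.sum_congr rfl fun i _ => add_smul _ _ _
      rw [this, map_add, h2, h3, add_zero]
    | smul c k _ h2 =>
      have : ∑ i, (c • k) i • s i = c • ∑ i, k i • s i := by
        rw [Finset.smul_sum]
        exact Finset.sum_congr rfl fun i _ => by rw [Pi.smul_apply, smul_eq_mul, mul_smul]
      rw [this, res_smul, h2, smul_zero]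
  have hrel : ∀ k : Fin n → Γ(X, U), ∑ i, k i * a i = 0 →
      ∑ i, algebraMap Γ(X, U) Γ(X, X.basicOpen f) (k i) • J.presheaf.map (homOfLE hfU).op (s i)
        = 0 := by
    intro k hk
    have h1 : ∑ i, algebraMap Γ(X, U) Γ(X, X.basicOpen f) (k i) •
        J.presheaf.map (homOfLE hfU).op (s i) =
          J.presheaf.map (homOfLE hfU).op (∑ i, k i • s i) := by
      rw [map_sum]
      refine Finset.sum_congr rfl fun i _ => ?_
      rw [res_smul]
      rfl
    rw [h1]
    refine hspan k ?_
    rw [hS, LinearMap.mem_ker]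
    simpa [α, Fintype.linearCombination_apply] using hk
  have hrelV := sum_smul_eq_zero_of_away (A := Γ(X, U)) (B := Γ(X, X.basicOpen f)) f a
    (fun i => J.presheaf.map (homOfLE hfU).op (s i)) hrel
  obtain ⟨t, ht⟩ := exists_section_smul_eq hV.fromSpec J (X.basicOpen f)
    (hV.fromSpec.image_top_eq_opensRange.trans hV.opensRange_fromSpec)
    (fun i => X.presheaf.map (homOfLE hfU).op (a i))
    (fun i => J.presheaf.map (homOfLE hfU).op (s i)) (fun c hc => hrelV c hc)
  have key : ∀ i, g ⟨r i, hr' i⟩ = r i • J.presheaf.germ (X.basicOpen f) x hxf t := by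
    intro i
    rw [← hs i, ← ha i]
    have h1 : J.presheaf.germ U x hxU (s i) =
        J.presheaf.germ (X.basicOpen f) x hxf (J.presheaf.map (homOfLE hfU).op (s i)) :=
      (TopCat.Presheaf.germ_res_apply _ _ _ _ _).symm
    have h2 : X.presheaf.germ U x hxU (a i) =
        X.presheaf.germ (X.basicOpen f) x hxf (X.presheaf.map (homOfLE hfU).op (a i)) :=
      (TopCat.Presheaf.germ_res_apply _ _ _ _ _).symm
    rw [h1, h2, ht i, germ_smul]
  refine ⟨LinearMap.toSpanSingleton _ _ (J.presheaf.germ (X.basicOpen f) x hxf t),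
    fun y hy => ?_⟩
  rw [LinearMap.toSpanSingleton_apply]
  induction hy using Submodule.span_induction with
  | mem y hy =>
    obtain ⟨i, rfl⟩ := hy
    exact (key i).symm
  | zero =>
    rw [zero_smul]
    exact (map_zero g).symm
  | add y y' hy hy' h1 h2 =>
    rw [add_smul, h1, h2, ← map_add]
    rfl
  | smul c y hy h1 =>
    rw [smul_assoc, h1, ← LinearMap.map_smul]
    rfl

end Groth.Agent.Lib.Helper21.InjStalk
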