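import Groth.Agent.Lib.Helper82.TopDimPreimage

/-!
# Strict monotonicity of the topological Krull dimension (helper21)

* `dim_add_one_le_of_ssubset`: `A ⊊ B`, `A` closed, `B` irreducible ⇒ `dim A + 1 ≤ dim B`.
* `eq_of_dim_eq`: `A ⊆ B`, `A` closed, `B` irreducible, `dim B ≤ n`, `dim A = n` ⇒ `A = B`.
-/

set_option autoImplicit false
open TopologicalSpace Topology Order

namespace Groth.Agent.Lib.Helper21.TopDimStrict

variable {T : Type*} [TopologicalSpace T]

theorem dim_add_one_le_of_ssubset {A B : Set T} (hAB : A ⊆ B) (hA : IsClosed A)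
    (hB : IsIrreducible B) (hne : A ≠ B) :
    topologicalKrullDim ↥A + 1 ≤ topologicalKrullDim ↥B := by
  let g : ↥A → ↥B := Set.inclusion hAB
  have hg : IsInducing g := (Topology.IsEmbedding.inclusion hAB).isInducing
  apply Groth.Agent.Lib.Helper82.withBotENat_add_one_le_of_forall
  intro n hn
  unfold topologicalKrullDim at hn ⊢
  rw [le_krullDim_iff] at hn ⊢
  obtain ⟨l, hl⟩ := hn
  let l' : LTSeries (IrreducibleCloseds ↥B) :=
    l.map (IrreducibleCloseds.map g hg.continuous)
      (IrreducibleCloseds.map_strictMono_of_isInducing hg)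
  haveI : IrreducibleSpace ↥B := Subtype.irreducibleSpace hB
  let top : IrreducibleCloseds ↥B :=
    ⟨Set.univ, IrreducibleSpace.isIrreducible_univ _, isClosed_univ⟩
  have hlt : l'.last < top := by
    have hlast : l'.last = IrreducibleCloseds.map g hg.continuous l.last := by
      simp [l', LTSeries.last_map]
    rw [hlast]
    refine lt_of_le_of_ne (fun w _ => Set.mem_univ w) ?_
    intro heq
    apply hne
    apply Set.Subset.antisymm hAB
    intro b hb
    have hmem : (⟨b, hb⟩ : ↥B) ∈ (top : Set ↥B) := Set.mem_univ _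
    rw [← heq] at hmem
    have hmem' : (⟨b, hb⟩ : ↥B) ∈ closure (g '' (l.last : Set ↥A)) := hmem
    have hcl : IsClosed {w : ↥B | (w : T) ∈ A} := hA.preimage continuous_subtype_val
    have hsub : g '' (l.last : Set ↥A) ⊆ {w : ↥B | (w : T) ∈ A} := by
      rintro _ ⟨a, -, rfl⟩
      exact a.2
    exact (closure_minimal hsub hcl) hmem'
  refine ⟨l'.snoc top hlt, ?_⟩
  simp [l', hl]

theorem eq_of_dim_eq {A B : Set T} (hAB : A ⊆ B) (hA : IsClosed A) (hB : IsIrreducible B)
    (n : ℕ) (hBn : topologicalKrullDim ↥B ≤ n) (hAn : topologicalKrullDim ↥A = n) : A = B := by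
  by_contra hne
  have h1 := dim_add_one_le_of_ssubset hAB hA hB hne
  rw [hAn] at h1
  have h2 : ((n : ℕ) : WithBot ℕ∞) + 1 ≤ n := h1.trans hBn
  have h3 : ((n + 1 : ℕ) : WithBot ℕ∞) ≤ (n : ℕ) := by
    push_cast
    exact h2
  have h4 : n + 1 ≤ n := by exact_mod_cast h3
  omega

end Groth.Agent.Lib.Helper21.TopDimStrict
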