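import Groth.Agent.Lib.Helper21.K0Dev
import Groth.Agent.Lib.Helper21.TopDimStrict

/-!
# The top-dimensional cycle class in `K₀` of coherent modules (helper21)

`main`: for `F` coherent on a Noetherian scheme with `dim Supp F ≤ n`,
`[F] - Σ_{dim closure x = n} length(F_x) [O_{Z(x)}]` lies in the subgroup generated by classes of
coherent modules with support of dimension `< n`.
-/

set_option autoImplicit false
set_option linter.style.haveILetI false
universe u
open AlgebraicGeometry CategoryTheory Opposite TopologicalSpace Limits KZero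

namespace Groth.Agent.Lib.Helper21.K0Filt

open Groth.Agent.Lib.Helper21.K0Sub Groth.Agent.Lib.Helper21.Devissage
  Groth.Agent.Lib.Helper21.StalkLen Groth.Agent.Lib.Helper21.K0Dev
  Groth.Agent.Lib.Helper21.TopDimStrict

variable {X : Scheme.{u}}

/-- `K₀` of coherent modules. -/
abbrev KC (X : Scheme.{u}) := K0sub (fun M : X.Modules => Coh.IsCoh M)

/-- The class of a module. -/
noncomputable abbrev cl (M : X.Modules) : KC X := clSub (fun M : X.Modules => Coh.IsCoh M) M

/-- The subgroup generated by classes with support of dimension `< n`. -/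
noncomputable def T (X : Scheme.{u}) (n : ℕ) : AddSubgroup (KC X) :=
  AddSubgroup.closure {c : KC X | ∃ G : X.Modules, Coh.IsCoh G ∧
    topologicalKrullDim ↥(CohB1.support G) < n ∧ c = cl G}

open Classical in
/-- The top-dimensional cycle class of `M`. -/
noncomputable def cF (n : ℕ) (M : X.Modules) : KC X :=
  finsum fun x : ↥X => if topologicalKrullDim ↥(closure ({x} : Set ↥X)) = n then
    (Module.length (X.presheaf.stalk x) (M.presheaf.stalk x)).toNat •
      cl (Cyc.closureStructureSheaf x) else 0

/-- The points of `X'` whose closure has dimension `n`. -/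
def Xi (X' : Set X) (n : ℕ) : Set X :=
  {x | topologicalKrullDim ↥(closure ({x} : Set X)) = n ∧ closure {x} ⊆ X'}

section Top

variable (X' : Set X) (hX' : IsClosed X') (n : ℕ) (hdim : topologicalKrullDim ↥X' ≤ n)

include hX' hdim

theorem eq_of_mem_Xi_of_specializes {x y : X} (hx : x ∈ Xi X' n) (hy : y ∈ X') (hyx : y ⤳ x) :
    y = x := by
  have h1 : closure {x} ⊆ closure {y} :=
    closure_minimal (Set.singleton_subset_iff.mpr hyx.mem_closure) isClosed_closure
  have h2 : closure {y} ⊆ X' := closure_minimal (Set.singleton_subset_iff.mpr hy) hX'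
  have h3 : closure {x} = closure {y} :=
    eq_of_dim_eq h1 isClosed_closure isIrreducible_singleton.closure n
      ((dim_mono h2).trans hdim) hx.1
  exact ((inseparable_iff_closure_eq.mpr h3).eq).symm

theorem finite_Xi [NoetherianSpace X] : (Xi X' n).Finite := by
  obtain ⟨S, hSf, hSc, hSi, hSU⟩ :=
    NoetherianSpace.exists_finite_set_isClosed_irreducible hX'
  have hinj : Function.Injective (fun x : X => closure ({x} : Set X)) := fun x y h =>
    (inseparable_iff_closure_eq.mpr h).eq
  refine (hSf.preimage (f := fun x : X => closure ({x} : Set X)) hinj.injOn).subset ?_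
  intro x hx
  lift S to Finset (Set X) using hSf
  have hirr : IsIrreducible (closure ({x} : Set X)) := isIrreducible_singleton.closure
  obtain ⟨t, htS, ht⟩ := isIrreducible_iff_sUnion_isClosed.1 hirr S hSc (hSU ▸ hx.2)
  have htX : t ⊆ X' := by
    rw [hSU]
    exact Set.subset_sUnion_of_mem htS
  have : closure {x} = t :=
    eq_of_dim_eq ht isClosed_closure (hSi t htS) n ((dim_mono htX).trans hdim) hx.1
  change closure {x} ∈ (S : Set (Set X))
  rw [this]
  exact htS

end Top

section Main

variable [IsNoetherian X] (X' : Set X) (hX' : IsClosed X') (n : ℕ)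
  (hdim : topologicalKrullDim ↥X' ≤ n)

include hX' hdim

theorem length_ne_top {x : X} (hx : x ∈ Xi X' n) {M : X.Modules} (hM : Coh.IsCoh M)
    (hMs : CohB1.support M ⊆ X') :
    Module.length (X.presheaf.stalk x) (M.presheaf.stalk x) ≠ ⊤ := by
  haveI := hM.1
  refine ne_of_lt (Groth.Agent.Lib.Helper64.CohSupport.length_stalk_lt_top M hM.2 x
    (fun y hy hyx => ?_))
  exact eq_of_mem_Xi_of_specializes X' hX' n hdim hx
    (hMs (not_subsingleton_iff_nontrivial.mpr hy)) hyx

open Classical in
theorem cF_eq_sum {M : X.Modules} (hMs : CohB1.support M ⊆ X') :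
    cF n M = ∑ x ∈ (finite_Xi X' hX' n hdim).toFinset,
      (Module.length (X.presheaf.stalk x) (M.presheaf.stalk x)).toNat •
        cl (Cyc.closureStructureSheaf x) := by
  unfold cF
  rw [finsum_eq_sum_of_support_subset (s := (finite_Xi X' hX' n hdim).toFinset)]
  · refine Finset.sum_congr rfl (fun x hx => ?_)
    rw [Set.Finite.mem_toFinset] at hx
    rw [if_pos hx.1]
  · intro x hx
    rw [Function.mem_support] at hx
    rw [Set.Finite.coe_toFinset]
    by_cases hc : topologicalKrullDim ↥(closure ({x} : Set ↥X)) = n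
    · refine ⟨hc, ?_⟩
      rw [if_pos hc] at hx
      have hlen : Module.length (X.presheaf.stalk x) (M.presheaf.stalk x) ≠ 0 := by
        intro h0
        apply hx
        rw [h0]
        simp
      have hxM : x ∈ CohB1.support M := by
        intro hsub
        exact hlen (Module.length_eq_zero_iff.mpr hsub)
      exact closure_minimal (Set.singleton_subset_iff.mpr (hMs hxM)) hX'
    · rw [if_neg hc] at hx
      exact absurd rfl hx

theorem cF_add (S : ShortComplex X.Modules) (hS : S.ShortExact) (h1 : Coh.IsCoh S.X₁)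
    (h3 : Coh.IsCoh S.X₃) (hs1 : CohB1.support S.X₁ ⊆ X') (hs2 : CohB1.support S.X₂ ⊆ X')
    (hs3 : CohB1.support S.X₃ ⊆ X') : cF n S.X₂ = cF n S.X₁ + cF n S.X₃ := by
  rw [cF_eq_sum X' hX' n hdim hs1, cF_eq_sum X' hX' n hdim hs2, cF_eq_sum X' hX' n hdim hs3,
    ← Finset.sum_add_distrib]
  refine Finset.sum_congr rfl (fun x hx => ?_)
  rw [Set.Finite.mem_toFinset] at hx
  rw [length_stalk_shortExact S hS x,
    ENat.toNat_add (length_ne_top X' hX' n hdim hx h1 hs1) (length_ne_top X' hX' n hdim hx h3 hs3),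
    add_smul]

theorem main (M : X.Modules) (hM : Coh.IsCoh M) (hMs : CohB1.support M ⊆ X') :
    cl M - cF n M ∈ T X n := by
  classical
  let Q : ObjectProperty X.Modules := fun M => Coh.IsCoh M
  let P : X.Modules → Prop := fun M => Coh.IsCoh M → CohB1.support M ⊆ X' → cl M - cF n M ∈ T X n
  obtain ⟨Z, hZ⟩ := HasZeroObject.zero (C := X.Modules)
  have hP : ∀ M N : X.Modules, Nonempty (M ≅ N) → P M → P N := by
    rintro M N ⟨e⟩ hPM hN hNs
    have hMc := isCoh_of_iso e.symm hN
    have hMs : CohB1.support M ⊆ X' := by rw [support_eq_of_iso e]; exact hNs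
    have e1 : cl N = cl M := clSub_iso Q e hMc hN Z hZ (isCoh_of_isZero hZ)
    have e2 : cF n N = cF n M := by
      unfold cF
      congr 1
      funext x
      rw [length_stalk_eq_of_iso e x]
    rw [e1, e2]
    exact hPM hMc hMs
  have hzero : ∀ M : X.Modules, IsZero M → P M := by
    intro M hM _ _
    have e1 : cl M = 0 := clSub_eq_zero_of_isZero Q M hM
    have e2 : cF n M = 0 := by
      unfold cF
      have hf : (fun x : ↥X => if topologicalKrullDim ↥(closure ({x} : Set ↥X)) = n then
          (Module.length (X.presheaf.stalk x) (M.presheaf.stalk x)).toNat •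
            cl (Cyc.closureStructureSheaf x) else 0) = fun _ => 0 := by
        funext x
        have hx : x ∉ CohB1.support M := fun h => (support_subset_of_isZero hM ∅ h).elim
        have hsub : Subsingleton (M.presheaf.stalk x) := not_not.mp hx
        rw [Module.length_eq_zero_iff.mpr hsub]
        simp
      rw [hf, finsum_zero]
    rw [e1, e2, sub_zero]
    exact (T X n).zero_mem
  have hadd : ∀ S : ShortComplex X.Modules, S.ShortExact → Coh.IsCoh S.X₁ → Coh.IsCoh S.X₂ →
      Coh.IsCoh S.X₃ → CohB1.support S.X₂ ⊆ X' →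
      CohB1.support S.X₁ ⊆ X' ∧ CohB1.support S.X₃ ⊆ X' ∧
        cl S.X₂ - cF n S.X₂ = (cl S.X₁ - cF n S.X₁) + (cl S.X₃ - cF n S.X₃) := by
    intro S hS h1 h2 h3 hs
    have := hS.mono_f
    have := hS.epi_g
    have hs1 := (support_of_mono S.f).trans hs
    have hs3 := (support_of_epi S.g).trans hs
    refine ⟨hs1, hs3, ?_⟩
    have e1 : cl S.X₂ = cl S.X₁ + cl S.X₃ := clSub_add Q S hS h1 h2 h3
    rw [e1, cF_add X' hX' n hdim S hS h1 h3 hs1 hs hs3]
    abel
  have h23 : ∀ S : ShortComplex X.Modules, S.ShortExact → Coh.IsCoh S.X₁ → Coh.IsCoh S.X₂ →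
      Coh.IsCoh S.X₃ → CohB1.support S.X₂ ⊆ X' →
      (P S.X₁ → P S.X₂ → P S.X₃) ∧ (P S.X₁ → P S.X₃ → P S.X₂) ∧ (P S.X₂ → P S.X₃ → P S.X₁) := by
    intro S hS h1 h2 h3 hs
    obtain ⟨hs1, hs3, e⟩ := hadd S hS h1 h2 h3 hs
    refine ⟨fun p1 p2 _ _ => ?_, fun p1 p3 _ _ => ?_, fun p2 p3 _ _ => ?_⟩
    · have : cl S.X₃ - cF n S.X₃ = (cl S.X₂ - cF n S.X₂) - (cl S.X₁ - cF n S.X₁) := by
        rw [e]; abel
      rw [this]
      exact (T X n).sub_mem (p2 h2 hs) (p1 h1 hs1)
    · rw [e]
      exact (T X n).add_mem (p1 h1 hs1) (p3 h3 hs3)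
    · have : cl S.X₁ - cF n S.X₁ = (cl S.X₂ - cF n S.X₂) - (cl S.X₃ - cF n S.X₃) := by
        rw [e]; abel
      rw [this]
      exact (T X n).sub_mem (p2 h2 hs) (p3 h3 hs3)
  refine noetherian_induction X' P hP hzero
    (fun S hS h1 h2 h3 hs p1 p3 => (h23 S hS h1 h2 h3 hs).2.1 p1 p3) ?_ M hM hMs hM hMs
  intro Z₀ hZ₀ hirr hZY IH G hG hGs
  have hξ : closure {hirr.genericPoint} = Z₀ := by
    have := hirr.isGenericPoint_genericPoint_closure
    rw [hZ₀.closure_eq] at this
    exact this.def
  have hξZ : hirr.genericPoint ∈ Z₀ := by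
    have hmem : hirr.genericPoint ∈ closure {hirr.genericPoint} :=
      subset_closure (Set.mem_singleton _)
    generalize hirr.genericPoint = y at hmem hξ
    rw [hξ] at hmem
    exact hmem
  -- the generator
  have hgenP : ∀ ξ : X, closure {ξ} = Z₀ → P (Cyc.closureStructureSheaf ξ) := by
    intro ξ hξ' _ _
    have hG₀ := isCoh_closureStructureSheaf ξ
    have hG₀s : CohB1.support (Cyc.closureStructureSheaf ξ) ⊆ Z₀ :=
      hξ' ▸ support_closureStructureSheaf_subset ξ
    have hξX : ξ ∈ X' := hZY (hξ' ▸ subset_closure (Set.mem_singleton ξ))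
    rw [cF_eq_sum X' hX' n hdim (hG₀s.trans hZY)]
    have hother : ∀ x ∈ (finite_Xi X' hX' n hdim).toFinset, x ≠ ξ →
        (Module.length (X.presheaf.stalk x)
          ((Cyc.closureStructureSheaf ξ).presheaf.stalk x)).toNat •
          cl (Cyc.closureStructureSheaf x) = 0 := by
      intro x hx hne
      rw [Set.Finite.mem_toFinset] at hx
      have hxs : x ∉ CohB1.support (Cyc.closureStructureSheaf ξ) := by
        intro hxs
        have h1 : x ∈ closure {ξ} := hξ'.symm ▸ hG₀s hxs
        have h2 : ξ ⤳ x := specializes_iff_mem_closure.mpr h1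
        exact hne (eq_of_mem_Xi_of_specializes X' hX' n hdim hx hξX h2).symm
      have hsub : Subsingleton ((Cyc.closureStructureSheaf ξ).presheaf.stalk x) := not_not.mp hxs
      rw [Module.length_eq_zero_iff.mpr hsub]
      simp
    by_cases hmem : ξ ∈ (finite_Xi X' hX' n hdim).toFinset
    · rw [Finset.sum_eq_single ξ hother (fun h => absurd hmem h),
        length_stalk_closureStructureSheaf ξ]
      simp only [ENat.toNat_one, one_smul, sub_self]
      exact (T X n).zero_mem
    · rw [Finset.sum_eq_zero (fun x hx => hother x hx (fun h => hmem (h ▸ hx))), sub_zero]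
      refine AddSubgroup.subset_closure ⟨_, hG₀, ?_, rfl⟩
      have h1 : topologicalKrullDim ↥(closure ({ξ} : Set X)) ≤ n :=
        (dim_mono (hξ'.symm ▸ hZY)).trans hdim
      have h2 : topologicalKrullDim ↥(closure ({ξ} : Set X)) ≠ n := by
        intro h
        apply hmem
        rw [Set.Finite.mem_toFinset]
        exact ⟨h, hξ'.symm ▸ hZY⟩
      exact lt_of_le_of_lt (dim_mono (support_closureStructureSheaf_subset ξ))
        (lt_of_le_of_ne h1 h2)
  refine two_of_three_step Z₀ P hP
    (fun S hS h1 h2 h3 hs => h23 S hS h1 h2 h3 (hs.trans hZY)) hirr.genericPoint hξ ?_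
    (Cyc.closureStructureSheaf hirr.genericPoint)
    (isCoh_closureStructureSheaf _)
    ((support_closureStructureSheaf_subset hirr.genericPoint).trans hξ.le)
    (Module.length_eq_one_iff.mp (length_stalk_closureStructureSheaf _))
    (hgenP _ hξ) G hG hGs
  intro F' hF' hs' hnot
  refine IH F' hF' hs' (fun h => hnot ?_)
  rw [h]
  exact hξZ

end Main

end Groth.Agent.Lib.Helper21.K0Filt
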