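import Groth.Prelude.Def_KZero

/-!
# Basic facts on `KZero.K0sub` / `KZero.clSub` (helper21)

* `clSub_of`: unfolding for objects satisfying `P`.
* `clSub_add`: additivity on short exact sequences with all terms in `P`.
* `clSub_eq_zero_of_isZero`, `clSub_iso`.
* `closure_eq_top_of_forall`: a subgroup containing all classes `clSub P M` is `⊤`.
-/

set_option autoImplicit false
universe v u
open CategoryTheory CategoryTheory.Limits KZero

namespace Groth.Agent.Lib.Helper21.K0Sub

variable {A : Type u} [Category.{v} A] [Abelian A] (P : ObjectProperty A)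

theorem clSub_of (X : A) (h : P X) :
    clSub P X = QuotientAddGroup.mk (FreeAbelianGroup.of ⟨X, h⟩) := dif_pos h

theorem clSub_add (S : ShortComplex A) (hS : S.ShortExact) (h₁ : P S.X₁) (h₂ : P S.X₂)
    (h₃ : P S.X₃) : clSub P S.X₂ = clSub P S.X₁ + clSub P S.X₃ := by
  rw [clSub_of P _ h₁, clSub_of P _ h₂, clSub_of P _ h₃, ← QuotientAddGroup.mk_add,
    QuotientAddGroup.eq]
  have hmem : FreeAbelianGroup.of (⟨S.X₂, h₂⟩ : Subtype P) - FreeAbelianGroup.of ⟨S.X₁, h₁⟩ -
      FreeAbelianGroup.of ⟨S.X₃, h₃⟩ ∈ relSub P :=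
    AddSubgroup.subset_closure ⟨S, h₁, h₂, h₃, hS, rfl⟩
  have := (relSub P).neg_mem hmem
  convert this using 1
  abel

/-- The short exact sequence `0 → G → G → 0 → 0`. -/
theorem shortExact_id_zero (G M : A) (hM : IsZero M) :
    (ShortComplex.mk (𝟙 G) (0 : G ⟶ M) (by simp)).ShortExact := by
  refine ShortComplex.ShortExact.mk' ?_ (inferInstanceAs (Mono (𝟙 G)))
    ⟨fun g h _ => hM.eq_of_src g h⟩
  rw [ShortComplex.exact_iff_epi _ rfl]
  exact inferInstanceAs (Epi (𝟙 G))

/-- The short exact sequence `0 → M → N → 0 → 0` of an isomorphism. -/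
theorem shortExact_iso_zero {M N : A} (e : M ≅ N) (Z : A) (hZ : IsZero Z) :
    (ShortComplex.mk e.hom (0 : N ⟶ Z) (by simp)).ShortExact := by
  refine ShortComplex.ShortExact.mk' ?_ (inferInstanceAs (Mono e.hom))
    ⟨fun g h _ => hZ.eq_of_src g h⟩
  rw [ShortComplex.exact_iff_epi _ rfl]
  exact inferInstanceAs (Epi e.hom)

theorem clSub_eq_zero_of_isZero (M : A) (hM : IsZero M) : clSub P M = 0 := by
  by_cases h : P M
  · have := clSub_add P _ (shortExact_id_zero M M hM) h h h
    simpa using this
  · exact dif_neg h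

theorem clSub_iso {M N : A} (e : M ≅ N) (hM : P M) (hN : P N) (Z : A) (hZ : IsZero Z)
    (hPZ : P Z) : clSub P N = clSub P M := by
  have := clSub_add P _ (shortExact_iso_zero e Z hZ) hM hN hPZ
  simp only at this
  rw [this, clSub_eq_zero_of_isZero P Z hZ, add_zero]

/-- A subgroup of `K0sub P` containing all classes of objects of `P` is everything. -/
theorem eq_top_of_forall (H : AddSubgroup (K0sub P))
    (h : ∀ M : A, P M → clSub P M ∈ H) : H = ⊤ := by
  rw [eq_top_iff]
  intro x hx0
  clear hx0
  induction x using QuotientAddGroup.induction_on with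
  | H z =>
    induction z using FreeAbelianGroup.induction_on with
    | zero => exact H.zero_mem
    | of x =>
      have := h x.1 x.2
      rwa [clSub_of P x.1 x.2] at this
    | neg x ih =>
      rw [QuotientAddGroup.mk_neg]
      exact H.neg_mem ih
    | add x y hx hy =>
      rw [QuotientAddGroup.mk_add]
      exact H.add_mem hx hy

end Groth.Agent.Lib.Helper21.K0Sub
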