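import Groth.Agent.Lib.Helper21.AssPrimary
import Groth.Agent.Lib.Helper21.ClImmSupport

/-!
# Sections lying in all `Iⁿ F` (helper21)

`forall_mem_range_iff`: on a locally Noetherian scheme, a global section `s` of a coherent module
`F` lies in `Γ(X, Iⁿ F)` for every `n` iff `s` vanishes on an open neighbourhood of `V(I)`
(Krull's intersection theorem on stalks).
-/

set_option autoImplicit false
set_option linter.style.haveILetI false
universe u
open AlgebraicGeometry CategoryTheory Opposite TopologicalSpace Limits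

namespace Groth.Agent.Lib.Helper21.KrullSections

open Groth.Agent.Lib.Helper78.ModStalk Groth.Agent.Lib.Helper78.ModStalkExact

variable {X : Scheme.{u}}

/-- the vanishing locus of a global section is open and the section vanishes on it -/
theorem exists_open_res_eq_zero (F : X.Modules) (s : Γ(F, ⊤)) :
    ∃ V : X.Opens, (∀ y : X, y ∈ V ↔ F.presheaf.germ ⊤ y trivial s = 0) ∧
      F.presheaf.map (homOfLE le_top : V ⟶ ⊤).op s = 0 := by
  have hopen : IsOpen {y : X | F.presheaf.germ ⊤ y trivial s = 0} := by
    rw [isOpen_iff_forall_mem_open]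
    intro y hy
    have h0 : F.presheaf.germ ⊤ y trivial s = F.presheaf.germ ⊤ y trivial 0 := by
      rw [hy, map_zero]
    obtain ⟨W, hyW, iU, iV, hW⟩ := TopCat.Presheaf.germ_eq F.presheaf y (U := ⊤) (V := ⊤) (Opens.mem_top y)
      (Opens.mem_top y) s 0 h0
    rw [map_zero] at hW
    refine ⟨W, ?_, W.isOpen, hyW⟩
    intro w hw
    change F.presheaf.germ ⊤ w trivial s = 0
    have := TopCat.Presheaf.germ_res_apply F.presheaf iU w hw s
    rw [← this, hW, map_zero]
  refine ⟨⟨_, hopen⟩, fun y => Iff.rfl, ?_⟩
  refine TopCat.Presheaf.section_ext ⟨F.presheaf, F.isSheaf⟩ _ _ 0 (fun y hy => ?_)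
  rw [TopCat.Presheaf.germ_res_apply, map_zero]
  exact hy

theorem forall_mem_range_iff [IsLocallyNoetherian X] (I : X.IdealSheafData) (F : X.Modules)
    (hF : Coh.IsCoh F) (s : Γ(F, ⊤)) :
    (∀ n : ℕ, ∃ t : Γ((Dual3.idealMul (I ^ n)).obj F, ⊤),
        (Dual3.idealMulι (I ^ n) F).app ⊤ t = s) ↔
      ∃ V : X.Opens, (I.support : Set X) ⊆ (V : Set X) ∧
        F.presheaf.map (homOfLE le_top : V ⟶ ⊤).op s = 0 := by
  haveI := hF.1
  constructor
  · intro h
    obtain ⟨V, hV, hVs⟩ := exists_open_res_eq_zero F s
    refine ⟨V, ?_, hVs⟩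
    intro z hz
    rw [SetLike.mem_coe, hV z]
    haveI : Module.Finite (X.presheaf.stalk z) (F.presheaf.stalk z) :=
      Groth.Agent.Lib.Helper21.ReflexiveFreeSch.finite_stalk_of_isCoh F hF z
    have hmem : F.presheaf.germ ⊤ z trivial s ∈
        (⨅ n : ℕ, (IsLocalRing.maximalIdeal (X.presheaf.stalk z)) ^ n •
          (⊤ : Submodule (X.presheaf.stalk z) (F.presheaf.stalk z))) := by
      rw [Submodule.mem_iInf]
      intro n
      obtain ⟨t, ht⟩ := h n
      rw [← ht, ← stalkMap_germ]
      apply Groth.Agent.Lib.Helper21.AssPrimary.mem_pow_smul_of_stalkMap_quot_eq_zero F I n z hz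
      rw [← LinearMap.comp_apply, ← Groth.Agent.Lib.Helper21.StalkBiprod.stalkMap_comp,
        cokernel.condition, Groth.Agent.Lib.Helper21.StalkBiprod.stalkMap_zero]
      rfl
    rw [Ideal.iInf_pow_smul_eq_bot_of_isLocalRing _
      (IsLocalRing.maximalIdeal.isMaximal _).ne_top] at hmem
    exact (Submodule.mem_bot _).mp hmem
  · rintro ⟨V, hZV, hs⟩ n
    let u : F ⟶ (Scheme.Modules.pushforward (I ^ n).subschemeι).obj
        ((Scheme.Modules.pullback (I ^ n).subschemeι).obj F) :=
      (Scheme.Modules.pullbackPushforwardAdjunction (I ^ n).subschemeι).unit.app F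
    have hu : u.app ⊤ s = 0 := by
      refine TopCat.Presheaf.section_ext ⟨_, ((Scheme.Modules.pushforward (I ^ n).subschemeι).obj
        ((Scheme.Modules.pullback (I ^ n).subschemeι).obj F)).isSheaf⟩ _ _ 0 (fun y hy => ?_)
      rw [map_zero]
      by_cases hyV : y ∈ V
      · have h1 := stalkMap_germ u y ⊤ hy s
        have h2 : F.presheaf.germ ⊤ y hy s = 0 := by
          have := TopCat.Presheaf.germ_res_apply F.presheaf (homOfLE le_top : V ⟶ ⊤) y hyV s
          rw [← this, hs, map_zero]
        rw [h2, map_zero] at h1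
        exact h1.symm
      · have hyI : y ∉ (I.support : Set X) := fun h => hyV (hZV h)
        have hyn : y ∉ ((I ^ n).support : Set X) :=
          Groth.Agent.Lib.Helper21.HomExtend.notMem_support_pow I n y hyI
        have hr : Set.range (I ^ n).subschemeι = ((I ^ n).support : Set X) :=
          (I ^ n).range_subschemeι
        have hcl : IsClosed (Set.range (I ^ n).subschemeι) := by
          rw [hr]
          exact (I ^ n).support.isClosed
        haveI := Groth.Agent.Lib.Helper21.ClImmSupport.subsingleton_stalk_pushforward_of_notMem_range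
          (I ^ n).subschemeι hcl ((Scheme.Modules.pullback (I ^ n).subschemeι).obj F) y
          (by rw [hr]; exact hyn)
        exact Subsingleton.elim _ _
    exact Groth.Agent.Lib.Helper2.KerSec.exists_of_app_eq_zero u ⊤ s hu

end Groth.Agent.Lib.Helper21.KrullSections
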