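import Mathlib.FieldTheory.IsAlgClosed.AlgebraicClosure
import Mathlib.FieldTheory.Minpoly.Field
import Mathlib.Algebra.Polynomial.Splits
import Mathlib.Tactic

set_option autoImplicit false
universe u v

namespace Groth.Agent.Lib.Helper21

open Polynomial

theorem exists_pow_natDegree_eq {K : Type u} [Field K]
    (hK : ∀ n : ℕ, 0 < n → (X ^ n - 1 : K[X]).Splits)
    {A : Type v} [DivisionRing A] [Algebra K A] (x : A) (hx : x ≠ 0) (hint : IsIntegral K x)
    (r : ℕ) (hr : 0 < r) (a : K) (ha : x ^ r = algebraMap K A a) :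
    ∃ c : K, x ^ (minpoly K x).natDegree = algebraMap K A c := by
  have hirr : Irreducible (minpoly K x) := minpoly.irreducible hint
  have hmonic : (minpoly K x).Monic := minpoly.monic hint
  have hdvd : minpoly K x ∣ X ^ r - C a := minpoly.dvd K x (by simp [ha])
  have ha0 : a ≠ 0 := by
    rintro rfl
    rw [map_zero] at ha
    exact hx ((pow_eq_zero_iff hr.ne').mp ha)
  let F := AlgebraicClosure K
  let f : K →+* F := algebraMap K F
  have hsplit : ((minpoly K x).map f).Splits := IsAlgClosed.splits _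
  have hmonic' : ((minpoly K x).map f).Monic := hmonic.map f
  have hdeg : (minpoly K x).degree ≠ 0 := (minpoly.degree_pos hint).ne'
  obtain ⟨ρ₀, hρ₀⟩ := IsAlgClosed.exists_aeval_eq_zero F (minpoly K x) hdeg
  have hfa0 : f a ≠ 0 := fun h => ha0 (f.injective (by rw [h, map_zero]))
  have hroot : ∀ ρ : F, aeval ρ (minpoly K x) = 0 → ρ ^ r = f a := by
    intro ρ hρ
    obtain ⟨q, hq⟩ := hdvd
    have := congrArg (aeval ρ) hq
    rw [map_mul, hρ, zero_mul] at this
    simpa [sub_eq_zero] using this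
  have hρ₀0 : ρ₀ ≠ 0 := by
    intro h0
    have := hroot ρ₀ hρ₀
    rw [h0, zero_pow hr.ne'] at this
    exact hfa0 this.symm
  have hη : ∀ ρ ∈ ((minpoly K x).map f).roots, ∃ η : K, ρ = ρ₀ * f η := by
    intro ρ hρ
    have hρ' : aeval ρ (minpoly K x) = 0 := by
      rw [mem_roots hmonic'.ne_zero, IsRoot.def, eval_map] at hρ
      rwa [aeval_def]
    have h1 : (ρ / ρ₀) ^ r = 1 := by
      rw [div_pow, hroot ρ hρ', hroot ρ₀ hρ₀, div_self hfa0]
    have hne : (X ^ r - 1 : K[X]) ≠ 0 := by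
      have := (monic_X_pow_sub_C (1 : K) hr.ne').ne_zero
      simpa using this
    have hr' : ((X ^ r - 1 : K[X]).map f).IsRoot (ρ / ρ₀) := by
      simp [h1]
    obtain ⟨η, hη⟩ := (hK r hr).mem_range_of_isRoot hne hr'
    refine ⟨η, ?_⟩
    rw [hη, mul_div_assoc']
    exact (mul_div_cancel_left₀ ρ hρ₀0).symm
  choose! g hg using hη
  have hroots : ((minpoly K x).map f).roots =
      ((minpoly K x).map f).roots.map (fun ρ => ρ₀ * f (g ρ)) := by
    conv_lhs => rw [← Multiset.map_id ((minpoly K x).map f).roots]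
    exact Multiset.map_congr rfl (fun ρ hρ => hg ρ hρ)
  have hprod : ((minpoly K x).map f).roots.prod =
      ρ₀ ^ (minpoly K x).natDegree * f ((((minpoly K x).map f).roots.map g).prod) := by
    conv_lhs => rw [hroots]
    rw [Multiset.prod_map_mul, Multiset.map_const', Multiset.prod_replicate,
      ← hsplit.natDegree_eq_card_roots, natDegree_map, map_multiset_prod, Multiset.map_map]
    rfl
  have hc0 := hsplit.coeff_zero_eq_prod_roots_of_monic hmonic'
  rw [coeff_map, natDegree_map, hprod] at hc0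
  have hP0 : (((minpoly K x).map f).roots.map g).prod ≠ 0 := by
    apply Multiset.prod_ne_zero
    intro h0
    obtain ⟨ρ, hρ, hgρ⟩ := Multiset.mem_map.mp h0
    have hρ' : aeval ρ (minpoly K x) = 0 := by
      rw [mem_roots hmonic'.ne_zero, IsRoot.def, eval_map] at hρ
      rwa [aeval_def]
    have e := hg ρ hρ
    rw [hgρ, map_zero, mul_zero] at e
    have := hroot ρ hρ'
    rw [e, zero_pow hr.ne'] at this
    exact hfa0 this.symm
  set P := (((minpoly K x).map f).roots.map g).prod with hP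
  set d := (minpoly K x).natDegree with hd
  have hfP0 : f P ≠ 0 := fun h => hP0 (f.injective (by rw [h, map_zero]))
  have hρd : ρ₀ ^ d = f ((-1) ^ d * (minpoly K x).coeff 0 * P⁻¹) := by
    rw [map_mul, map_mul, map_pow, map_neg, map_one, map_inv₀, hc0]
    have h2 : ((-1 : F) ^ d) * ((-1) ^ d) = 1 := by
      rw [← mul_pow, neg_one_mul, neg_neg, one_pow]
    calc ρ₀ ^ d = ((-1 : F) ^ d * (-1) ^ d) * ρ₀ ^ d * (f P * (f P)⁻¹) := by
          rw [h2, mul_inv_cancel₀ hfP0, one_mul, mul_one]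
      _ = (-1) ^ d * ((-1) ^ d * (ρ₀ ^ d * f P)) * (f P)⁻¹ := by ring
  have hminρ : minpoly K x = minpoly K ρ₀ :=
    minpoly.eq_of_irreducible_of_monic hirr hρ₀ hmonic
  have hdvd2 : minpoly K x ∣ X ^ d - C ((-1) ^ d * (minpoly K x).coeff 0 * P⁻¹) := by
    have h3 : minpoly K ρ₀ ∣ X ^ d - C ((-1) ^ d * (minpoly K x).coeff 0 * P⁻¹) := by
      apply minpoly.dvd
      rw [map_sub, map_pow, aeval_X, aeval_C, hρd, sub_self]
    rwa [← hminρ] at h3
  refine ⟨(-1) ^ d * (minpoly K x).coeff 0 * P⁻¹, ?_⟩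
  obtain ⟨q, hq⟩ := hdvd2
  have h4 : aeval x (X ^ d - C ((-1) ^ d * (minpoly K x).coeff 0 * P⁻¹)) = 0 := by
    rw [hq, map_mul, minpoly.aeval, zero_mul]
  rw [map_sub, map_pow, aeval_X, aeval_C, sub_eq_zero] at h4
  exact h4

end Groth.Agent.Lib.Helper21
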