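import Groth.Agent.Lib.Helper21.SubStep
import Mathlib.LinearAlgebra.Dimension.Finite

/-!
# Monomorphisms `i_* (I^r) ⟶ F` which are isomorphisms near the generic point (helper21)
-/

set_option autoImplicit false
set_option linter.style.haveILetI false
universe u v
open AlgebraicGeometry CategoryTheory Opposite TopologicalSpace Limits

namespace Groth.Agent.Lib.Helper21.MonoPushIdeal

/-- A finite module killed by a maximal ideal has finite length. -/
theorem length_ne_top_of_killed {R : Type u} [CommRing R] (m : Ideal R) [hm : m.IsMaximal]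
    (M : Type v) [AddCommGroup M] [Module R M] [Module.Finite R M]
    (hM : ∀ a ∈ m, ∀ x : M, a • x = 0) : Module.length R M ≠ ⊤ := by
  have hM' : Module.IsTorsionBySet R M (m : Set R) := fun x a => hM a.1 a.2 x
  letI : Field (R ⧸ m) := Ideal.Quotient.field m
  letI := hM'.module
  have hsurj : Function.Surjective (algebraMap R (R ⧸ m)) := Ideal.Quotient.mk_surjective
  have h1 : Module.length R M = Module.length (R ⧸ m) M :=
    Module.length_eq_of_surjective hsurj
  haveI : IsScalarTower R (R ⧸ m) M := hM'.isScalarTower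
  haveI : Module.Finite (R ⧸ m) M := Module.Finite.of_restrictScalars_finite R (R ⧸ m) M
  rw [h1, Module.length_eq_rank, Ne, Cardinal.toENat_eq_top, not_le]
  exact Module.rank_lt_aleph0 _ _

end Groth.Agent.Lib.Helper21.MonoPushIdeal

namespace Groth.Agent.Lib.Helper21.MonoPushIdeal

open Groth.Agent.Lib.Helper78.ModStalk Groth.Agent.Lib.Helper78.ModStalkExact
  Groth.Agent.Lib.Helper21.CohStalkLocal Groth.Agent.Lib.Helper21.StalkLen
  Groth.Agent.Lib.Helper21.SimpleAlg Groth.Agent.Lib.Helper21.SpreadOut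
  Groth.Agent.Lib.Helper21.Devissage Groth.Agent.Lib.Helper21.StalkBiprod
  Groth.Agent.Lib.Helper21.SemisimpleAlg Groth.Agent.Lib.Helper21.DevSummand
  Groth.Agent.Lib.Helper21.RootStep Groth.Agent.Lib.Helper21.SubStep
  Groth.Agent.Lib.Helper21.ClImmDev Groth.Agent.Lib.Helper64.PushStalk

variable {X Z : Scheme.{u}}

/-- Bijectivity of the second factor of a bijective composite with bijective first factor. -/
theorem bijective_of_comp_of_bijective {A B C : Type*} (f : A → B) (g : B → C)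
    (hgf : Function.Bijective (g ∘ f)) (hg : Function.Bijective g) : Function.Bijective f :=
  ⟨hgf.1.of_comp, fun b => by
    obtain ⟨a, ha⟩ := hgf.2 (g b)
    exact ⟨a, hg.1 ha⟩⟩

theorem exists_mono_push_ideal_pow [IsNoetherian X] (i : Z ⟶ X) [IsClosedImmersion i]
    [IsIntegral Z] (F : X.Modules) (hF : Coh.IsCoh F)
    (hann : ∀ a ∈ IsLocalRing.maximalIdeal (X.presheaf.stalk (i (genericPoint Z))),
      ∀ t : F.presheaf.stalk (i (genericPoint Z)), a • t = 0) :
    ∃ (r : ℕ) (I : Z.Modules) (ι : I ⟶ Coh.structureModule Z)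
      (φ : (Scheme.Modules.pushforward i).obj (∐ fun _ : Fin r => I) ⟶ F),
      Mono ι ∧ Coh.IsCoh I ∧ Mono φ ∧
      ∃ U : X.Opens, i (genericPoint Z) ∈ U ∧
        IsIso ((Scheme.Modules.restrictFunctor U.ι).map φ) := by
  set ξ := i (genericPoint Z) with hξdef
  haveI : F.IsQuasicoherent := hF.1
  haveI hfinF : Module.Finite (X.presheaf.stalk ξ) (F.presheaf.stalk ξ) :=
    Groth.Agent.Lib.Helper64.FinTypeStalk.finite_stalk F hF.2 ξ
  obtain ⟨r, hr⟩ := ENat.ne_top_iff_exists.mp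
    (length_ne_top_of_killed (IsLocalRing.maximalIdeal (X.presheaf.stalk ξ)) _ hann)
  have hQ : Coh.IsCoh (pushO i) := isCoh_pushO i
  haveI : (pushO i).IsQuasicoherent := hQ.1
  haveI hQsimple : IsSimpleModule (X.presheaf.stalk ξ) ((pushO i).presheaf.stalk ξ) :=
    isSimpleModule_stalk_pushO i
  have hT : Coh.IsCoh (pow (pushO i) r) := isCoh_pow hQ _
  have hTlen : Module.length (X.presheaf.stalk ξ) ((pow (pushO i) r).presheaf.stalk ξ) =
      (r : ℕ) := by
    rw [length_stalk_pow, Module.length_eq_one_iff.mpr hQsimple, mul_one]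
  have hTk : ∀ a ∈ IsLocalRing.maximalIdeal (X.presheaf.stalk ξ),
      ∀ t : (pow (pushO i) r).presheaf.stalk ξ, a • t = 0 := fun a ha t =>
    stalk_pow_killed (pushO i) ξ a (fun t => smul_eq_zero_of_isSimpleModule _ a ha t) _ t
  obtain ⟨a⟩ := nonempty_linearEquiv_of_killed (IsLocalRing.maximalIdeal (X.presheaf.stalk ξ))
    ((pow (pushO i) r).presheaf.stalk ξ) (F.presheaf.stalk ξ) hTk hann
    (by rw [hTlen]; exact ENat.natCast_ne_top _) (hTlen.trans hr)
  haveI : (pow (pushO i) r).IsQuasicoherent := hT.1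
  obtain ⟨H, p₁, p₂, c, hHq, hHf, hc, hb, hrel, -, -, -⟩ :=
    exists_spread (pow (pushO i) r) F hT.2 hF.2 ξ a.toLinearMap
  have hH : Coh.IsCoh H := ⟨hHq, hHf⟩
  haveI : H.IsQuasicoherent := hHq
  have hb₂ : Function.Bijective (stalkMap p₂ ξ) := by
    constructor
    · intro h h' hh'
      rw [hrel, hrel] at hh'
      exact hb.1 (a.injective (hc.smul_left_cancel.mp hh'))
    · intro g
      obtain ⟨u, rfl⟩ := hc
      obtain ⟨h, hh⟩ := hb.2 (a.symm ((↑u⁻¹ : X.presheaf.stalk ξ) • g))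
      refine ⟨h, ?_⟩
      rw [hrel, hh]
      simp [smul_smul]
  obtain ⟨J₁, hJ₁ξ, hJ₁⟩ := Groth.Agent.Lib.Helper21.ArtinReesS.exists_ideal_mono hH p₁ ξ
    (fun h => h (subsingleton_stalk_kernel p₁ ξ hb.1))
  obtain ⟨J₂, hJ₂ξ, hJ₂⟩ := Groth.Agent.Lib.Helper21.ArtinReesS.exists_ideal_mono hH p₂ ξ
    (fun h => h (subsingleton_stalk_kernel p₂ ξ hb₂.1))
  have hJξ : ξ ∉ ((J₁ * J₂).support : Set X) := by
    rw [Scheme.IdealSheafData.support_mul]
    rintro (h | h)
    · exact hJ₁ξ h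
    · exact hJ₂ξ h
  haveI hm₁ : Mono (Dual3.idealMulι (J₁ * J₂) H ≫ p₁) := hJ₁ _ (fun U => Ideal.mul_le_left)
  haveI hm₂ : Mono (Dual3.idealMulι (J₁ * J₂) H ≫ p₂) := hJ₂ _ (fun U => Ideal.mul_le_right)
  have hS : Coh.IsCoh ((Dual3.idealMul (J₁ * J₂)).obj H) :=
    ⟨inferInstance, Groth.Agent.Lib.Helper21.CohNoeth.isFiniteType_of_mono
      (Dual3.idealMulι (J₁ * J₂) H) hHf⟩
  have hbJ := stalkMap_idealMulι_bijective (J₁ * J₂) H ξ hJξ
  have hbm₁ : Function.Bijective (stalkMap (Dual3.idealMulι (J₁ * J₂) H ≫ p₁) ξ) := by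
    rw [stalkMap_comp]
    exact hb.comp hbJ
  have hbm₂ : Function.Bijective (stalkMap (Dual3.idealMulι (J₁ * J₂) H ≫ p₂) ξ) := by
    rw [stalkMap_comp]
    exact hb₂.comp hbJ
  obtain ⟨J', hJ'ξ, l, hl⟩ :=
    exists_ideal_factor hS hT (Dual3.idealMulι (J₁ * J₂) H ≫ p₁) ξ hbm₁.2
  haveI hlm : Mono (l ≫ (Dual3.idealMulι (J₁ * J₂) H ≫ p₁)) := by
    rw [hl]
    infer_instance
  haveI : Mono l := mono_of_mono l (Dual3.idealMulι (J₁ * J₂) H ≫ p₁)
  have hlb : Function.Bijective (stalkMap l ξ) := by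
    have h1 : stalkMap (l ≫ (Dual3.idealMulι (J₁ * J₂) H ≫ p₁)) ξ =
        stalkMap (Dual3.idealMulι J' (pow (pushO i) r)) ξ := by rw [hl]
    rw [stalkMap_comp] at h1
    refine bijective_of_comp_of_bijective _ _ ?_ hbm₁
    have h2 := stalkMap_idealMulι_bijective J' (pow (pushO i) r) ξ hJ'ξ
    rw [← h1] at h2
    exact h2
  -- the ideal
  obtain ⟨I, ι, hι, hIq, ⟨eI⟩⟩ := exists_ideal_of_mono i (Dual3.idealMulι J' (pushO i))
  haveI : IsLocallyNoetherian Z := LocallyOfFiniteType.isLocallyNoetherian i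
  haveI := hι
  haveI : I.IsQuasicoherent := hIq
  haveI : (Coh.structureModule Z).IsQuasicoherent := isQuasicoherent_structureModule Z
  have hI : Coh.IsCoh I := ⟨hIq, Groth.Agent.Lib.Helper21.CohNoeth.isFiniteType_of_mono ι
    (isCoh_structureModule Z).2⟩
  -- the chain of isomorphisms
  obtain ⟨eT⟩ := nonempty_pow_iso_sigma (pushO i) r
  let E : (Scheme.Modules.pushforward i).obj (∐ fun _ : Fin r => I) ≅
      (Dual3.idealMul J').obj (pow (pushO i) r) :=
    PreservesCoproduct.iso (Scheme.Modules.pushforward i) (fun _ : Fin r => I) ≪≫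
      Sigma.mapIso (fun _ : Fin r => eI) ≪≫
      (PreservesCoproduct.iso (Dual3.idealMul J') (fun _ : Fin r => pushO i)).symm ≪≫
      (Dual3.idealMul J').mapIso eT.symm
  have hJT : Coh.IsCoh ((Dual3.idealMul J').obj (pow (pushO i) r)) :=
    ⟨inferInstance, Groth.Agent.Lib.Helper21.CohNoeth.isFiniteType_of_mono
      (Dual3.idealMulι J' (pow (pushO i) r)) hT.2⟩
  have hsrc : Coh.IsCoh ((Scheme.Modules.pushforward i).obj (∐ fun _ : Fin r => I)) :=
    isCoh_of_iso E.symm hJT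
  haveI := hsrc.1
  let φ : (Scheme.Modules.pushforward i).obj (∐ fun _ : Fin r => I) ⟶ F :=
    E.hom ≫ l ≫ (Dual3.idealMulι (J₁ * J₂) H ≫ p₂)
  haveI hφm : Mono φ := mono_comp _ _
  have hφs : Function.Surjective (stalkMap φ ξ) := by
    rw [stalkMap_comp, stalkMap_comp]
    exact (hbm₂.2.comp hlb.2).comp (stalkMap_bijective_of_isIso E.hom ξ).2
  obtain ⟨U, hξU, hU⟩ := exists_open_cokernel_sections_subsingleton hF.2 φ ξ hφs
  refine ⟨r, I, ι, φ, hι, hI, hφm, U, hξU, ?_⟩
  haveI : Epi ((Scheme.Modules.restrictFunctor U.ι).map φ) :=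
    epi_restrict_of_cokernel_sections_subsingleton φ U hU
  haveI : Mono ((Scheme.Modules.restrictFunctor U.ι).map φ) := by
    refine mono_restrict_of_kernel_sections_subsingleton φ U (fun W _ => ?_)
    exact subsingleton_sections_of_isZero (isZero_kernel_of_mono φ) W
  exact isIso_of_mono_of_epi _

end Groth.Agent.Lib.Helper21.MonoPushIdeal
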