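import Groth.Prelude.Def_ClSub2
import Mathlib.AlgebraicGeometry.Morphisms.Proper
import Mathlib.AlgebraicGeometry.Morphisms.Immersion
import Mathlib.AlgebraicGeometry.PullbackCarrier

/-!
# Closed subsets proper over a base (`ClSub.IsProperOver`)

* `universallyClosed_of_family`, `isSeparated_of_family`: descent of universal closedness and
  separatedness along a finite jointly surjective family of (universally closed) morphisms.
* `isProper_comp_iff_of_range_eq`: properness of a closed subscheme over the base depends only on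
  its underlying closed subset.
* `isProperOver_iff_of_range_eq`, `isProperOver_range`, ...: the resulting API for `ClSub.IsProperOver`.
-/

set_option autoImplicit false
universe u

open AlgebraicGeometry CategoryTheory Limits TopologicalSpace

namespace Groth.Agent.Lib.Helper21.ProperOver

section Family

variable {ι : Type*} [Finite ι] {W S : Scheme.{u}} {Z : ι → Scheme.{u}}

/-- Universal closedness descends along a finite jointly surjective family. -/
theorem universallyClosed_of_family (h : ∀ i, Z i ⟶ W) (g : W ⟶ S)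
    (huc : ∀ i, UniversallyClosed (h i ≫ g)) (hsurj : ⋃ i, Set.range (h i) = Set.univ) :
    UniversallyClosed g := by
  rw [universallyClosed_eq]
  intro W' S' i₁ i₂ g' sq
  intro C hC
  have key : g' '' C = ⋃ i, ((pullback.snd (h i) i₁ ≫ g') '' ((pullback.snd (h i) i₁) ⁻¹' C)) := by
    ext y
    simp only [Set.mem_image, Set.mem_iUnion, Set.mem_preimage]
    constructor
    · rintro ⟨c, hc, rfl⟩
      have hmem : i₁ c ∈ ⋃ i, Set.range (h i) := hsurj ▸ Set.mem_univ _
      obtain ⟨i, z, hz⟩ := Set.mem_iUnion.mp hmem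
      obtain ⟨p, hp₁, hp₂⟩ := Scheme.Pullback.exists_preimage_pullback (f := h i) (g := i₁) z c hz
      exact ⟨i, p, hp₂ ▸ hc, by rw [Scheme.Hom.comp_apply, hp₂]⟩
    · rintro ⟨i, p, hp, rfl⟩
      exact ⟨_, hp, by rw [Scheme.Hom.comp_apply]⟩
  rw [key]
  refine isClosed_iUnion_of_finite fun i => ?_
  have hpb : IsPullback (pullback.fst (h i) i₁) (pullback.snd (h i) i₁ ≫ g') (h i ≫ g) i₂ :=
    (IsPullback.of_hasPullback (h i) i₁).paste_vert sq.flip
  have : UniversallyClosed (pullback.snd (h i) i₁ ≫ g') :=
    MorphismProperty.of_isPullback hpb (huc i)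
  exact (pullback.snd (h i) i₁ ≫ g').isClosedMap _
    (hC.preimage (pullback.snd (h i) i₁).continuous)

/-- Separatedness descends along a finite jointly surjective family of universally closed maps. -/
theorem isSeparated_of_family (h : ∀ i, Z i ⟶ W) (hh : ∀ i, UniversallyClosed (h i)) (g : W ⟶ S)
    (hsep : ∀ i, IsSeparated (h i ≫ g)) (hsurj : ⋃ i, Set.range (h i) = Set.univ) :
    IsSeparated g := by
  refine ⟨IsClosedImmersion.of_isPreimmersion _ ?_⟩
  let m : ∀ i, pullback (h i ≫ g) (h i ≫ g) ⟶ pullback g g := fun i =>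
    pullback.map (h i ≫ g) (h i ≫ g) g g (h i) (h i) (𝟙 S) (by simp) (by simp)
  have hm : ∀ i, UniversallyClosed (m i) := fun i =>
    MorphismProperty.pullbackMap (P := @UniversallyClosed) (hh i) (hh i) rfl rfl
  have hcomm : ∀ i, pullback.diagonal (h i ≫ g) ≫ m i = h i ≫ pullback.diagonal g := by
    intro i
    apply pullback.hom_ext
    · rw [Category.assoc, pullback.lift_fst, pullback.diagonal_fst_assoc, Category.assoc,
        pullback.diagonal_fst, Category.comp_id]
    · rw [Category.assoc, pullback.lift_snd, pullback.diagonal_snd_assoc, Category.assoc,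
        pullback.diagonal_snd, Category.comp_id]
  have key : Set.range (pullback.diagonal g) =
      ⋃ i, (m i) '' Set.range (pullback.diagonal (h i ≫ g)) := by
    have h1 : Set.range (pullback.diagonal g) = (pullback.diagonal g) '' (⋃ i, Set.range (h i)) := by
      rw [hsurj, Set.image_univ]
    rw [h1, Set.image_iUnion]
    refine Set.iUnion_congr fun i => ?_
    rw [← Set.range_comp, ← Set.range_comp]
    have := congrArg (fun φ : Z i ⟶ pullback g g => Set.range φ) (hcomm i)
    simp only [Scheme.Hom.comp_base, TopCat.coe_comp] at this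
    exact this.symm
  rw [key]
  refine isClosed_iUnion_of_finite fun i => ?_
  have := hm i
  have := hsep i
  exact (m i).isClosedMap _ (pullback.diagonal (h i ≫ g)).isClosedEmbedding.isClosed_range

end Family

section Independence

variable {X S : Scheme.{u}}

open Scheme.IdealSheafData in
/-- If `j` is surjective and universally closed and `j ≫ g` is proper, with `g` locally of finite
type, then `g` is proper. -/
theorem isProper_of_comp_surjective {T₀ T : Scheme.{u}} (j : T₀ ⟶ T) [UniversallyClosed j]
    [Surjective j] (g : T ⟶ S) [LocallyOfFiniteType g] [IsProper (j ≫ g)] : IsProper g := by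
  have huc : UniversallyClosed g := UniversallyClosed.of_comp_surjective j g
  have hsep : IsSeparated g :=
    isSeparated_of_family (ι := Unit) (fun _ => j) (fun _ => inferInstance) g
      (fun _ => inferInstance) (by rw [j.surjective.range_eq]; exact Set.iUnion_const _)
  exact { }

/-- The reduced induced structure on a closed subset contained in the range of a closed immersion
`i` factors through `i`. -/
theorem exists_lift_vanishingIdeal {T : Scheme.{u}} (i : T ⟶ X) [IsClosedImmersion i]
    (Z : Closeds X) (hZ : (Z : Set X) ⊆ Set.range i) :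
    ∃ j : (Scheme.IdealSheafData.vanishingIdeal Z).subscheme ⟶ T,
      j ≫ i = (Scheme.IdealSheafData.vanishingIdeal Z).subschemeι := by
  have H : i.ker ≤ (Scheme.IdealSheafData.vanishingIdeal Z).subschemeι.ker := by
    rw [Scheme.IdealSheafData.ker_subschemeι,
      ← Scheme.IdealSheafData.le_support_iff_le_vanishingIdeal]
    intro x hx
    have : x ∈ ((Scheme.Hom.ker i).support : Set X) := by
      rw [Scheme.Hom.support_ker]
      exact subset_closure (hZ hx)
    exact this
  exact ⟨IsClosedImmersion.lift i _ H, IsClosedImmersion.lift_fac i _ H⟩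

/-- Properness over the base of a closed subscheme only depends on the underlying closed set:
comparison with the reduced induced structure. -/
theorem isProper_comp_iff_vanishingIdeal (f : X ⟶ S) [LocallyOfFiniteType f] {T : Scheme.{u}}
    (i : T ⟶ X) [IsClosedImmersion i] (Z : Closeds X) (hZ : Set.range i = (Z : Set X)) :
    IsProper (i ≫ f) ↔ IsProper ((Scheme.IdealSheafData.vanishingIdeal Z).subschemeι ≫ f) := by
  obtain ⟨j, hj⟩ := exists_lift_vanishingIdeal i Z hZ.ge
  have hjc : IsClosedImmersion j := by
    have : IsClosedImmersion (j ≫ i) := hj ▸ inferInstance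
    exact IsClosedImmersion.of_comp j i
  have hjs : Surjective j := by
    refine ⟨fun t => ?_⟩
    have ht : i t ∈ Set.range (Scheme.IdealSheafData.vanishingIdeal Z).subschemeι := by
      rw [Scheme.IdealSheafData.range_subschemeι,
        Scheme.IdealSheafData.coe_support_vanishingIdeal, ← hZ]
      exact ⟨t, rfl⟩
    obtain ⟨z, hz⟩ := ht
    refine ⟨z, i.isClosedEmbedding.injective ?_⟩
    rw [← Scheme.Hom.comp_apply, hj, hz]
  rw [← hj, Category.assoc]
  constructor
  · intro h
    infer_instance
  · intro h
    exact isProper_of_comp_surjective j (i ≫ f)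

/-- Properness over the base of a closed subscheme only depends on the underlying closed set. -/
theorem isProper_comp_iff_of_range_eq (f : X ⟶ S) [LocallyOfFiniteType f] {T T' : Scheme.{u}}
    (i : T ⟶ X) [IsClosedImmersion i] (i' : T' ⟶ X) [IsClosedImmersion i']
    (h : Set.range i = Set.range i') : IsProper (i ≫ f) ↔ IsProper (i' ≫ f) := by
  let Z : Closeds X := ⟨Set.range i, i.isClosedEmbedding.isClosed_range⟩
  rw [isProper_comp_iff_vanishingIdeal f i Z rfl, isProper_comp_iff_vanishingIdeal f i' Z h.symm]

/-- `ClSub.IsProperOver` can be tested on any closed subscheme structure. -/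
theorem isProperOver_iff_of_range_eq (f : X ⟶ S) [LocallyOfFiniteType f] {T : Scheme.{u}}
    (i : T ⟶ X) [IsClosedImmersion i] (Z : Set X) (hZ : Set.range i = Z) :
    ClSub.IsProperOver f Z ↔ IsProper (i ≫ f) := by
  subst hZ
  have hcl : IsClosed (Set.range i) := i.isClosedEmbedding.isClosed_range
  rw [isProper_comp_iff_vanishingIdeal f i ⟨Set.range i, hcl⟩ rfl]
  exact ⟨fun ⟨_, h⟩ => h, fun h => ⟨hcl, h⟩⟩

theorem isProperOver_of_isProper (f : X ⟶ S) [LocallyOfFiniteType f] {T : Scheme.{u}}
    (i : T ⟶ X) [IsClosedImmersion i] (h : IsProper (i ≫ f)) :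
    ClSub.IsProperOver f (Set.range i) :=
  (isProperOver_iff_of_range_eq f i _ rfl).mpr h

theorem range_subschemeι_vanishingIdeal (Z : Set X) (hZ : IsClosed Z) :
    Set.range (Scheme.IdealSheafData.vanishingIdeal ⟨Z, hZ⟩).subschemeι = Z := by
  rw [Scheme.IdealSheafData.range_subschemeι, Scheme.IdealSheafData.coe_support_vanishingIdeal]
  rfl

/-- The reduced induced structure is proper over the base: unfolding. -/
theorem isProperOver_iff_vanishingIdeal (f : X ⟶ S) (Z : Set X) (hZ : IsClosed Z) :
    ClSub.IsProperOver f Z ↔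
      IsProper ((Scheme.IdealSheafData.vanishingIdeal ⟨Z, hZ⟩).subschemeι ≫ f) :=
  ⟨fun ⟨_, h⟩ => h, fun h => ⟨hZ, h⟩⟩

/-- Image of a universally closed morphism whose composite to the base is proper. -/
theorem isProperOver_range_of_universallyClosed {T Y : Scheme.{u}} (a : T ⟶ Y)
    [UniversallyClosed a] (q : Y ⟶ S) [LocallyOfFiniteType q] [IsProper (a ≫ q)] :
    ClSub.IsProperOver q (Set.range a) := by
  have hr : Set.range a.imageι = Set.range a := by
    rw [Scheme.IdealSheafData.range_subschemeι, Scheme.Hom.support_ker]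
    exact a.isClosedMap.isClosed_range.closure_eq
  rw [← hr]
  apply isProperOver_of_isProper q a.imageι
  haveI : IsProper (a.toImage ≫ (a.imageι ≫ q)) := by
    rw [← Category.assoc, a.toImage_imageι]; infer_instance
  exact isProper_of_comp_surjective a.toImage (a.imageι ≫ q)

/-- Image of a closed subset proper over the base under a morphism to a separated target. -/
theorem isProperOver_image_of_isSeparated {Y : Scheme.{u}} (p : X ⟶ S) (q : Y ⟶ S)
    [LocallyOfFiniteType q] [IsSeparated q] (f : X ⟶ Y) (w : f ≫ q = p)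
    (Z : Set X) (hZ : ClSub.IsProperOver p Z) : ClSub.IsProperOver q (f '' Z) := by
  obtain ⟨hcl, hp⟩ := hZ
  let ιZ := (Scheme.IdealSheafData.vanishingIdeal ⟨Z, hcl⟩).subschemeι
  haveI : IsProper ((ιZ ≫ f) ≫ q) := by rw [Category.assoc, w]; exact hp
  haveI : IsProper (ιZ ≫ f) := IsProper.of_comp (ιZ ≫ f) q
  have hr : Set.range (ιZ ≫ f) = f '' Z := by
    rw [Scheme.Hom.comp_base, TopCat.coe_comp, Set.range_comp,
      range_subschemeι_vanishingIdeal Z hcl]
  rw [← hr]
  exact isProperOver_range_of_universallyClosed (ιZ ≫ f) q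

/-- Image of a closed subset proper over the base under a universally closed morphism. -/
theorem isProperOver_image_of_universallyClosed {Y : Scheme.{u}} (p : X ⟶ S) (q : Y ⟶ S)
    [LocallyOfFiniteType q] (f : X ⟶ Y) [UniversallyClosed f] (w : f ≫ q = p)
    (Z : Set X) (hZ : ClSub.IsProperOver p Z) : ClSub.IsProperOver q (f '' Z) := by
  obtain ⟨hcl, hp⟩ := hZ
  let ιZ := (Scheme.IdealSheafData.vanishingIdeal ⟨Z, hcl⟩).subschemeι
  haveI : IsProper ((ιZ ≫ f) ≫ q) := by rw [Category.assoc, w]; exact hp
  have hr : Set.range (ιZ ≫ f) = f '' Z := by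
    rw [Scheme.Hom.comp_base, TopCat.coe_comp, Set.range_comp,
      range_subschemeι_vanishingIdeal Z hcl]
  rw [← hr]
  exact isProperOver_range_of_universallyClosed (ιZ ≫ f) q

/-- Preimage of a closed subset proper over the base under a proper morphism. -/
theorem isProperOver_preimage_of_isProper {Y : Scheme.{u}} (p : X ⟶ S) (q : Y ⟶ S)
    [LocallyOfFiniteType p] (f : X ⟶ Y) [IsProper f] (w : f ≫ q = p)
    (Z : Set Y) (hZ : ClSub.IsProperOver q Z) : ClSub.IsProperOver p (f ⁻¹' Z) := by
  obtain ⟨hcl, hp⟩ := hZ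
  let ιZ := (Scheme.IdealSheafData.vanishingIdeal ⟨Z, hcl⟩).subschemeι
  have hr : Set.range (pullback.fst f ιZ) = f ⁻¹' Z := by
    rw [Scheme.Pullback.range_fst, range_subschemeι_vanishingIdeal Z hcl]
  rw [← hr]
  apply isProperOver_of_isProper p (pullback.fst f ιZ)
  have : pullback.fst f ιZ ≫ p = pullback.snd f ιZ ≫ (ιZ ≫ q) := by
    rw [← w, ← Category.assoc, pullback.condition, Category.assoc]
  rw [this]
  haveI : IsProper (ιZ ≫ q) := hp
  infer_instance

/-- Base change of a closed subset proper over the base. -/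
theorem isProperOver_preimage_of_isPullback {X' S' : Scheme.{u}} (f : X ⟶ S)
    [LocallyOfFiniteType f] (g : S' ⟶ S) (g' : X' ⟶ X) (f' : X' ⟶ S')
    (sq : IsPullback g' f' f g) (Z : Set X) (hZ : ClSub.IsProperOver f Z) :
    ClSub.IsProperOver f' (g' ⁻¹' Z) := by
  obtain ⟨hcl, hp⟩ := hZ
  haveI : LocallyOfFiniteType f' := MorphismProperty.of_isPullback sq inferInstance
  let ιZ := (Scheme.IdealSheafData.vanishingIdeal ⟨Z, hcl⟩).subschemeι
  have hr : Set.range (pullback.fst g' ιZ) = g' ⁻¹' Z := by
    rw [Scheme.Pullback.range_fst, range_subschemeι_vanishingIdeal Z hcl]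
  rw [← hr]
  apply isProperOver_of_isProper f' (pullback.fst g' ιZ)
  have hpb : IsPullback (pullback.snd g' ιZ) (pullback.fst g' ιZ ≫ f') (ιZ ≫ f) g :=
    (IsPullback.of_hasPullback g' ιZ).flip.paste_vert sq
  exact MorphismProperty.of_isPullback hpb hp

/-- A closed subset of a closed subset proper over the base is proper over the base. -/
theorem isProperOver_of_subset (f : X ⟶ S) {Z Z' : Set X} (hZ : ClSub.IsProperOver f Z)
    (hZ' : IsClosed Z') (hsub : Z' ⊆ Z) : ClSub.IsProperOver f Z' := by
  obtain ⟨hcl, hp⟩ := hZ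
  refine ⟨hZ', ?_⟩
  have hle : Scheme.IdealSheafData.vanishingIdeal ⟨Z, hcl⟩ ≤
      Scheme.IdealSheafData.vanishingIdeal ⟨Z', hZ'⟩ :=
    Scheme.IdealSheafData.vanishingIdeal_antimono (S := ⟨Z', hZ'⟩) (T := ⟨Z, hcl⟩) hsub
  rw [← Scheme.IdealSheafData.inclusion_subschemeι hle, Category.assoc]
  haveI := hp
  infer_instance

/-- A finite union of closed subsets proper over the base is proper over the base. -/
theorem isProperOver_iUnion (f : X ⟶ S) [LocallyOfFiniteType f] {ι : Type*} [Finite ι]
    (Z : ι → Set X) (hZ : ∀ i, ClSub.IsProperOver f (Z i)) :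
    ClSub.IsProperOver f (⋃ i, Z i) := by
  have hcl : ∀ i, IsClosed (Z i) := fun i => (hZ i).1
  have hU : IsClosed (⋃ i, Z i) := isClosed_iUnion_of_finite hcl
  refine ⟨hU, ?_⟩
  let I := Scheme.IdealSheafData.vanishingIdeal ⟨⋃ i, Z i, hU⟩
  let J : ι → X.IdealSheafData := fun i => Scheme.IdealSheafData.vanishingIdeal ⟨Z i, hcl i⟩
  have hle : ∀ i, I ≤ J i := fun i =>
    Scheme.IdealSheafData.vanishingIdeal_antimono (S := ⟨Z i, hcl i⟩) (T := ⟨⋃ i, Z i, hU⟩)
      (Set.subset_iUnion Z i)
  let h : ∀ i, (J i).subscheme ⟶ I.subscheme := fun i => Scheme.IdealSheafData.inclusion (hle i)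
  have hfac : ∀ i, h i ≫ I.subschemeι = (J i).subschemeι := fun i =>
    Scheme.IdealSheafData.inclusion_subschemeι (hle i)
  have hprop : ∀ i, IsProper (h i ≫ (I.subschemeι ≫ f)) := fun i => by
    rw [← Category.assoc, hfac i]; exact (hZ i).2
  have hsurj : ⋃ i, Set.range (h i) = Set.univ := by
    rw [Set.eq_univ_iff_forall]
    intro w
    have hw : I.subschemeι w ∈ ⋃ i, Z i := by
      have : I.subschemeι w ∈ Set.range I.subschemeι := ⟨w, rfl⟩
      rwa [range_subschemeι_vanishingIdeal _ hU] at this
    obtain ⟨i, hi⟩ := Set.mem_iUnion.mp hw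
    rw [← range_subschemeι_vanishingIdeal (Z i) (hcl i)] at hi
    obtain ⟨z, hz⟩ := hi
    refine Set.mem_iUnion.mpr ⟨i, z, I.subschemeι.isClosedEmbedding.injective ?_⟩
    rw [← Scheme.Hom.comp_apply, hfac i, hz]
  have huc : UniversallyClosed (I.subschemeι ≫ f) :=
    universallyClosed_of_family h _ (fun i => by have := hprop i; infer_instance) hsurj
  have hsep : IsSeparated (I.subschemeι ≫ f) :=
    isSeparated_of_family h (fun i => inferInstance) _
      (fun i => by have := hprop i; infer_instance) hsurj
  exact { }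

end Independence

end Groth.Agent.Lib.Helper21.ProperOver
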