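import Groth.Agent.Lib.Lead.PullbackAff3
import Groth.Agent.Lib.Helper21.QCohSections
import Groth.Agent.Lib.Helper2.KerSec

set_option autoImplicit false
set_option linter.style.haveILetI false
universe u

open AlgebraicGeometry CategoryTheory Opposite TopologicalSpace

namespace Groth.Agent.Lib.Helper21.PullNat

open Scheme.Modules TensorProduct Groth.Agent.Lib.Lead.PullbackAff
  Groth.Agent.Lib.Helper21.QCohSections

variable {X Y : Scheme.{u}} (f : X ⟶ Y) {G G' : Y.Modules} (α : G ⟶ G')
  {U : X.Opens} {V : Y.Opens} (hU : IsAffineOpen U) (hV : IsAffineOpen V) (e : U ≤ f ⁻¹ᵁ V)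

theorem pullbackRestrictIso_naturality :
    (restrictFunctor hU.fromSpec).map ((pullback f).map α) ≫
        (pullbackRestrictIso f G' hU hV e).hom =
      (pullbackRestrictIso f G hU hV e).hom ≫
        (pullback (Spec.map (f.appLE V U e))).map ((restrictFunctor hV.fromSpec).map α) := by
  have h1 := (restrictFunctorIsoPullback hU.fromSpec).hom.naturality ((pullback f).map α)
  have h2 := (pullbackComp hU.fromSpec f).hom.naturality α
  have h3 := (pullbackCongr (hV.SpecMap_appLE_fromSpec f hU e).symm).hom.naturality α
  have h4 := (pullbackComp (Spec.map (f.appLE V U e)) hV.fromSpec).inv.naturality α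
  have h5 := (restrictFunctorIsoPullback hV.fromSpec).inv.naturality α
  dsimp only [Functor.comp_map] at h2 h4
  simp only [pullbackRestrictIso, Iso.trans_hom, Iso.app_hom, Iso.symm_hom, Functor.mapIso_hom,
    Iso.app_inv, Category.assoc]
  rw [reassoc_of% h1, reassoc_of% h2, reassoc_of% h3, reassoc_of% h4, ← Functor.map_comp,
    ← Functor.map_comp, h5]

/-- The inverse of the counit `fromTildeΓ`, as a morphism out of `M`. -/
noncomputable def toTilde {R : CommRingCat.{u}} (M : (Spec R).Modules) [M.IsQuasicoherent] :
    M ⟶ (tilde.functor R).obj (moduleSpecΓFunctor.obj M) :=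
  haveI : IsIso (fromTildeΓNatTrans.app M) := inferInstanceAs (IsIso M.fromTildeΓ)
  inv (fromTildeΓNatTrans.app M)

theorem toTilde_naturality {R : CommRingCat.{u}} {M N : (Spec R).Modules} (β : M ⟶ N)
    [M.IsQuasicoherent] [N.IsQuasicoherent] :
    β ≫ toTilde N = toTilde M ≫ (tilde.functor R).map (moduleSpecΓFunctor.map β) := by
  haveI : IsIso (fromTildeΓNatTrans.app M) := inferInstanceAs (IsIso M.fromTildeΓ)
  haveI : IsIso (fromTildeΓNatTrans.app N) := inferInstanceAs (IsIso N.fromTildeΓ)
  unfold toTilde
  rw [IsIso.comp_inv_eq, Category.assoc, IsIso.eq_inv_comp]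
  exact (fromTildeΓNatTrans.naturality β).symm

variable [G.IsQuasicoherent] [G'.IsQuasicoherent]

theorem pullbackRestrictIsoTilde_hom :
    (pullbackRestrictIsoTilde f G hU hV e).hom = (pullbackRestrictIso f G hU hV e).hom ≫
      (pullback (Spec.map (f.appLE V U e))).map (toTilde (G.restrict hV.fromSpec)) ≫
      (tildePullbackIso (f.appLE V U e)).hom.app
        (moduleSpecΓFunctor.obj (G.restrict hV.fromSpec)) := rfl

theorem pullbackRestrictIsoTilde_naturality :
    (restrictFunctor hU.fromSpec).map ((pullback f).map α) ≫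
        (pullbackRestrictIsoTilde f G' hU hV e).hom =
      (pullbackRestrictIsoTilde f G hU hV e).hom ≫
        (tilde.functor Γ(X, U)).map ((ModuleCat.extendScalars (f.appLE V U e).hom).map
          (moduleSpecΓFunctor.map ((restrictFunctor hV.fromSpec).map α))) := by
  have h1 := pullbackRestrictIso_naturality f α hU hV e
  have h2 := toTilde_naturality ((restrictFunctor hV.fromSpec).map α)
  have h3 := (tildePullbackIso (f.appLE V U e)).hom.naturality
    (moduleSpecΓFunctor.map ((restrictFunctor hV.fromSpec).map α))
  dsimp only [Functor.comp_map] at h3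
  rw [pullbackRestrictIsoTilde_hom, pullbackRestrictIsoTilde_hom, Category.assoc, Category.assoc,
    reassoc_of% h1, ← h3, ← Functor.map_comp_assoc, h2, Functor.map_comp_assoc]

theorem ΓpullbackIso_hom :
    (ΓpullbackIso f G hU hV e).hom =
      moduleSpecΓFunctor.map (pullbackRestrictIsoTilde f G hU hV e).hom ≫
        (tilde.toTildeΓNatIso (R := Γ(X, U))).inv.app _ := rfl

theorem ΓpullbackIso_naturality :
    moduleSpecΓFunctor.map ((restrictFunctor hU.fromSpec).map ((pullback f).map α)) ≫
        (ΓpullbackIso f G' hU hV e).hom =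
      (ΓpullbackIso f G hU hV e).hom ≫
        (ModuleCat.extendScalars (f.appLE V U e).hom).map
          (moduleSpecΓFunctor.map ((restrictFunctor hV.fromSpec).map α)) := by
  have h1 := pullbackRestrictIsoTilde_naturality f α hU hV e
  have h2 := (tilde.toTildeΓNatIso (R := Γ(X, U))).inv.naturality
    ((ModuleCat.extendScalars (f.appLE V U e).hom).map
          (moduleSpecΓFunctor.map ((restrictFunctor hV.fromSpec).map α)))
  dsimp only [Functor.comp_map, Functor.id_map] at h2
  rw [ΓpullbackIso_hom, ΓpullbackIso_hom, Category.assoc, ← h2, ← Functor.map_comp_assoc, h1,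
    Functor.map_comp_assoc]

theorem secEquiv_naturality {X : Scheme.{u}} {U : X.Opens} (hU : IsAffineOpen U)
    {F F' : X.Modules} (β : F ⟶ F') (n : moduleSpecΓFunctor.obj (F.restrict hU.fromSpec)) :
    secEquiv hU F' ((moduleSpecΓFunctor.map ((restrictFunctor hU.fromSpec).map β)).hom n) =
      β.app U (secEquiv hU F n) := by
  exact (Groth.Agent.Lib.Helper2.KerSec.naturality_apply β
    (homOfLE (fromSpec_image_top hU).ge) (show Γ(F, hU.fromSpec ''ᵁ ⊤) from n)).symm

theorem secEquiv_symm_naturality {X : Scheme.{u}} {U : X.Opens} (hU : IsAffineOpen U)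
    {F F' : X.Modules} (β : F ⟶ F') (t : Γ(F, U)) :
    (secEquiv hU F').symm (β.app U t) =
      (moduleSpecΓFunctor.map ((restrictFunctor hU.fromSpec).map β)).hom ((secEquiv hU F).symm t) := by
  apply (secEquiv hU F').injective
  rw [LinearEquiv.apply_symm_apply, secEquiv_naturality, LinearEquiv.apply_symm_apply]

omit [G.IsQuasicoherent] [G'.IsQuasicoherent] in
theorem congr_lTensor
    (y : letI := (f.appLE V U e).hom.toAlgebra
      Γ(X, U) ⊗[Γ(Y, V)] (moduleSpecΓFunctor.obj (G.restrict hV.fromSpec))) :
    letI := (f.appLE V U e).hom.toAlgebra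
    TensorProduct.AlgebraTensorModule.congr (LinearEquiv.refl Γ(X, U) Γ(X, U)) (secEquiv hV G')
        (LinearMap.lTensor Γ(X, U)
          (moduleSpecΓFunctor.map ((restrictFunctor hV.fromSpec).map α)).hom y) =
      LinearMap.lTensor Γ(X, U) (appL α V)
        (TensorProduct.AlgebraTensorModule.congr (LinearEquiv.refl Γ(X, U) Γ(X, U))
          (secEquiv hV G) y) := by
  letI := (f.appLE V U e).hom.toAlgebra
  induction y using TensorProduct.induction_on with
  | zero => simp only [map_zero]
  | tmul b m =>
    simp only [LinearMap.lTensor_tmul, TensorProduct.AlgebraTensorModule.congr_tmul,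
      LinearEquiv.refl_apply, secEquiv_naturality, appL_apply]
  | add a b ha hb =>
    simp only [map_add]
    rw [ha, hb]

/-- **Naturality of the sections of a pullback.** -/
theorem sectionsPullbackEquiv_naturality (t : Γ((pullback f).obj G, U)) :
    letI := (f.appLE V U e).hom.toAlgebra
    sectionsPullbackEquiv f G' hU hV e (((pullback f).map α).app U t) =
      LinearMap.lTensor Γ(X, U) (appL α V) (sectionsPullbackEquiv f G hU hV e t) := by
  letI := (f.appLE V U e).hom.toAlgebra
  have h := ΓpullbackIso_naturality f α hU hV e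
  have h' := congr($(h).hom ((secEquiv hU ((pullback f).obj G)).symm t))
  simp only [ModuleCat.hom_comp, LinearMap.comp_apply] at h'
  simp only [sectionsPullbackEquiv, LinearEquiv.trans_apply, Iso.toLinearEquiv_apply]
  rw [secEquiv_symm_naturality]
  erw [h']
  exact congr_lTensor f α hV e _

end Groth.Agent.Lib.Helper21.PullNat
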