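import Groth.Agent.Lib.Helper78.ModStalk
import Groth.Agent.Lib.Helper21.CohSplit
import Groth.Agent.Lib.Helper64.CohPush
import Mathlib.AlgebraicGeometry.Morphisms.ClosedImmersion

/-!
# Stalks of `j_* M` for a closed immersion `j : C ⟶ S` (helper21)

* `subsingleton_stalk_of_not_mem_range`: the stalk of `j_* M` vanishes off the image of `j`;
* `isSMulRegular_stalk_push`: if the image of `a : O_{S, j c}` in `O_{C,c}` is `M_c`-regular, then
  `a` is `(j_* M)_{j c}`-regular (only uses that `j` is a topological embedding).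
-/

set_option autoImplicit false
universe u

open AlgebraicGeometry CategoryTheory Opposite TopologicalSpace

namespace Groth.Agent.Lib.Helper21.PushClosedStalk

open Groth.Agent.Lib.Helper78.ModStalk

variable {C S : Scheme.{u}} (j : C ⟶ S) (M : C.Modules)

/-- `j_* M` -/
noncomputable abbrev pM : S.Modules := (Scheme.Modules.pushforward j).obj M

/-- sections of `M` over `j⁻¹ U` as sections of `j_* M` over `U` -/
def ofSec {U : S.Opens} (t : Γ(M, j ⁻¹ᵁ U)) : Γ(pM j M, U) := t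

/-- sections of `j_* M` over `U` as sections of `M` over `j⁻¹ U` -/
def toSec {U : S.Opens} (t : Γ(pM j M, U)) : Γ(M, j ⁻¹ᵁ U) := t

theorem ofSec_toSec {U : S.Opens} (t : Γ(pM j M, U)) : ofSec j M (toSec j M t) = t := rfl

theorem smul_ofSec {U : S.Opens} (a : Γ(S, U)) (b : Γ(M, j ⁻¹ᵁ U)) :
    a • ofSec j M b = ofSec j M ((j.app U).hom a • b) := rfl

theorem preimage_mono {U V : S.Opens} (h : V ≤ U) : j ⁻¹ᵁ V ≤ j ⁻¹ᵁ U := fun _ hx => h hx

theorem ofSec_res {U V : S.Opens} (h : V ≤ U) (a : Γ(M, j ⁻¹ᵁ U)) :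
    (pM j M).presheaf.map (homOfLE h).op (ofSec j M a) =
      ofSec j M (M.presheaf.map (homOfLE (preimage_mono j h)).op a) := rfl

theorem ofSec_zero {U : S.Opens} : ofSec j M (0 : Γ(M, j ⁻¹ᵁ U)) = 0 := rfl

theorem ofSec_injective {U : S.Opens} : Function.Injective (ofSec j M (U := U)) :=
  fun _ _ h => h

theorem germ_res' {X : Scheme.{u}} (F : X.Modules) (U V : X.Opens) (h : V ≤ U) (x : X)
    (hx : x ∈ V) (s : Γ(F, U)) :
    F.presheaf.germ V x hx (F.presheaf.map (homOfLE h).op s) = F.presheaf.germ U x (h hx) s :=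
  TopCat.Presheaf.germ_res_apply F.presheaf (homOfLE h) x hx s

/-- the stalk of `j_* M` vanishes off the (closed) image of `j` -/
theorem subsingleton_stalk_of_not_mem_range [IsClosedImmersion j] (x : S)
    (hx : x ∉ Set.range j) : Subsingleton ((pM j M).presheaf.stalk x) := by
  have hcl : IsClosed (Set.range j) := j.isClosedEmbedding.isClosed_range
  let W : S.Opens := ⟨(Set.range j)ᶜ, hcl.isOpen_compl⟩
  have hxW : x ∈ W := hx
  suffices h : ∀ m : (pM j M).presheaf.stalk x, m = 0 from ⟨fun a b => (h a).trans (h b).symm⟩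
  intro m
  obtain ⟨U, hxU, t, rfl⟩ := (pM j M).presheaf.exists_germ_eq (x := x) m
  have hle : U ⊓ W ≤ U := inf_le_left
  rw [← germ_res' (pM j M) U (U ⊓ W) hle x ⟨hxU, hxW⟩ t]
  have h2 : j ⁻¹ᵁ (U ⊓ W) = ⊥ := by
    ext z
    simp only [Opens.coe_bot, Set.mem_empty_iff_false, iff_false]
    rintro ⟨-, hz⟩
    exact hz ⟨z, rfl⟩
  have hsub : Subsingleton Γ(M, j ⁻¹ᵁ (U ⊓ W)) := by
    rw [h2]
    exact Groth.Agent.Lib.Helper21.CohSplit.subsingleton_sections_of_forall_subsingleton_stalk M ⊥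
      (fun y hy => absurd hy (by simp))
  have hz : (pM j M).presheaf.map (homOfLE hle).op t = 0 :=
    Subsingleton.elim (α := Γ(M, j ⁻¹ᵁ (U ⊓ W))) _ _
  rw [hz, map_zero]

/-- regular elements on the stalk of `j_* M` -/
theorem isSMulRegular_stalk_push (hj : Topology.IsEmbedding j) (c : C)
    (a : S.presheaf.stalk (j c))
    (ha : IsSMulRegular (M.presheaf.stalk c) ((j.stalkMap c).hom a)) :
    IsSMulRegular ((pM j M).presheaf.stalk (j c)) a := by
  rw [isSMulRegular_iff_right_eq_zero_of_smul]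
  intro q hq
  obtain ⟨W, hxW, r', m', rfl, rfl⟩ := exists_germ_eq₂ (pM j M) (j c) a q
  rw [← germ_smul] at hq
  have hst : (j.stalkMap c).hom (S.presheaf.germ W (j c) hxW r') =
      C.presheaf.germ (j ⁻¹ᵁ W) c hxW ((j.app W).hom r') :=
    Scheme.Hom.germ_stalkMap_apply j W c hxW r'
  rw [hst] at ha
  -- the section `r' • m'` vanishes near `j c`
  have h0 : (pM j M).presheaf.germ W (j c) hxW (r' • m') =
      (pM j M).presheaf.germ W (j c) hxW 0 := by rw [hq, map_zero]
  obtain ⟨W', hxW', iU, iV, hW'⟩ :=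
    TopCat.Presheaf.germ_eq (pM j M).presheaf (j c) hxW hxW _ 0 h0
  rw [map_zero] at hW'
  have h1 : M.presheaf.map (homOfLE (preimage_mono j iU.le)).op
      ((j.app W).hom r' • toSec j M m') = 0 := ofSec_injective j M hW'
  have h2 : M.presheaf.germ (j ⁻¹ᵁ W) c hxW ((j.app W).hom r' • toSec j M m') = 0 := by
    rw [← germ_res' M (j ⁻¹ᵁ W) (j ⁻¹ᵁ W') (preimage_mono j iU.le) c hxW', h1, map_zero]
  rw [germ_smul] at h2
  have h3 : M.presheaf.germ (j ⁻¹ᵁ W) c hxW (toSec j M m') = 0 :=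
    (isSMulRegular_iff_right_eq_zero_of_smul.mp ha) _ h2
  -- so `m'` vanishes near `c`
  have h4 : M.presheaf.germ (j ⁻¹ᵁ W) c hxW (toSec j M m') =
      M.presheaf.germ (j ⁻¹ᵁ W) c hxW 0 := by rw [h3, map_zero]
  obtain ⟨V, hcV, iU', iV', hV⟩ :=
    TopCat.Presheaf.germ_eq M.presheaf c hxW hxW _ 0 h4
  rw [map_zero] at hV
  obtain ⟨W₀, hW₀, hW₀V⟩ := hj.isInducing.isOpen_iff.mp V.2
  let W'' : S.Opens := ⟨W₀, hW₀⟩ ⊓ W
  have hxW'' : j c ∈ W'' := by
    refine ⟨?_, hxW⟩
    show c ∈ j ⁻¹' W₀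
    rw [hW₀V]; exact hcV
  have hWV : j ⁻¹ᵁ W'' ≤ V := by
    intro y hy
    have : y ∈ j ⁻¹' W₀ := hy.1
    rw [hW₀V] at this
    exact this
  have hWU : W'' ≤ W := inf_le_right
  rw [← germ_res' (pM j M) W W'' hWU (j c) hxW'']
  have h5 : (pM j M).presheaf.map (homOfLE hWU).op m' = 0 := by
    change M.presheaf.map (homOfLE (preimage_mono j hWU)).op (toSec j M m') = 0
    have hmap : M.presheaf.map (homOfLE (preimage_mono j hWU)).op =
        M.presheaf.map iU'.op ≫ M.presheaf.map (homOfLE hWV).op := by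
      rw [← Functor.map_comp]
      rfl
    rw [hmap]
    erw [CategoryTheory.comp_apply]
    rw [hV, map_zero]
  rw [h5, map_zero]

end Groth.Agent.Lib.Helper21.PushClosedStalk
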