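import Groth.Agent.Lib.Helper21.PushGeneric
import Groth.Agent.Lib.Helper2.KerSec

/-!
# Coherence of pushforwards along qcqs morphisms: extension closure (helper21)

* `exists_of_app_eq_zero_of_shortExact`: sections of a short exact sequence are exact in the middle.
* `isCoh_pushforward_of_shortExact`: if `f_* S.X₁` and `f_* S.X₃` are coherent (on a locally
  Noetherian target, `f` qcqs, `S.X₂` quasi-coherent) then `f_* S.X₂` is coherent.
* `isCoh_pushforward_kernel`: `f_* S.X₁` is coherent if `f_* S.X₂`, `f_* S.X₃` are.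
* `isCoh_pushforward_of_retract`.
-/

set_option autoImplicit false
set_option linter.style.haveILetI false
universe u
open AlgebraicGeometry CategoryTheory Opposite TopologicalSpace Limits

namespace Groth.Agent.Lib.Helper21.PushCoh

open Groth.Agent.Lib.Lead.CohAff Groth.Agent.Lib.Helper21.QCohSections
  Groth.Agent.Lib.Helper21.Devissage

variable {X Y : Scheme.{u}}

theorem exists_of_app_eq_zero_of_shortExact (S : ShortComplex X.Modules) (hS : S.ShortExact)
    (W : X.Opens) (s : Γ(S.X₂, W)) (hs : S.g.app W s = 0) : ∃ t : Γ(S.X₁, W), S.f.app W t = s := by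
  have hlim : IsLimit (KernelFork.ofι S.f S.zero) := hS.fIsKernel
  let e : S.X₁ ≅ kernel S.g := IsLimit.conePointUniqueUpToIso hlim (limit.isLimit _)
  have he : e.inv ≫ S.f = kernel.ι S.g :=
    IsLimit.conePointUniqueUpToIso_inv_comp hlim (limit.isLimit _) WalkingParallelPair.zero
  obtain ⟨t', ht'⟩ := Groth.Agent.Lib.Helper2.KerSec.exists_of_app_eq_zero S.g W s hs
  refine ⟨e.inv.app W t', ?_⟩
  rw [← ht', ← he]
  rfl

variable (f : X ⟶ Y)

theorem isCoh_pushforward_of_shortExact [IsLocallyNoetherian Y] [QuasiCompact f]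
    [QuasiSeparated f] (S : ShortComplex X.Modules) (hS : S.ShortExact)
    [S.X₂.IsQuasicoherent]
    (h1 : Coh.IsCoh ((Scheme.Modules.pushforward f).obj S.X₁))
    (h3 : Coh.IsCoh ((Scheme.Modules.pushforward f).obj S.X₃)) :
    Coh.IsCoh ((Scheme.Modules.pushforward f).obj S.X₂) := by
  haveI hq : ((Scheme.Modules.pushforward f).obj S.X₂).IsQuasicoherent :=
    Groth.Agent.Lib.Helper2.KerSec.isQuasicoherent_pushforward_of_qcqs f S.X₂
  refine ⟨hq, ?_⟩
  haveI := h1.1
  haveI := h3.1
  rw [isFiniteType_iff_finite_sections]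
  intro U hU
  haveI : IsNoetherianRing Γ(Y, U) := IsLocallyNoetherian.component_noetherian ⟨U, hU⟩
  haveI : Module.Finite Γ(Y, U) Γ((Scheme.Modules.pushforward f).obj S.X₁, U) :=
    finite_sections_of_isFiniteType _ h1.2 hU
  haveI : Module.Finite Γ(Y, U) Γ((Scheme.Modules.pushforward f).obj S.X₃, U) :=
    finite_sections_of_isFiniteType _ h3.2 hU
  haveI : IsNoetherian Γ(Y, U) Γ((Scheme.Modules.pushforward f).obj S.X₁, U) :=
    isNoetherian_of_isNoetherianRing_of_finite _ _
  haveI : IsNoetherian Γ(Y, U) Γ((Scheme.Modules.pushforward f).obj S.X₃, U) :=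
    isNoetherian_of_isNoetherianRing_of_finite _ _
  have hex : LinearMap.range (appL ((Scheme.Modules.pushforward f).map S.f) U) =
      LinearMap.ker (appL ((Scheme.Modules.pushforward f).map S.g) U) := by
    ext s
    constructor
    · rintro ⟨t, rfl⟩
      have h0 := congr(Scheme.Modules.Hom.app $(S.zero) (f ⁻¹ᵁ U))
      exact congr($h0 t)
    · intro hs
      obtain ⟨t, ht⟩ := exists_of_app_eq_zero_of_shortExact S hS (f ⁻¹ᵁ U) s hs
      exact ⟨t, ht⟩
  haveI : IsNoetherian Γ(Y, U) Γ((Scheme.Modules.pushforward f).obj S.X₂, U) :=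
    isNoetherian_of_range_eq_ker _ _ hex
  infer_instance

theorem isCoh_pushforward_kernel [IsLocallyNoetherian Y] (S : ShortComplex X.Modules)
    (hS : S.ShortExact)
    (h2 : Coh.IsCoh ((Scheme.Modules.pushforward f).obj S.X₂))
    (h3 : Coh.IsCoh ((Scheme.Modules.pushforward f).obj S.X₃)) :
    Coh.IsCoh ((Scheme.Modules.pushforward f).obj S.X₁) := by
  have hlim : IsLimit (KernelFork.ofι S.f S.zero) := hS.fIsKernel
  let e : S.X₁ ≅ kernel S.g := IsLimit.conePointUniqueUpToIso hlim (limit.isLimit _)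
  have e2 : (Scheme.Modules.pushforward f).obj (kernel S.g) ≅
      kernel ((Scheme.Modules.pushforward f).map S.g) :=
    PreservesKernel.iso (Scheme.Modules.pushforward f) S.g
  exact isCoh_of_iso (((Scheme.Modules.pushforward f).mapIso e) ≪≫ e2).symm
    (isCoh_kernel _ h2 h3)

theorem isCoh_pushforward_of_retract [QuasiCompact f] [QuasiSeparated f] {M N : X.Modules}
    [N.IsQuasicoherent] (ι : N ⟶ M) (ρ : M ⟶ N) (h : ι ≫ ρ = 𝟙 N)
    (hM : Coh.IsCoh ((Scheme.Modules.pushforward f).obj M)) :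
    Coh.IsCoh ((Scheme.Modules.pushforward f).obj N) := by
  haveI hq : ((Scheme.Modules.pushforward f).obj N).IsQuasicoherent :=
    Groth.Agent.Lib.Helper2.KerSec.isQuasicoherent_pushforward_of_qcqs f N
  haveI := hM.1
  haveI : IsSplitEpi ((Scheme.Modules.pushforward f).map ρ) :=
    ⟨⟨⟨(Scheme.Modules.pushforward f).map ι, by rw [← CategoryTheory.Functor.map_comp, h, CategoryTheory.Functor.map_id]⟩⟩⟩
  exact ⟨hq, Groth.Agent.Lib.Helper21.CohNoeth.isFiniteType_of_epi
    ((Scheme.Modules.pushforward f).map ρ) hM.2⟩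

end Groth.Agent.Lib.Helper21.PushCoh
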