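import Groth.Agent.Lib.Helper21.PushDepthAlg
import Groth.Agent.Lib.Lead.QCohAff5
import Groth.Agent.Lib.Lead.SheafPts
import Groth.Agent.Lib.Helper64.CohPush
import Groth.Agent.Lib.Helper2.KerSec
import Groth.Agent.Lib.Helper67.Depth2

/-!
# Depth of the stalk of a direct image (helper21)

For `f : X ⟶ S` quasi-compact and quasi-separated, `F` quasi-coherent on `X` and `s ∈ S`:

* `Sec f F V W hW`: sections of `F` over `W ≤ f⁻¹ V` as a `Γ(S, V)`-module; `Sec.res`, `resP`, `diffQ`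
  and the Čech exactness `exact_resP_diffQ` for a finite affine cover (`exists_cover`);
* `flat_pi_sec`, `unitDatum_sec`: the Čech terms are flat (if `F` is flat over `S`), resp. carry a
  `UnitDatum` (if `s ∉ f(X)`);
* `depth_stalk_pushforward`: `(f_* F)_s` has depth `≥ 2` if `s ∉ f(X)` and `O_{S,s}` is Noetherian,
  and depth `≥ min(2, depth O_{S,s})` if `F` is flat over `S`.
-/

set_option autoImplicit false
set_option linter.style.haveILetI false
universe u

open AlgebraicGeometry CategoryTheory Opposite TopologicalSpace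

namespace Groth.Agent.Lib.Helper21.PushDepth

open Groth.Agent.Lib.Lead.SheafGlue Groth.Agent.Lib.Lead.QCohAff

variable {X S : Scheme.{u}} (f : X ⟶ S) (F : X.Modules) (V : S.Opens)

/-- Sections of `F` over `W ≤ f⁻¹ V`, as a module over `Γ(S, V)`. -/
def Sec (W : X.Opens) (_hW : W ≤ f ⁻¹ᵁ V) : Type u := Γ(F, W)

noncomputable instance (W : X.Opens) (hW : W ≤ f ⁻¹ᵁ V) : AddCommGroup (Sec f F V W hW) :=
  inferInstanceAs (AddCommGroup Γ(F, W))

noncomputable instance (W : X.Opens) (hW : W ≤ f ⁻¹ᵁ V) : Module Γ(S, V) (Sec f F V W hW) :=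
  Module.compHom Γ(F, W) (f.appLE V W hW).hom

variable {f F V}

/-- The underlying section. -/
def Sec.val {W : X.Opens} {hW : W ≤ f ⁻¹ᵁ V} (s : Sec f F V W hW) : Γ(F, W) := s

/-- A section viewed in `Sec`. -/
def Sec.of {W : X.Opens} (hW : W ≤ f ⁻¹ᵁ V) (s : Γ(F, W)) : Sec f F V W hW := s

theorem Sec.smul_val {W : X.Opens} {hW : W ≤ f ⁻¹ᵁ V} (r : Γ(S, V)) (s : Sec f F V W hW) :
    (r • s).val = (f.appLE V W hW).hom r • s.val := rfl

theorem Sec.ext {W : X.Opens} {hW : W ≤ f ⁻¹ᵁ V} {s t : Sec f F V W hW} (h : s.val = t.val) :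
    s = t := h

/-- Restriction, as a `Γ(S, V)`-linear map. -/
noncomputable def Sec.res {W W' : X.Opens} (hW : W ≤ f ⁻¹ᵁ V) (h : W' ≤ W) :
    Sec f F V W hW →ₗ[Γ(S, V)] Sec f F V W' (h.trans hW) where
  toFun s := Sec.of _ (F.presheaf.map (homOfLE h).op s.val)
  map_add' a b := map_add (F.presheaf.map (homOfLE h).op).hom a.val b.val
  map_smul' r s := by
    apply Sec.ext
    change F.presheaf.map (homOfLE h).op ((f.appLE V W hW).hom r • s.val) =
      (f.appLE V W' (h.trans hW)).hom r • F.presheaf.map (homOfLE h).op s.val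
    rw [Scheme.Modules.map_smul]
    congr 1
    have := f.appLE_map (U := V) (V := W) hW (homOfLE h).op
    exact congr($this r)

theorem Sec.res_val {W W' : X.Opens} (hW : W ≤ f ⁻¹ᵁ V) (h : W' ≤ W) (s : Sec f F V W hW) :
    (Sec.res hW h s).val = F.presheaf.map (homOfLE h).op s.val := rfl

section Cech

variable {ι κ : Type u} (W : ι → X.Opens) (hW : ∀ i, W i ≤ f ⁻¹ᵁ V)
  (l r : κ → ι) (W' : κ → X.Opens) (hl : ∀ k, W' k ≤ W (l k)) (hr : ∀ k, W' k ≤ W (r k))

variable (F) in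
/-- Restriction to the members of a cover. -/
noncomputable def resP :
    Sec f F V (f ⁻¹ᵁ V) le_rfl →ₗ[Γ(S, V)] ∀ i, Sec f F V (W i) (hW i) :=
  LinearMap.pi fun i => Sec.res le_rfl (hW i)

variable (F) in
/-- The Čech difference map. -/
noncomputable def diffQ :
    (∀ i, Sec f F V (W i) (hW i)) →ₗ[Γ(S, V)]
      ∀ k, Sec f F V (W' k) ((hl k).trans (hW (l k))) :=
  LinearMap.pi fun k =>
    (Sec.res (hW (l k)) (hl k)).comp (LinearMap.proj (l k)) -
      (Sec.res (hW (r k)) (hr k)).comp (LinearMap.proj (r k))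

theorem resP_injective (hcov : f ⁻¹ᵁ V ≤ ⨆ i, W i) : Function.Injective (resP F W hW) := by
  intro s t hst
  apply Sec.ext
  apply eq_of_locally_eq_pts F
  intro x hx
  obtain ⟨i, hi⟩ := Opens.mem_iSup.mp (hcov hx)
  refine ⟨W i, hW i, hi, ?_⟩
  exact congrArg Sec.val (congrFun hst i)

theorem exact_resP_diffQ (hcov : f ⁻¹ᵁ V ≤ ⨆ i, W i)
    (hcov' : ∀ i j, W i ⊓ W j ≤ ⨆ (k : {k // l k = i ∧ r k = j}), W' k.1) :
    Function.Exact (resP F W hW) (diffQ F W hW l r W' hl hr) := by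
  intro y
  constructor
  · intro hy
    -- pairwise agreement
    have hpair : ∀ i j, F.presheaf.map (homOfLE (inf_le_left : W i ⊓ W j ≤ W i)).op (y i).val =
        F.presheaf.map (homOfLE (inf_le_right : W i ⊓ W j ≤ W j)).op (y j).val := by
      intro i j
      apply eq_of_locally_eq_pts F
      intro x hx
      obtain ⟨⟨k, hk1, hk2⟩, hxk⟩ := Opens.mem_iSup.mp (hcov' i j hx)
      subst hk1 hk2
      refine ⟨W' k, le_inf (hl k) (hr k), hxk, ?_⟩
      rw [map_map' F _ _ (homOfLE (hl k)).op, map_map' F _ _ (homOfLE (hr k)).op]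
      have := congrArg Sec.val (congrFun hy k)
      have h2 : F.presheaf.map (homOfLE (hl k)).op (y (l k)).val -
          F.presheaf.map (homOfLE (hr k)).op (y (r k)).val = 0 := this
      exact sub_eq_zero.mp h2
    obtain ⟨s, hs, -⟩ := (shf F).existsUnique_gluing' W (f ⁻¹ᵁ V) (fun i => homOfLE (hW i)) hcov
      (fun i => (y i).val) (fun i j => hpair i j)
    refine ⟨Sec.of le_rfl s, ?_⟩
    funext i
    exact Sec.ext (hs i)
  · rintro ⟨s, rfl⟩
    funext k
    apply Sec.ext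
    change F.presheaf.map (homOfLE (hl k)).op (F.presheaf.map (homOfLE (hW (l k))).op s.val) -
      F.presheaf.map (homOfLE (hr k)).op (F.presheaf.map (homOfLE (hW (r k))).op s.val) = 0
    rw [map_map' F _ _ (homOfLE ((hl k).trans (hW (l k)))).op,
      map_map' F _ _ (homOfLE ((hl k).trans (hW (l k)))).op, sub_self]

end Cech


section Cover

theorem exists_cover [QuasiCompact f] [QuasiSeparated f] (hV : IsAffineOpen V) :
    ∃ (ι κ : Type u) (_ : Fintype ι) (_ : Fintype κ) (W : ι → X.Opens) (l r : κ → ι)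
      (W' : κ → X.Opens),
      (∀ i, IsAffineOpen (W i)) ∧ (∀ i, W i ≤ f ⁻¹ᵁ V) ∧ f ⁻¹ᵁ V ≤ ⨆ i, W i ∧
      (∀ k, IsAffineOpen (W' k)) ∧ (∀ k, W' k ≤ W (l k)) ∧ (∀ k, W' k ≤ W (r k)) ∧
      ∀ i j, W i ⊓ W j ≤ ⨆ (k : {k // l k = i ∧ r k = j}), W' k.1 := by
  classical
  have hc : IsCompact (f ⁻¹ᵁ V : Set X) := f.isCompact_preimage hV.isCompact
  have hq : IsQuasiSeparated (f ⁻¹ᵁ V : Set X) := f.isQuasiSeparated_preimage hV.isQuasiSeparated
  obtain ⟨s, hsfin, hs⟩ := isCompact_iff_finite_and_eq_biUnion_affineOpens.mp hc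
  haveI : Fintype ↥s := hsfin.fintype
  have hle : ∀ i : ↥s, (i.1 : X.Opens) ≤ f ⁻¹ᵁ V := by
    intro i
    rw [hs]
    exact le_iSup₂ (f := fun (i : X.affineOpens) (_ : i ∈ s) => (i : X.Opens)) i.1 i.2
  have hpair : ∀ i j : ↥s, IsCompact (((i.1 : X.Opens) ⊓ (j.1 : X.Opens) : X.Opens) : Set X) :=
    fun i j => hq _ _ (hle i) (i.1 : X.Opens).2 i.1.2.isCompact (hle j) (j.1 : X.Opens).2
      j.1.2.isCompact
  choose t htfin ht using fun i j => isCompact_iff_finite_and_eq_biUnion_affineOpens.mp (hpair i j)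
  haveI : ∀ p : ↥s × ↥s, Fintype ↥(t p.1 p.2) := fun p => (htfin p.1 p.2).fintype
  refine ⟨↥s, Σ p : ↥s × ↥s, ↥(t p.1 p.2), inferInstance, inferInstance,
    fun i => (i.1 : X.Opens), fun k => k.1.1, fun k => k.1.2, fun k => (k.2.1 : X.Opens),
    fun i => i.1.2, hle, ?_, fun k => k.2.1.2, ?_, ?_, ?_⟩
  · rw [hs]
    apply iSup₂_le
    intro i hi
    exact le_iSup (fun i : ↥s => (i.1 : X.Opens)) ⟨i, hi⟩
  · intro k
    have : (k.2.1 : X.Opens) ≤ (k.1.1.1 : X.Opens) ⊓ (k.1.2.1 : X.Opens) := by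
      rw [ht k.1.1 k.1.2]
      exact le_iSup₂ (f := fun (i : X.affineOpens) (_ : i ∈ t k.1.1 k.1.2) => (i : X.Opens))
        k.2.1 k.2.2
    exact this.trans inf_le_left
  · intro k
    have : (k.2.1 : X.Opens) ≤ (k.1.1.1 : X.Opens) ⊓ (k.1.2.1 : X.Opens) := by
      rw [ht k.1.1 k.1.2]
      exact le_iSup₂ (f := fun (i : X.affineOpens) (_ : i ∈ t k.1.1 k.1.2) => (i : X.Opens))
        k.2.1 k.2.2
    exact this.trans inf_le_right
  · intro i j
    rw [ht i j]
    apply iSup₂_le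
    intro a ha
    exact le_iSup (fun k : {k : Σ p : ↥s × ↥s, ↥(t p.1 p.2) // k.1.1 = i ∧ k.1.2 = j} =>
      (k.1.2.1 : X.Opens)) ⟨⟨(i, j), ⟨a, ha⟩⟩, rfl, rfl⟩

end Cover

section Flat

open Groth.Agent.Lib.Helper21.PushDepthAlg

theorem flat_sec [F.IsQuasicoherent] (hV : IsAffineOpen V) {W : X.Opens} (hWa : IsAffineOpen W)
    (hW : W ≤ f ⁻¹ᵁ V) (hflat : FlatMod.IsFlatOver f F) :
    Module.Flat Γ(S, V) (Sec f F V W hW) :=
  (flat_sections_iff f F hWa hV hW).2 fun x _ => hflat x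

theorem flat_pi_sec [F.IsQuasicoherent] (hV : IsAffineOpen V) {ι : Type u} [Fintype ι]
    (W : ι → X.Opens) (hWa : ∀ i, IsAffineOpen (W i)) (hW : ∀ i, W i ≤ f ⁻¹ᵁ V)
    (hflat : FlatMod.IsFlatOver f F) :
    Module.Flat Γ(S, V) (∀ i, Sec f F V (W i) (hW i)) := by
  classical
  haveI : ∀ i, Module.Flat Γ(S, V) (Sec f F V (W i) (hW i)) :=
    fun i => flat_sec hV (hWa i) (hW i) hflat
  exact Module.Flat.of_linearEquiv
    (DFinsupp.linearEquivFunOnFintype (R := Γ(S, V))
      (M := fun i => Sec f F V (W i) (hW i))).symm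

end Flat


section UnitD

open Groth.Agent.Lib.Helper21.PushDepthAlg

/-- If `s ∉ f(X)`, the prime `𝔭_s ⊂ Γ(S, V)` generates an ideal of `Γ(X, W)` meeting the image of
the complement of `𝔭_s`. -/
theorem exists_notMem_map_mem (hV : IsAffineOpen V) {W : X.Opens} (hWa : IsAffineOpen W)
    (hW : W ≤ f ⁻¹ᵁ V) (s : S) (hs : s ∈ V) (hsf : s ∉ Set.range (fun x => f x)) :
    ∃ w : Γ(S, V), w ∉ (hV.primeIdealOf ⟨s, hs⟩).asIdeal ∧
      (f.appLE V W hW).hom w ∈ Ideal.map (f.appLE V W hW).hom (hV.primeIdealOf ⟨s, hs⟩).asIdeal := by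
  set p := (hV.primeIdealOf ⟨s, hs⟩).asIdeal with hp
  set φ := (f.appLE V W hW).hom with hφ
  by_contra hcon
  push Not at hcon
  have hdisj : Disjoint (Ideal.map φ p : Set Γ(X, W)) (p.primeCompl.map φ : Set Γ(X, W)) := by
    rw [Set.disjoint_left]
    rintro b hb ⟨w, hw, rfl⟩
    exact hcon w hw hb
  obtain ⟨q, hq, hpq, hqd⟩ := Ideal.exists_le_prime_disjoint (Ideal.map φ p) (p.primeCompl.map φ)
    hdisj
  have hcomap : q.comap φ = p := by
    apply le_antisymm
    · intro r hr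
      by_contra hrp
      exact Set.disjoint_left.mp hqd hr ⟨r, hrp, rfl⟩
    · exact Ideal.map_le_iff_le_comap.mp hpq
  let y : PrimeSpectrum Γ(X, W) := ⟨q, hq⟩
  have hyW : hWa.fromSpec y ∈ W := fromSpec_mem hWa y
  have h1 := IsAffineOpen.comap_primeIdealOf_appLE (f := f) V hV W hWa hW hyW
  rw [primeIdealOf_fromSpec hWa y hyW] at h1
  have h2 : hV.primeIdealOf ⟨f (hWa.fromSpec y), hW hyW⟩ = hV.primeIdealOf ⟨s, hs⟩ := by
    rw [← h1]
    exact PrimeSpectrum.ext hcomap
  have h3 := congrArg hV.fromSpec h2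
  rw [hV.fromSpec_primeIdealOf, hV.fromSpec_primeIdealOf] at h3
  exact hsf ⟨hWa.fromSpec y, h3⟩


/-- `Sec.val` as an additive map. -/
def Sec.valAdd {W : X.Opens} (hW : W ≤ f ⁻¹ᵁ V) : Sec f F V W hW →+ Γ(F, W) where
  toFun := Sec.val
  map_zero' := rfl
  map_add' _ _ := rfl

/-- Multiplication by a function on `W`, as a `Γ(S, V)`-linear endomorphism. -/
noncomputable def Sec.mulL {W : X.Opens} (hW : W ≤ f ⁻¹ᵁ V) (b : Γ(X, W)) :
    Sec f F V W hW →ₗ[Γ(S, V)] Sec f F V W hW where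
  toFun x := Sec.of hW (b • x.val)
  map_add' x y := smul_add b x.val y.val
  map_smul' r x := by
    apply Sec.ext
    change b • ((f.appLE V W hW).hom r • x.val) = (f.appLE V W hW).hom r • (b • x.val)
    rw [smul_smul, smul_smul, mul_comm]

theorem unitDatum_sec (hV : IsAffineOpen V) {W : X.Opens} (hWa : IsAffineOpen W)
    (hW : W ≤ f ⁻¹ᵁ V) (s : S) (hs : s ∈ V) (hsf : s ∉ Set.range (fun x => f x))
    {A : Type u} [CommRing A] [IsLocalRing A] [Algebra Γ(S, V) A]
    [IsLocalization.AtPrime A (hV.primeIdealOf ⟨s, hs⟩).asIdeal] :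
    UnitDatum Γ(S, V) A (Sec f F V W hW) := by
  classical
  obtain ⟨w, hw, hmem⟩ := exists_notMem_map_mem hV hWa hW s hs hsf
  set p := (hV.primeIdealOf ⟨s, hs⟩).asIdeal with hp
  set φ := (f.appLE V W hW).hom with hφ
  rw [Ideal.map, Ideal.span, Submodule.mem_span_set'] at hmem
  obtain ⟨n, b, g, hsum⟩ := hmem
  choose t ht htg using fun i => (g i).2
  refine ⟨w, ULift.{u} (Fin n), inferInstance, fun j => t j.down,
    fun j => Sec.mulL hW (b j.down), ?_, ?_, ?_⟩
  · exact IsLocalization.map_units A (⟨w, hw⟩ : p.primeCompl)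
  · intro j
    exact (IsLocalization.AtPrime.to_map_mem_maximal_iff A p (t j.down)).mpr (ht j.down)
  · intro x
    apply Sec.ext
    change Sec.valAdd hW (∑ j : ULift.{u} (Fin n), Sec.mulL hW (b j.down) (t j.down • x)) = _
    rw [map_sum, Sec.smul_val, ← hφ, ← hsum, Finset.sum_smul]
    rw [← Equiv.sum_comp Equiv.ulift.symm]
    apply Finset.sum_congr rfl
    intro i _
    change b i • (φ (t i) • x.val) = (b i • (g i : Γ(X, W))) • x.val
    rw [htg i, smul_assoc]

end UnitD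


section Main

open Groth.Agent.Lib.Helper21.PushDepthAlg TensorProduct

variable (f F)

/-- The identity `Γ(f_* F, V) → Γ(F, f⁻¹ V)`, as a `Γ(S, V)`-linear map. -/
noncomputable def pushSec (V : S.Opens) :
    Γ((Scheme.Modules.pushforward f).obj F, V) →ₗ[Γ(S, V)] Sec f F V (f ⁻¹ᵁ V) le_rfl where
  toFun t := Sec.of le_rfl t
  map_add' _ _ := rfl
  map_smul' r t := by
    apply Sec.ext
    change (r • t : Γ((Scheme.Modules.pushforward f).obj F, V)) =
      (f.appLE V (f ⁻¹ᵁ V) le_rfl).hom r • (show Γ(F, f ⁻¹ᵁ V) from t)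
    rw [Groth.Agent.Lib.Helper64.CohPush.pushforward_smul, Scheme.Hom.app_eq_appLE]

theorem pushSec_bijective (V : S.Opens) : Function.Bijective (pushSec f F V) :=
  ⟨fun _ _ h => h, fun t => ⟨t, rfl⟩⟩

/-- **Depth of the stalk of a direct image.** -/
theorem depth_stalk_pushforward [QuasiCompact f] [QuasiSeparated f] [F.IsQuasicoherent] (s : S)
    [hfin : Module.Finite (S.presheaf.stalk s)
      (((Scheme.Modules.pushforward f).obj F).presheaf.stalk s)] :
    ((s ∉ Set.range (fun x => f x)) → IsNoetherianRing (S.presheaf.stalk s) →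
        (2 : ℕ∞) ≤ LocCoh.depth (S.presheaf.stalk s)
          (((Scheme.Modules.pushforward f).obj F).presheaf.stalk s)) ∧
      (FlatMod.IsFlatOver f F →
        min (2 : ℕ∞) (LocCoh.depth (S.presheaf.stalk s) (S.presheaf.stalk s)) ≤
          LocCoh.depth (S.presheaf.stalk s)
            (((Scheme.Modules.pushforward f).obj F).presheaf.stalk s)) := by
  classical
  obtain ⟨_, ⟨V, hV : IsAffineOpen V, rfl⟩, hs, -⟩ :=
    (S.isBasis_affineOpens).exists_subset_of_mem_open (Set.mem_univ s) isOpen_univ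
  have hs : s ∈ V := hs
  set H := (Scheme.Modules.pushforward f).obj F with hH
  haveI : H.IsQuasicoherent :=
    Groth.Agent.Lib.Helper2.KerSec.isQuasicoherent_pushforward_of_qcqs f F
  set p := (hV.primeIdealOf ⟨s, hs⟩).asIdeal with hp
  letI alg : Algebra Γ(S, V) (S.presheaf.stalk s) := S.presheaf.algebra_section_stalk ⟨s, hs⟩
  haveI hloc : IsLocalization.AtPrime (S.presheaf.stalk s) p := hV.isLocalization_stalk ⟨s, hs⟩
  haveI : Module.Flat Γ(S, V) (S.presheaf.stalk s) :=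
    IsLocalization.flat (S.presheaf.stalk s) p.primeCompl
  letI modA : Module (S.presheaf.stalk s) (StalkOver H V s hs) :=
    (inferInstance : Module (S.presheaf.stalk s) (H.presheaf.stalk s))
  haveI : IsScalarTower Γ(S, V) (S.presheaf.stalk s) (StalkOver H V s hs) :=
    IsScalarTower.of_algebraMap_smul fun r m => rfl
  haveI := isLocalizedModule_germL H hV s hs
  have hbc : IsBaseChange (S.presheaf.stalk s) (germL H V s hs) :=
    IsLocalizedModule.isBaseChange p.primeCompl (S.presheaf.stalk s) (germL H V s hs)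
  let e : (S.presheaf.stalk s) ⊗[Γ(S, V)] Γ(H, V) ≃ₗ[S.presheaf.stalk s] StalkOver H V s hs :=
    hbc.equiv
  have hdepth : LocCoh.depth (S.presheaf.stalk s) (H.presheaf.stalk s) =
      LocCoh.depth (S.presheaf.stalk s) ((S.presheaf.stalk s) ⊗[Γ(S, V)] Γ(H, V)) :=
    (Groth.Agent.Lib.Helper67.depth_congr e).symm
  rw [hdepth]
  obtain ⟨ι, κ, _, _, W, l, r, W', hWa, hW, hcov, hWa', hl, hr, hcov'⟩ :=
    exists_cover (f := f) hV
  let i := (resP F W hW).comp (pushSec f F V)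
  let g := diffQ F W hW l r W' hl hr
  have hi : Function.Injective i :=
    (resP_injective W hW hcov).comp (pushSec_bijective f F V).1
  have hex : Function.Exact i g := by
    intro y
    rw [exact_resP_diffQ W hW l r W' hl hr hcov hcov' y]
    constructor
    · rintro ⟨x, rfl⟩
      obtain ⟨x', rfl⟩ := (pushSec_bijective f F V).2 x
      exact ⟨x', rfl⟩
    · rintro ⟨x, rfl⟩
      exact ⟨pushSec f F V x, rfl⟩
  refine ⟨fun hsf hnoeth => ?_, fun hflat => ?_⟩
  · haveI := hnoeth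
    haveI : Module.Finite (S.presheaf.stalk s) (StalkOver H V s hs) := hfin
    haveI : Module.Finite (S.presheaf.stalk s) ((S.presheaf.stalk s) ⊗[Γ(S, V)] Γ(H, V)) :=
      Module.Finite.equiv e.symm
    exact two_le_depth_tensor_of_exact_unit i g hi hex
      (UnitDatum.pi fun j => unitDatum_sec hV (hWa j) (hW j) s hs hsf)
      (UnitDatum.pi fun k => unitDatum_sec hV (hWa' k) ((hl k).trans (hW (l k))) s hs hsf)
  · haveI := flat_pi_sec hV W hWa hW hflat
    haveI := flat_pi_sec hV W' hWa' (fun k => (hl k).trans (hW (l k))) hflat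
    exact min_two_depth_le_tensor_of_exact_flat i g hi hex

end Main

end Groth.Agent.Lib.Helper21.PushDepth
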