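import Groth.Prelude.Def_CAlg
import Groth.Agent.Lib.Helper67.Depth
import Groth.Agent.Lib.Helper64.HartogsConvAlg

/-!
# Depth of a kernel `0 → N → P → Q` (helper21)

Algebraic input for the depth of the stalk of a direct image `(f_* F)_s`:

* `min_two_depth_le_of_exact_flat`: if `P`, `Q` are flat over the local ring `A`, then
  `depth N ≥ min(2, depth A)` (no finiteness or Noetherian hypotheses).
* `two_le_depth_of_exact_unit`: if the maximal ideal generates the unit ideal on `P` and `Q` (in the
  sense of `UnitDatum`), `A` is Noetherian and `N` is finite, then `depth N ≥ 2`.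
* base-changed versions along a flat ring map `R → A` (`…_tensor_…`), and `UnitDatum.pi`.
-/

set_option autoImplicit false
set_option linter.unusedSectionVars false
universe u v

namespace Groth.Agent.Lib.Helper21.PushDepthAlg

open TensorProduct IsLocalRing RingTheory.Sequence LocCoh Groth.Agent.Lib.Helper67

section Flat

variable {A : Type*} [CommRing A]
variable {N P Q : Type*} [AddCommGroup N] [Module A N] [AddCommGroup P] [Module A P]
  [AddCommGroup Q] [Module A Q]

/-- Elementwise criterion for a weakly regular pair. -/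
theorem isWeaklyRegular_pair_of_forall {a b : A} (h1 : ∀ z : N, a • z = 0 → z = 0)
    (h2 : ∀ z1 z2 : N, b • z1 = a • z2 → ∃ z', z1 = a • z') : IsWeaklyRegular N [a, b] := by
  rw [isWeaklyRegular_cons_iff, isWeaklyRegular_singleton_iff]
  refine ⟨?_, ?_⟩
  · intro x y hxy
    have : a • (x - y) = 0 := by rw [smul_sub, sub_eq_zero]; exact hxy
    exact sub_eq_zero.mp (h1 _ this)
  · intro x y hxy
    obtain ⟨x, rfl⟩ := Submodule.Quotient.mk_surjective _ x
    obtain ⟨y, rfl⟩ := Submodule.Quotient.mk_surjective _ y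
    have h0 : (Submodule.Quotient.mk (b • (x - y)) : QuotSMulTop a N) = 0 := by
      rw [smul_sub, Submodule.Quotient.mk_sub, sub_eq_zero]
      exact hxy
    rw [Submodule.Quotient.mk_eq_zero] at h0
    obtain ⟨z2, -, hz2⟩ := (Submodule.mem_smul_pointwise_iff_exists _ _ _).1 h0
    obtain ⟨z', hz'⟩ := h2 (x - y) z2 hz2.symm
    rw [← sub_eq_zero, ← Submodule.Quotient.mk_sub, Submodule.Quotient.mk_eq_zero, hz']
    exact Submodule.smul_mem_pointwise_smul z' a ⊤ Submodule.mem_top

/-- Elementwise consequences of a weakly regular pair. -/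
theorem pair_of_isWeaklyRegular {a b : A} (h : IsWeaklyRegular N [a, b]) :
    (∀ z : N, a • z = 0 → z = 0) ∧ (∀ z1 z2 : N, b • z1 = a • z2 → ∃ z', z1 = a • z') := by
  rw [isWeaklyRegular_cons_iff, isWeaklyRegular_singleton_iff] at h
  obtain ⟨ha, hb⟩ := h
  refine ⟨fun z hz => ha (by simpa using hz), fun z1 z2 h12 => ?_⟩
  have h0 : b • (Submodule.Quotient.mk z1 : QuotSMulTop a N) = b • 0 := by
    rw [smul_zero, ← Submodule.Quotient.mk_smul, Submodule.Quotient.mk_eq_zero, h12]
    exact Submodule.smul_mem_pointwise_smul z2 a ⊤ Submodule.mem_top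
  have h1 := hb h0
  rw [Submodule.Quotient.mk_eq_zero] at h1
  obtain ⟨z', -, hz'⟩ := (Submodule.mem_smul_pointwise_iff_exists _ _ _).1 h1
  exact ⟨z', hz'.symm⟩

theorem isWeaklyRegular_of_flat' {M : Type*} [AddCommGroup M] [Module A M]
    [Module.Flat A M] {rs : List A} (h : IsWeaklyRegular A rs) : IsWeaklyRegular M rs := by
  have h1 : IsWeaklyRegular (M ⊗[A] A) rs := h.isWeaklyRegular_lTensor
  exact ((TensorProduct.rid A M).isWeaklyRegular_congr rs).mp h1

/-- A kernel of a map of flat modules inherits weakly regular pairs of the ring. -/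
theorem isWeaklyRegular_pair_of_exact_flat (i : N →ₗ[A] P) (g : P →ₗ[A] Q)
    (hi : Function.Injective i) (hex : Function.Exact i g) [Module.Flat A P] [Module.Flat A Q]
    {a b : A} (hab : IsWeaklyRegular A [a, b]) : IsWeaklyRegular N [a, b] := by
  obtain ⟨hP1, hP2⟩ := pair_of_isWeaklyRegular (isWeaklyRegular_of_flat' (M := P) hab)
  obtain ⟨hQ1, -⟩ := pair_of_isWeaklyRegular (isWeaklyRegular_of_flat' (M := Q) hab)
  apply isWeaklyRegular_pair_of_forall
  · intro z hz
    apply hi
    rw [map_zero]
    apply hP1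
    rw [← map_smul, hz, map_zero]
  · intro z1 z2 h12
    obtain ⟨y, hy⟩ := hP2 (i z1) (i z2) (by rw [← map_smul, ← map_smul, h12])
    have hgy : g y = 0 := by
      apply hQ1
      rw [← map_smul, ← hy]
      exact hex.apply_apply_eq_zero z1
    obtain ⟨z', rfl⟩ := (hex y).1 hgy
    refine ⟨z', hi ?_⟩
    rw [hy, map_smul]

theorem isSMulRegular_of_exact_flat (i : N →ₗ[A] P) (hi : Function.Injective i)
    [Module.Flat A P] {a : A} (ha : IsSMulRegular A a) : IsSMulRegular N a := by
  have hP : IsSMulRegular P a := by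
    have := isWeaklyRegular_of_flat' (M := P) ((isWeaklyRegular_singleton_iff A a).mpr ha)
    exact (isWeaklyRegular_singleton_iff P a).mp this
  intro x y hxy
  apply hi
  apply hP
  change a • i x = a • i y
  rw [← map_smul, ← map_smul]
  exact congrArg i hxy

end Flat

section Depth

variable {A : Type u} [CommRing A] [IsLocalRing A]
variable {N P Q : Type*} [AddCommGroup N] [Module A N] [AddCommGroup P] [Module A P]
  [AddCommGroup Q] [Module A Q]

/-- **Flat case.** If `0 → N → P → Q` is exact with `P`, `Q` flat over the local ring `A`, then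
`depth N ≥ min(2, depth A)`. -/
theorem min_two_depth_le_of_exact_flat (i : N →ₗ[A] P) (g : P →ₗ[A] Q)
    (hi : Function.Injective i) (hex : Function.Exact i g) [Module.Flat A P] [Module.Flat A Q] :
    min (2 : ℕ∞) (LocCoh.depth A A) ≤ LocCoh.depth A N := by
  by_cases h2 : (2 : ℕ∞) ≤ LocCoh.depth A A
  · rw [min_eq_left h2]
    have h2' : ((2 : ℕ) : ℕ∞) ≤ idealDepth (maximalIdeal A) A := h2
    rcases (le_idealDepth_iff _ A 2).1 h2' with htop | ⟨rs, hlen, hreg, hmem⟩
    · exfalso
      have : (1 : A) ∈ maximalIdeal A • (⊤ : Submodule A A) := by rw [htop]; trivial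
      rw [smul_eq_mul, Ideal.mul_top] at this
      exact (maximalIdeal.isMaximal A).ne_top ((Ideal.eq_top_iff_one _).2 this)
    · match rs, hlen with
      | [a, b], _ =>
        have hN := isWeaklyRegular_pair_of_exact_flat i g hi hex hreg
        have := length_le_idealDepth (maximalIdeal A) N [a, b] hN hmem
        exact this
  · rw [not_le] at h2
    rw [min_eq_right h2.le]
    by_cases h1 : (1 : ℕ∞) ≤ LocCoh.depth A A
    · have hd : LocCoh.depth A A = 1 := by
        apply le_antisymm _ h1
        exact Order.le_of_lt_add_one (by rw [one_add_one_eq_two]; exact h2)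
      rw [hd]
      rcases (one_le_idealDepth_iff _ A).1 h1 with htop | ⟨a, ha, hreg⟩
      · exfalso
        have : (1 : A) ∈ maximalIdeal A • (⊤ : Submodule A A) := by rw [htop]; trivial
        rw [smul_eq_mul, Ideal.mul_top] at this
        exact (maximalIdeal.isMaximal A).ne_top ((Ideal.eq_top_iff_one _).2 this)
      · exact (one_le_idealDepth_iff _ N).2 (Or.inr ⟨a, ha, isSMulRegular_of_exact_flat i hi hreg⟩)
    · rw [not_le, Order.lt_one_iff] at h1
      rw [h1]
      exact zero_le

end Depth


/-- The "unit ideal" datum on `P` relative to `R → A`. -/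
def UnitDatum (R : Type u) [CommRing R] (A : Type u) [CommRing A] [Algebra R A] [IsLocalRing A]
    (P : Type u) [AddCommGroup P] [Module R P] : Prop :=
  ∃ (w : R) (J : Type u) (_ : Fintype J) (t : J → R) (c : J → P →ₗ[R] P),
    IsUnit (algebraMap R A w) ∧ (∀ j, algebraMap R A (t j) ∈ maximalIdeal A) ∧
      ∀ x, ∑ j, c j (t j • x) = w • x

section Pi

variable {R : Type u} [CommRing R] {A : Type u} [CommRing A] [Algebra R A] [IsLocalRing A]

theorem UnitDatum.pi {ι : Type u} [Fintype ι] [DecidableEq ι] {N : ι → Type u}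
    [∀ i, AddCommGroup (N i)] [∀ i, Module R (N i)] (h : ∀ i, UnitDatum R A (N i)) :
    UnitDatum R A (∀ i, N i) := by
  classical
  choose w J hJ t c hw ht hc using h
  refine ⟨∏ i, w i, Σ i, J i, inferInstance, fun p => t p.1 p.2,
    fun p => (LinearMap.single R N p.1).comp
      (((∏ i' ∈ Finset.univ.erase p.1, w i') • c p.1 p.2).comp (LinearMap.proj p.1)), ?_,
    fun p => ht p.1 p.2, ?_⟩
  · rw [map_prod]
    exact (IsUnit.prod_iff).2 fun i _ => hw i
  · intro x
    funext i0
    rw [Fintype.sum_sigma, Finset.sum_apply]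
    simp only [LinearMap.comp_apply, LinearMap.proj_apply, LinearMap.smul_apply,
      LinearMap.coe_single, Pi.smul_apply, Finset.sum_apply]
    have : ∀ i : ι, (∑ j : J i, Pi.single (M := N) i
        ((∏ i' ∈ Finset.univ.erase i, w i') • (c i j) (t i j • x i)) i0) =
        if i = i0 then (∏ i, w i) • x i0 else 0 := by
      intro i
      by_cases hi : i = i0
      · subst hi
        simp only [Pi.single_eq_same, if_true]
        rw [← Finset.smul_sum, hc i (x i), smul_smul, mul_comm,
          Finset.mul_prod_erase _ _ (Finset.mem_univ i)]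
      · simp only [hi, if_false]
        apply Finset.sum_eq_zero
        intro j _
        exact Pi.single_eq_of_ne (Ne.symm hi) _
    simp only [this]
    rw [Finset.sum_ite_eq' Finset.univ i0]
    simp

end Pi


section Unit

variable {A : Type u} [CommRing A] [IsLocalRing A] [IsNoetherianRing A]
variable {N : Type u} [AddCommGroup N] [Module A N] [Module.Finite A N]
variable {P Q : Type*} [AddCommGroup P] [Module A P] [AddCommGroup Q] [Module A Q]

/-- **Unit-ideal case.** If `0 → N → P → Q` is exact, `𝔪` "generates the unit ideal" on `P` (in the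
sense that the identity of `P` is `∑ cⱼ ∘ tⱼ` with `tⱼ ∈ 𝔪`) and `Q` has no `𝔪`-torsion, then
`depth N ≥ 2`. -/
theorem two_le_depth_of_exact_unit (i : N →ₗ[A] P) (g : P →ₗ[A] Q)
    (hi : Function.Injective i) (hex : Function.Exact i g)
    (hP : ∃ (J : Type u) (_ : Fintype J) (t : J → A) (c : J → P →ₗ[A] P),
      (∀ j, t j ∈ maximalIdeal A) ∧ ∀ x, ∑ j, c j (t j • x) = x)
    (hQ : ∀ z : Q, (∀ t ∈ maximalIdeal A, t • z = 0) → z = 0) :
    2 ≤ LocCoh.depth A N := by
  obtain ⟨J, _, t, c, ht, hc⟩ := hP
  apply Groth.Agent.Lib.Helper64.HartogsConvAlg.two_le_depth_of_socle_free N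
  · intro n hn
    apply hi
    rw [map_zero, ← hc (i n)]
    apply Finset.sum_eq_zero
    intro j _
    rw [← map_smul, hn _ (ht j), map_zero, map_zero]
  · intro a ha hreg n hn
    have hreg' : ∀ z1 z2 : N, a • z1 = a • z2 → z1 = z2 := by
      intro z1 z2 h
      have : a • (z1 - z2) = 0 := by rw [smul_sub, sub_eq_zero]; exact h
      exact sub_eq_zero.mp (hreg _ this)
    choose ν hν using fun j => hn (t j) (ht j)
    set y : P := ∑ j, c j (i (ν j)) with hy
    have key : ∀ s ∈ maximalIdeal A, ∀ ns : N, s • n = a • ns → s • y = i ns := by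
      intro s hs ns hns
      rw [hy, Finset.smul_sum, ← hc (i ns)]
      apply Finset.sum_congr rfl
      intro j _
      rw [← map_smul, ← map_smul, ← map_smul]
      congr 2
      apply hreg'
      rw [smul_smul, mul_comm, ← smul_smul, ← hν j, smul_smul, mul_comm, ← smul_smul, hns,
        smul_smul, mul_comm, ← smul_smul]
    have hgy : g y = 0 := by
      apply hQ
      intro s hs
      obtain ⟨ns, hns⟩ := hn s hs
      rw [← map_smul, key s hs ns hns]
      exact hex.apply_apply_eq_zero ns
    obtain ⟨n'', hn''⟩ := (hex y).1 hgy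
    refine ⟨n'', hi ?_⟩
    rw [map_smul, hn'', hy, Finset.smul_sum, ← hc (i n)]
    apply Finset.sum_congr rfl
    intro j _
    rw [← map_smul, ← map_smul, ← map_smul, hν j]

end Unit

section Tensor

variable {R : Type u} [CommRing R] {A : Type u} [CommRing A] [Algebra R A] [IsLocalRing A]
  [Module.Flat R A]
variable {M P Q : Type u} [AddCommGroup M] [Module R M] [AddCommGroup P] [Module R P]
  [AddCommGroup Q] [Module R Q]

theorem injective_baseChange (i : M →ₗ[R] P) (hi : Function.Injective i) :
    Function.Injective (i.baseChange A) := by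
  have := Module.Flat.lTensor_preserves_injective_linearMap (M := A) i hi
  intro x y hxy
  apply this
  simpa [LinearMap.baseChange_eq_ltensor] using hxy

theorem exact_baseChange (i : M →ₗ[R] P) (g : P →ₗ[R] Q) (hex : Function.Exact i g) :
    Function.Exact (i.baseChange A) (g.baseChange A) := by
  have := Module.Flat.lTensor_exact A hex
  intro y
  have h := this y
  simpa [LinearMap.baseChange_eq_ltensor] using h

/-- **Flat case, base-changed.** -/
theorem min_two_depth_le_tensor_of_exact_flat (i : M →ₗ[R] P) (g : P →ₗ[R] Q)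
    (hi : Function.Injective i) (hex : Function.Exact i g) [Module.Flat R P] [Module.Flat R Q] :
    min (2 : ℕ∞) (LocCoh.depth A A) ≤ LocCoh.depth A (A ⊗[R] M) :=
  min_two_depth_le_of_exact_flat (i.baseChange A) (g.baseChange A) (injective_baseChange i hi)
    (exact_baseChange i g hex)


theorem UnitDatum.tensor (h : UnitDatum R A P) :
    ∃ (J : Type u) (_ : Fintype J) (t : J → A) (c : J → (A ⊗[R] P) →ₗ[A] (A ⊗[R] P)),
      (∀ j, t j ∈ maximalIdeal A) ∧ ∀ x, ∑ j, c j (t j • x) = x := by
  obtain ⟨w, J, _, t, c, hw, ht, hc⟩ := h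
  refine ⟨J, inferInstance, fun j => algebraMap R A (t j),
    fun j => ((hw.unit⁻¹ : Aˣ) : A) • (c j).baseChange A, ht, ?_⟩
  intro x
  induction x using TensorProduct.induction_on with
  | zero => simp
  | add x y hx hy =>
    simp only [smul_add, map_add, Finset.sum_add_distrib, hx, hy]
  | tmul a p =>
    simp only [LinearMap.smul_apply]
    have h1 : ∀ j, (c j).baseChange A (algebraMap R A (t j) • (a ⊗ₜ[R] p)) =
        a ⊗ₜ[R] (c j (t j • p)) := by
      intro j
      rw [TensorProduct.smul_tmul', smul_eq_mul, ← Algebra.smul_def,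
        TensorProduct.smul_tmul, LinearMap.baseChange_tmul]
    simp only [h1]
    rw [← Finset.smul_sum, ← TensorProduct.tmul_sum, hc p, TensorProduct.tmul_smul,
      ← algebraMap_smul A w (a ⊗ₜ[R] p), smul_smul]
    have : ((hw.unit⁻¹ : Aˣ) : A) * algebraMap R A w = 1 := by
      have := hw.unit.inv_mul
      simpa using this
    rw [this, one_smul]

/-- **Unit-ideal case, base-changed.** -/
theorem two_le_depth_tensor_of_exact_unit [IsNoetherianRing A] [Module.Finite A (A ⊗[R] M)]
    (i : M →ₗ[R] P) (g : P →ₗ[R] Q) (hi : Function.Injective i) (hex : Function.Exact i g)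
    (hP : UnitDatum R A P) (hQ : UnitDatum R A Q) :
    2 ≤ LocCoh.depth A (A ⊗[R] M) := by
  apply two_le_depth_of_exact_unit (i.baseChange A) (g.baseChange A) (injective_baseChange i hi)
    (exact_baseChange i g hex) hP.tensor
  intro z hz
  obtain ⟨J, _, t, c, ht, hc⟩ := hQ.tensor
  rw [← hc z]
  apply Finset.sum_eq_zero
  intro j _
  rw [hz _ (ht j), map_zero]

end Tensor

end Groth.Agent.Lib.Helper21.PushDepthAlg
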