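import Groth.Agent.Lib.Helper21.PushDepthAlg
import Groth.Agent.Lib.Helper67.Depth2
import Groth.Agent.Lib.Helper77.RegularAB
import Mathlib.LinearAlgebra.Dual.Lemmas
import Mathlib.RingTheory.LocalRing.Module

/-!
# Reflexive modules over regular local rings of dimension `≤ 2` are free (helper21)

* `min_two_depth_le_dual`: `depth Hom(D, A) ≥ min(2, depth A)` for a finitely generated module `D`
  over a Noetherian local ring.
* `min_two_depth_le_of_isReflexive`
* `free_of_isReflexive_of_regular_of_dim_le_two`
-/

set_option autoImplicit false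
universe u

namespace Groth.Agent.Lib.Helper21.ReflexiveFree

open IsLocalRing LocCoh CategoryTheory

/-- dualising a right exact sequence -/
theorem exact_dualMap {A : Type*} [CommRing A] {M1 M2 M3 : Type*} [AddCommGroup M1] [Module A M1]
    [AddCommGroup M2] [Module A M2] [AddCommGroup M3] [Module A M3]
    (f : M1 →ₗ[A] M2) (g : M2 →ₗ[A] M3) (hex : Function.Exact f g) (hg : Function.Surjective g) :
    Function.Exact g.dualMap f.dualMap := by
  rw [LinearMap.exact_iff, LinearMap.ker_dualMap_eq_dualAnnihilator_range,
    LinearMap.range_dualMap_eq_dualAnnihilator_ker_of_surjective g hg,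
    (LinearMap.exact_iff.mp hex)]

/-- `depth Hom(D, A) ≥ min(2, depth A)` for a finite module over a Noetherian local ring. -/
theorem min_two_depth_le_dual (A : Type u) [CommRing A] [IsLocalRing A] [IsNoetherianRing A]
    (D : Type u) [AddCommGroup D] [Module A D] [Module.Finite A D] :
    min (2 : ℕ∞) (LocCoh.depth A A) ≤ LocCoh.depth A (Module.Dual A D) := by
  obtain ⟨n, g, hg⟩ := Module.Finite.exists_fin' A D
  haveI : Module.Finite A (LinearMap.ker g) := inferInstance
  obtain ⟨k, f0, hf0⟩ := Module.Finite.exists_fin' A (LinearMap.ker g)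
  let f : (Fin k → A) →ₗ[A] (Fin n → A) := (LinearMap.ker g).subtype ∘ₗ f0
  have hex : Function.Exact f g := by
    rw [LinearMap.exact_iff]
    change _ = LinearMap.range ((LinearMap.ker g).subtype ∘ₗ f0)
    rw [LinearMap.range_comp, LinearMap.range_eq_top.mpr hf0, Submodule.map_top,
      Submodule.range_subtype]
  exact Groth.Agent.Lib.Helper21.PushDepthAlg.min_two_depth_le_of_exact_flat g.dualMap f.dualMap
    (LinearMap.dualMap_injective_of_surjective hg) (exact_dualMap f g hex hg)

/-- a finite reflexive module over a Noetherian local ring has depth `≥ min(2, depth A)` -/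
theorem min_two_depth_le_of_isReflexive (A : Type u) [CommRing A] [IsLocalRing A]
    [IsNoetherianRing A] (M : Type u) [AddCommGroup M] [Module A M] [Module.Finite A M]
    [Module.IsReflexive A M] :
    min (2 : ℕ∞) (LocCoh.depth A A) ≤ LocCoh.depth A M := by
  have e : M ≃ₗ[A] Module.Dual A (Module.Dual A M) := Module.evalEquiv A M
  rw [Groth.Agent.Lib.Helper67.depth_congr e]
  exact min_two_depth_le_dual A (Module.Dual A M)

/-- **Reflexive ⇒ free** over a regular local ring of dimension at most two. -/
theorem free_of_isReflexive_of_regular_of_dim_le_two (R : Type u) [CommRing R]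
    [IsRegularLocalRing R] (hdim : ringKrullDim R ≤ 2) (M : Type u) [AddCommGroup M] [Module R M]
    [Module.Finite R M] [Module.IsReflexive R M] : Module.Free R M := by
  rcases subsingleton_or_nontrivial M with hM | hM
  · exact Module.Free.of_subsingleton R M
  obtain ⟨e, hpd, hAB⟩ := Groth.Agent.Lib.Helper77.RegularAB.exists_pd_add_depth_eq_dim R M
  have hreg := Groth.Agent.Lib.Helper77.RegularCM.depth_eq_dim R
  have hrefl := min_two_depth_le_of_isReflexive R M
  obtain ⟨d, hd⟩ := Groth.Agent.Lib.Helper77.RegularAB.exists_ringKrullDim_eq R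
  -- depth R R = d
  have hdR : LocCoh.depth R R = d := by
    rw [hd] at hreg
    exact_mod_cast hreg
  have hd2 : d ≤ 2 := by
    rw [hd] at hdim
    exact_mod_cast hdim
  rw [hdR, min_eq_right (by exact_mod_cast hd2)] at hrefl
  -- e + depth M = d
  have hsum : (e : ℕ∞) + LocCoh.depth R M = d := by
    rw [hd] at hAB
    exact_mod_cast hAB.symm
  have he : e = 0 := by
    have h1 : (e : ℕ∞) + d ≤ d := by
      calc (e : ℕ∞) + d ≤ e + LocCoh.depth R M := by gcongr
        _ = d := hsum
    have h2 : e + d ≤ d := by exact_mod_cast h1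
    omega
  subst he
  have hlt : projectiveDimension (ModuleCat.of R M) < (1 : ℕ) := by
    rw [hpd]
    decide
  rw [projectiveDimension_lt_iff, ← projective_iff_hasProjectiveDimensionLT_one,
    ← IsProjective.iff_projective] at hlt
  haveI : Module.Projective R M := hlt
  exact Module.free_of_flat_of_isLocalRing

end Groth.Agent.Lib.Helper21.ReflexiveFree
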