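import Groth.Agent.Lib.Helper21.HomExtend2
import Groth.Agent.Lib.Helper21.SerreCoh
import Groth.Agent.Lib.Helper21.QuotIdeal
import Groth.Agent.Lib.Helper21.DevSummand
import Groth.Agent.Lib.Helper2.FreeModAff
import Groth.Agent.Lib.Helper2.DCohBase
import Groth.Agent.Lib.Helper2.DCohFlat
import Groth.Agent.Lib.Helper2.FinLocFreeAff
import Groth.Agent.Lib.Helper15.DCohLocal
import Mathlib.Algebra.Module.Torsion.Prod

/-!
# Torsion-free coherent covers of coherent modules (helper21)

On a Noetherian integral scheme every coherent module is a quotient of a torsion-free coherent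
module (direct sum of modules `I^m · O^n`), via Deligne's formula.

* `restrictStalkEquiv_stalkMap`, `stalkMap_surjective_restrict_iff`
* `epi_of_stalkMap_surjective`
* `exists_torsionFree_cover_affine`
* `exists_torsionFree_cover`
-/

set_option autoImplicit false
set_option linter.style.haveILetI false
universe u
open AlgebraicGeometry CategoryTheory Opposite TopologicalSpace Limits
open scoped ZeroObject

namespace Groth.Agent.Lib.Helper21.TorsionFreeCover

open Groth.Agent.Lib.Helper78.ModStalk Groth.Agent.Lib.Helper78.ModStalkExact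
  Groth.Agent.Lib.Helper21.CohStalkLocal Groth.Agent.Lib.Helper21.StalkBiprod
  Groth.Agent.Lib.Helper2.DCohFlat

variable {X : Scheme.{u}}

theorem restrictStalkEquiv_stalkMap {M N : X.Modules} (ψ : M ⟶ N) (U : X.Opens)
    (x' : (U : Scheme.{u}))
    (a : ((Scheme.Modules.restrictFunctor U.ι).obj M).presheaf.stalk x') :
    restrictStalkEquiv U.ι N x' (stalkMap ((Scheme.Modules.restrictFunctor U.ι).map ψ) x' a) =
      stalkMap ψ (U.ι x') (restrictStalkEquiv U.ι M x' a) := by
  obtain ⟨W, hxW, t, rfl⟩ :=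
    ((Scheme.Modules.restrictFunctor U.ι).obj M).presheaf.exists_germ_eq (x := x') a
  rw [stalkMap_germ]
  erw [restrictStalkEquiv_germ, restrictStalkEquiv_germ]
  rw [stalkMap_germ]
  rfl

theorem stalkMap_surjective_restrict_iff {M N : X.Modules} (ψ : M ⟶ N) (U : X.Opens)
    (x' : (U : Scheme.{u})) :
    Function.Surjective (stalkMap ((Scheme.Modules.restrictFunctor U.ι).map ψ) x') ↔
      Function.Surjective (stalkMap ψ (U.ι x')) := by
  constructor
  · intro h n
    obtain ⟨a, ha⟩ := h ((restrictStalkEquiv U.ι N x').symm n)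
    refine ⟨restrictStalkEquiv U.ι M x' a, ?_⟩
    rw [← restrictStalkEquiv_stalkMap, ha, AddEquiv.apply_symm_apply]
  · intro h n
    obtain ⟨a, ha⟩ := h (restrictStalkEquiv U.ι N x' n)
    refine ⟨(restrictStalkEquiv U.ι M x').symm a, ?_⟩
    apply (restrictStalkEquiv U.ι N x').injective
    rw [restrictStalkEquiv_stalkMap, AddEquiv.apply_symm_apply, ha]

theorem epi_of_stalkMap_surjective {M N : X.Modules} (π : M ⟶ N)
    (h : ∀ x : X, Function.Surjective (stalkMap π x)) : Epi π := by
  have hz : IsZero (cokernel π) := by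
    apply Groth.Agent.Lib.Helper21.Devissage.isZero_of_support_eq_empty
    rw [Set.eq_empty_iff_forall_notMem]
    intro x hx
    exact hx (subsingleton_stalk_cokernel π x (h x))
  exact Preadditive.epi_of_isZero_cokernel π hz

theorem subsingleton_stalk_of_isZero {M : X.Modules} (hM : IsZero M) (x : X) :
    Subsingleton (M.presheaf.stalk x) := by
  refine ⟨fun a b => ?_⟩
  have h0 : ∀ c : M.presheaf.stalk x, c = 0 := by
    intro c
    have h1 : stalkMap (𝟙 M) x c = stalkMap (0 : M ⟶ M) x c := by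
      rw [(IsZero.iff_id_eq_zero M).mp hM]
    rw [Groth.Agent.Lib.Helper21.StalkBiprod.stalkMap_id,
      Groth.Agent.Lib.Helper21.StalkBiprod.stalkMap_zero] at h1
    exact h1
  rw [h0 a, h0 b]

open Groth.Agent.Lib.Helper2.FreeModAff in
/-- **Lemma A.** On a Noetherian integral scheme, for a coherent `F` and an affine open `V` there
is a torsion-free coherent `F'` with a morphism `F' ⟶ F` which is surjective on stalks at all
points of `V`. -/
theorem exists_torsionFree_cover_affine [IsNoetherian X] [IsIntegral X] (F : X.Modules)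
    (hF : Coh.IsCoh F) (V : X.Opens) (hV : IsAffineOpen V) :
    ∃ (F' : X.Modules) (π : F' ⟶ F), Coh.IsCoh F' ∧
      (∀ y : X, Module.IsTorsionFree (X.presheaf.stalk y) (F'.presheaf.stalk y)) ∧
      ∀ y ∈ V, Function.Surjective (stalkMap π y) := by
  haveI : F.IsQuasicoherent := hF.1
  haveI : SheafOfModules.IsFiniteType (R := X.ringCatSheaf) F := hF.2
  haveI : Module.Finite Γ(X, V) Γ(F, V) :=
    Groth.Agent.Lib.Helper2.FinTypeAff.finite_sections F hV
  obtain ⟨n, s, hs⟩ := Module.Finite.exists_fin (R := Γ(X, V)) (M := Γ(F, V))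
  have hg : Submodule.span Γ(X, V) (Set.range (fun i : Idx.{u} n => s i.down)) = ⊤ := by
    rw [← hs]
    congr 1
    ext y
    constructor
    · rintro ⟨i, rfl⟩; exact ⟨i.down, rfl⟩
    · rintro ⟨i, rfl⟩; exact ⟨⟨i⟩, rfl⟩
  obtain ⟨π₀, hπ₀⟩ := (exists_epi_free_iff F hV (Idx.{u} n)).mpr ⟨_, hg⟩
  let G : X.Modules := FlatMod.freeMod X n
  have hGlf : FlatMod.IsFinLocFree G := Groth.Agent.Lib.Helper2.DCohBase.isFinLocFree_freeMod X n
  have hGc : Coh.IsCoh G := Groth.Agent.Lib.Helper15.DCohLocal.isCoh_of_isFinLocFree _ hGlf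
  haveI : G.IsQuasicoherent := hGc.1
  let φ : (Scheme.Modules.restrictFunctor V.ι).obj G ⟶ (Scheme.Modules.restrictFunctor V.ι).obj F :=
    (Scheme.Modules.restrictFunctor V.ι).map (freeModIso X n).hom ≫
      (restrictFreeIso V.ι (Idx.{u} n)).hom ≫ π₀
  have h1 : Epi ((restrictFreeIso V.ι (Idx.{u} n)).hom ≫ π₀) :=
    @epi_comp _ _ _ _ _ _ inferInstance _ hπ₀
  haveI : Epi φ := @epi_comp _ _ _ _ _ _ inferInstance _ h1
  let Z : Closeds X := ⟨(V : Set X)ᶜ, V.isOpen.isClosed_compl⟩
  let I := Scheme.IdealSheafData.vanishingIdeal Z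
  have hsupp : (I.support : Set X) = (V : Set X)ᶜ :=
    Scheme.IdealSheafData.coe_support_vanishingIdeal Z
  obtain ⟨m, ψ, hψ⟩ := Groth.Agent.Lib.Helper21.HomExtend.exists_pow_hom_extension F G hGc I V
    (by rw [hsupp, compl_compl]) φ
  refine ⟨(Dual3.idealMul (I ^ m)).obj G, ψ,
    Groth.Agent.Lib.Helper21.SerreCoh.isCoh_idealMul _ hGc, ?_, ?_⟩
  · intro y
    haveI : Module.Free (X.presheaf.stalk y) (G.presheaf.stalk y) :=
      Groth.Agent.Lib.Helper2.FinLocFreeAff.free_stalk_of_isFinLocFree G hGlf y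
    exact (stalkMap_injective_of_mono (Dual3.idealMulι (I ^ m) G) y).moduleIsTorsionFree _
      (fun r a => map_smul _ r a)
  · intro y hy
    let y' : (V : Scheme.{u}) := ⟨y, hy⟩
    change Function.Surjective (stalkMap ψ (V.ι y'))
    rw [← stalkMap_surjective_restrict_iff, hψ, Groth.Agent.Lib.Helper21.StalkBiprod.stalkMap_comp,
      LinearMap.coe_comp]
    refine (stalkMap_surjective_of_epi φ y').comp ?_
    rw [stalkMap_surjective_restrict_iff]
    change Function.Surjective (stalkMap (Dual3.idealMulι (I ^ m) G) y)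
    have hy' : y ∉ ((I ^ m).support : Set X) :=
      Groth.Agent.Lib.Helper21.HomExtend.notMem_support_pow I m y (by rw [hsupp]; exact fun h => h hy)
    have hns : y ∉ CohB1.support (Groth.Agent.Lib.Helper21.QuotIdeal.quot (I ^ m) G) :=
      fun h => hy' (Groth.Agent.Lib.Helper21.QuotIdeal.support_quot_subset _ _ h).2
    have hsub : Subsingleton
        ((cokernel (Dual3.idealMulι (I ^ m) G)).presheaf.stalk y) := by
      by_contra h
      exact hns h
    have hex := stalk_function_exact _
      (Groth.Agent.Lib.Helper21.QuotIdeal.shortExact_mono_cokernel (Dual3.idealMulι (I ^ m) G)) y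
    intro t
    exact (hex t).mp (Subsingleton.elim _ _)

/-- the same over a finite family of affine opens -/
theorem exists_torsionFree_cover_finset [IsNoetherian X] [IsIntegral X] (F : X.Modules)
    (hF : Coh.IsCoh F) (t : Finset X.affineOpens) :
    ∃ (F' : X.Modules) (π : F' ⟶ F), Coh.IsCoh F' ∧
      (∀ y : X, Module.IsTorsionFree (X.presheaf.stalk y) (F'.presheaf.stalk y)) ∧
      ∀ V ∈ t, ∀ y ∈ (V : X.affineOpens).1, Function.Surjective (stalkMap π y) := by
  classical
  induction t using Finset.induction_on with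
  | empty =>
    refine ⟨0, 0, Groth.Agent.Lib.Helper21.Devissage.isCoh_of_isZero (isZero_zero _),
      fun y => ?_, fun V hV => absurd hV (Finset.notMem_empty V)⟩
    haveI := subsingleton_stalk_of_isZero (isZero_zero X.Modules) y
    infer_instance
  | insert V t hVt ih =>
    obtain ⟨F₁, π₁, hc₁, ht₁, hs₁⟩ := ih
    obtain ⟨F₂, π₂, hc₂, ht₂, hs₂⟩ := exists_torsionFree_cover_affine F hF V.1 V.2
    refine ⟨F₁ ⊞ F₂, biprod.desc π₁ π₂,
      Groth.Agent.Lib.Helper21.DevSummand.isCoh_biprod hc₁ hc₂, fun y => ?_, ?_⟩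
    · haveI := ht₁ y
      haveI := ht₂ y
      exact (stalkBiprodEquiv F₁ F₂ y).injective.moduleIsTorsionFree _
        (fun r a => map_smul _ r a)
    · intro W hW y hy n
      rw [Finset.mem_insert] at hW
      rcases hW with rfl | hW
      · obtain ⟨a, ha⟩ := hs₂ y hy n
        refine ⟨stalkMap (biprod.inr : F₂ ⟶ F₁ ⊞ F₂) y a, ?_⟩
        rw [← LinearMap.comp_apply, ← Groth.Agent.Lib.Helper21.StalkBiprod.stalkMap_comp,
          biprod.inr_desc]
        exact ha
      · obtain ⟨a, ha⟩ := hs₁ W hW y hy n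
        refine ⟨stalkMap (biprod.inl : F₁ ⟶ F₁ ⊞ F₂) y a, ?_⟩
        rw [← LinearMap.comp_apply, ← Groth.Agent.Lib.Helper21.StalkBiprod.stalkMap_comp,
          biprod.inl_desc]
        exact ha

/-- **Torsion-free covers.** On a Noetherian integral scheme every coherent module is a quotient
of a coherent module with torsion-free stalks. -/
theorem exists_torsionFree_cover [IsNoetherian X] [IsIntegral X] (F : X.Modules)
    (hF : Coh.IsCoh F) :
    ∃ (F' : X.Modules) (π : F' ⟶ F), Coh.IsCoh F' ∧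
      (∀ y : X, Module.IsTorsionFree (X.presheaf.stalk y) (F'.presheaf.stalk y)) ∧ Epi π := by
  obtain ⟨t, ht⟩ := isCompact_univ.elim_finite_subcover (fun U : X.affineOpens => (U.1 : Set X))
    (fun U => U.1.2) (by
      intro x _
      obtain ⟨_, ⟨V, hV, rfl⟩, hxV, -⟩ :=
        X.isBasis_affineOpens.exists_subset_of_mem_open (Set.mem_univ x) isOpen_univ
      exact Set.mem_iUnion.mpr ⟨⟨V, hV⟩, hxV⟩)
  obtain ⟨F', π, hc, htf, hs⟩ := exists_torsionFree_cover_finset F hF t
  refine ⟨F', π, hc, htf, epi_of_stalkMap_surjective π (fun x => ?_)⟩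
  have hxt : x ∈ ⋃ i ∈ t, ((i : X.affineOpens).1 : Set X) := ht (Set.mem_univ x)
  simp only [Set.mem_iUnion] at hxt
  obtain ⟨W, hWt, hxW⟩ := hxt
  exact hs W hWt x hxW

end Groth.Agent.Lib.Helper21.TorsionFreeCover
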