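import Groth.Agent.Lib.Helper21.PushOpenRefl
import Groth.Agent.Lib.Helper21.ReflexiveFree
import Groth.Agent.Lib.Helper21.ReflexiveFreeSch
import Groth.Agent.Lib.Helper21.TorsionFreeCover
import Groth.Agent.Lib.Helper21.DevSummand
import Groth.Agent.Lib.Helper77.AuslanderBuchsbaum
import Groth.Agent.Lib.Helper72.DimLFT
import Groth.Agent.Lib.Helper56.DepthAss

/-!
# Extending vector bundles across regular points of dimension two (helper21)

* `free_of_semilinear`: freeness transfers along semilinear additive equivalences.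
* `ringKrullDim_stalk_eq_of_isClosed`: closed points of an irreducible scheme locally of finite
  type over a field have local rings of dimension `dim X`.
* `isFinLocFree_push`: `X` integral locally Noetherian, `U` open whose complement consists of
  points with regular local rings of dimension two, `E` finite locally free on `U`; then `j_* E`
  is finite locally free.
* `exists_hom_push`: in this situation, `F` coherent with free stalks outside `U` and
  `π : E ⟶ F|_U` an epimorphism; then there is `φ : j_* E ⟶ F` surjective on stalks at the points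
  of `U`.
* `exists_epi_of_two_points`: gluing two finite locally free covers (Gross).
-/

set_option autoImplicit false
set_option linter.style.haveILetI false
universe u
open AlgebraicGeometry CategoryTheory Opposite TopologicalSpace Limits

namespace Groth.Agent.Lib.Helper21.PushFinLocFree

open Groth.Agent.Lib.Helper78.ModStalk Groth.Agent.Lib.Helper78.ModStalkExact
  Groth.Agent.Lib.Helper21.TorsionFreeCover Groth.Agent.Lib.Helper2.DCohFlat
  Groth.Agent.Lib.Helper21.CohStalkLocal Groth.Agent.Lib.Helper21.StalkBiprod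
  Groth.Agent.Lib.Helper21.ReflexiveNormal
open Groth.Agent.Lib.Helper73 Groth.Agent.Lib.Helper72.DimLFT

section Semilinear

variable {R S A B : Type*} [CommRing R] [CommRing S] [AddCommGroup A] [AddCommGroup B]
  [Module S A] [Module R B] (φ : R →+* S) (hφ : Function.Bijective φ)
  (e : A ≃+ B) (he : ∀ (r : R) (a : A), e (φ r • a) = r • e a)

include hφ he in
theorem free_of_semilinear [Module.Free S A] : Module.Free R B := by
  let σ : R ≃+* S := RingEquiv.ofBijective φ hφ
  have hσ : ∀ r, σ r = φ r := fun _ => rfl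
  have he' : ∀ (s : S) (a : A), e (s • a) = σ.symm s • e a := by
    intro s a
    have := he (σ.symm s) a
    rwa [← hσ, RingEquiv.apply_symm_apply] at this
  letI i1 : RingHomInvPair (σ.symm : S →+* R) (σ : R →+* S) :=
    ⟨by ext x; simp, by ext x; simp⟩
  letI i2 : RingHomInvPair (σ : R →+* S) (σ.symm : S →+* R) :=
    ⟨by ext x; simp, by ext x; simp⟩
  let e' : A ≃ₛₗ[(σ.symm : S →+* R)] B :=
    { e with
      map_smul' := fun s a => he' s a }
  exact Module.Free.of_equiv e'

end Semilinear

theorem ringKrullDim_stalk_eq_of_isClosed {k : Type u} [Field k] {X : Scheme.{u}}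
    (f : X ⟶ Spec (CommRingCat.of k)) [LocallyOfFiniteType f] [IrreducibleSpace X] {p : X}
    (hp : IsClosed ({p} : Set X)) :
    ringKrullDim (X.presheaf.stalk p) = topologicalKrullDim X := by
  rw [ringKrullDim_stalk_eq_localDim f hp]
  apply le_antisymm (Groth.Agent.Lib.Helper84.localDim_le_dim p)
  unfold FlatMor.localDim
  refine le_iInf fun U => ?_
  rw [topologicalKrullDim_eq_iSup_trdegNat f, topologicalKrullDim_open_eq_iSup_trdegNat f U.1.isOpen]
  have hη : genericPoint X ∈ U.1 :=
    ((genericPoint_spec X).mem_open_set_iff U.1.isOpen).mpr ⟨p, Set.mem_univ _, U.2⟩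
  refine iSup_le fun x => ?_
  refine le_trans ?_ (le_iSup (fun y : ↥(U.1 : Set X) => ((trdegNat f y.1 : ℕ∞) : WithBot ℕ∞))
    ⟨genericPoint X, hη⟩)
  have hsp : genericPoint X ⤳ x := genericPoint_specializes x
  change ((trdegNat f x : ℕ∞) : WithBot ℕ∞) ≤ ((trdegNat f (genericPoint X) : ℕ∞) : WithBot ℕ∞)
  by_cases hx : genericPoint X = x
  · rw [← hx]
  · have := (isDimFun_trdegNat f).lt_of_specializes hsp hx
    exact_mod_cast this.le

variable {X : Scheme.{u}}

/-- a regular local ring of dimension two has depth two -/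
theorem two_le_depth_of_regular (R : Type u) [CommRing R] [IsRegularLocalRing R]
    (hdim : ringKrullDim R = 2) : (2 : ℕ∞) ≤ LocCoh.depth R R := by
  have h := Groth.Agent.Lib.Helper77.RegularCM.depth_eq_dim R
  rw [hdim] at h
  have h2 : ((LocCoh.depth R R : ℕ∞) : WithBot ℕ∞) = ((2 : ℕ∞) : WithBot ℕ∞) := h
  have h3 : LocCoh.depth R R = 2 := by exact_mod_cast h2
  rw [h3]

/-- stalks of the restriction to an open: freeness transfers to the ambient scheme -/
theorem free_stalk_of_free_restrict (W : X.Opens) (M : X.Modules) (x' : (W : Scheme.{u}))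
    [Module.Free ((W : Scheme.{u}).presheaf.stalk x')
      (((Scheme.Modules.restrictFunctor W.ι).obj M).presheaf.stalk x')] :
    Module.Free (X.presheaf.stalk (W.ι x')) (M.presheaf.stalk (W.ι x')) :=
  free_of_semilinear (W.ι.stalkMap x').hom (stalkMap_bijective W.ι x')
    (restrictStalkEquiv W.ι M x') (restrictStalkEquiv_smul W.ι M x')

theorem free_stalk_of_isFinLocFree_restrict [IsLocallyNoetherian X] (W : X.Opens) (M : X.Modules)
    [M.IsQuasicoherent]
    (h : FlatMod.IsFinLocFree ((Scheme.Modules.restrictFunctor W.ι).obj M)) (x : X) (hx : x ∈ W) :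
    Module.Free (X.presheaf.stalk x) (M.presheaf.stalk x) := by
  haveI : ((Scheme.Modules.restrictFunctor W.ι).obj M).IsQuasicoherent := inferInstanceAs
    ((Scheme.Modules.restrictFunctor W.ι).obj M).IsQuasicoherent
  let x' : (W : Scheme.{u}) := ⟨x, hx⟩
  haveI := Groth.Agent.Lib.Helper2.FinLocFreeAff.free_stalk_of_isFinLocFree _ h x'
  exact free_stalk_of_free_restrict W M x'


section Push

variable [IsIntegral X] [IsLocallyNoetherian X] (U : X.Opens)

/-- `j_* E` is finite locally free when `E` is and the complement of `U` consists of regular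
points of dimension two. -/
theorem isFinLocFree_push
    (hU : ∀ x : X, x ∉ U → IsRegularLocalRing (X.presheaf.stalk x) ∧
      ringKrullDim (X.presheaf.stalk x) = 2)
    (E : (U : Scheme.{u}).Modules) (hE : FlatMod.IsFinLocFree E) :
    Coh.IsCoh ((Scheme.Modules.pushforward U.ι).obj E) ∧
      FlatMod.IsFinLocFree ((Scheme.Modules.pushforward U.ι).obj E) := by
  have hEc : Coh.IsCoh E := Groth.Agent.Lib.Helper15.DCohLocal.isCoh_of_isFinLocFree _ hE
  haveI : E.IsQuasicoherent := hEc.1
  have hdepth : ∀ x : X, x ∉ U →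
      (2 : ℕ∞) ≤ LocCoh.depth (X.presheaf.stalk x) (X.presheaf.stalk x) := by
    intro x hx
    haveI := (hU x hx).1
    exact two_le_depth_of_regular _ (hU x hx).2
  have hfree : ∀ x : (U : Scheme.{u}),
      Module.Free ((U : Scheme.{u}).presheaf.stalk x) (E.presheaf.stalk x) :=
    fun x => Groth.Agent.Lib.Helper2.FinLocFreeAff.free_stalk_of_isFinLocFree E hE x
  have hrefl : ∀ x : (U : Scheme.{u}),
      Module.IsReflexive ((U : Scheme.{u}).presheaf.stalk x) (E.presheaf.stalk x) := by
    intro x
    haveI := hfree x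
    haveI := Groth.Agent.Lib.Helper21.ReflexiveFreeSch.finite_stalk_of_isCoh E hEc x
    infer_instance
  obtain ⟨hcoh, hr⟩ := Groth.Agent.Lib.Helper21.PushOpenRefl.isReflexive_push U hdepth E hEc hrefl
  refine ⟨hcoh, ?_⟩
  apply Groth.Agent.Lib.Helper21.ReflexiveFreeSch.isFinLocFree_of_free_stalks _ hcoh
  intro x
  set H := (Scheme.Modules.pushforward U.ι).obj E with hH
  by_cases hx : x ∈ U
  · let x' : (U : Scheme.{u}) := ⟨x, hx⟩
    let adj := Scheme.Modules.restrictAdjunction U.ι
    haveI hci : IsIso (adj.counit.app E) := inferInstance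
    let eG : H.restrict U.ι ≅ E := asIso (adj.counit.app E)
    have hb := Groth.Agent.Lib.Helper64.HomSh.bijective_stalkMapₗ_of_isIso eG.hom x'
    haveI := hfree x'
    haveI : Module.Free ((U : Scheme.{u}).presheaf.stalk x')
        (((Scheme.Modules.restrictFunctor U.ι).obj H).presheaf.stalk x') :=
      Module.Free.of_equiv (LinearEquiv.ofBijective _ hb).symm
    exact free_stalk_of_free_restrict U H x'
  · haveI := (hU x hx).1
    haveI := Groth.Agent.Lib.Helper21.ReflexiveFreeSch.finite_stalk_of_isCoh H hcoh x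
    haveI := hr x
    exact Groth.Agent.Lib.Helper21.ReflexiveFree.free_of_isReflexive_of_regular_of_dim_le_two _
      (hU x hx).2.le _

/-- a map `j_* E ⟶ F` extending an epimorphism `E ⟶ F|_U`. -/
theorem exists_hom_push
    (hU : ∀ x : X, x ∉ U → IsRegularLocalRing (X.presheaf.stalk x) ∧
      ringKrullDim (X.presheaf.stalk x) = 2)
    (F : X.Modules) (hF : Coh.IsCoh F)
    (hFfree : ∀ x : X, x ∉ U → Module.Free (X.presheaf.stalk x) (F.presheaf.stalk x))
    (E : (U : Scheme.{u}).Modules)
    (π : E ⟶ (Scheme.Modules.restrictFunctor U.ι).obj F) [Epi π] :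
    ∃ φ : (Scheme.Modules.pushforward U.ι).obj E ⟶ F,
      ∀ x ∈ U, Function.Surjective (stalkMap φ x) := by
  let adj := Scheme.Modules.restrictAdjunction U.ι
  let r := Scheme.Modules.restrictFunctor U.ι
  have hdepth : ∀ y : X, y ∉ U →
      (2 : ℕ∞) ≤ LocCoh.depth (X.presheaf.stalk y) (F.presheaf.stalk y) := by
    intro y hy
    haveI := (hU y hy).1
    haveI := hFfree y hy
    haveI := Groth.Agent.Lib.Helper21.ReflexiveFreeSch.finite_stalk_of_isCoh F hF y
    rcases subsingleton_or_nontrivial (F.presheaf.stalk y) with hs | hn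
    · rw [Groth.Agent.Lib.Helper56.depth_eq_top_of_subsingleton]
      exact le_top
    · rw [Groth.Agent.Lib.Helper77.AuslanderBuchsbaum.depth_of_free]
      exact two_le_depth_of_regular _ (hU y hy).2
  haveI hunit : IsIso (adj.unit.app F) :=
    Groth.Agent.Lib.Helper21.HartogsHom.isIso_unit_of_depth F hF U hdepth
  let φ : (Scheme.Modules.pushforward U.ι).obj E ⟶ F :=
    (Scheme.Modules.pushforward U.ι).map π ≫ inv (adj.unit.app F)
  refine ⟨φ, fun x hx => ?_⟩
  let x' : (U : Scheme.{u}) := ⟨x, hx⟩
  change Function.Surjective (stalkMap φ (U.ι x'))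
  rw [← stalkMap_surjective_restrict_iff]
  haveI hc1 : IsIso (adj.counit.app E) := inferInstance
  haveI hc2 : IsIso (adj.counit.app (r.obj F)) := inferInstance
  have hnat : r.map ((Scheme.Modules.pushforward U.ι).map π) ≫ adj.counit.app (r.obj F) =
      adj.counit.app E ≫ π := adj.counit.naturality π
  have h1 : r.map ((Scheme.Modules.pushforward U.ι).map π) =
      (adj.counit.app E ≫ π) ≫ inv (adj.counit.app (r.obj F)) := by
    rw [← hnat, Category.assoc, IsIso.hom_inv_id, Category.comp_id]
  haveI : Epi (r.map ((Scheme.Modules.pushforward U.ι).map π)) := by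
    rw [h1]
    infer_instance
  haveI : Epi (r.map φ) := by
    change Epi (r.map ((Scheme.Modules.pushforward U.ι).map π ≫ inv (adj.unit.app F)))
    rw [Functor.map_comp]
    infer_instance
  exact stalkMap_surjective_of_epi (r.map φ) x'

end Push


/-- **Gluing two finite locally free covers.** `F` coherent on an integral locally Noetherian
scheme, `p ≠ q` two points with regular local rings of dimension two at which `F` is free. If
`F|_{X ∖ p}` and `F|_{X ∖ q}` are quotients of finite locally free modules, so is `F`. -/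
theorem exists_epi_of_two_points [IsIntegral X] [IsLocallyNoetherian X]
    (F : X.Modules) (hF : Coh.IsCoh F) (p q : X) (hpq : p ≠ q)
    (hpreg : IsRegularLocalRing (X.presheaf.stalk p)) (hpdim : ringKrullDim (X.presheaf.stalk p) = 2)
    (hqreg : IsRegularLocalRing (X.presheaf.stalk q)) (hqdim : ringKrullDim (X.presheaf.stalk q) = 2)
    (hFp : Module.Free (X.presheaf.stalk p) (F.presheaf.stalk p))
    (hFq : Module.Free (X.presheaf.stalk q) (F.presheaf.stalk q))
    (Up Uq : X.Opens) (hUp : (Up : Set X) = {p}ᶜ) (hUq : (Uq : Set X) = {q}ᶜ)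
    (Ep : (Up : Scheme.{u}).Modules) (πp : Ep ⟶ (Scheme.Modules.restrictFunctor Up.ι).obj F)
    (hEp : FlatMod.IsFinLocFree Ep) (hπp : Epi πp)
    (Eq : (Uq : Scheme.{u}).Modules) (πq : Eq ⟶ (Scheme.Modules.restrictFunctor Uq.ι).obj F)
    (hEq : FlatMod.IsFinLocFree Eq) (hπq : Epi πq) :
    ∃ (E : X.Modules) (π : E ⟶ F), FlatMod.IsFinLocFree E ∧ Epi π := by
  have hmemp : ∀ x : X, x ∉ Up → x = p := by
    intro x hx
    have : x ∉ (Up : Set X) := hx
    rw [hUp] at this
    simpa using this
  have hmemq : ∀ x : X, x ∉ Uq → x = q := by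
    intro x hx
    have : x ∉ (Uq : Set X) := hx
    rw [hUq] at this
    simpa using this
  have hUp' : ∀ x : X, x ∉ Up → IsRegularLocalRing (X.presheaf.stalk x) ∧
      ringKrullDim (X.presheaf.stalk x) = 2 := by
    intro x hx
    rw [hmemp x hx]
    exact ⟨hpreg, hpdim⟩
  have hUq' : ∀ x : X, x ∉ Uq → IsRegularLocalRing (X.presheaf.stalk x) ∧
      ringKrullDim (X.presheaf.stalk x) = 2 := by
    intro x hx
    rw [hmemq x hx]
    exact ⟨hqreg, hqdim⟩
  set Hp := (Scheme.Modules.pushforward Up.ι).obj Ep with hHp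
  set Hq := (Scheme.Modules.pushforward Uq.ι).obj Eq with hHq
  obtain ⟨hcp, hlp⟩ : Coh.IsCoh Hp ∧ FlatMod.IsFinLocFree Hp := isFinLocFree_push Up hUp' Ep hEp
  obtain ⟨hcq, hlq⟩ : Coh.IsCoh Hq ∧ FlatMod.IsFinLocFree Hq := isFinLocFree_push Uq hUq' Eq hEq
  obtain ⟨φp, hφp⟩ : ∃ φ : Hp ⟶ F, ∀ x ∈ Up, Function.Surjective (stalkMap φ x) :=
    exists_hom_push Up hUp' F hF (fun x hx => by rw [hmemp x hx]; exact hFp) Ep πp
  obtain ⟨φq, hφq⟩ : ∃ φ : Hq ⟶ F, ∀ x ∈ Uq, Function.Surjective (stalkMap φ x) :=
    exists_hom_push Uq hUq' F hF (fun x hx => by rw [hmemq x hx]; exact hFq) Eq πq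
  haveI : Hp.IsQuasicoherent := hcp.1
  haveI : Hq.IsQuasicoherent := hcq.1
  refine ⟨Hp ⊞ Hq, biprod.desc φp φq, ?_, ?_⟩
  · apply Groth.Agent.Lib.Helper21.ReflexiveFreeSch.isFinLocFree_of_free_stalks _
      (Groth.Agent.Lib.Helper21.DevSummand.isCoh_biprod hcp hcq)
    intro x
    haveI := Groth.Agent.Lib.Helper2.FinLocFreeAff.free_stalk_of_isFinLocFree Hp hlp x
    haveI := Groth.Agent.Lib.Helper2.FinLocFreeAff.free_stalk_of_isFinLocFree Hq hlq x
    exact Module.Free.of_equiv (stalkBiprodEquiv Hp Hq x).symm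
  · apply epi_of_stalkMap_surjective
    intro x t
    by_cases hx : x = p
    · have hxq : x ∈ Uq := by
        change x ∈ (Uq : Set X)
        rw [hUq]
        intro h
        exact hpq (hx.symm.trans h)
      obtain ⟨a, ha⟩ := hφq x hxq t
      refine ⟨stalkMap (biprod.inr : Hq ⟶ Hp ⊞ Hq) x a, ?_⟩
      rw [← LinearMap.comp_apply, ← Groth.Agent.Lib.Helper21.StalkBiprod.stalkMap_comp, biprod.inr_desc]
      exact ha
    · have hxp : x ∈ Up := by
        change x ∈ (Up : Set X)
        rw [hUp]
        exact hx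
      obtain ⟨a, ha⟩ := hφp x hxp t
      refine ⟨stalkMap (biprod.inl : Hp ⟶ Hp ⊞ Hq) x a, ?_⟩
      rw [← LinearMap.comp_apply, ← Groth.Agent.Lib.Helper21.StalkBiprod.stalkMap_comp, biprod.inl_desc]
      exact ha

end Groth.Agent.Lib.Helper21.PushFinLocFree
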