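import Groth.Agent.Lib.Helper21.RootStep
import Groth.Agent.Lib.Helper21.ClImmDev

/-!
# Pushforward from an integral closed subscheme at the generic point (helper21)

* `app_eq_zero_of_notMem_basicOpen`: functions not invertible at `ξ = i η` pull back to zero.
* `stalk_pushforward_killed`: `(i_* H)_ξ` is killed by the maximal ideal.
* `nontrivial_stalk_pushforward`: `(i_* H)_{i z}` is nontrivial if `H_z` is.
* `isSimpleModule_stalk_push_ideal`: `(i_* I)_ξ` is simple for a nonzero quasi-coherent ideal `I`.
* `root_devissage`: dévissage for classes closed under kernels of epis, extensions and roots.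
-/

set_option autoImplicit false
set_option linter.style.haveILetI false
universe u
open AlgebraicGeometry CategoryTheory Opposite TopologicalSpace Limits

namespace Groth.Agent.Lib.Helper21.PushGeneric

open Groth.Agent.Lib.Helper78.ModStalk Groth.Agent.Lib.Helper21.StalkLen
  Groth.Agent.Lib.Helper64.PushStalk Groth.Agent.Lib.Lead.QCohAff
  Groth.Agent.Lib.Helper21.Devissage Groth.Agent.Lib.Helper21.ClImmDev

variable {X Z : Scheme.{u}} (i : Z ⟶ X) [IsClosedImmersion i] [IsIntegral Z]

omit [IsClosedImmersion i] in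
theorem app_eq_zero_of_notMem_basicOpen {U : X.Opens} (b : Γ(X, U))
    (hb : i (genericPoint Z) ∉ X.basicOpen b) : (i.app U).hom b = 0 := by
  have h1 : Z.basicOpen ((i.app U).hom b) = ⊥ := by
    rw [← Scheme.preimage_basicOpen]
    by_contra hne
    have hne' : ((i ⁻¹ᵁ X.basicOpen b : Z.Opens) : Set Z).Nonempty := by
      rw [Set.nonempty_iff_ne_empty]
      intro h
      exact hne (Opens.ext h)
    have := ((genericPoint_spec Z).mem_open_set_iff (i ⁻¹ᵁ X.basicOpen b).2).mpr
      (by simpa using hne')
    exact hb this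
  exact (AlgebraicGeometry.basicOpen_eq_bot_iff _).mp h1

theorem stalk_pushforward_killed_aux (H : Z.Modules) [H.IsQuasicoherent] (ξ : X)
    (hξ : ξ = i (genericPoint Z))
    (a : X.presheaf.stalk ξ) (ha : a ∈ IsLocalRing.maximalIdeal (X.presheaf.stalk ξ))
    (t : ((Scheme.Modules.pushforward i).obj H).presheaf.stalk ξ) :
    a • t = 0 := by
  haveI : ((Scheme.Modules.pushforward i).obj H).IsQuasicoherent := inferInstance
  obtain ⟨W, hξW, f, rfl⟩ := X.presheaf.exists_germ_eq (x := ξ) a
  obtain ⟨_, ⟨U, hU : IsAffineOpen U, rfl⟩, hξU, hUW⟩ :=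
    X.isBasis_affineOpens.exists_subset_of_mem_open hξW W.2
  have hUW' : U ≤ W := hUW
  set b := X.presheaf.map (homOfLE hUW').op f with hbdef
  have hgerm : X.presheaf.germ W ξ hξW f = X.presheaf.germ U ξ hξU b :=
    (germX_res hUW' ξ hξU f).symm
  rw [hgerm] at ha ⊢
  have hb : ξ ∉ X.basicOpen b := by
    intro hmem
    exact ha (isUnit_germ_of_mem_basicOpen b ξ hξU hmem)
  obtain ⟨r, s, hξr, hrs⟩ :=
    exists_germ_smul_eq_germ ((Scheme.Modules.pushforward i).obj H) hU ξ hξU t
  have hu := isUnit_germ_of_mem_basicOpen r ξ hξU hξr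
  apply hu.smul_eq_zero.1
  rw [smul_comm, hrs, ← Groth.Agent.Lib.Lead.QCohAff.germ_smul]
  have : b • s = 0 := by
    have h1 := Groth.Agent.Lib.Helper64.CohPush.pushforward_smul i H U b s
    rw [app_eq_zero_of_notMem_basicOpen i b (hξ ▸ hb), zero_smul] at h1
    exact h1
  rw [this, map_zero]

/-- The stalk of `i_* H` at the generic point of `Z` is killed by the maximal ideal. -/
theorem stalk_pushforward_killed (H : Z.Modules) [H.IsQuasicoherent]
    (a : X.presheaf.stalk (i (genericPoint Z)))
    (ha : a ∈ IsLocalRing.maximalIdeal (X.presheaf.stalk (i (genericPoint Z))))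
    (t : ((Scheme.Modules.pushforward i).obj H).presheaf.stalk (i (genericPoint Z))) :
    a • t = 0 :=
  stalk_pushforward_killed_aux i H _ rfl a ha t

omit [IsIntegral Z] in
/-- Stalks of a pushforward along a closed immersion. -/
theorem nontrivial_stalk_pushforward (H : Z.Modules) (z : Z)
    [Nontrivial (H.presheaf.stalk z)] :
    Nontrivial (((Scheme.Modules.pushforward i).obj H).presheaf.stalk (i z)) := by
  have hi : Topology.IsInducing i := i.isClosedEmbedding.isInducing
  have hiso := TopCat.Presheaf.stalkPushforward.stalkPushforward_iso_of_isInducing (C := Ab)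
    (f := i.base) hi H.presheaf z
  have hbij : Function.Bijective (TopCat.Presheaf.stalkPushforward Ab i.base H.presheaf z) :=
    (ConcreteCategory.isIso_iff_bijective _).mp hiso
  exact hbij.2.nontrivial

omit [IsClosedImmersion i] [IsIntegral Z] in
theorem isZero_of_isZero_pushforward [IsClosedImmersion i] {I : Z.Modules}
    (h : IsZero ((Scheme.Modules.pushforward i).obj I)) : IsZero I := by
  rw [IsZero.iff_id_eq_zero] at h ⊢
  apply (Scheme.Modules.pushforward i).map_injective
  rw [CategoryTheory.Functor.map_id, CategoryTheory.Functor.map_zero]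
  exact h

/-- The stalk of `i_* I` at the generic point is simple, for a nonzero quasi-coherent ideal. -/
theorem isSimpleModule_stalk_push_ideal (I : Z.Modules) (ι : I ⟶ Coh.structureModule Z) [Mono ι]
    (hQ : Coh.IsCoh ((Scheme.Modules.pushforward i).obj I)) (hI : ¬ IsZero I) :
    IsSimpleModule (X.presheaf.stalk (i (genericPoint Z)))
      (((Scheme.Modules.pushforward i).obj I).presheaf.stalk (i (genericPoint Z))) := by
  haveI : ((Scheme.Modules.pushforward i).obj I).IsQuasicoherent := hQ.1
  haveI : Mono ((Scheme.Modules.pushforward i).map ι) := inferInstance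
  let m : (Scheme.Modules.pushforward i).obj I ⟶ pushO i := (Scheme.Modules.pushforward i).map ι
  haveI : Mono m := inferInstanceAs (Mono ((Scheme.Modules.pushforward i).map ι))
  haveI hsimple := isSimpleModule_stalk_pushO i
  have hinj := stalkMap_injective_of_mono m (i (genericPoint Z))
  have hne : ¬ Subsingleton
      (((Scheme.Modules.pushforward i).obj I).presheaf.stalk (i (genericPoint Z))) := fun hs =>
    hI (isZero_of_isZero_pushforward i (isZero_of_mono_pushO i hQ.2 m hs))
  have hsurj : Function.Surjective (stalkMap m (i (genericPoint Z))) := by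
    rcases eq_bot_or_eq_top (LinearMap.range (stalkMap m (i (genericPoint Z)))) with h | h
    · exfalso
      apply hne
      refine ⟨fun a b => hinj ?_⟩
      have ha : stalkMap m (i (genericPoint Z)) a ∈
          LinearMap.range (stalkMap m (i (genericPoint Z))) := ⟨a, rfl⟩
      have hb : stalkMap m (i (genericPoint Z)) b ∈
          LinearMap.range (stalkMap m (i (genericPoint Z))) := ⟨b, rfl⟩
      rw [h, Submodule.mem_bot] at ha hb
      rw [ha, hb]
    · exact LinearMap.range_eq_top.mp h
  exact IsSimpleModule.congr (LinearEquiv.ofBijective _ ⟨hinj, hsurj⟩)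

end Groth.Agent.Lib.Helper21.PushGeneric

namespace Groth.Agent.Lib.Helper21.PushGeneric

open Groth.Agent.Lib.Helper21.Devissage Groth.Agent.Lib.Helper21.ClImmDev

variable {X : Scheme.{u}}

/-- The short exact sequence `0 → 0 → G → G → 0`. -/
theorem shortExact_zero_id (G M : X.Modules) (hM : IsZero M) :
    (ShortComplex.mk (0 : M ⟶ G) (𝟙 G) (by simp)).ShortExact := by
  refine ShortComplex.ShortExact.mk' ?_ ⟨fun g h _ => hM.eq_of_tgt g h⟩
    (inferInstanceAs (Epi (𝟙 G)))
  rw [ShortComplex.exact_iff_mono _ rfl]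
  exact inferInstanceAs (Mono (𝟙 G))

/-- **Dévissage for classes closed under kernels of epimorphisms, extensions and roots.** -/
theorem root_devissage [IsNoetherian X] (K : X.Modules → Prop)
    (hK : ∀ M N : X.Modules, Nonempty (M ≅ N) → K M → K N)
    (hzero : ∀ M : X.Modules, IsZero M → K M)
    (hL : ∀ S : ShortComplex X.Modules, S.ShortExact → Coh.IsCoh S.X₁ → Coh.IsCoh S.X₂ →
      Coh.IsCoh S.X₃ → K S.X₂ → K S.X₃ → K S.X₁)
    (hE : ∀ S : ShortComplex X.Modules, S.ShortExact → Coh.IsCoh S.X₁ → Coh.IsCoh S.X₂ →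
      Coh.IsCoh S.X₃ → K S.X₁ → K S.X₃ → K S.X₂)
    (hroot : ∀ (F : X.Modules) (d : ℕ), 1 ≤ d → Coh.IsCoh F → K (∐ fun _ : Fin d => F) → K F)
    (hgen : ∀ (Z : Scheme.{u}) (i : Z ⟶ X) [IsClosedImmersion i] [IsIntegral Z],
      ∃ H : Z.Modules, Coh.IsCoh H ∧ Nontrivial (H.presheaf.stalk (genericPoint Z)) ∧
        K ((Scheme.Modules.pushforward i).obj H))
    (F : X.Modules) (hF : Coh.IsCoh F) : K F := by
  refine noetherian_induction Set.univ K hK hzero
    (fun S hS h1 h2 h3 _ p1 p3 => hE S hS h1 h2 h3 p1 p3) ?_ F hF (Set.subset_univ _)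
  intro Z₀ hZ₀ hirr _ IH F hF hFs
  obtain ⟨Z, i, hcl, hint, hrange⟩ :=
    Groth.Agent.Lib.Helper21.IntegralSub.exists_integral_closedImmersion Z₀ hZ₀ hirr
  obtain ⟨H, hH, hHne, hKH⟩ := hgen Z i
  haveI : H.IsQuasicoherent := hH.1
  have hξ : closure {i (genericPoint Z)} = Z₀ :=
    (Groth.Agent.Lib.Helper21.IntegralSub.closure_genericPoint_image i).trans hrange
  have hξmem : i (genericPoint Z) ∈ Z₀ := hrange ▸ ⟨_, rfl⟩
  have IH' : ∀ F' : X.Modules, Coh.IsCoh F' → CohB1.support F' ⊆ Z₀ →
      i (genericPoint Z) ∉ CohB1.support F' → K F' := by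
    intro F' hF' hs' hnot
    refine IH F' hF' hs' (fun h => hnot ?_)
    rw [h]
    exact hξmem
  have hG : Coh.IsCoh ((Scheme.Modules.pushforward i).obj H) :=
    Groth.Agent.Lib.Helper64.CohPush.isCoh_pushforward_of_isFinite i H hH
  have hGs : CohB1.support ((Scheme.Modules.pushforward i).obj H) ⊆ Z₀ := by
    rw [← hrange]
    exact Groth.Agent.Lib.Helper21.ClImmSupport.support_pushforward_subset_range i
      i.isClosedEmbedding.isClosed_range _
  have hne : i (genericPoint Z) ∈ CohB1.support ((Scheme.Modules.pushforward i).obj H) := by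
    haveI := nontrivial_stalk_pushforward i H (genericPoint Z)
    exact fun hs => not_subsingleton _ hs
  refine ext_step i Z₀ hrange (fun M => Coh.IsCoh M → K M) ?_ ?_ ?_ ?_ F hF hFs hF
  · rintro M N ⟨e⟩ h hN
    exact hK _ _ ⟨e⟩ (h (isCoh_of_iso e.symm hN))
  · intro S hS h1 h2 h3 _ p1 p3 _
    exact hE S hS h1 h2 h3 (p1 h1) (p3 h3)
  · intro I ι hι hIq hc
    by_cases hz : IsZero I
    · exact hzero _ (isZero_pushforward i hz)
    · haveI := hι
      refine Groth.Agent.Lib.Helper21.RootStep.rank_lemma_root Z₀ K hK hL hE hroot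
        (i (genericPoint Z)) hξ IH' _ hG hGs (stalk_pushforward_killed i H) hne hKH _ hc ?_
        (isSimpleModule_stalk_push_ideal i I ι hc hz)
      rw [← hrange]
      exact Groth.Agent.Lib.Helper21.ClImmSupport.support_pushforward_subset_range i
        i.isClosedEmbedding.isClosed_range _
  · intro F' hF' hs' hnot _
    exact IH' F' hF' hs' hnot

end Groth.Agent.Lib.Helper21.PushGeneric
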