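import Mathlib.LinearAlgebra.Dual.Defs
import Mathlib.Algebra.Ring.Equiv

/-!
# Reflexivity transfers along semilinear equivalences over a bijective ring map (helper21)
-/

set_option autoImplicit false

namespace Groth.Agent.Lib.Helper21.ReflexiveSemilinear

open Module

variable {R S A B : Type*} [CommRing R] [CommRing S] [AddCommGroup A] [AddCommGroup B]
  [Module S A] [Module R B] (φ : R →+* S) (hφ : Function.Bijective φ)
  (e : A ≃+ B) (he : ∀ (r : R) (a : A), e (φ r • a) = r • e a)

include hφ he in
theorem isReflexive_of_semilinear [Module.IsReflexive S A] : Module.IsReflexive R B := by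
  let σ : R ≃+* S := RingEquiv.ofBijective φ hφ
  have hσ : ∀ r, σ r = φ r := fun _ => rfl
  have he' : ∀ (s : S) (a : A), e (s • a) = σ.symm s • e a := by
    intro s a
    have := he (σ.symm s) a
    rwa [← hσ, RingEquiv.apply_symm_apply] at this
  have hes : ∀ (r : R) (b : B), e.symm (r • b) = φ r • e.symm b := by
    intro r b
    apply e.injective
    rw [he, AddEquiv.apply_symm_apply, AddEquiv.apply_symm_apply]
  -- transfer of linear forms
  let up : Dual R B → Dual S A := fun θ =>
    { toFun := fun a => φ (θ (e a))
      map_add' := fun a a' => by rw [map_add, map_add, map_add]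
      map_smul' := fun s a => by
        rw [he', map_smul, smul_eq_mul, map_mul, ← hσ, RingEquiv.apply_symm_apply]
        rfl }
  let down : Dual S A → Dual R B := fun ψ =>
    { toFun := fun b => σ.symm (ψ (e.symm b))
      map_add' := fun b b' => by rw [map_add, map_add, map_add]
      map_smul' := fun r b => by
        rw [hes, map_smul, smul_eq_mul, map_mul, ← hσ, RingEquiv.symm_apply_apply]
        rfl }
  have hdu : ∀ θ, down (up θ) = θ := by
    intro θ
    apply LinearMap.ext
    intro b
    change σ.symm (φ (θ (e (e.symm b)))) = θ b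
    rw [AddEquiv.apply_symm_apply, ← hσ, RingEquiv.symm_apply_apply]
  have hdown_add : ∀ ψ ψ', down (ψ + ψ') = down ψ + down ψ' := by
    intro ψ ψ'
    apply LinearMap.ext
    intro b
    change σ.symm ((ψ + ψ') (e.symm b)) = σ.symm (ψ (e.symm b)) + σ.symm (ψ' (e.symm b))
    rw [LinearMap.add_apply, map_add]
  have hdown_smul : ∀ (s : S) ψ, down (s • ψ) = σ.symm s • down ψ := by
    intro s ψ
    apply LinearMap.ext
    intro b
    change σ.symm ((s • ψ) (e.symm b)) = σ.symm s • σ.symm (ψ (e.symm b))
    rw [LinearMap.smul_apply, smul_eq_mul, map_mul, smul_eq_mul]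
  constructor
  constructor
  · -- injective
    rw [injective_iff_map_eq_zero]
    intro b hb
    have h1 : ∀ θ : Dual R B, θ b = 0 := fun θ => by
      have := LinearMap.congr_fun hb θ
      simpa using this
    have h2 : Dual.eval S A (e.symm b) = 0 := by
      apply LinearMap.ext
      intro ψ
      have h3 := h1 (down ψ)
      change σ.symm (ψ (e.symm b)) = 0 at h3
      have h4 : ψ (e.symm b) = 0 := by
        have := congrArg σ h3
        rwa [RingEquiv.apply_symm_apply, map_zero] at this
      simpa using h4
    have h5 : e.symm b = 0 :=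
      (injective_iff_map_eq_zero _).mp (bijective_dual_eval S A).1 _ h2
    have := congrArg e h5
    rwa [AddEquiv.apply_symm_apply, map_zero] at this
  · -- surjective
    intro ξ
    let ξ' : Dual S (Dual S A) :=
      { toFun := fun ψ => φ (ξ (down ψ))
        map_add' := fun ψ ψ' => by rw [hdown_add, map_add, map_add]
        map_smul' := fun s ψ => by
          rw [hdown_smul, map_smul, smul_eq_mul, map_mul, ← hσ, RingEquiv.apply_symm_apply]
          rfl }
    obtain ⟨a, ha⟩ := (bijective_dual_eval S A).2 ξ'
    refine ⟨e a, ?_⟩
    apply LinearMap.ext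
    intro θ
    have h1 := LinearMap.congr_fun ha (up θ)
    change (up θ) a = φ (ξ (down (up θ))) at h1
    rw [hdu] at h1
    change φ (θ (e a)) = φ (ξ θ) at h1
    exact hφ.1 h1

end Groth.Agent.Lib.Helper21.ReflexiveSemilinear
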