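import Groth.Agent.Lib.Helper21.PushOpenCoh
import Groth.Agent.Lib.Helper21.ReflexiveSemilinear

/-!
# `j_*` of coherent reflexive modules from a big open (helper21)

`X` integral locally Noetherian, `U` open with `depth O_{X,x} ≥ 2` for `x ∉ U`.

* `isCoh_push`: `j_* G` is coherent for `G` coherent with torsion-free stalks on `U`.
* `isIso_unit_of_isReflexive`: `F → j_* j^* F` is an isomorphism for `F` coherent reflexive.
* `isReflexive_push`: `j_* G` is (coherent and) reflexive for `G` coherent reflexive on `U`.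
-/

set_option autoImplicit false
set_option linter.style.haveILetI false
universe u
open CategoryTheory CategoryTheory.Limits AlgebraicGeometry TopologicalSpace

namespace Groth.Agent.Lib.Helper21.PushOpenRefl

open Groth.Agent.Lib.Lead.QCohAff Groth.Agent.Lib.Helper2.FinTypeAff
  Groth.Agent.Lib.Helper21.PushOpenCoh Groth.Agent.Lib.Helper21.ReflexiveNormal
  Groth.Agent.Lib.Helper21.ReflexiveFreeSch

variable {X : Scheme.{u}} [IsIntegral X] [IsLocallyNoetherian X] (U : X.Opens)

/-- the generic point lies in an open whose complement consists of points of depth `≥ 2` -/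
theorem genericPoint_mem
    (hU : ∀ x : X, x ∉ U → (2 : ℕ∞) ≤ LocCoh.depth (X.presheaf.stalk x) (X.presheaf.stalk x)) :
    genericPoint X ∈ U := by
  by_contra h
  have h2 := hU _ h
  have hfld : IsField (X.presheaf.stalk (genericPoint X)) := Field.toIsField _
  have h3 := Groth.Agent.Lib.Helper67.depth_le_supportDim
    (R := X.presheaf.stalk (genericPoint X)) (X.presheaf.stalk (genericPoint X))
  rw [Module.supportDim_self_eq_ringKrullDim, ringKrullDim_eq_zero_of_isField hfld] at h3
  have h4 : ((2 : ℕ∞) : WithBot ℕ∞) ≤ 0 := (WithBot.coe_le_coe.mpr h2).trans h3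
  exact (not_two_le_iff 0).mpr zero_le_one h4

/-- `j_* G` is coherent -/
theorem isCoh_push
    (hU : ∀ x : X, x ∉ U → (2 : ℕ∞) ≤ LocCoh.depth (X.presheaf.stalk x) (X.presheaf.stalk x))
    (G : (U : Scheme.{u}).Modules) (hG : Coh.IsCoh G)
    (htf : ∀ x : (U : Scheme.{u}),
      Module.IsTorsionFree ((U : Scheme.{u}).presheaf.stalk x) (G.presheaf.stalk x)) :
    Coh.IsCoh ((Scheme.Modules.pushforward U.ι).obj G) := by
  haveI : G.IsQuasicoherent := hG.1
  haveI hHqc : ((Scheme.Modules.pushforward U.ι).obj G).IsQuasicoherent :=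
    Groth.Agent.Lib.Helper2.KerSec.isQuasicoherent_pushforward_of_qcqs U.ι G
  refine ⟨hHqc, Groth.Agent.Lib.Helper64.CohAffine.isFiniteType_of_finite_sections _ ?_⟩
  intro y
  obtain ⟨V, hV, hyV, -⟩ := exists_isAffineOpen_mem_and_subset (U := (⊤ : X.Opens))
    (x := y) trivial
  refine ⟨V, hyV, hV, ?_⟩
  haveI : Nonempty V := ⟨⟨y, hyV⟩⟩
  haveI : IsNoetherianRing Γ(X, V) := IsLocallyNoetherian.component_noetherian ⟨V, hV⟩
  haveI := isTorsionFree_sections_push U G htf V
  obtain ⟨m, f, hfle, hfne, hcov⟩ := exists_finite_basicOpen_cover hV (V ⊓ U) inf_le_left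
  have hη : genericPoint X ∈ V ⊓ U :=
    ⟨Groth.Agent.Lib.Helper64.RefExt.genericPoint_mem hyV, genericPoint_mem U hU⟩
  obtain ⟨i0, -⟩ := Opens.mem_iSup.mp (hcov hη)
  haveI : Nonempty (Fin m) := ⟨i0⟩
  have hf : ∀ i, f i ≠ 0 := by
    intro i h0
    obtain ⟨x, hx⟩ := hfne i
    rw [h0, Scheme.basicOpen_zero] at hx
    exact hx
  have hfin : ∀ i, Module.Finite Γ(X, X.basicOpen (f i))
      Γ((Scheme.Modules.pushforward U.ι).obj G, X.basicOpen (f i)) := fun i =>
    finite_sections_push_of_le U G hG (hV.basicOpen (f i)) ((hfle i).trans inf_le_right)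
  choose L hLfg hLgen using fun i =>
    exists_fg_basicOpen ((Scheme.Modules.pushforward U.ι).obj G) hV (f i) (hfin i)
  refine Groth.Agent.Lib.Helper21.HartogsFinite.finite_of_hartogs
    Γ((Scheme.Modules.pushforward U.ι).obj G, V) f hf (⨆ i, L i) (Submodule.fg_iSup L hLfg) ?_ ?_
  · intro i n
    obtain ⟨k, hk⟩ := hLgen i n
    exact ⟨k, (le_iSup L i) hk⟩
  · exact fun a k hc => hartogs_fractions U hU hV f hf hfle hcov a k hc

open Groth.Agent.Lib.Helper64.HomSh Groth.Agent.Lib.Helper64.RefExt
  Groth.Agent.Lib.Helper64.PushRestrictDepth in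
/-- reflexivity from reflexivity on an open containing the generic point over which `F` is
`j_* j^* F` -/
theorem isReflexive_of_open (F : X.Modules) (hF : Coh.IsCoh F)
    (h1 : ∀ x : X, x ∈ U → Module.IsReflexive (X.presheaf.stalk x) (F.presheaf.stalk x))
    (h2 : genericPoint X ∈ U)
    (h3 : IsIso ((Scheme.Modules.restrictAdjunction U.ι).unit.app F)) :
    ∀ x : X, Module.IsReflexive (X.presheaf.stalk x) (F.presheaf.stalk x) := by
  haveI : F.IsQuasicoherent := hF.1
  have hrefl : RefHull.IsReflexive F := by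
    unfold RefHull.IsReflexive
    apply Groth.Agent.Lib.Helper64.DepthIso.isIso_of_depth_of_torsionFree (RefHull.bidualMap F) hF
      (isCoh_ddual hF).1 (fun x => noZeroSMulDivisors_ddual hF x)
    intro x
    by_cases hx : x ∈ U
    · left
      have hrx : RefHull.IsReflexiveAt F x := h1 x hx
      exact (bijective_stalkMap_bidualMap_iff (isFP_of_isCoh hF) (isFP_of_isCoh (isCoh_dual hF))
        x).mpr hrx
    · right
      refine ⟨?_, ?_⟩
      · let e : F ≅ (Scheme.Modules.pushforward U.ι).obj (F.restrict U.ι) :=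
          asIso ((Scheme.Modules.restrictAdjunction U.ι).unit.app F)
        have hF' : Coh.IsCoh ((Scheme.Modules.pushforward U.ι).obj (F.restrict U.ι)) :=
          Groth.Agent.Lib.Helper21.Devissage.isCoh_of_iso e hF
        have hd := two_le_depth_pushforward_restrict U F hF' x hx
        have hb := bijective_stalkMapₗ_of_isIso e.hom x
        have hc : LocCoh.depth (X.presheaf.stalk x) (F.presheaf.stalk x) =
            LocCoh.depth (X.presheaf.stalk x)
              (((Scheme.Modules.pushforward U.ι).obj (F.restrict U.ι)).presheaf.stalk x) :=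
          Groth.Agent.Lib.Helper67.depth_congr (LinearEquiv.ofBijective _ hb)
        rw [hc]
        exact hd
      · rintro rfl
        exact hx h2
  exact (isReflexive_iff_forall_isReflexiveAt hF).mp hrefl

omit [IsIntegral X] in
/-- **S1691 (a)** -/
theorem isIso_unit_of_isReflexive
    (hU : ∀ x : X, x ∉ U → (2 : ℕ∞) ≤ LocCoh.depth (X.presheaf.stalk x) (X.presheaf.stalk x))
    (F : X.Modules) (hF : Coh.IsCoh F)
    (hr : ∀ x : X, Module.IsReflexive (X.presheaf.stalk x) (F.presheaf.stalk x)) :
    IsIso ((Scheme.Modules.restrictAdjunction U.ι).unit.app F) := by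
  apply Groth.Agent.Lib.Helper21.HartogsHom.isIso_unit_of_depth F hF
  intro y hy
  haveI := finite_stalk_of_isCoh F hF y
  haveI := hr y
  have h3 := Groth.Agent.Lib.Helper21.ReflexiveFree.min_two_depth_le_of_isReflexive
    (X.presheaf.stalk y) (F.presheaf.stalk y)
  rwa [min_eq_left (hU y hy)] at h3

open Groth.Agent.Lib.Helper64.HomSh in
/-- **S1691 (b)** -/
theorem isReflexive_push
    (hU : ∀ x : X, x ∉ U → (2 : ℕ∞) ≤ LocCoh.depth (X.presheaf.stalk x) (X.presheaf.stalk x))
    (G : (U : Scheme.{u}).Modules) (hG : Coh.IsCoh G)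
    (hr : ∀ x : (U : Scheme.{u}),
      Module.IsReflexive ((U : Scheme.{u}).presheaf.stalk x) (G.presheaf.stalk x)) :
    Coh.IsCoh ((Scheme.Modules.pushforward U.ι).obj G) ∧
      ∀ x : X, Module.IsReflexive (X.presheaf.stalk x)
        (((Scheme.Modules.pushforward U.ι).obj G).presheaf.stalk x) := by
  have hcoh : Coh.IsCoh ((Scheme.Modules.pushforward U.ι).obj G) :=
    isCoh_push U hU G hG (fun x => by haveI := hr x; infer_instance)
  refine ⟨hcoh, ?_⟩
  set H := (Scheme.Modules.pushforward U.ι).obj G with hH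
  let adj := Scheme.Modules.restrictAdjunction U.ι
  haveI hci : IsIso (adj.counit.app G) := inferInstance
  apply isReflexive_of_open U H hcoh
  · intro x hx
    let x' : (U : Scheme.{u}) := ⟨x, hx⟩
    -- the stalk of the restriction is reflexive
    let eG : H.restrict U.ι ≅ G := asIso (adj.counit.app G)
    have hb := bijective_stalkMapₗ_of_isIso eG.hom x'
    haveI := hr x'
    haveI : Module.IsReflexive ((U : Scheme.{u}).presheaf.stalk x')
        ((H.restrict U.ι).presheaf.stalk x') :=
      Module.equiv (LinearEquiv.ofBijective _ hb).symm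
    exact Groth.Agent.Lib.Helper21.ReflexiveSemilinear.isReflexive_of_semilinear
      (U.ι.stalkMap x').hom (Groth.Agent.Lib.Helper2.DCohFlat.stalkMap_bijective U.ι x')
      (Groth.Agent.Lib.Helper2.DCohFlat.restrictStalkEquiv U.ι H x')
      (Groth.Agent.Lib.Helper2.DCohFlat.restrictStalkEquiv_smul U.ι H x')
  · exact genericPoint_mem U hU
  · have h := adj.right_triangle_components G
    haveI : IsIso ((Scheme.Modules.pushforward U.ι).map (adj.counit.app G)) := inferInstance
    exact IsIso.of_isIso_fac_right h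

end Groth.Agent.Lib.Helper21.PushOpenRefl
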