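import Groth.Agent.Lib.Helper21.PushGeneric
import Groth.Agent.Lib.Lead.QCohPush

set_option autoImplicit false
set_option linter.style.haveILetI false
universe u
open AlgebraicGeometry CategoryTheory Opposite TopologicalSpace Limits

namespace Groth.Agent.Lib.Helper21.PushSupport

open Groth.Agent.Lib.Helper78.ModStalk Groth.Agent.Lib.Lead.QCohAff
  Groth.Agent.Lib.Helper21.ClImmDev Groth.Agent.Lib.Helper21.PushGeneric
  Groth.Agent.Lib.Helper21.IntegralSub

variable {X Y W : Scheme.{u}}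

/-- The stalk of `f_* j_* H` at `ξ = f (j η)` (`η` the generic point of the integral scheme `W`,
`j` a closed immersion, `f` affine) is killed by the maximal ideal. -/
theorem stalk_pushforward_pushforward_killed (f : Y ⟶ X) [IsAffineHom f] (j : W ⟶ Y)
    [IsClosedImmersion j] [IsIntegral W] (H : W.Modules) [H.IsQuasicoherent] (ξ : X)
    (hξ : ξ = (j ≫ f) (genericPoint W))
    (a : X.presheaf.stalk ξ) (ha : a ∈ IsLocalRing.maximalIdeal (X.presheaf.stalk ξ))
    (t : ((Scheme.Modules.pushforward f).obj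
      ((Scheme.Modules.pushforward j).obj H)).presheaf.stalk ξ) :
    a • t = 0 := by
  haveI : ((Scheme.Modules.pushforward j).obj H).IsQuasicoherent := inferInstance
  haveI : ((Scheme.Modules.pushforward f).obj
      ((Scheme.Modules.pushforward j).obj H)).IsQuasicoherent := inferInstance
  obtain ⟨V, hξV, b₀, rfl⟩ := X.presheaf.exists_germ_eq (x := ξ) a
  obtain ⟨_, ⟨U, hU : IsAffineOpen U, rfl⟩, hξU, hUV⟩ :=
    X.isBasis_affineOpens.exists_subset_of_mem_open hξV V.2
  have hUV' : U ≤ V := hUV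
  set b := X.presheaf.map (homOfLE hUV').op b₀ with hbdef
  have hgerm : X.presheaf.germ V ξ hξV b₀ = X.presheaf.germ U ξ hξU b :=
    (germX_res hUV' ξ hξU b₀).symm
  rw [hgerm] at ha ⊢
  have hb : ξ ∉ X.basicOpen b := by
    intro hmem
    exact ha (isUnit_germ_of_mem_basicOpen b ξ hξU hmem)
  obtain ⟨r, s, hξr, hrs⟩ :=
    exists_germ_smul_eq_germ ((Scheme.Modules.pushforward f).obj
      ((Scheme.Modules.pushforward j).obj H)) hU ξ hξU t
  have hu := isUnit_germ_of_mem_basicOpen r ξ hξU hξr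
  apply hu.smul_eq_zero.1
  rw [smul_comm, hrs, ← Groth.Agent.Lib.Lead.QCohAff.germ_smul]
  have : b • s = 0 := by
    have h1 := Groth.Agent.Lib.Helper64.CohPush.pushforward_smul f
      ((Scheme.Modules.pushforward j).obj H) U b s
    have h2 := Groth.Agent.Lib.Helper64.CohPush.pushforward_smul j H (f ⁻¹ᵁ U)
      ((f.app U).hom b) s
    have h3 : (j.app (f ⁻¹ᵁ U)).hom ((f.app U).hom b) = ((j ≫ f).app U).hom b := by
      rw [Scheme.Hom.comp_app]
      rfl
    rw [h3, app_eq_zero_of_notMem_basicOpen (j ≫ f) b (hξ ▸ hb)] at h2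
    have hz : ((0 : Γ(W, j ⁻¹ᵁ f ⁻¹ᵁ U)) • (show Γ(H, j ⁻¹ᵁ f ⁻¹ᵁ U) from s) :
        Γ(H, j ⁻¹ᵁ f ⁻¹ᵁ U)) = 0 := zero_smul _ _
    exact h1.trans (h2.trans hz)
  rw [this, map_zero]

open Groth.Agent.Lib.Helper21.ClImmSupport in
/-- The support of `f_* j_* O_W` is the image of `W`, when that image is closed. -/
theorem support_pushforward_pushO (f : Y ⟶ X) (j : W ⟶ Y)
    (hcl : IsClosed (Set.range (j ≫ f))) :
    CohB1.support ((Scheme.Modules.pushforward f).obj (Groth.Agent.Lib.Helper64.PushStalk.pushO j)) =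
      Set.range (j ≫ f) := by
  set A := (Scheme.Modules.pushforward f).obj (Groth.Agent.Lib.Helper64.PushStalk.pushO j) with hA
  ext x
  constructor
  · intro hx
    by_contra hxr
    apply hx
    refine ⟨fun a b => ?_⟩
    suffices h0 : ∀ a : A.presheaf.stalk x, a = 0 by rw [h0 a, h0 b]
    intro a
    obtain ⟨U, hxU, t, rfl⟩ := A.presheaf.exists_germ_eq (x := x) a
    let V : X.Opens := U ⊓ ⟨(Set.range (j ≫ f))ᶜ, hcl.isOpen_compl⟩
    have hxV : x ∈ V := ⟨hxU, hxr⟩
    have hV : j ⁻¹ᵁ (f ⁻¹ᵁ V) = ⊥ := by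
      ext z
      simp only [Scheme.Hom.mem_preimage, Opens.coe_bot, Set.mem_empty_iff_false, iff_false,
        SetLike.mem_coe]
      rintro ⟨-, hz⟩
      exact hz ⟨z, rfl⟩
    have hsub : Subsingleton Γ(A, V) :=
      subsingleton_sections_of_eq_bot (Coh.structureModule W) _ hV
    have h1 := TopCat.Presheaf.germ_res_apply A.presheaf (homOfLE (inf_le_left : V ≤ U)) x hxV t
    rw [← h1]
    have h2 : A.presheaf.map (homOfLE (inf_le_left : V ≤ U)).op t = (0 : Γ(A, V)) :=
      Subsingleton.elim _ _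
    rw [h2, map_zero]
  · rintro ⟨w, rfl⟩ hsub
    let one : Γ(A, ⊤) := (1 : Γ(W, j ⁻¹ᵁ (f ⁻¹ᵁ ⊤)))
    have h1 : A.presheaf.germ ⊤ ((j ≫ f) w) trivial one = A.presheaf.germ ⊤ ((j ≫ f) w) trivial 0 :=
      Subsingleton.elim _ _
    obtain ⟨V, hxV, iU, iV, hV⟩ := TopCat.Presheaf.germ_eq A.presheaf ((j ≫ f) w)
      (show (j ≫ f) w ∈ (⊤ : X.Opens) from trivial) (show (j ≫ f) w ∈ (⊤ : X.Opens) from trivial)
      one 0 h1
    have hw : w ∈ j ⁻¹ᵁ (f ⁻¹ᵁ V) := hxV
    have h2 : A.presheaf.map iU.op one = (1 : Γ(W, j ⁻¹ᵁ (f ⁻¹ᵁ V))) :=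
      map_one (W.presheaf.map ((Opens.map j.base).map ((Opens.map f.base).map iU)).op).hom
    have h3 : A.presheaf.map iV.op 0 = (0 : Γ(W, j ⁻¹ᵁ (f ⁻¹ᵁ V))) := map_zero _
    have h4 : (1 : Γ(W, j ⁻¹ᵁ (f ⁻¹ᵁ V))) = 0 := h2.symm.trans (hV.trans h3)
    have h5 := congrArg (W.presheaf.germ (j ⁻¹ᵁ (f ⁻¹ᵁ V)) w hw) h4
    rw [map_one, map_zero] at h5
    exact one_ne_zero h5

/-- For `f : Y ⟶ X` finite surjective and `i : Z ⟶ X` a closed immersion from an integral scheme,
there is a coherent `F` on `Y` with `Supp f_* F = i(Z)` whose stalk at the generic point of `Z` is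
killed by the maximal ideal. -/
theorem exists_coherent_pushforward_with_support (f : Y ⟶ X) [IsFinite f] [Surjective f]
    (Z : Scheme.{u}) (i : Z ⟶ X) [IsClosedImmersion i] [IsIntegral Z] :
    ∃ F : Y.Modules, Coh.IsCoh F ∧
      CohB1.support ((Scheme.Modules.pushforward f).obj F) = Set.range ⇑i ∧
      ∀ a ∈ IsLocalRing.maximalIdeal (X.presheaf.stalk (i (genericPoint Z))),
        ∀ m : ↑(((Scheme.Modules.pushforward f).obj F).presheaf.stalk (i (genericPoint Z))),
          a • m = 0 := by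
  obtain ⟨η, hη⟩ := f.surjective (i (genericPoint Z))
  obtain ⟨W, j, hj, hW, hrange⟩ := exists_integral_closedImmersion (closure {η}) isClosed_closure
    (isIrreducible_singleton.closure)
  have hgen : j (genericPoint W) = η :=
    (inseparable_iff_closure_eq.mpr ((closure_genericPoint_image j).trans hrange)).eq
  have hξ' : i (genericPoint Z) = (j ≫ f) (genericPoint W) := by
    rw [Scheme.Hom.comp_apply, hgen, hη]
  have hr : Set.range (j ≫ f) = Set.range i := by
    have h1 : Set.range (j ≫ f) = f '' (Set.range j) := by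
      ext x
      simp only [Set.mem_range, Set.mem_image, Scheme.Hom.comp_apply]
      constructor
      · rintro ⟨w, rfl⟩
        exact ⟨j w, ⟨w, rfl⟩, rfl⟩
      · rintro ⟨_, ⟨w, rfl⟩, rfl⟩
        exact ⟨w, rfl⟩
    rw [h1, hrange, ← closure_genericPoint_image i]
    have h2 := f.isClosedMap.closure_image_eq_of_continuous f.continuous {η}
    rw [Set.image_singleton, hη] at h2
    exact h2.symm
  refine ⟨Groth.Agent.Lib.Helper64.PushStalk.pushO j, isCoh_pushO j, ?_, ?_⟩
  · rw [← hr]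
    exact support_pushforward_pushO f j (hr ▸ i.isClosedEmbedding.isClosed_range)
  · intro a ha m
    haveI := isQuasicoherent_structureModule W
    exact stalk_pushforward_pushforward_killed f j (Coh.structureModule W) _ hξ' a ha m

end Groth.Agent.Lib.Helper21.PushSupport
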