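import Groth.Prelude.Def_ZClos
import Groth.Agent.S9497
import Groth.Agent.Lib.Helper21.QCohKernel
import Groth.Agent.Lib.Helper2.KerSec
import Mathlib.AlgebraicGeometry.Noetherian

set_option autoImplicit false
set_option linter.style.haveILetI false
universe u

open AlgebraicGeometry CategoryTheory Opposite TopologicalSpace Limits

namespace Groth.Agent.Lib.Helper21.QCohColim

open Scheme.Modules Groth.Agent.Lib.Lead.PullbackAff Groth.Agent.Lib.Lead.QCohLocal

/-- Small colimits of quasi-coherent modules are quasi-coherent. -/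
theorem isQuasicoherent_colimit {X : Scheme.{u}} {J : Type u} [SmallCategory J]
    (D : J ⥤ X.Modules) (hD : ∀ j, (D.obj j).IsQuasicoherent) :
    (colimit D).IsQuasicoherent := by
  apply isQuasicoherent_of_forall_affine
  intro x
  obtain ⟨_, ⟨U, hU : IsAffineOpen U, rfl⟩, hxU, -⟩ :=
    X.isBasis_affineOpens.exists_subset_of_mem_open (Set.mem_univ x) isOpen_univ
  refine ⟨U, hU, hxU, ?_⟩
  have : PreservesColimitsOfSize.{u, u} (restrictFunctor hU.fromSpec) :=
    (restrictAdjunction hU.fromSpec).leftAdjoint_preservesColimits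
  let e : (restrictFunctor hU.fromSpec).obj (colimit D) ≅
      colimit (D ⋙ restrictFunctor hU.fromSpec) := preservesColimitIso _ D
  have hq : (colimit (D ⋙ restrictFunctor hU.fromSpec)).IsQuasicoherent :=
    Groth.Agent.S9497.isQCoh_colimit' (R := Γ(X, U)) _ (fun j => by
      haveI := hD j
      exact isQuasicoherent_restrictFunctor hU.fromSpec (D.obj j))
  exact isQuasicoherent_of_iso e.symm

open ZClos in
/-- The `Z`-closure of a quasi-coherent module on a locally Noetherian scheme is quasi-coherent. -/
theorem isQuasicoherent_H0 {X : Scheme.{u}} [IsLocallyNoetherian X] (Z : Set X) (F : X.Modules)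
    [F.IsQuasicoherent] : ((H0 Z).obj F).IsQuasicoherent := by
  apply isQuasicoherent_colimit
  intro T
  change ((pushforward T.U.ι).obj ((restrictFunctor T.U.ι).obj F)).IsQuasicoherent
  haveI : ((restrictFunctor T.U.ι).obj F).IsQuasicoherent :=
    Groth.Agent.Lib.Helper21.QCohKernel.isQuasicoherent_restrict T.U.ι F
  exact Groth.Agent.Lib.Helper2.KerSec.isQuasicoherent_pushforward_of_qcqs T.U.ι _

end Groth.Agent.Lib.Helper21.QCohColim
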