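import Mathlib.LinearAlgebra.Matrix.ToLin
import Mathlib.Data.Real.Basic
import Mathlib.Algebra.Module.Submodule.Ker
import Mathlib.LinearAlgebra.Matrix.Symmetric
import Mathlib.Tactic

set_option autoImplicit false
open Finset

namespace Groth.Agent.Lib.Helper21

variable {ι : Type*} [Fintype ι]

theorem quad_identity (A : Matrix ι ι ℝ) (hsymm : A.IsSymm) (m y : ι → ℝ) :
    ∑ i, (y i * m i) * ∑ j, A i j * (y j * m j) =
      ∑ i, y i ^ 2 * m i * ∑ j, A i j * m j -
        (1 / 2) * ∑ i, ∑ j, A i j * m i * m j * (y i - y j) ^ 2 := by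
  have h : ∑ i, ∑ j, A i j * m i * m j * y j ^ 2 = ∑ i, ∑ j, A i j * m i * m j * y i ^ 2 := by
    rw [Finset.sum_comm]
    refine Finset.sum_congr rfl fun i _ => Finset.sum_congr rfl fun j _ => ?_
    rw [hsymm.apply i j]; ring
  have e1 : ∑ i, (y i * m i) * ∑ j, A i j * (y j * m j) =
      ∑ i, ∑ j, A i j * m i * m j * (y i * y j) := by
    refine Finset.sum_congr rfl fun i _ => ?_
    rw [Finset.mul_sum]
    refine Finset.sum_congr rfl fun j _ => ?_
    ring
  have e2 : ∑ i, y i ^ 2 * m i * ∑ j, A i j * m j = ∑ i, ∑ j, A i j * m i * m j * y i ^ 2 := by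
    refine Finset.sum_congr rfl fun i _ => ?_
    rw [Finset.mul_sum]
    refine Finset.sum_congr rfl fun j _ => ?_
    ring
  have e3 : ∑ i, ∑ j, A i j * m i * m j * (y i - y j) ^ 2 =
      ∑ i, ∑ j, A i j * m i * m j * y i ^ 2 + ∑ i, ∑ j, A i j * m i * m j * y j ^ 2
        - 2 * ∑ i, ∑ j, A i j * m i * m j * (y i * y j) := by
    rw [Finset.mul_sum, ← Finset.sum_add_distrib, ← Finset.sum_sub_distrib]
    refine Finset.sum_congr rfl fun i _ => ?_
    rw [Finset.mul_sum, ← Finset.sum_add_distrib, ← Finset.sum_sub_distrib]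
    refine Finset.sum_congr rfl fun j _ => ?_
    ring
  rw [e1, e2, e3, h]
  ring

end Groth.Agent.Lib.Helper21
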