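import Mathlib.Algebra.Module.FinitePresentation
import Mathlib.RingTheory.FinitePresentation
import Mathlib.RingTheory.Finiteness.ModuleFinitePresentation

set_option autoImplicit false
universe u

namespace Groth.Agent.Lib.Helper21

section Core

variable {S T : Type*} [CommRing S] [CommRing T] [Algebra S T]
  {M : Type*} [AddCommGroup M] [Module S M] [Module T M] [IsScalarTower S T M]

theorem fp_of_surjective_algebraMap (hφ : Function.Surjective (algebraMap S T))
    [Module.FinitePresentation S M] : Module.FinitePresentation T M := by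
  obtain ⟨n, f, hf⟩ := Module.Finite.exists_fin' S M
  have hk : (LinearMap.ker f).FG := Module.FinitePresentation.fg_ker f hf
  let g : (Fin n → T) →ₗ[T] M := Fintype.linearCombination T (fun i => f (Pi.single i 1))
  let c : (Fin n → S) →ₗ[S] (Fin n → T) := (Algebra.linearMap S T).compLeft (Fin n)
  have hgc : ∀ x, g (c x) = f x := by
    intro x
    have hx : x = ∑ i, x i • (Pi.single i (1 : S) : Fin n → S) := by
      funext j
      simp [Finset.sum_apply, Pi.single_apply]
    conv_rhs => rw [hx, map_sum]
    simp only [g, c, Fintype.linearCombination_apply, LinearMap.compLeft_apply,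
      Function.comp_apply, Algebra.linearMap_apply, map_smul, algebraMap_smul]
  have hcs : Function.Surjective c := by
    intro y
    choose x hx using fun i => hφ (y i)
    exact ⟨x, funext fun i => by simp [c, hx]⟩
  have hgs : Function.Surjective g := by
    intro m
    obtain ⟨x, rfl⟩ := hf m
    exact ⟨c x, hgc x⟩
  have hker : (LinearMap.ker g).restrictScalars S = (LinearMap.ker f).map c := by
    ext y
    simp only [Submodule.restrictScalars_mem, LinearMap.mem_ker, Submodule.mem_map]
    constructor
    · intro hy
      obtain ⟨x, rfl⟩ := hcs y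
      exact ⟨x, by rw [← hgc, hy], rfl⟩
    · rintro ⟨x, hx, rfl⟩
      rw [hgc, hx]
  have hkg : (LinearMap.ker g).FG := by
    apply Submodule.FG.of_restrictScalars S
    rw [hker]
    exact hk.map c
  exact Module.finitePresentation_of_surjective g hgs hkg

theorem fp_of_surjective_algebraMap_of_ker_fg (hφ : Function.Surjective (algebraMap S T))
    (hker : (RingHom.ker (algebraMap S T)).FG)
    [Module.FinitePresentation T M] : Module.FinitePresentation S M := by
  have : Module.FinitePresentation S T :=
    Module.finitePresentation_of_surjective (Algebra.linearMap S T) hφ hker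
  exact Module.FinitePresentation.trans S M T

end Core

section CompHom

variable {S T : Type*} [CommRing S] [CommRing T] (φ : S →+* T)
  {M : Type*} [AddCommGroup M] [Module T M]

theorem compHom_fp_of_fp (hφ : Function.Surjective φ)
    (h : @Module.FinitePresentation S M _ _ (Module.compHom M φ)) :
    Module.FinitePresentation T M := by
  letI : Module S M := Module.compHom M φ
  letI : Algebra S T := φ.toAlgebra
  haveI : IsScalarTower S T M := IsScalarTower.of_algebraMap_smul fun _ _ => rfl
  exact fp_of_surjective_algebraMap (S := S) (T := T) hφ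

theorem fp_compHom_of_fp (hφ : Function.Surjective φ) (hker : (RingHom.ker φ).FG)
    [Module.FinitePresentation T M] :
    @Module.FinitePresentation S M _ _ (Module.compHom M φ) := by
  letI : Module S M := Module.compHom M φ
  letI : Algebra S T := φ.toAlgebra
  haveI : IsScalarTower S T M := IsScalarTower.of_algebraMap_smul fun _ _ => rfl
  exact fp_of_surjective_algebraMap_of_ker_fg (S := S) (T := T) hφ hker

/-- Two-step version: `ψ : S → S'` surjective with finitely generated kernel, `α : S' → A`. -/
theorem compHom_comp_iff {S S' A : Type*} [CommRing S] [CommRing S'] [CommRing A]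
    (ψ : S →+* S') (hψ : Function.Surjective ψ) (hker : (RingHom.ker ψ).FG)
    (α : S' →+* A) {M : Type*} [AddCommGroup M] [Module A M] :
    @Module.FinitePresentation S M _ _ (Module.compHom M (α.comp ψ)) ↔
      @Module.FinitePresentation S' M _ _ (Module.compHom M α) := by
  letI : Module S' M := Module.compHom M α
  constructor
  · intro h
    exact compHom_fp_of_fp ψ hψ h
  · intro h
    exact fp_compHom_of_fp ψ hψ hker

end CompHom

section Indep

open MvPolynomial

variable {R A : Type u} [CommRing R] [CommRing A] [Algebra R A]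
  {σ τ : Type*} [Finite σ] [Finite τ]

theorem relFP_indep (M : Type*) [AddCommGroup M] [Module A M]
    (α : MvPolynomial σ R →ₐ[R] A) (hα : Function.Surjective α)
    (β : MvPolynomial τ R →ₐ[R] A) (hβ : Function.Surjective β) :
    @Module.FinitePresentation (MvPolynomial σ R) M _ _ (Module.compHom M α.toRingHom) ↔
      @Module.FinitePresentation (MvPolynomial τ R) M _ _ (Module.compHom M β.toRingHom) := by
  choose q hq using fun j : τ => hα (β (X j))
  choose r hr using fun i : σ => hβ (α (X i))
  let ψ₁ : MvPolynomial (σ ⊕ τ) R →ₐ[R] MvPolynomial σ R := aeval (Sum.elim X q)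
  let ψ₂ : MvPolynomial (σ ⊕ τ) R →ₐ[R] MvPolynomial τ R := aeval (Sum.elim r X)
  have hψ₁ : Function.Surjective ψ₁ := by
    intro p
    refine ⟨rename Sum.inl p, ?_⟩
    simp only [ψ₁, aeval_rename]
    have : (Sum.elim X q ∘ Sum.inl : σ → MvPolynomial σ R) = X := rfl
    rw [this, aeval_X_left_apply]
  have hψ₂ : Function.Surjective ψ₂ := by
    intro p
    refine ⟨rename Sum.inr p, ?_⟩
    simp only [ψ₂, aeval_rename]
    have : (Sum.elim r X ∘ Sum.inr : τ → MvPolynomial τ R) = X := rfl
    rw [this, aeval_X_left_apply]
  have hcomp : α.comp ψ₁ = β.comp ψ₂ := by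
    apply MvPolynomial.algHom_ext
    rintro (i | j)
    · simp [ψ₁, ψ₂, hr]
    · simp [ψ₁, ψ₂, hq]
  have hk₁ : (RingHom.ker ψ₁.toRingHom).FG :=
    Algebra.FinitePresentation.ker_fG_of_surjective ψ₁ hψ₁
  have hk₂ : (RingHom.ker ψ₂.toRingHom).FG :=
    Algebra.FinitePresentation.ker_fG_of_surjective ψ₂ hψ₂
  have h1 := compHom_comp_iff (M := M) ψ₁.toRingHom hψ₁ hk₁ α.toRingHom
  have h2 := compHom_comp_iff (M := M) ψ₂.toRingHom hψ₂ hk₂ β.toRingHom
  have hc : α.toRingHom.comp ψ₁.toRingHom = β.toRingHom.comp ψ₂.toRingHom := by
    have := congrArg AlgHom.toRingHom hcomp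
    exact this
  rw [← h1, ← h2, hc]

end Indep

end Groth.Agent.Lib.Helper21
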