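import Groth.Agent.Lib.Helper21.RelFP
import Mathlib.RingTheory.FinitePresentation
import Mathlib.RingTheory.Localization.Away.AdjoinRoot
import Mathlib.RingTheory.Localization.BaseChange
import Mathlib.Tactic

/-!
# Relative finite presentation: change of base ring and transfer along linear equivalences
-/

set_option autoImplicit false
universe u

namespace Groth.Agent.Lib.Helper21

open MvPolynomial

/-- Transfer of finite presentation (through a ring hom) along a linear equivalence. -/
theorem fp_compHom_of_linearEquiv {S T : Type*} [CommRing S] [CommRing T] (φ : S →+* T)
    {X Y : Type*} [AddCommGroup X] [AddCommGroup Y] [Module T X] [Module T Y] (e : X ≃ₗ[T] Y)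
    (h : @Module.FinitePresentation S X _ _ (Module.compHom X φ)) :
    @Module.FinitePresentation S Y _ _ (Module.compHom Y φ) := by
  letI : Module S X := Module.compHom X φ
  letI : Module S Y := Module.compHom Y φ
  let e' : X ≃ₗ[S] Y :=
    { e.toAddEquiv with
      map_smul' := fun s x => e.map_smul (φ s) x }
  have : Module.FinitePresentation S X := h
  exact Module.FinitePresentation.of_equiv e'

/-- Relative finite presentation does not depend on the base ring, as long as the change of base
ring is of finite presentation: if `R → R'` is of finite presentation, `α : R'[x] ↠ A` and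
`γ : R[z] ↠ A`, then `M` is finitely presented through `α` iff it is through `γ`. -/
theorem relFP_change_base {R R' A : Type u} [CommRing R] [CommRing R'] [CommRing A]
    [Algebra R R'] [Algebra R' A] [Algebra R A] [IsScalarTower R R' A]
    [Algebra.FinitePresentation R R']
    (M : Type*) [AddCommGroup M] [Module A M] {σ τ : Type*} [Finite σ] [Finite τ]
    (α : MvPolynomial σ R' →ₐ[R'] A) (hα : Function.Surjective α)
    (γ : MvPolynomial τ R →ₐ[R] A) (hγ : Function.Surjective γ) :
    @Module.FinitePresentation (MvPolynomial σ R') M _ _ (Module.compHom M α.toRingHom) ↔
      @Module.FinitePresentation (MvPolynomial τ R) M _ _ (Module.compHom M γ.toRingHom) := by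
  have : Algebra.FinitePresentation R (MvPolynomial σ R') := inferInstance
  obtain ⟨n, f, hf, hkf⟩ := Algebra.FinitePresentation.out (R := R) (A := MvPolynomial σ R')
  let β : MvPolynomial (Fin n) R →ₐ[R] A := (α.restrictScalars R).comp f
  have hβ : Function.Surjective β := hα.comp hf
  have h1 := compHom_comp_iff (M := M) f.toRingHom hf hkf α.toRingHom
  have h2 := relFP_indep M β hβ γ hγ
  exact h1.symm.trans h2

end Groth.Agent.Lib.Helper21
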