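import Groth.Agent.Lib.Helper21.RelFPSch
import Mathlib.AlgebraicGeometry.Morphisms.FinitePresentation

/-!
# Relative finite presentation: composition with a morphism locally of finite presentation
-/

set_option autoImplicit false
set_option linter.style.haveILetI false
universe u

open AlgebraicGeometry CategoryTheory Opposite TopologicalSpace

namespace Groth.Agent.Lib.Helper21.RelFPSch

set_option backward.isDefEq.respectTransparency.types false

open Groth.Agent.Lib.Helper21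

variable {X Y S : Scheme.{u}}

theorem P_comp (f : X ⟶ Y) (g : Y ⟶ S) [LocallyOfFinitePresentation g] (F : X.Modules)
    {U : X.Opens} {W : Y.Opens} {V : S.Opens} (hW : IsAffineOpen W) (hV : IsAffineOpen V)
    (hUW : U ≤ f ⁻¹ᵁ W) (hWV : W ≤ g ⁻¹ᵁ V) (hUV : U ≤ (f ≫ g) ⁻¹ᵁ V)
    (h : P f F U W hUW) : P (f ≫ g) F U V hUV := by
  have hχ : (g.appLE V W hWV).hom.FinitePresentation := g.finitePresentation_appLE hV hW hWV
  have h1 := (RelFPHom.comp_iff (N := Γ(F, U)) (g.appLE V W hWV).hom hχ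
    (f.appLE W U hUW).hom).mpr h
  refine h1.congr ?_
  have := Scheme.Hom.appLE_comp_appLE f g V W U hWV hUW
  exact congrArg CommRingCat.Hom.hom this

theorem isRelFP_comp (f : X ⟶ Y) (g : Y ⟶ S) [LocallyOfFiniteType f]
    [LocallyOfFinitePresentation g] (F : X.Modules) [F.IsQuasicoherent]
    (hF : Flatn.IsRelFP f F) : Flatn.IsRelFP (f ≫ g) F := by
  apply isRelFP_of_forall
  intro U V h
  change P (f ≫ g) F U V h
  have hft := (f ≫ g).finiteType_appLE V.2 U.2 h
  let s : Set Γ(X, (U : X.Opens)) :=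
    {a | P (f ≫ g) F (X.basicOpen a) V ((X.basicOpen_le a).trans h)}
  refine P_of_basicOpen_cover (f ≫ g) F U.2 h hft s ?_ (fun a ha => ha)
  rw [← U.2.self_le_iSup_basicOpen_iff]
  intro x hx
  have hfx : f x ∈ g ⁻¹ᵁ (V : S.Opens) := h hx
  obtain ⟨_, ⟨W, hW, rfl⟩, hfxW, hWle⟩ :=
    Y.isBasis_affineOpens.exists_subset_of_mem_open hfx (g ⁻¹ᵁ (V : S.Opens)).2
  obtain ⟨a, haW, hxa⟩ := U.2.exists_basicOpen_le (V := f ⁻¹ᵁ W) ⟨x, hfxW⟩ hx
  rw [Opens.mem_iSup]
  refine ⟨⟨a, ?_⟩, hxa⟩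
  change P (f ≫ g) F (X.basicOpen a) V _
  exact P_comp f g F hW V.2 haW hWle _ (P_of_isRelFP f F hF (U.2.basicOpen a) hW haW)

end Groth.Agent.Lib.Helper21.RelFPSch
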