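import Groth.Agent.Lib.Helper21.RelFPSch
import Groth.Agent.Lib.Helper21.QCohSections

/-!
# Relative finite presentation: extensions
-/

set_option autoImplicit false
set_option linter.style.haveILetI false
universe u

open AlgebraicGeometry CategoryTheory Opposite TopologicalSpace

namespace Groth.Agent.Lib.Helper21

open FlatCA

/-- Extensions of relatively finitely presented modules are relatively finitely presented. -/
theorem RelFPHom.of_exact {B A : Type u} [CommRing B] [CommRing A] (ψ : B →+* A)
    {N₁ N₂ N₃ : Type u} [AddCommGroup N₁] [AddCommGroup N₂] [AddCommGroup N₃]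
    [Module A N₁] [Module A N₂] [Module A N₃] (i : N₁ →ₗ[A] N₂) (p : N₂ →ₗ[A] N₃)
    (hi : Function.Injective i) (hp : Function.Surjective p) (hex : Function.Exact i p)
    (h₁ : RelFPHom ψ N₁) (h₃ : RelFPHom ψ N₃) : RelFPHom ψ N₂ := by
  letI := ψ.toAlgebra
  have hft : Algebra.FiniteType B A := RelFinitePresentation.finiteType (N := N₁) h₁
  obtain ⟨n, α, hα⟩ := Algebra.FiniteType.iff_quotient_mvPolynomial''.mp hft
  have f₁ := RelFinitePresentation.forall (N := N₁) h₁ α hα
  have f₃ := RelFinitePresentation.forall (N := N₃) h₃ α hα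
  refine ⟨n, α, hα, ?_⟩
  letI : Module (MvPolynomial (Fin n) B) N₁ := Module.compHom N₁ α.toRingHom
  letI : Module (MvPolynomial (Fin n) B) N₂ := Module.compHom N₂ α.toRingHom
  letI : Module (MvPolynomial (Fin n) B) N₃ := Module.compHom N₃ α.toRingHom
  have : Module.FinitePresentation (MvPolynomial (Fin n) B) N₁ := f₁
  have : Module.FinitePresentation (MvPolynomial (Fin n) B) N₃ := f₃
  let i' : N₁ →ₗ[MvPolynomial (Fin n) B] N₂ :=
    { toFun := i
      map_add' := i.map_add
      map_smul' := fun c x => i.map_smul (α c) x }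
  let p' : N₂ →ₗ[MvPolynomial (Fin n) B] N₃ :=
    { toFun := p
      map_add' := p.map_add
      map_smul' := fun c x => p.map_smul (α c) x }
  have hex' : Function.Exact i' p' := hex
  have hker : LinearMap.range i' = LinearMap.ker p' := (LinearMap.exact_iff.mp hex').symm
  let e : N₁ ≃ₗ[MvPolynomial (Fin n) B] LinearMap.ker p' :=
    (LinearEquiv.ofInjective i' hi).trans (LinearEquiv.ofEq _ _ hker)
  have : Module.FinitePresentation (MvPolynomial (Fin n) B) (LinearMap.ker p') :=
    Module.FinitePresentation.of_equiv e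
  exact Module.finitePresentation_of_ker p' hp

namespace RelFPSch

set_option backward.isDefEq.respectTransparency.types false

open QCohSections

variable {X S : Scheme.{u}}

theorem isRelFP_of_shortExact (f : X ⟶ S) [LocallyOfFiniteType f] (E : ShortComplex X.Modules)
    (hE : E.ShortExact) [E.X₁.IsQuasicoherent] [E.X₂.IsQuasicoherent] [E.X₃.IsQuasicoherent]
    (h₁ : Flatn.IsRelFP f E.X₁) (h₃ : Flatn.IsRelFP f E.X₃) : Flatn.IsRelFP f E.X₂ := by
  apply isRelFP_of_forall
  intro U V h
  have p1 := P_of_isRelFP f E.X₁ h₁ U.2 V.2 h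
  have p3 := P_of_isRelFP f E.X₃ h₃ U.2 V.2 h
  have hex := sections_exact E hE U
  have := hE.mono_f
  have := hE.epi_g
  have hinj := app_injective_of_mono E.f (U : X.Opens)
  have hsurj := app_surjective_of_epi E.g U.2
  exact RelFPHom.of_exact _ (appL E.f U) (appL E.g U) hinj hsurj hex p1 p3

end RelFPSch

end Groth.Agent.Lib.Helper21
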