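import Groth.Agent.Lib.Helper21.RelFPSchG
import Mathlib.AlgebraicGeometry.Morphisms.Finite

/-!
# Relative finite presentation and finite pushforward
-/

set_option autoImplicit false
set_option linter.style.haveILetI false
universe u

open AlgebraicGeometry CategoryTheory Opposite TopologicalSpace

namespace Groth.Agent.Lib.Helper21

open FlatCA

/-- Relative finite presentation is insensitive to a finite extension of the source ring. -/
theorem RelFPHom.finite_iff {R A B : Type u} [CommRing R] [CommRing A] [CommRing B]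
    (ψ : R →+* A) (φ : A →+* B) (hφ : φ.Finite) (hψ : ψ.FiniteType)
    {M : Type u} [AddCommGroup M] [Module B M] :
    RelFPHom (φ.comp ψ) M ↔ @RelFPHom R A _ _ ψ M _ (Module.compHom M φ) := by
  letI := ψ.toAlgebra
  letI := φ.toAlgebra
  letI := (φ.comp ψ).toAlgebra
  have : IsScalarTower R A B := IsScalarTower.of_algebraMap_eq' rfl
  letI : Module A M := Module.compHom M φ
  have : IsScalarTower A B M := IsScalarTower.of_algebraMap_smul fun _ _ => rfl
  have : Module.Finite A B := hφ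
  have hftA : Algebra.FiniteType R A := hψ
  have hftAB : Algebra.FiniteType A B := Module.Finite.finiteType _
  have hftB : Algebra.FiniteType R B := Algebra.FiniteType.trans hftA hftAB
  obtain ⟨n, α, hα⟩ := Algebra.FiniteType.iff_quotient_mvPolynomial''.mp hftA
  obtain ⟨k, β, hβ⟩ := Algebra.FiniteType.iff_quotient_mvPolynomial''.mp hftB
  have key := Groth.Agent.S6992.result (R := R) (A := A) (B := B) M α hα β hβ
  constructor
  · intro h
    exact ⟨n, α, hα, key.mpr (RelFinitePresentation.forall (R := R) (S := B) (N := M) h β hβ)⟩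
  · intro h
    exact ⟨k, β, hβ, key.mp (RelFinitePresentation.forall (R := R) (S := A) (N := M) h α hα)⟩

namespace RelFPSch

set_option backward.isDefEq.respectTransparency.types false

open Groth.Agent.Lib.Helper29.QCohLoc

variable {X Y S : Scheme.{u}}

theorem P_push_iff (π : X ⟶ Y) (g : Y ⟶ S) [IsFinite π] [LocallyOfFiniteType g] (F : X.Modules)
    {W : Y.Opens} (hW : IsAffineOpen W) {V : S.Opens} (hV : IsAffineOpen V)
    (hWV : W ≤ g ⁻¹ᵁ V) (hUV : π ⁻¹ᵁ W ≤ (π ≫ g) ⁻¹ᵁ V) :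
    P g ((Scheme.Modules.pushforward π).obj F) W V hWV ↔ P (π ≫ g) F (π ⁻¹ᵁ W) V hUV := by
  have hfin : (π.app W).hom.Finite := π.finite_app W hW
  have hft : (g.appLE V W hWV).hom.FiniteType := g.finiteType_appLE hV hW hWV
  have key := RelFPHom.finite_iff (M := Γ(F, π ⁻¹ᵁ W)) (g.appLE V W hWV).hom (π.app W).hom hfin hft
  have hcomp : (π.app W).hom.comp (g.appLE V W hWV).hom = ((π ≫ g).appLE V (π ⁻¹ᵁ W) hUV).hom := by
    have h1 := Scheme.Hom.appLE_comp_appLE π g V W (π ⁻¹ᵁ W) hWV le_rfl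
    rw [← π.app_eq_appLE] at h1
    exact congrArg CommRingCat.Hom.hom h1
  rw [hcomp] at key
  exact key.symm

theorem locAt_pushforward (π : X ⟶ Y) [IsAffineHom π] (F : X.Modules) [F.IsQuasicoherent]
    (W : Y.Opens) (hW : IsAffineOpen W) : LocAt ((Scheme.Modules.pushforward π).obj F) W :=
  LocAt.pushforward π F W (LocAt.of_isQuasicoherent F (hW.preimage π))

theorem isRelFP_push_iff (π : X ⟶ Y) (g : Y ⟶ S) [IsFinite π] [LocallyOfFiniteType g]
    (F : X.Modules) [F.IsQuasicoherent] :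
    Flatn.IsRelFP (π ≫ g) F ↔ Flatn.IsRelFP g ((Scheme.Modules.pushforward π).obj F) := by
  constructor
  · intro hF
    apply isRelFP_of_forall
    intro W V h
    have hUV : π ⁻¹ᵁ (W : Y.Opens) ≤ (π ≫ g) ⁻¹ᵁ (V : S.Opens) := fun x hx => h hx
    exact (P_push_iff π g F W.2 V.2 h hUV).mpr
      (P_of_isRelFP (π ≫ g) F hF (W.2.preimage π) V.2 hUV)
  · intro hF
    apply isRelFP_of_forall
    intro U V h
    change P (π ≫ g) F U V h
    have hft := (π ≫ g).finiteType_appLE V.2 U.2 h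
    let s : Set Γ(X, (U : X.Opens)) :=
      {a | P (π ≫ g) F (X.basicOpen a) V ((X.basicOpen_le a).trans h)}
    refine P_of_basicOpen_cover (π ≫ g) F U.2 h hft s ?_ (fun a ha => ha)
    rw [← U.2.self_le_iSup_basicOpen_iff]
    intro x hx
    have hfx : π x ∈ g ⁻¹ᵁ (V : S.Opens) := h hx
    obtain ⟨_, ⟨W, hW, rfl⟩, hfxW, hWle⟩ :=
      Y.isBasis_affineOpens.exists_subset_of_mem_open hfx (g ⁻¹ᵁ (V : S.Opens)).2
    have hWV : W ≤ g ⁻¹ᵁ (V : S.Opens) := hWle
    have hUV : π ⁻¹ᵁ W ≤ (π ≫ g) ⁻¹ᵁ (V : S.Opens) := fun x hx => hWV hx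
    have hPW : P g ((Scheme.Modules.pushforward π).obj F) W V hWV :=
      P_of_isRelFP_of_locAt g _ (locAt_pushforward π F) hF hW V.2 hWV
    have hPW' : P (π ≫ g) F (π ⁻¹ᵁ W) V hUV := (P_push_iff π g F hW V.2 hWV hUV).mp hPW
    obtain ⟨a₀, a₁, ha, hxa, -⟩ :=
      exists_common_basicOpen U.2 (hW.preimage π) ⊤ x hx hfxW trivial
    rw [Opens.mem_iSup]
    refine ⟨⟨a₀, ?_⟩, hxa⟩
    change P (π ≫ g) F (X.basicOpen a₀) V _
    exact P_basicOpen (π ≫ g) F (hW.preimage π) hUV a₁ (X.basicOpen a₀) ha _ hPW'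

end RelFPSch

end Groth.Agent.Lib.Helper21
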