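import Groth.Agent.Lib.Helper21.RelFPSch3
import Groth.Agent.Lib.Helper21.QCohFinite

/-!
# Relative finite presentation: quotient by a submodule of finite type
-/

set_option autoImplicit false
set_option linter.style.haveILetI false
universe u

open AlgebraicGeometry CategoryTheory Opposite TopologicalSpace

namespace Groth.Agent.Lib.Helper21

open FlatCA

/-- The quotient of a relatively finitely presented module by a finite submodule is relatively
finitely presented. -/
theorem RelFPHom.of_exact_of_finite {B A : Type u} [CommRing B] [CommRing A] (ψ : B →+* A)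
    {N₁ N₂ N₃ : Type u} [AddCommGroup N₁] [AddCommGroup N₂] [AddCommGroup N₃]
    [Module A N₁] [Module A N₂] [Module A N₃] (i : N₁ →ₗ[A] N₂) (p : N₂ →ₗ[A] N₃)
    (hp : Function.Surjective p) (hex : Function.Exact i p) [Module.Finite A N₁]
    (h₂ : RelFPHom ψ N₂) : RelFPHom ψ N₃ := by
  letI := ψ.toAlgebra
  obtain ⟨n, α, hα, hfp⟩ := h₂
  refine ⟨n, α, hα, ?_⟩
  letI algPA : Algebra (MvPolynomial (Fin n) B) A := α.toRingHom.toAlgebra
  letI : Module (MvPolynomial (Fin n) B) N₁ := Module.compHom N₁ α.toRingHom
  letI : Module (MvPolynomial (Fin n) B) N₂ := Module.compHom N₂ α.toRingHom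
  letI : Module (MvPolynomial (Fin n) B) N₃ := Module.compHom N₃ α.toRingHom
  have : IsScalarTower (MvPolynomial (Fin n) B) A N₁ :=
    IsScalarTower.of_algebraMap_smul fun _ _ => rfl
  have : Module.Finite (MvPolynomial (Fin n) B) A :=
    Module.Finite.of_surjective (Algebra.linearMap (MvPolynomial (Fin n) B) A) hα
  have : Module.Finite (MvPolynomial (Fin n) B) N₁ := Module.Finite.trans A N₁
  have : Module.FinitePresentation (MvPolynomial (Fin n) B) N₂ := hfp
  let i' : N₁ →ₗ[MvPolynomial (Fin n) B] N₂ :=
    { toFun := i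
      map_add' := i.map_add
      map_smul' := fun c x => i.map_smul (α c) x }
  let p' : N₂ →ₗ[MvPolynomial (Fin n) B] N₃ :=
    { toFun := p
      map_add' := p.map_add
      map_smul' := fun c x => p.map_smul (α c) x }
  have hex' : Function.Exact i' p' := hex
  have hker : LinearMap.ker p' = LinearMap.range i' := LinearMap.exact_iff.mp hex'
  have hfg : (LinearMap.ker p').FG := by
    rw [hker, LinearMap.range_eq_map]
    exact Submodule.FG.map i' Module.Finite.fg_top
  exact Module.finitePresentation_of_surjective p' hp hfg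

namespace RelFPSch

set_option backward.isDefEq.respectTransparency.types false

open QCohSections QCohFinite

variable {X S : Scheme.{u}}

theorem isRelFP_of_shortExact_of_finiteType (f : X ⟶ S) [LocallyOfFiniteType f]
    (E : ShortComplex X.Modules) (hE : E.ShortExact) [E.X₁.IsQuasicoherent]
    [E.X₂.IsQuasicoherent] [E.X₃.IsQuasicoherent]
    (h₁ : SheafOfModules.IsFiniteType (R := X.ringCatSheaf) E.X₁)
    (h₂ : Flatn.IsRelFP f E.X₂) : Flatn.IsRelFP f E.X₃ := by
  apply isRelFP_of_forall
  intro U V h
  have p2 := P_of_isRelFP f E.X₂ h₂ U.2 V.2 h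
  have hex := sections_exact E hE U
  have := hE.epi_g
  have hsurj := app_surjective_of_epi E.g U.2
  have hfin := finite_sections_of_isFiniteType E.X₁ h₁ U.2
  exact RelFPHom.of_exact_of_finite _ (appL E.f U) (appL E.g U) hsurj hex p2

end RelFPSch

end Groth.Agent.Lib.Helper21
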