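import Groth.Agent.Lib.Helper21.RelFPSch2
import Groth.Agent.Lib.Lead.PullbackAff4

/-!
# Relative finite presentation: pullback along a morphism locally of finite presentation
-/

set_option autoImplicit false
set_option linter.style.haveILetI false
universe u

open AlgebraicGeometry CategoryTheory Opposite TopologicalSpace

namespace Groth.Agent.Lib.Helper21

open FlatCA TensorProduct

/-- Base change along a ring map of finite presentation, given the module up to isomorphism. -/
theorem RelFPHom.baseChange {R B A : Type u} [CommRing R] [CommRing B] [CommRing A]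
    (ψ : R →+* B) (χ : B →+* A) (hχ : χ.FinitePresentation)
    {N : Type u} [AddCommGroup N] [Module B N] {N' : Type u} [AddCommGroup N'] [Module A N']
    (e : letI := χ.toAlgebra; N' ≃ₗ[A] A ⊗[B] N)
    (h : RelFPHom ψ N) : RelFPHom (χ.comp ψ) N' := by
  letI := ψ.toAlgebra
  letI := χ.toAlgebra
  letI := (χ.comp ψ).toAlgebra
  have : IsScalarTower R B A := IsScalarTower.of_algebraMap_eq' rfl
  have : Algebra.FinitePresentation B A := hχ
  have h1 : RelFinitePresentation R A (A ⊗[B] N) :=
    RelFinitePresentation.of_isBaseChange (R := R) (S := B) (S' := A)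
      (TensorProduct.mk B A N 1) (TensorProduct.isBaseChange B N A) h
  exact RelFinitePresentation.of_equiv (R := R) (AlgEquiv.refl) e.symm.toAddEquiv
    (fun s x => e.symm.map_smul s x) h1

namespace RelFPSch

set_option backward.isDefEq.respectTransparency.types false

open Groth.Agent.Lib.Lead.PullbackAff

variable {X Y S : Scheme.{u}}

theorem isRelFP_pullback (f : X ⟶ Y) (g : Y ⟶ S) [LocallyOfFinitePresentation f]
    [LocallyOfFiniteType g] (G : Y.Modules) [G.IsQuasicoherent] (hG : Flatn.IsRelFP g G) :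
    Flatn.IsRelFP (f ≫ g) ((Scheme.Modules.pullback f).obj G) := by
  apply isRelFP_of_forall
  intro U V h
  change P (f ≫ g) ((Scheme.Modules.pullback f).obj G) U V h
  have hft := (f ≫ g).finiteType_appLE V.2 U.2 h
  let s : Set Γ(X, (U : X.Opens)) :=
    {a | P (f ≫ g) ((Scheme.Modules.pullback f).obj G) (X.basicOpen a) V
      ((X.basicOpen_le a).trans h)}
  refine P_of_basicOpen_cover (f ≫ g) _ U.2 h hft s ?_ (fun a ha => ha)
  rw [← U.2.self_le_iSup_basicOpen_iff]
  intro x hx
  have hfx : f x ∈ g ⁻¹ᵁ (V : S.Opens) := h hx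
  obtain ⟨_, ⟨W, hW, rfl⟩, hfxW, hWle⟩ :=
    Y.isBasis_affineOpens.exists_subset_of_mem_open hfx (g ⁻¹ᵁ (V : S.Opens)).2
  obtain ⟨a, haW, hxa⟩ := U.2.exists_basicOpen_le (V := f ⁻¹ᵁ W) ⟨x, hfxW⟩ hx
  rw [Opens.mem_iSup]
  refine ⟨⟨a, ?_⟩, hxa⟩
  change P (f ≫ g) ((Scheme.Modules.pullback f).obj G) (X.basicOpen a) V _
  have hWV : W ≤ g ⁻¹ᵁ (V : S.Opens) := hWle
  have hPW : P g G W V hWV := P_of_isRelFP g G hG hW V.2 hWV
  have hχ : (f.appLE W (X.basicOpen a) haW).hom.FinitePresentation :=
    f.finitePresentation_appLE hW (U.2.basicOpen a) haW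
  have h1 := RelFPHom.baseChange (g.appLE V W hWV).hom (f.appLE W (X.basicOpen a) haW).hom hχ
    (sectionsPullbackEquiv f G (U.2.basicOpen a) hW haW) hPW
  refine h1.congr ?_
  have := Scheme.Hom.appLE_comp_appLE f g V W (X.basicOpen a) hWV haW
  exact congrArg CommRingCat.Hom.hom this

end RelFPSch

end Groth.Agent.Lib.Helper21
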