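import Groth.Agent.Lib.Helper21.RelFPSch6
import Groth.Agent.S12083
import Mathlib.AlgebraicGeometry.Morphisms.Flat
import Mathlib.Algebra.Category.Ring.Constructions

/-!
# Relative finite presentation: base change
-/

set_option autoImplicit false
set_option linter.style.haveILetI false
universe u

open AlgebraicGeometry CategoryTheory Opposite TopologicalSpace

namespace Groth.Agent.Lib.Helper21

open FlatCA TensorProduct

/-- Base change of a relatively finitely presented module along a pushout square of rings. -/
theorem RelFPHom.pushout {R A R' A' : Type u} [CommRing R] [CommRing A] [CommRing R']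
    [CommRing A'] (φ : R →+* A) (γ : R →+* R') (α' : A →+* A') (φ' : R' →+* A')
    (hpo : IsPushout (CommRingCat.ofHom φ) (CommRingCat.ofHom γ) (CommRingCat.ofHom α')
      (CommRingCat.ofHom φ'))
    (hφ' : φ'.FiniteType)
    {N : Type u} [AddCommGroup N] [Module A N] {N' : Type u} [AddCommGroup N'] [Module A' N']
    (e : letI := α'.toAlgebra; N' ≃ₗ[A'] A' ⊗[A] N)
    (h : RelFPHom φ N) : RelFPHom φ' N' := by
  have hcomm : α'.comp φ = φ'.comp γ := by
    have := hpo.w
    exact congrArg CommRingCat.Hom.hom this
  letI := φ.toAlgebra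
  letI := γ.toAlgebra
  letI := α'.toAlgebra
  letI := φ'.toAlgebra
  letI := (α'.comp φ).toAlgebra
  have : IsScalarTower R A A' := IsScalarTower.of_algebraMap_eq' rfl
  have : IsScalarTower R R' A' := IsScalarTower.of_algebraMap_eq' hcomm
  have hpush : Algebra.IsPushout R A R' A' := CommRingCat.isPushout_iff_isPushout.mp hpo
  have hft : Algebra.FiniteType R A := RelFinitePresentation.finiteType (N := N) h
  obtain ⟨n, α, hα, hM⟩ := h
  have hft' : Algebra.FiniteType R' A' := hφ'
  obtain ⟨k, β, hβ⟩ := Algebra.FiniteType.iff_quotient_mvPolynomial''.mp hft'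
  have key := Groth.Agent.S12083.result (R := R) (A := A) (R' := R') (A' := A') N α hα hM β hβ
  have h1 : RelFinitePresentation R' A' (A' ⊗[A] N) := ⟨k, β, hβ, key⟩
  exact RelFinitePresentation.of_equiv (R := R') (AlgEquiv.refl) e.symm.toAddEquiv
    (fun s x => e.symm.map_smul s x) h1

end Groth.Agent.Lib.Helper21
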