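import Groth.Agent.Lib.Helper21.RelFPSch7

/-!
# Relative finite presentation: base change of schemes
-/

set_option autoImplicit false
set_option linter.style.haveILetI false
universe u

open AlgebraicGeometry CategoryTheory Opposite TopologicalSpace

namespace Groth.Agent.Lib.Helper21.RelFPSch

open FlatCA TensorProduct

set_option backward.isDefEq.respectTransparency.types false

open Groth.Agent.Lib.Lead.PullbackAff

/-- The fibre-product chart: for `hc : IsPullback g' f' f g`, affine opens `V ⊆ S`, `V'' ⊆ S'`,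
`U ⊆ X` with `V'' ≤ g⁻¹ V`, `U ≤ f⁻¹ V`, relative finite presentation of `F` on `(U, V)` passes to
`g'^* F` on `(g'⁻¹ U ⊓ f'⁻¹ V'', V'')`. -/
theorem P_fibre_chart {X S X' S' : Scheme.{u}} (f : X ⟶ S) (F : X.Modules) [F.IsQuasicoherent]
    (g : S' ⟶ S) (f' : X' ⟶ S') [LocallyOfFiniteType f'] (g' : X' ⟶ X)
    (hc : IsPullback g' f' f g)
    {V : S.Opens} (hV : IsAffineOpen V) {V'' : S'.Opens} (hV'' : IsAffineOpen V'')
    {U : X.Opens} (hU : IsAffineOpen U) (hUST : V'' ≤ g ⁻¹ᵁ V) (hUSX : U ≤ f ⁻¹ᵁ V)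
    {T : X'.Opens} (hT : T = g' ⁻¹ᵁ U ⊓ f' ⁻¹ᵁ V'')
    (hP : P f F U V hUSX) :
    IsAffineOpen T ∧ ∃ h : T ≤ f' ⁻¹ᵁ V'', P f' ((Scheme.Modules.pullback g').obj F) T V'' h := by
  have hTaff : IsAffineOpen T := by
    have : IsAffine _ := hV
    have : IsAffine _ := hV''
    have : IsAffine _ := hU
    exact .of_isIso (Scheme.Hom.isPullback_resLE hc hUST hUSX hT).isoPullback.hom
  have hTU : T ≤ g' ⁻¹ᵁ U := hT ▸ inf_le_left
  have hTV : T ≤ f' ⁻¹ᵁ V'' := hT ▸ inf_le_right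
  refine ⟨hTaff, hTV, ?_⟩
  have hpo := (isIso_pushoutSection_iff hc hUST hUSX hT).mp
    (isIso_pushoutSection_of_isAffineOpen hc hUST hUSX hT hV hV'' hU)
  have hft : (f'.appLE V'' T hTV).hom.FiniteType := f'.finiteType_appLE hV'' hTaff hTV
  exact RelFPHom.pushout (f.appLE V U hUSX).hom (g.appLE V V'' hUST).hom
    (g'.appLE U T hTU).hom (f'.appLE V'' T hTV).hom hpo hft
    (sectionsPullbackEquiv g' F hTaff hU hTU) hP

theorem isRelFP_baseChange {X S X' S' : Scheme.{u}} (f : X ⟶ S) [LocallyOfFiniteType f]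
    (F : X.Modules) [F.IsQuasicoherent]
    (g : S' ⟶ S) (f' : X' ⟶ S') (g' : X' ⟶ X) (hc : IsPullback g' f' f g)
    (hF : Flatn.IsRelFP f F) :
    Flatn.IsRelFP f' ((Scheme.Modules.pullback g').obj F) := by
  haveI : LocallyOfFiniteType f' := MorphismProperty.of_isPullback hc inferInstance
  apply isRelFP_of_forall
  intro U' V' h
  change P f' ((Scheme.Modules.pullback g').obj F) U' V' h
  have hft := f'.finiteType_appLE V'.2 U'.2 h
  let s : Set Γ(X', (U' : X'.Opens)) :=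
    {a | P f' ((Scheme.Modules.pullback g').obj F) (X'.basicOpen a) V'
      ((X'.basicOpen_le a).trans h)}
  refine P_of_basicOpen_cover f' _ U'.2 h hft s ?_ (fun a ha => ha)
  rw [← U'.2.self_le_iSup_basicOpen_iff]
  intro x hx
  obtain ⟨_, ⟨V, hV, rfl⟩, hsV, -⟩ :=
    S.isBasis_affineOpens.exists_subset_of_mem_open (Set.mem_univ (g (f' x))) isOpen_univ
  obtain ⟨b, hbV, hxb⟩ := V'.2.exists_basicOpen_le (V := g ⁻¹ᵁ V) ⟨f' x, hsV⟩ (h hx)
  have hpt : f (g' x) = g (f' x) := by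
    rw [← Scheme.Hom.comp_apply, hc.w, Scheme.Hom.comp_apply]
  have hfx : g' x ∈ f ⁻¹ᵁ V := by
    change f (g' x) ∈ V
    rw [hpt]; exact hsV
  obtain ⟨_, ⟨U, hU, rfl⟩, hxU, hUle⟩ :=
    X.isBasis_affineOpens.exists_subset_of_mem_open hfx (f ⁻¹ᵁ V).2
  have hUle' : U ≤ f ⁻¹ᵁ V := hUle
  have hV'' : IsAffineOpen (S'.basicOpen b) := V'.2.basicOpen b
  obtain ⟨hTaff, hTV, hPT⟩ := P_fibre_chart f F g f' g' hc hV hV'' hU hbV hUle' rfl
    (P_of_isRelFP f F hF hU hV hUle')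
  have hxT : x ∈ g' ⁻¹ᵁ U ⊓ f' ⁻¹ᵁ (S'.basicOpen b) := ⟨hxU, hxb⟩
  obtain ⟨a₀, a₁, heq, hxa, -⟩ := exists_common_basicOpen U'.2 hTaff ⊤ x hx hxT trivial
  rw [Opens.mem_iSup]
  refine ⟨⟨a₀, ?_⟩, hxa⟩
  change P f' ((Scheme.Modules.pullback g').obj F) (X'.basicOpen a₀) V' _
  have hle : X'.basicOpen a₀ ≤ f' ⁻¹ᵁ (S'.basicOpen b) :=
    heq ▸ (X'.basicOpen_le a₁).trans hTV
  have h1 : P f' ((Scheme.Modules.pullback g').obj F) (X'.basicOpen a₀) (S'.basicOpen b) hle :=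
    P_basicOpen f' _ hTaff hTV a₁ _ heq hle hPT
  exact (P_change_base f' _ V'.2 b rfl hle _).mp h1

end Groth.Agent.Lib.Helper21.RelFPSch
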