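import Groth.Agent.Lib.Helper21.RelFPSch
import Groth.Agent.Lib.Helper29.QCohPush

/-!
# Relative finite presentation for modules with the localisation property on affine opens
(generalisation of `RelFPSch` from quasi-coherent modules to modules satisfying helper29's `LocAt`
on every affine open, e.g. pushforwards of quasi-coherent modules along affine morphisms)
-/

set_option autoImplicit false
set_option linter.style.haveILetI false
universe u

open AlgebraicGeometry CategoryTheory Opposite TopologicalSpace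

namespace Groth.Agent.Lib.Helper21.RelFPSch

set_option backward.isDefEq.respectTransparency.types false

open Groth.Agent.Lib.Helper29.QCohLoc Groth.Agent.Lib.Helper21

variable {X S : Scheme.{u}}

theorem isLocalizedModule_resL_of_locAt (F : X.Modules) {U : X.Opens}
    (hF : LocAt F U) (a : Γ(X, U)) :
    letI : Module Γ(X, U) Γ(F, X.basicOpen a) :=
      Module.compHom _ (resRing X (X.basicOpen_le a))
    IsLocalizedModule (Submonoid.powers a) (resL F (X.basicOpen_le a)) := by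
  letI : Module Γ(X, U) Γ(F, X.basicOpen a) :=
    Module.compHom _ (resRing X (X.basicOpen_le a))
  refine ⟨?_, ?_, ?_⟩
  · rintro ⟨_, n, rfl⟩
    rw [Module.End.isUnit_iff]
    have hu : IsUnit (resRing X (X.basicOpen_le a) (a ^ n)) := by
      rw [map_pow]
      exact (X.toRingedSpace.isUnit_res_basicOpen a).pow n
    obtain ⟨u, hu⟩ := hu
    refine ⟨fun x y hxy => ?_, fun y => ⟨(↑u⁻¹ : Γ(X, X.basicOpen a)) • y, ?_⟩⟩
    · have hxy' : resRing X (X.basicOpen_le a) (a ^ n) • x =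
          resRing X (X.basicOpen_le a) (a ^ n) • y := hxy
      have := congrArg (fun z => (↑u⁻¹ : Γ(X, X.basicOpen a)) • z) hxy'
      simp only [← hu, smul_smul, Units.inv_mul, one_smul] at this
      exact this
    · change resRing X (X.basicOpen_le a) (a ^ n) • ((↑u⁻¹ : Γ(X, X.basicOpen a)) • y) = y
      rw [← hu, smul_smul, Units.mul_inv, one_smul]
  · intro t
    obtain ⟨n, s, hs⟩ := hF.ext a t
    refine ⟨(s, ⟨a ^ n, n, rfl⟩), ?_⟩
    change resRing X (X.basicOpen_le a) (a ^ n) • t = F.presheaf.map _ s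
    rw [hs, map_pow]
    rfl
  · intro x₁ x₂ h
    have h0 : F.presheaf.map (homOfLE (X.basicOpen_le a)).op (x₁ - x₂) = 0 := by
      rw [map_sub, sub_eq_zero]
      exact h
    obtain ⟨n, hn⟩ := hF.kill a (x₁ - x₂) h0
    refine ⟨⟨a ^ n, n, rfl⟩, ?_⟩
    rw [smul_sub, sub_eq_zero] at hn
    exact hn

/-- Relative finite presentation passes to basic opens of the source. -/
theorem P_basicOpen_of_locAt (f : X ⟶ S) (F : X.Modules) {U : X.Opens}
    (hU : IsAffineOpen U) (hF : LocAt F U) {V : S.Opens} (h : U ≤ f ⁻¹ᵁ V) (a : Γ(X, U))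
    (U' : X.Opens) (hU' : U' = X.basicOpen a) (h' : U' ≤ f ⁻¹ᵁ V)
    (hP : P f F U V h) : P f F U' V h' := by
  subst hU'
  have h1 := RelFPHom.of_away (f.appLE V U h).hom (resRing X (X.basicOpen_le a)) a
    (hU.isLocalization_basicOpen a) (resL F (X.basicOpen_le a)) (isLocalizedModule_resL_of_locAt F hF a) hP
  exact h1.congr (resRing_comp_appLE f h (X.basicOpen_le a))

/-- Relative finite presentation can be checked on a cover by basic opens of the source. -/
theorem P_of_basicOpen_cover_of_locAt (f : X ⟶ S) (F : X.Modules) {U : X.Opens}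
    (hU : IsAffineOpen U) (hF : LocAt F U) {V : S.Opens} (h : U ≤ f ⁻¹ᵁ V)
    (hft : (f.appLE V U h).hom.FiniteType) (s : Set Γ(X, U)) (hs : Ideal.span s = ⊤)
    (hP : ∀ a ∈ s, P f F (X.basicOpen a) V ((X.basicOpen_le a).trans h)) : P f F U V h := by
  refine RelFPHom.of_localizationSpan _ hft s hs (fun a ha => ?_)
  refine RelFPHom.to_localization (f.appLE V U h).hom (resRing X (X.basicOpen_le a)) a
    (hU.isLocalization_basicOpen a) (resL F (X.basicOpen_le a))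
    (isLocalizedModule_resL_of_locAt F hF a) ?_
  exact (hP a ha).congr (resRing_comp_appLE f h (X.basicOpen_le a)).symm

/-- If `F` is finitely presented relative to `S` (on some covers), then it is so on every pair
of affine opens. -/
theorem P_of_isRelFP_of_locAt (f : X ⟶ S) [LocallyOfFiniteType f] (F : X.Modules)
    (hloc : ∀ U : X.Opens, IsAffineOpen U → LocAt F U) (hF : Flatn.IsRelFP f F) {U₀ : X.Opens} (hU₀ : IsAffineOpen U₀) {V₀ : S.Opens}
    (hV₀ : IsAffineOpen V₀) (h₀ : U₀ ≤ f ⁻¹ᵁ V₀) : P f F U₀ V₀ h₀ := by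
  obtain ⟨𝒱, h𝒱, H⟩ := hF
  have hft : (f.appLE V₀ U₀ h₀).hom.FiniteType := f.finiteType_appLE hV₀ hU₀ h₀
  let s : Set Γ(X, U₀) := {a | P f F (X.basicOpen a) V₀ ((X.basicOpen_le a).trans h₀)}
  refine P_of_basicOpen_cover_of_locAt f F hU₀ (hloc _ hU₀) h₀ hft s ?_ (fun a ha => ha)
  rw [← hU₀.self_le_iSup_basicOpen_iff]
  intro x hx
  have hfx : f x ∈ (⊤ : S.Opens) := trivial
  rw [← h𝒱] at hfx
  simp only [Opens.mem_iSup] at hfx
  obtain ⟨V₁, hV₁mem, hfxV₁⟩ := hfx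
  obtain ⟨𝒰, h𝒰, H'⟩ := H V₁ hV₁mem
  have hx1 : x ∈ f ⁻¹ᵁ (V₁ : S.Opens) := hfxV₁
  rw [← h𝒰] at hx1
  simp only [Opens.mem_iSup] at hx1
  obtain ⟨U₁, hU₁mem, hxU₁⟩ := hx1
  have hU₁V₁ : (U₁ : X.Opens) ≤ f ⁻¹ᵁ (V₁ : S.Opens) := by
    rw [← h𝒰]
    exact le_iSup₂ (f := fun (U : X.affineOpens) (_ : U ∈ 𝒰) => (U : X.Opens)) U₁ hU₁mem
  have hP₁ : P f F U₁ V₁ hU₁V₁ := H' U₁ hU₁mem hU₁V₁
  obtain ⟨b₀, b₁, hb, hfxb⟩ :=
    exists_basicOpen_le_affine_inter hV₀ V₁.2 (f x) ⟨h₀ hx, hfxV₁⟩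
  obtain ⟨a₀, a₁, ha, hxa, haW⟩ :=
    exists_common_basicOpen hU₀ U₁.2 (f ⁻¹ᵁ S.basicOpen b₀) x hx hxU₁ hfxb
  rw [Opens.mem_iSup]
  refine ⟨⟨a₀, ?_⟩, hxa⟩
  change P f F (X.basicOpen a₀) V₀ _
  have hle1 : X.basicOpen a₀ ≤ f ⁻¹ᵁ (V₁ : S.Opens) := by
    rw [ha]
    exact (X.basicOpen_le a₁).trans hU₁V₁
  have h2 : P f F (X.basicOpen a₀) V₁ hle1 :=
    P_basicOpen_of_locAt f F U₁.2 (hloc _ U₁.2) hU₁V₁ a₁ (X.basicOpen a₀) ha hle1 hP₁
  have h3 : P f F (X.basicOpen a₀) (S.basicOpen b₀) haW :=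
    (P_change_base f F V₁.2 b₁ hb haW hle1).mpr h2
  exact (P_change_base f F hV₀ b₀ rfl haW _).mp h3

theorem isRelFP_iff_forall_of_locAt (f : X ⟶ S) [LocallyOfFiniteType f] (F : X.Modules)
    (hloc : ∀ U : X.Opens, IsAffineOpen U → LocAt F U) :
    Flatn.IsRelFP f F ↔
      ∀ (U : X.affineOpens) (V : S.affineOpens) (h : (U : X.Opens) ≤ f ⁻¹ᵁ (V : S.Opens)),
        Flatn.RelFPOn f F U V h :=
  ⟨fun hF U V h => P_of_isRelFP_of_locAt f F hloc hF U.2 V.2 h, isRelFP_of_forall f F⟩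

end Groth.Agent.Lib.Helper21.RelFPSch
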