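import Mathlib.LinearAlgebra.RootSystem.Finite.Nondegenerate
import Mathlib.LinearAlgebra.RootSystem.Finite.Lemmas
import Mathlib.LinearAlgebra.RootSystem.WeylGroup
import Mathlib.Tactic

set_option autoImplicit false

namespace Groth.Agent.Lib.Helper21

open RootPairing

variable {ι M N : Type*} [AddCommGroup M] [AddCommGroup N] (P : RootPairing ι ℤ M N)

include P in
theorem torsionFreeM : Module.IsTorsionFree ℤ M := by
  have : Module.IsReflexive ℤ M := Module.IsReflexive.of_isPerfPair P.toLinearMap
  infer_instance

theorem len_mul_pairing [Fintype ι] (i j : ι) :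
    P.RootForm (P.root i) (P.root i) * P.pairing j i = 2 * P.RootForm (P.root i) (P.root j) := by
  have h := congrArg (fun n => P.toLinearMap (P.root j) n) (P.rootForm_self_smul_coroot i)
  simp only [map_smul, map_nsmul, RootPairing.root_coroot_eq_pairing,
    RootPairing.toLinearMap_apply_apply_Polarization, smul_eq_mul, nsmul_eq_mul] at h
  exact_mod_cast h

theorem rootForm_comm [Fintype ι] (x y : M) : P.RootForm x y = P.RootForm y x := by
  have := (P.rootForm_symmetric).eq x y
  simpa only [RingHom.id_apply] using this

theorem len_swap [Fintype ι] (i j : ι) :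
    P.RootForm (P.root i) (P.root i) * P.pairing j i =
      P.RootForm (P.root j) (P.root j) * P.pairing i j := by
  rw [len_mul_pairing, len_mul_pairing, rootForm_comm]

theorem len_pos [Fintype ι] (i : ι) : 0 < P.RootForm (P.root i) (P.root i) :=
  P.rootForm_pos_of_ne_zero (Submodule.subset_span (Set.mem_range_self i)) (P.ne_zero i)

theorem root_mem_rootSpan (i : ι) : P.root i ∈ P.rootSpan ℤ :=
  Submodule.subset_span (Set.mem_range_self i)

theorem coxeter_le_four [Finite ι] (i j : ι) :
    P.pairing i j * P.pairing j i ∈ ({0, 1, 2, 3, 4} : Set ℤ) := by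
  have h := P.coxeterWeightIn_mem_set_of_isCrystallographic i j
  have h2 : P.coxeterWeightIn ℤ i j = P.pairing i j * P.pairing j i := by
    have := P.algebraMap_coxeterWeightIn ℤ i j
    simpa [coxeterWeight] using this
  rwa [h2] at h

theorem smul_idx_root (g : P.Aut) (i : ι) : P.root (g • i) = g • P.root i :=
  RootPairing.Equiv.root_indexEquiv_eq_smul (P := P) i g

theorem reflection_smul_idx (i k : ι) :
    RootPairing.Equiv.reflection P i • k = P.reflectionPerm i k := rfl

end Groth.Agent.Lib.Helper21
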