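import Groth.Prelude.Def_W4sga3xxiRoot
import Groth.Agent.Lib.Helper21.RootLen
import Mathlib.Tactic

set_option autoImplicit false

namespace Groth.Agent.Lib.Helper21

open RootPairing RootD

variable {ι M N : Type*} [AddCommGroup M] [AddCommGroup N] (P : RootPairing ι ℤ M N)

theorem rootForm_weyl_invariant [Fintype ι] (g : P.Aut) (hg : g ∈ P.weylGroup) (x y : M) :
    P.RootForm (g • x) (g • y) = P.RootForm x y := by
  induction hg using RootPairing.weylGroup.induction generalizing x y with
  | mem i => simp only [Equiv.reflection_smul, P.rootForm_reflection_reflection_apply]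
  | one => simp only [one_smul]
  | mul a b ha hb iha ihb => rw [mul_smul, mul_smul, iha, ihb]

theorem len_weyl_invariant [Fintype ι] (g : P.Aut) (hg : g ∈ P.weylGroup) (i : ι) :
    P.RootForm (P.root (g • i)) (P.root (g • i)) = P.RootForm (P.root i) (P.root i) := by
  rw [smul_idx_root, rootForm_weyl_invariant P g hg]

/-- The orbit of an index under the Weyl group. -/
def weylOrbit (i : ι) : Set ι := {o | ∃ g ∈ P.weylGroup, g • i = o}

theorem self_mem_weylOrbit (i : ι) : i ∈ weylOrbit P i := ⟨1, one_mem _, one_smul _ _⟩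

theorem reflectionPerm_mem_weylOrbit (i k o : ι) (ho : o ∈ weylOrbit P i) :
    P.reflectionPerm k o ∈ weylOrbit P i := by
  obtain ⟨g, hg, rfl⟩ := ho
  exact ⟨Equiv.reflection P k * g, mul_mem (P.reflection_mem_weylGroup k) hg, by
    rw [mul_smul]; rfl⟩

/-- The set of indices not orthogonal to some element of the orbit. -/
def nonOrth (i : ι) : Set ι := {k | ∃ o ∈ weylOrbit P i, ¬ P.IsOrthogonal o k}

theorem orth_iff [Finite ι] (o k : ι) : P.IsOrthogonal o k ↔ P.pairing o k = 0 := by
  have htf : Module.IsTorsionFree ℤ M := torsionFreeM P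
  exact RootPairing.isOrthogonal_iff_pairing_eq_zero

theorem orth_iff' [Finite ι] (o k : ι) : P.IsOrthogonal o k ↔ P.pairing k o = 0 := by
  rw [RootPairing.isOrthogonal_symm, orth_iff]

theorem mem_nonOrth_compl [Finite ι] (i k : ι) :
    k ∈ (nonOrth P i)ᶜ ↔ ∀ o ∈ weylOrbit P i, P.IsOrthogonal o k := by
  simp only [nonOrth, Set.mem_compl_iff, Set.mem_ofPred_eq, not_exists, not_and, not_not]

theorem nonOrth_symm [Finite ι] (i : ι) : IsSymmSub P (nonOrth P i) := by
  rintro k ⟨o, ho, hok⟩
  refine ⟨o, ho, ?_⟩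
  rw [orth_iff] at hok ⊢
  rw [P.pairing_reflectionPerm_self_right]
  simpa using hok

theorem nonOrth_compl_symm [Finite ι] (i : ι) : IsSymmSub P (nonOrth P i)ᶜ := by
  intro k hk
  rw [mem_nonOrth_compl] at hk ⊢
  intro o ho
  have := hk o ho
  rw [orth_iff] at this ⊢
  rw [P.pairing_reflectionPerm_self_right, this, neg_zero]

theorem nonOrth_compl_closed [Finite ι] (i : ι) : IsClosedSub P (nonOrth P i)ᶜ := by
  intro k1 k2 k hk1 hk2 hk
  rw [mem_nonOrth_compl] at hk1 hk2 ⊢
  intro o ho
  have h1 := hk1 o ho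
  have h2 := hk2 o ho
  rw [orth_iff'] at h1 h2 ⊢
  rw [RootPairing.pairing_eq_add_of_root_eq_add hk, h1, h2, add_zero]

theorem exists_smul_mem_span [Finite ι] (i k : ι) (hk : k ∈ nonOrth P i) :
    ∃ n : ℤ, n ≠ 0 ∧ n • P.root k ∈ Submodule.span ℤ (P.root '' weylOrbit P i) := by
  obtain ⟨o, ho, hok⟩ := hk
  rw [orth_iff] at hok
  refine ⟨P.pairing o k, hok, ?_⟩
  have h1 : P.pairing o k • P.root k = P.root o - P.root (P.reflectionPerm k o) := by
    rw [P.root_reflectionPerm, P.reflection_apply_root]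
    abel
  rw [h1]
  exact Submodule.sub_mem _ (Submodule.subset_span ⟨o, ho, rfl⟩)
    (Submodule.subset_span ⟨_, reflectionPerm_mem_weylOrbit P i k o ho, rfl⟩)

theorem nonOrth_closed [Finite ι] (i : ι) : IsClosedSub P (nonOrth P i) := by
  classical
  let _ : Fintype ι := Fintype.ofFinite ι
  intro k1 k2 k hk1 hk2 hk
  by_contra hkn
  have hkc : k ∈ (nonOrth P i)ᶜ := hkn
  rw [mem_nonOrth_compl] at hkc
  obtain ⟨n1, hn1, hs1⟩ := exists_smul_mem_span P i k1 hk1
  obtain ⟨n2, hn2, hs2⟩ := exists_smul_mem_span P i k2 hk2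
  have hs : (n1 * n2) • P.root k ∈ Submodule.span ℤ (P.root '' weylOrbit P i) := by
    have h0 : (n1 * n2) • P.root k = n2 • (n1 • P.root k1) + n1 • (n2 • P.root k2) := by
      rw [hk]; module
    rw [h0]
    exact Submodule.add_mem _ (Submodule.smul_mem _ _ hs1) (Submodule.smul_mem _ _ hs2)
  have hzero : ∀ s ∈ Submodule.span ℤ (P.root '' weylOrbit P i), P.RootForm (P.root k) s = 0 := by
    intro s hs
    induction hs using Submodule.span_induction with
    | mem x hx =>
      obtain ⟨o, ho, rfl⟩ := hx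
      have h1 := hkc o ho
      rw [orth_iff] at h1
      have h2 := len_mul_pairing P k o
      rw [h1, mul_zero] at h2
      linarith
    | zero => simp
    | add x y _ _ hx hy => rw [map_add, hx, hy, add_zero]
    | smul a x _ hx => rw [map_smul, hx, smul_zero]
  have h3 := hzero _ hs
  rw [map_smul, smul_eq_mul] at h3
  have h4 := len_pos P k
  rcases mul_eq_zero.mp h3 with h5 | h5
  · exact mul_ne_zero hn1 hn2 h5
  · exact h4.ne' h5

end Groth.Agent.Lib.Helper21
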