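import Groth.Agent.Lib.Helper21.RootWeyl
import Groth.Agent.S5480
import Mathlib.Tactic

set_option autoImplicit false

namespace Groth.Agent.Lib.Helper21

open RootPairing RootD
open Groth.Agent.Lib.Helper16 (co co_simple co_add co_sub co_sign mem_posOf_iff co_ne_zero
  mem_posOf_iff_exists_pos co_reflection root_smul smul_negIdx pos_dichotomy simple_mem_posOf
  not_mem_posOf_iff root_negIdx negIdx_negIdx negIdx_mem_posOf_iff coV_nonneg_of_mem_natSpan
  natSpan_le_spanΔ spanΔ rootV coV_nsmul co_def mem_natSpan_iff_finsupp coV_injective coV_zsmul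
  pairing_pos_symm exists_simpleSys_posOf_eq simpleSys_eq_of_posOf_eq)

section general

variable {ι M N : Type*} [AddCommGroup M] [AddCommGroup N] {P : RootPairing ι ℤ M N} [Finite ι]
variable {Δ : Set ι} (hΔ : IsSimpleSys P Δ)

include hΔ in
theorem posOf_isPosSys : IsPosSys P (posOf P Δ) := by
  refine ⟨?_, ?_, ?_⟩
  · intro i hi hni
    obtain ⟨l, hl⟩ := (mem_posOf_iff_exists_pos hΔ i).mp hi
    have := (negIdx_mem_posOf_iff hΔ i).mp hni l
    omega
  · intro i
    by_cases hi : i ∈ posOf P Δ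
    · exact Or.inl hi
    · exact Or.inr ((not_mem_posOf_iff hΔ i).mp hi)
  · intro k n hn hk
    have hle : natSpan P (posOf P Δ) ≤ natSpan P Δ := by
      unfold natSpan
      rw [AddSubmonoid.closure_le]
      rintro _ ⟨j, hj, rfl⟩
      exact hj
    have hk' := hle hk
    rw [mem_posOf_iff hΔ]
    intro l
    have h1 := coV_nonneg_of_mem_natSpan hΔ _ hk' l
    have h2 : (⟨n • P.root k, natSpan_le_spanΔ P Δ hk'⟩ : spanΔ P Δ) = n • rootV hΔ k := rfl
    rw [h2, coV_nsmul, Finsupp.smul_apply, ← co_def] at h1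
    rw [nsmul_eq_mul] at h1
    have hn' : (0 : ℤ) < n := by exact_mod_cast hn
    exact nonneg_of_mul_nonneg_right h1 hn'

/-- The elements of `S` whose reflection maps every other element of `S` into `S`. -/
def simp (P : RootPairing ι ℤ M N) (S : Set ι) : Set ι :=
  {i | i ∈ S ∧ ∀ k ∈ S, k ≠ i → P.reflectionPerm i k ∈ S}

include hΔ in
theorem root_eq_smul_of_forall_eq_zero (i : ι) (j : ι) (hj : j ∈ Δ)
    (h : ∀ l : Δ, l ≠ ⟨j, hj⟩ → co hΔ i l = 0) : P.root i = co hΔ i ⟨j, hj⟩ • P.root j := by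
  classical
  have hco : co hΔ i = (co hΔ i ⟨j, hj⟩) • co hΔ j := by
    rw [co_simple hΔ j hj]
    ext l
    rw [Finsupp.smul_apply, Finsupp.single_apply]
    by_cases hl : (⟨j, hj⟩ : Δ) = l
    · rw [if_pos hl, ← hl]; simp
    · rw [if_neg hl, h l (Ne.symm hl)]; simp
  rw [co_def, co_def hΔ j, ← coV_zsmul] at hco
  have h1 := coV_injective hΔ hco
  exact congrArg Subtype.val h1

include hΔ in
theorem simp_posOf [P.IsReduced] : simp P (posOf P Δ) = Δ := by
  classical
  have htf : Module.IsTorsionFree ℤ M := torsionFreeM P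
  ext i
  constructor
  · rintro ⟨hi, hrefl⟩
    by_contra hiΔ
    obtain ⟨j, hj, hpair, hco⟩ := exists_simple_pairing_pos hΔ i hi
    have hji : j ≠ i := by rintro rfl; exact hiΔ hj
    have hjpos : j ∈ posOf P Δ := simple_mem_posOf j hj
    have hsj := hrefl j hjpos hji
    have hp : 0 < P.pairing j i := pairing_pos_symm P i j hpair
    have hex : ∃ l : Δ, l ≠ ⟨j, hj⟩ ∧ 0 < co hΔ i l := by
      by_contra hne
      push Not at hne
      have hi0 := (mem_posOf_iff hΔ i).mp hi
      have hzero : ∀ l : Δ, l ≠ ⟨j, hj⟩ → co hΔ i l = 0 := fun l hl =>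
        le_antisymm (hne l hl) (hi0 l)
      have hroot := root_eq_smul_of_forall_eq_zero hΔ i j hj hzero
      have := (Groth.Agent.S5480.pos_smul_root_eq P 1 (co hΔ i ⟨j, hj⟩) one_pos hco i j
        (by rw [one_smul]; exact hroot)).1
      exact hji this.symm
    obtain ⟨l, hl, hlpos⟩ := hex
    have h1 := (mem_posOf_iff hΔ _).mp hsj l
    rw [co_reflection, co_simple hΔ j hj, Finsupp.sub_apply, Finsupp.smul_apply,
      Finsupp.single_apply, if_neg (Ne.symm hl), smul_eq_mul] at h1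
    nlinarith
  · intro hi
    refine ⟨simple_mem_posOf i hi, ?_⟩
    intro k hk hki
    rcases pos_dichotomy hΔ i hi k hk with h | h | h
    · exact h
    · exact absurd h hki
    · exfalso
      have := (Groth.Agent.S5480.pos_smul_root_eq P 1 2 one_pos two_pos k i
        (by rw [one_smul]; exact h)).2
      norm_num at this

end general

section pmorph

variable {ι M N ι' M' N' : Type*} [AddCommGroup M] [AddCommGroup N] [AddCommGroup M']
  [AddCommGroup N'] (P : RootPairing ι ℤ M N) (P' : RootPairing ι' ℤ M' N') [Finite ι] [Finite ι']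

/-- The data of a p-morphism (without reducedness). -/
structure PM (f : M' →ₗ[ℤ] M) (g : N →ₗ[ℤ] N') (u : ι ≃ ι') (q : ι → ℕ) : Prop where
  hfg : ∀ (m' : M') (n : N), P.toLinearMap (f m') n = P'.toLinearMap m' (g n)
  hq : ∀ i, 0 < q i
  hroot : ∀ i : ι, f (P'.root (u i)) = (q i : ℤ) • P.root i
  hcoroot : ∀ i : ι, g (P.coroot i) = (q i : ℤ) • P'.coroot (u i)
  hrefl : ∀ i j : ι, u (P.reflectionPerm i j) = P'.reflectionPerm (u i) (u j)

variable {P P'} {f : M' →ₗ[ℤ] M} {g : N →ₗ[ℤ] N'} {u : ι ≃ ι'} {q : ι → ℕ}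
  (h : PM P P' f g u q)

include h in
theorem PM.f_inj (x : M') (hx : x ∈ P'.rootSpan ℤ) (hfx : f x = 0) : x = 0 := by
  classical
  let _ : Fintype ι' := Fintype.ofFinite ι'
  have hzero : ∀ j' : ι', P'.coroot' j' x = 0 := by
    intro j'
    obtain ⟨j, rfl⟩ := u.surjective j'
    have h1 := h.hfg x (P.coroot j)
    rw [hfx, h.hcoroot, map_smul, smul_eq_mul] at h1
    simp only [map_zero, LinearMap.zero_apply] at h1
    have hq := h.hq j
    have hq' : (q j : ℤ) ≠ 0 := by exact_mod_cast hq.ne'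
    rcases mul_eq_zero.mp h1.symm with h2 | h2
    · exact absurd h2 hq'
    · exact h2
  have hform : P'.RootForm x x = 0 := by
    rw [P'.rootForm_apply_apply]
    exact Finset.sum_eq_zero (fun i _ => by rw [hzero i, mul_zero])
  exact P'.eq_zero_of_mem_rootSpan_of_rootForm_self_eq_zero hx hform

include h in
theorem PM.f_natSpan (S : Set ι) (x : M') (hx : x ∈ natSpan P' (u '' S)) : f x ∈ natSpan P S := by
  unfold natSpan at hx
  induction hx using AddSubmonoid.closure_induction with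
  | mem y hy =>
    obtain ⟨_, ⟨l, hl, rfl⟩, rfl⟩ := hy
    rw [h.hroot, natCast_zsmul]
    have hmem : P.root l ∈ natSpan P S :=
      AddSubmonoid.subset_closure (⟨l, hl, rfl⟩ : P.root l ∈ P.root '' S)
    exact AddSubmonoid.nsmul_mem _ hmem _
  | zero => rw [map_zero]; exact AddSubmonoid.zero_mem _
  | add a b _ _ ha hb => rw [map_add]; exact AddSubmonoid.add_mem _ ha hb

include h in
theorem PM.u_neg (i : ι) : u (P.reflectionPerm i i) = P'.reflectionPerm (u i) (u i) := h.hrefl i i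

include h in
theorem PM.pos_fwd (S : Set ι) (hS : IsPosSys P S) : IsPosSys P' (u '' S) := by
  refine ⟨?_, ?_, ?_⟩
  · rintro _ ⟨i, hi, rfl⟩ ⟨j, hj, hji⟩
    rw [← h.u_neg] at hji
    have := u.injective hji
    rw [this] at hj
    exact hS.disjoint hi hj
  · intro i'
    obtain ⟨i, rfl⟩ := u.surjective i'
    rcases hS.cover i with hi | hi
    · exact Or.inl ⟨i, hi, rfl⟩
    · right
      rw [← h.u_neg]
      exact ⟨_, hi, rfl⟩
  · intro k' n hn hk'
    obtain ⟨k, rfl⟩ := u.surjective k'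
    refine ⟨k, ?_, rfl⟩
    have h1 := h.f_natSpan S _ hk'
    rw [map_nsmul, h.hroot, natCast_zsmul, ← mul_nsmul] at h1
    exact hS.sat (q k * n) (Nat.mul_pos (h.hq k) hn) h1

include h in
theorem PM.pos_bwd (S : Set ι) (hS : IsPosSys P' (u '' S)) : IsPosSys P S := by
  classical
  let _ : Fintype ι := Fintype.ofFinite ι
  refine ⟨?_, ?_, ?_⟩
  · intro i hi hni
    apply hS.disjoint ⟨i, hi, rfl⟩
    rw [← h.u_neg]
    exact ⟨_, hni, rfl⟩
  · intro i
    rcases hS.cover (u i) with hi | hi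
    · left
      obtain ⟨j, hj, hji⟩ := hi
      rwa [← u.injective hji]
    · right
      rw [← h.u_neg] at hi
      obtain ⟨j, hj, hji⟩ := hi
      rwa [← u.injective hji]
  · intro k n hn hk
    obtain ⟨c, hc, hck⟩ := (mem_natSpan_iff_finsupp P S _).mp hk
    let t : ι → ℕ := fun l => ∏ l' ∈ Finset.univ.erase l, q l'
    let T : ℕ := ∏ l', q l'
    have htT : ∀ l, q l * t l = T := fun l => Finset.mul_prod_erase Finset.univ q (Finset.mem_univ l)
    have htpos : ∀ l, 0 < t l := fun l => Finset.prod_pos (fun l' _ => h.hq l')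
    have hy : (∑ l ∈ c.support, (c l * t l) • P'.root (u l)) ∈ natSpan P' (u '' S) := by
      apply AddSubmonoid.sum_mem
      intro l hl
      have hmem : P'.root (u l) ∈ natSpan P' (u '' S) :=
        AddSubmonoid.subset_closure
          (⟨u l, ⟨l, hc hl, rfl⟩, rfl⟩ : P'.root (u l) ∈ P'.root '' (u '' S))
      exact AddSubmonoid.nsmul_mem _ hmem _
    have heq : (n * t k) • P'.root (u k) = ∑ l ∈ c.support, (c l * t l) • P'.root (u l) := by
      rw [← sub_eq_zero]
      apply h.f_inj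
      · apply Submodule.sub_mem
        · exact Submodule.smul_of_tower_mem _ _ (root_mem_rootSpan P' _)
        · exact Submodule.sum_mem _ (fun l _ =>
            Submodule.smul_of_tower_mem _ _ (root_mem_rootSpan P' _))
      · rw [map_sub, map_nsmul, h.hroot, map_sum, sub_eq_zero]
        have h1 : ∀ l ∈ c.support, f ((c l * t l) • P'.root (u l)) = T • (c l • P.root l) := by
          intro l _
          rw [map_nsmul, h.hroot, natCast_zsmul, ← mul_nsmul, ← mul_nsmul, ← htT l]
          congr 1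
          ring
        rw [Finset.sum_congr rfl h1, ← Finset.smul_sum]
        have h2 : ∑ l ∈ c.support, c l • P.root l = n • P.root k := by
          rw [← hck, Finsupp.linearCombination_apply, Finsupp.sum]
        rw [h2, natCast_zsmul, ← mul_nsmul, ← mul_nsmul, ← htT k]
        congr 1
        ring
    rw [← heq] at hy
    obtain ⟨j, hj, hjk⟩ := hS.sat (n * t k) (Nat.mul_pos hn (htpos k)) hy
    rwa [← u.injective hjk]

include h in
theorem PM.simp_image (S : Set ι) : u '' (simp P S) = simp P' (u '' S) := by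
  ext i'
  constructor
  · rintro ⟨i, ⟨hi, hrefl⟩, rfl⟩
    refine ⟨⟨i, hi, rfl⟩, ?_⟩
    rintro _ ⟨k, hk, rfl⟩ hne
    rw [← h.hrefl]
    exact ⟨_, hrefl k hk (fun hki => hne (by rw [hki])), rfl⟩
  · rintro ⟨⟨i, hi, rfl⟩, hrefl⟩
    refine ⟨i, ⟨hi, ?_⟩, rfl⟩
    intro k hk hne
    have := hrefl (u k) ⟨k, hk, rfl⟩ (fun hki => hne (u.injective hki))
    rw [← h.hrefl] at this
    obtain ⟨j, hj, hjk⟩ := this
    rwa [← u.injective hjk]

include h in
theorem PM.simple_fwd [P.IsReduced] [P'.IsReduced] (Δ : Set ι) (hΔ : IsSimpleSys P Δ) :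
    IsSimpleSys P' (u '' Δ) ∧ posOf P' (u '' Δ) = u '' posOf P Δ := by
  have hpos := h.pos_fwd _ (posOf_isPosSys hΔ)
  obtain ⟨Δ', hΔ', hposΔ'⟩ := exists_simpleSys_posOf_eq hpos
  have h1 : Δ' = u '' Δ := by
    rw [← simp_posOf hΔ', hposΔ', ← h.simp_image, simp_posOf hΔ]
  rw [← h1]
  exact ⟨hΔ', hposΔ'⟩

include h in
theorem PM.simple_bwd [P.IsReduced] [P'.IsReduced] (Δ : Set ι) (hΔ : IsSimpleSys P' (u '' Δ)) :
    IsSimpleSys P Δ := by
  have hpos' := posOf_isPosSys hΔ
  have hS : u '' (u.symm '' posOf P' (u '' Δ)) = posOf P' (u '' Δ) := by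
    rw [Set.image_image]
    simp
  rw [← hS] at hpos'
  have hpos := h.pos_bwd _ hpos'
  obtain ⟨Δ0, hΔ0, hposΔ0⟩ := exists_simpleSys_posOf_eq hpos
  obtain ⟨h1, h2⟩ := h.simple_fwd Δ0 hΔ0
  rw [hposΔ0, hS] at h2
  have h3 := simpleSys_eq_of_posOf_eq h1 hΔ h2
  have h4 : Δ0 = Δ := by
    apply Set.image_injective.mpr u.injective
    exact h3
  rw [← h4]
  exact hΔ0

end pmorph

end Groth.Agent.Lib.Helper21
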