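import Groth.Agent.Lib.Helper16.RootD
import Groth.Agent.Lib.Helper21.RootLen
import Mathlib.Tactic

set_option autoImplicit false

namespace Groth.Agent.Lib.Helper21

open RootPairing RootD
open Groth.Agent.Lib.Helper16 (co co_simple co_add co_sub co_sign mem_posOf_iff co_ne_zero
  mem_posOf_iff_exists_pos co_def coV coV_injective bas bas_apply rootV spanΔ)

variable {ι M N : Type*} [AddCommGroup M] [AddCommGroup N] {P : RootPairing ι ℤ M N}
variable {Δ : Set ι} (hΔ : IsSimpleSys P Δ)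

theorem pairing_eq [Finite ι] (i j : ι) : P.pairingIn ℤ i j = P.pairing i j := by
  simpa using P.algebraMap_pairingIn ℤ i j

theorem root_eq_sum (k : ι) :
    P.root k = ∑ l ∈ (co hΔ k).support, co hΔ k l • P.root (l : ι) := by
  have h2 := (bas hΔ).linearCombination_repr (rootV hΔ k)
  have h3 := congrArg (Subtype.val) h2
  rw [Finsupp.linearCombination_apply, Finsupp.sum] at h3
  have h4 : ((rootV hΔ k : spanΔ P Δ) : M) = P.root k := rfl
  rw [h4] at h3
  rw [← h3]
  simp only [AddSubmonoidClass.coe_finsetSum, Submodule.coe_smul]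
  apply Finset.sum_congr rfl
  intro l _
  rw [bas_apply]
  rfl

/-- The height of a root relative to a simple system. -/
noncomputable def ht (k : ι) : ℤ := (co hΔ k).sum (fun _ a => a)

theorem ht_add {i j k : ι} (h : P.root k = P.root i + P.root j) :
    ht hΔ k = ht hΔ i + ht hΔ j := by
  unfold ht
  rw [co_add hΔ h]
  exact Finsupp.sum_add_index' (fun _ => rfl) (fun _ _ _ => rfl)

theorem ht_simple (i : ι) (hi : i ∈ Δ) : ht hΔ i = 1 := by
  unfold ht
  rw [co_simple hΔ i hi]
  simp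

theorem ht_nonneg_of_pos (k : ι) (hk : k ∈ posOf P Δ) : 0 ≤ ht hΔ k := by
  unfold ht
  exact Finsupp.sum_nonneg (fun l _ => (mem_posOf_iff hΔ k).mp hk l)

theorem exists_simple_pairing_pos [Finite ι] (k : ι) (hk : k ∈ posOf P Δ) :
    ∃ i, ∃ hi : i ∈ Δ, 0 < P.pairing k i ∧ 0 < co hΔ k ⟨i, hi⟩ := by
  classical
  let _ : Fintype ι := Fintype.ofFinite ι
  have hpos := len_pos P k
  have hsum : P.RootForm (P.root k) (P.root k) =
      ∑ l ∈ (co hΔ k).support, co hΔ k l * P.RootForm (P.root k) (P.root (l : ι)) := by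
    have h0 : P.RootForm (P.root k) (P.root k) = P.RootForm (P.root k)
        (∑ l ∈ (co hΔ k).support, co hΔ k l • P.root (l : ι)) := by
      rw [← root_eq_sum hΔ k]
    rw [h0, map_sum]
    apply Finset.sum_congr rfl
    intro l _
    rw [map_smul, smul_eq_mul]
  rw [hsum] at hpos
  obtain ⟨l, _, hl⟩ := Finset.exists_lt_of_sum_lt (s := (co hΔ k).support)
    (f := fun _ => (0 : ℤ)) (by simpa using hpos)
  have hc0 := (mem_posOf_iff hΔ k).mp hk l
  have hcpos : 0 < co hΔ k l := by
    rcases hc0.lt_or_eq with h | h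
    · exact h
    · rw [← h, zero_mul] at hl; exact absurd hl (lt_irrefl _)
  have hB : 0 < P.RootForm (P.root k) (P.root (l : ι)) := by
    by_contra hneg
    push Not at hneg
    have := mul_nonpos_of_nonneg_of_nonpos hc0 hneg
    linarith
  refine ⟨l, l.2, ?_, hcpos⟩
  have h1 := len_mul_pairing P (l : ι) k
  rw [rootForm_comm P (P.root (l : ι)) (P.root k)] at h1
  have h2 := len_pos P (l : ι)
  by_contra hneg
  push Not at hneg
  have := mul_nonpos_of_nonneg_of_nonpos h2.le hneg
  linarith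

theorem pos_step [Finite ι] (k : ι) (hk : k ∈ posOf P Δ) :
    k ∈ Δ ∨ ∃ i, ∃ hi : i ∈ Δ, ∃ k' ∈ posOf P Δ, P.root k = P.root k' + P.root i ∧
      0 < co hΔ k ⟨i, hi⟩ ∧ 0 < P.pairing k i := by
  classical
  obtain ⟨i, hi, hpair, hco⟩ := exists_simple_pairing_pos hΔ k hk
  by_cases hki : k = i
  · left; rw [hki]; exact hi
  right
  have hmem : P.root k - P.root i ∈ Set.range P.root := by
    apply P.root_sub_root_mem_of_pairingIn_pos _ hki
    rw [pairing_eq]; exact hpair
  obtain ⟨k', hk'⟩ := hmem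
  have hk'' : P.root k = P.root k' + P.root i := by rw [hk']; abel
  refine ⟨i, hi, k', ?_, hk'', hco, hpair⟩
  rw [mem_posOf_iff hΔ]
  intro l
  have h1 := co_sub hΔ hk'
  rw [h1, co_simple hΔ i hi, Finsupp.sub_apply, Finsupp.single_apply]
  have hc0 := (mem_posOf_iff hΔ k).mp hk l
  by_cases hl : (⟨i, hi⟩ : Δ) = l
  · rw [if_pos hl, ← hl]; omega
  · rw [if_neg hl]; omega

theorem posOf_induction [Finite ι] {p : ι → Prop} (simple : ∀ i ∈ Δ, p i)
    (add : ∀ k' i k, k' ∈ posOf P Δ → ∀ hi : i ∈ Δ, k ∈ posOf P Δ → P.root k = P.root k' + P.root i →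
      0 < co hΔ k ⟨i, hi⟩ → 0 < P.pairing k i → p k' → p k) :
    ∀ k ∈ posOf P Δ, p k := by
  have key : ∀ n : ℕ, ∀ k ∈ posOf P Δ, (ht hΔ k).toNat = n → p k := by
    intro n
    induction n using Nat.strong_induction_on with
    | _ n ih =>
      intro k hk hn
      rcases pos_step hΔ k hk with h | ⟨i, hi, k', hk', hroot, hco, hpair⟩
      · exact simple k h
      · have hht := ht_add hΔ hroot
        rw [ht_simple hΔ i hi] at hht
        have h0 := ht_nonneg_of_pos hΔ k' hk'
        refine add k' i k hk' hi hk hroot hco hpair (ih (ht hΔ k').toNat ?_ k' hk' rfl)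
        omega
  intro k hk
  exact key _ k hk rfl

theorem co_eq_zero_of_mem_span (S : Set ι) (hS : S ⊆ Δ) (k : ι)
    (hk : P.root k ∈ Submodule.span ℤ (P.root '' S)) (l : Δ) (hl : (l : ι) ∉ S) :
    co hΔ k l = 0 := by
  classical
  have h1 : (rootV hΔ k) ∈ Submodule.span ℤ ((bas hΔ) '' {l : Δ | (l : ι) ∈ S}) := by
    have h2 : (Submodule.span ℤ ((bas hΔ) '' {l : Δ | (l : ι) ∈ S})).map (spanΔ P Δ).subtype =
        Submodule.span ℤ (P.root '' S) := by
      rw [Submodule.map_span, ← Set.image_comp]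
      congr 1
      ext x
      constructor
      · rintro ⟨l, hl, rfl⟩
        exact ⟨l, hl, (bas_apply hΔ l).symm⟩
      · rintro ⟨j, hj, rfl⟩
        exact ⟨⟨j, hS hj⟩, hj, bas_apply hΔ _⟩
    rw [← h2] at hk
    obtain ⟨y, hy, hyk⟩ := hk
    have : y = rootV hΔ k := Subtype.ext hyk
    rwa [← this]
  rw [Module.Basis.mem_span_image] at h1
  by_contra hne
  have : l ∈ ((bas hΔ).repr (rootV hΔ k)).support := Finsupp.mem_support_iff.mpr hne
  exact hl (h1 this)

theorem exists_co_pos (k : ι) (hk : k ∈ posOf P Δ) : ∃ l, 0 < co hΔ k l :=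
  (mem_posOf_iff_exists_pos hΔ k).mp hk

theorem not_mixed (k : ι) (l l' : Δ) (h1 : 0 < co hΔ k l) (h2 : co hΔ k l' < 0) : False := by
  rcases co_sign hΔ k with h | h
  · exact absurd (h l') (not_le.mpr h2)
  · exact absurd (h l) (not_le.mpr h1)

end Groth.Agent.Lib.Helper21
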