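import Groth.Agent.Lib.Helper21.DevSummand
import Groth.Agent.Lib.Helper21.ArtinReesS
import Groth.Agent.Lib.Helper21.ClImmSupport
import Mathlib.CategoryTheory.Limits.Constructions.FiniteProductsOfBinaryProducts

/-!
# Dévissage with kernels, extensions and `d`-th roots (helper21)

* `stalkMap_kernelι_surjective`, `stalkMap_idealMulι_bijective`: `J · A ⟶ A` is bijective on stalks
  away from `V(J)`.
* `powIsoSigma`: `pow Q n ≅ ∐ fun _ : Fin n => Q`.
* `rank_lemma_root`, the irreducible step for classes closed under kernels of epimorphisms,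
  extensions and `d`-th roots.
-/

set_option autoImplicit false
set_option linter.style.haveILetI false
universe u
open AlgebraicGeometry CategoryTheory Opposite TopologicalSpace Limits

namespace Groth.Agent.Lib.Helper21.RootStep

open Groth.Agent.Lib.Helper78.ModStalk Groth.Agent.Lib.Helper78.ModStalkExact
  Groth.Agent.Lib.Helper21.CohStalkLocal Groth.Agent.Lib.Helper21.StalkLen
  Groth.Agent.Lib.Helper21.SimpleAlg Groth.Agent.Lib.Helper21.SpreadOut
  Groth.Agent.Lib.Helper21.Devissage Groth.Agent.Lib.Helper21.StalkBiprod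
  Groth.Agent.Lib.Helper21.SemisimpleAlg Groth.Agent.Lib.Helper21.DevSummand

variable {X : Scheme.{u}}

/-- The kernel of a morphism to a module with zero stalk at `x` is everything at `x`. -/
theorem stalkMap_kernelι_surjective {A B : X.Modules} (v : A ⟶ B) (x : X)
    (hB : x ∉ CohB1.support B) : Function.Surjective (stalkMap (kernel.ι v) x) := by
  have hex := stalk_function_exact (kerSeq v) (kerSeq_shortExact v) x
  have hsub : x ∉ CohB1.support (kerSeq v).X₃ := by
    rw [support_eq_of_iso (coimIsoIm v)]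
    haveI : Mono (kernel.ι (cokernel.π v)) := inferInstance
    exact fun h => hB (support_of_mono (kernel.ι (cokernel.π v)) h)
  have hss : Subsingleton ((kerSeq v).X₃.presheaf.stalk x) := not_not.mp hsub
  intro a
  exact (hex a).mp (Subsingleton.elim _ _)

theorem stalkMap_idealMulι_bijective (J : X.IdealSheafData) (A : X.Modules) (x : X)
    (hx : x ∉ (J.support : Set X)) :
    Function.Bijective (stalkMap (Dual3.idealMulι J A) x) := by
  refine ⟨stalkMap_injective_of_mono _ x, ?_⟩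
  refine stalkMap_kernelι_surjective
    ((Scheme.Modules.pullbackPushforwardAdjunction J.subschemeι).unit.app A) x (fun h => hx ?_)
  have hr : Set.range J.subschemeι = (J.support : Set X) := J.range_subschemeι
  have hcl : IsClosed (Set.range J.subschemeι) := by
    rw [hr]
    exact J.support.isClosed
  have := Groth.Agent.Lib.Helper21.ClImmSupport.support_pushforward_subset_range J.subschemeι hcl
    ((Scheme.Modules.pullback J.subschemeι).obj A) h
  rwa [hr] at this

section Pow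

variable (Q : X.Modules)

theorem isZero_sigma_fin_zero : IsZero (∐ fun _ : Fin 0 => Q) := by
  rw [IsZero.iff_id_eq_zero]
  refine Sigma.hom_ext _ _ (fun i => i.elim0)

/-- `pow Q n` is the `n`-fold coproduct. -/
theorem nonempty_pow_iso_sigma (n : ℕ) : Nonempty (pow Q n ≅ ∐ fun _ : Fin n => Q) := by
  induction n with
  | zero => exact ⟨(pow_zero_isZero Q).iso (isZero_sigma_fin_zero Q)⟩
  | succ n ih =>
    obtain ⟨e⟩ := ih
    let f : Fin (n + 1) → X.Modules := fun _ => Q
    let c₁ : Cofan (fun i : Fin n => f i.succ) := Cofan.mk (∐ fun _ : Fin n => Q)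
      (Sigma.ι (fun _ : Fin n => Q))
    have t₁ : IsColimit c₁ := coproductIsCoproduct _
    let c₂ : BinaryCofan (f 0) c₁.pt := BinaryCofan.mk (biprod.inl : Q ⟶ Q ⊞ ∐ fun _ : Fin n => Q)
      biprod.inr
    have t₂ : IsColimit c₂ := BinaryBiproduct.isColimit Q (∐ fun _ : Fin n => Q)
    have t := extendCofanIsColimit f t₁ t₂
    have e1 : (Q ⊞ ∐ fun _ : Fin n => Q : X.Modules) ≅ ∐ f :=
      IsColimit.coconePointUniqueUpToIso t (colimit.isColimit _)
    exact ⟨biprod.mapIso (Iso.refl Q) e ≪≫ e1⟩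

end Pow

section Step

variable [IsNoetherian X] (Z₀ : Set X) (K : X.Modules → Prop)
  (hK : ∀ M N : X.Modules, Nonempty (M ≅ N) → K M → K N)
  (hL : ∀ S : ShortComplex X.Modules, S.ShortExact → Coh.IsCoh S.X₁ → Coh.IsCoh S.X₂ →
    Coh.IsCoh S.X₃ → K S.X₂ → K S.X₃ → K S.X₁)
  (hE : ∀ S : ShortComplex X.Modules, S.ShortExact → Coh.IsCoh S.X₁ → Coh.IsCoh S.X₂ →
    Coh.IsCoh S.X₃ → K S.X₁ → K S.X₃ → K S.X₂)
  (hroot : ∀ (F : X.Modules) (d : ℕ), 1 ≤ d → Coh.IsCoh F → K (∐ fun _ : Fin d => F) → K F)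
  (ξ : X) (hξ : closure {ξ} = Z₀)
  (IH : ∀ F : X.Modules, Coh.IsCoh F → CohB1.support F ⊆ Z₀ → ξ ∉ CohB1.support F → K F)
  (G : X.Modules) (hG : Coh.IsCoh G) (hGs : CohB1.support G ⊆ Z₀)
  (hkill : ∀ a ∈ IsLocalRing.maximalIdeal (X.presheaf.stalk ξ),
    ∀ t : G.presheaf.stalk ξ, a • t = 0)
  (hne : ξ ∈ CohB1.support G) (hKG : K G)

include hK hL hE hroot hξ IH hG hGs hkill hne hKG in
/-- A coherent module supported in `Z₀` with simple stalk at `ξ` lies in `K`. -/
theorem rank_lemma_root (Q : X.Modules) (hQ : Coh.IsCoh Q) (hQs : CohB1.support Q ⊆ Z₀)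
    (hQsimple : IsSimpleModule (X.presheaf.stalk ξ) (Q.presheaf.stalk ξ)) : K Q := by
  obtain ⟨r, hr⟩ := ENat.ne_top_iff_exists.mp
    (ne_of_lt (length_stalk_lt_top_of_support_subset G hG ξ (hξ ▸ hGs)))
  have hr0 : r ≠ 0 := by
    rintro rfl
    exact hne (Module.length_eq_zero_iff.mp hr.symm)
  obtain ⟨r', rfl⟩ := Nat.exists_eq_succ_of_ne_zero hr0
  have hT : Coh.IsCoh (pow Q (r' + 1)) := isCoh_pow hQ _
  have hTs : CohB1.support (pow Q (r' + 1)) ⊆ Z₀ := (support_pow_subset Q _).trans hQs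
  have hTlen : Module.length (X.presheaf.stalk ξ) ((pow Q (r' + 1)).presheaf.stalk ξ) =
      (r' + 1 : ℕ) := by
    rw [length_stalk_pow, Module.length_eq_one_iff.mpr hQsimple, mul_one]
  have hTk : ∀ a ∈ IsLocalRing.maximalIdeal (X.presheaf.stalk ξ),
      ∀ t : (pow Q (r' + 1)).presheaf.stalk ξ, a • t = 0 := fun a ha t =>
    stalk_pow_killed Q ξ a (fun t => smul_eq_zero_of_isSimpleModule _ a ha t) _ t
  obtain ⟨a⟩ := nonempty_linearEquiv_of_killed (IsLocalRing.maximalIdeal (X.presheaf.stalk ξ))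
    ((pow Q (r' + 1)).presheaf.stalk ξ) (G.presheaf.stalk ξ) hTk hkill
    (by rw [hTlen]; exact ENat.natCast_ne_top _) (hTlen.trans hr)
  haveI : (pow Q (r' + 1)).IsQuasicoherent := hT.1
  haveI : G.IsQuasicoherent := hG.1
  obtain ⟨H, p₁, p₂, c, hHq, hHf, hc, hb, hrel, -, hHsub, -⟩ :=
    exists_spread (pow Q (r' + 1)) G hT.2 hG.2 ξ a.toLinearMap
  have hH : Coh.IsCoh H := ⟨hHq, hHf⟩
  haveI : H.IsQuasicoherent := hHq
  have hHs : CohB1.support H ⊆ Z₀ := hHsub.trans (Set.union_subset hTs hGs)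
  have hb₂ : Function.Bijective (stalkMap p₂ ξ) := by
    constructor
    · intro h h' hh'
      rw [hrel, hrel] at hh'
      exact hb.1 (a.injective (hc.smul_left_cancel.mp hh'))
    · intro g
      obtain ⟨u, rfl⟩ := hc
      obtain ⟨h, hh⟩ := hb.2 (a.symm ((↑u⁻¹ : X.presheaf.stalk ξ) • g))
      refine ⟨h, ?_⟩
      rw [hrel, hh]
      simp [smul_smul]
  -- `K H`
  have hK₂ : K (kernel p₂) := IH _ (isCoh_kernel p₂ hH hG)
    ((support_kernel_subset p₂).trans hHs) (fun h => h (subsingleton_stalk_kernel p₂ ξ hb₂.1))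
  have hC₂ : K (cokernel p₂) := IH _ (isCoh_cokernel p₂ hH hG)
    ((support_cokernel_subset p₂).trans hGs)
    (fun h => h (subsingleton_stalk_cokernel p₂ ξ hb₂.2))
  have him : Coh.IsCoh (cokerSeq p₂).X₁ :=
    isCoh_kernel (cokernel.π p₂) hG (isCoh_cokernel p₂ hH hG)
  have hKim : K (cokerSeq p₂).X₁ :=
    hL (cokerSeq p₂) (cokerSeq_shortExact p₂) him hG (isCoh_cokernel p₂ hH hG) hKG hC₂
  have hcoim : Coh.IsCoh (kerSeq p₂).X₃ :=
    isCoh_cokernel (kernel.ι p₂) (isCoh_kernel p₂ hH hG) hH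
  have hKcoim : K (kerSeq p₂).X₃ := hK _ _ ⟨(coimIsoIm p₂).symm⟩ hKim
  have hKH : K H := hE (kerSeq p₂) (kerSeq_shortExact p₂) (isCoh_kernel p₂ hH hG) hH hcoim
    hK₂ hKcoim
  -- shrink `H` so that it embeds into `pow Q (r' + 1)`
  obtain ⟨J, hJξ, hJ⟩ := Groth.Agent.Lib.Helper21.ArtinReesS.exists_ideal_mono hH p₁ ξ
    (fun h => h (subsingleton_stalk_kernel p₁ ξ hb.1))
  haveI hmono : Mono (Dual3.idealMulι J H ≫ p₁) := hJ J le_rfl
  have hS : Coh.IsCoh ((Dual3.idealMul J).obj H) :=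
    ⟨inferInstance, Groth.Agent.Lib.Helper21.CohNoeth.isFiniteType_of_mono
      (Dual3.idealMulι J H) hHf⟩
  have hbJ := stalkMap_idealMulι_bijective J H ξ hJξ
  have hCJ : K (cokernel (Dual3.idealMulι J H)) := IH _ (isCoh_cokernel _ hS hH)
    ((support_cokernel_subset _).trans hHs)
    (fun h => h (subsingleton_stalk_cokernel _ ξ hbJ.2))
  have hSE₁ : (ShortComplex.mk (Dual3.idealMulι J H) (cokernel.π (Dual3.idealMulι J H))
      (cokernel.condition _)).ShortExact :=
    ShortComplex.ShortExact.mk' (ShortComplex.exact_cokernel _) inferInstance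
      (inferInstanceAs (Epi (cokernel.π (Dual3.idealMulι J H))))
  have hKS : K ((Dual3.idealMul J).obj H) :=
    hL _ hSE₁ hS hH (isCoh_cokernel _ hS hH) hKH hCJ
  have hsurj : Function.Surjective (stalkMap (Dual3.idealMulι J H ≫ p₁) ξ) := by
    rw [stalkMap_comp]
    exact hb.2.comp hbJ.2
  have hCκ : K (cokernel (Dual3.idealMulι J H ≫ p₁)) := IH _ (isCoh_cokernel _ hS hT)
    ((support_cokernel_subset _).trans hTs)
    (fun h => h (subsingleton_stalk_cokernel _ ξ hsurj))
  have hSE₂ : (ShortComplex.mk (Dual3.idealMulι J H ≫ p₁)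
      (cokernel.π (Dual3.idealMulι J H ≫ p₁)) (cokernel.condition _)).ShortExact :=
    ShortComplex.ShortExact.mk' (ShortComplex.exact_cokernel _) hmono
      (inferInstanceAs (Epi (cokernel.π (Dual3.idealMulι J H ≫ p₁))))
  have hKT : K (pow Q (r' + 1)) := hE _ hSE₂ hS hT (isCoh_cokernel _ hS hT) hKS hCκ
  obtain ⟨e⟩ := nonempty_pow_iso_sigma Q (r' + 1)
  exact hroot Q (r' + 1) (Nat.succ_le_succ (Nat.zero_le _)) hQ (hK _ _ ⟨e⟩ hKT)

end Step

end Groth.Agent.Lib.Helper21.RootStep
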