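import Groth.Agent.Lib.Helper16.RootD8
import Groth.Agent.Lib.Helper21.RootSimple
import Groth.Agent.S5448
import Groth.Agent.S5467
import Groth.Agent.S5488
import Groth.Agent.S5503
import Mathlib.Tactic

set_option autoImplicit false

namespace Groth.Agent.Lib.Helper21

open RootPairing RootD
open Groth.Agent.Lib.Helper16 (co co_simple co_add co_sub co_sign mem_posOf_iff co_ne_zero
  mem_posOf_iff_exists_pos co_reflection root_smul smul_negIdx pos_dichotomy simple_mem_posOf
  not_mem_posOf_iff root_negIdx negIdx_negIdx)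

variable {ι M N : Type*} [AddCommGroup M] [AddCommGroup N] {P : RootPairing ι ℤ M N}

/-- The product of the reflections along a list of indices. -/
noncomputable def wordProd (P : RootPairing ι ℤ M N) (L : List ι) : P.Aut :=
  (L.map fun a => Equiv.reflection P a).prod

@[simp] theorem wordProd_nil : wordProd P [] = 1 := rfl

theorem wordProd_cons (a : ι) (L : List ι) :
    wordProd P (a :: L) = Equiv.reflection P a * wordProd P L := by
  simp [wordProd]

theorem wordProd_append (L L' : List ι) :
    wordProd P (L ++ L') = wordProd P L * wordProd P L' := by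
  simp [wordProd]

theorem wordProd_singleton (a : ι) : wordProd P [a] = Equiv.reflection P a := by
  simp [wordProd]

theorem refl_mul_self (a : ι) : Equiv.reflection P a * Equiv.reflection P a = 1 := by
  have h := Equiv.reflection_inv P a
  rw [inv_eq_iff_mul_eq_one] at h
  exact h

theorem wordProd_reverse (L : List ι) : wordProd P L.reverse = (wordProd P L)⁻¹ := by
  induction L with
  | nil => simp
  | cons a L ih =>
    rw [List.reverse_cons, wordProd_append, wordProd_singleton, wordProd_cons, ih, mul_inv_rev,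
      Equiv.reflection_inv]

theorem isIndiv_smul (g : P.Aut) (i : ι) (h : IsIndiv P i) : IsIndiv P (g • i) := by
  intro j hj
  apply h (g⁻¹ • j)
  rw [root_smul, ← smul_comm, hj, root_smul, inv_smul_smul]

variable [Finite ι] {Δ : Set ι} (hΔ : IsSimpleSys P Δ)

include hΔ in
theorem eq_simple_of_refl_neg (a : ι) (ha : a ∈ Δ) (k : ι) (hk : k ∈ posOf P Δ)
    (hind : IsIndiv P k) (hneg : P.reflectionPerm a k ∉ posOf P Δ) : k = a := by
  rcases pos_dichotomy hΔ a ha k hk with h | h | h
  · exact absurd h hneg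
  · exact h
  · exact absurd h.symm (hind a)

include hΔ in
theorem deletion (L : List ι) (hL : ∀ a ∈ L, a ∈ Δ) (i : ι) (hi : i ∈ Δ)
    (hneg : wordProd P L • i ∉ posOf P Δ) :
    ∃ L' : List ι, (∀ a ∈ L', a ∈ Δ) ∧ L'.length < L.length ∧
      wordProd P L' = wordProd P L * Equiv.reflection P i := by
  induction L with
  | nil =>
    exfalso
    apply hneg
    rw [wordProd_nil, one_smul]
    exact simple_mem_posOf i hi
  | cons a L1 ih =>
    have haΔ : a ∈ Δ := hL a (List.mem_cons_self)
    have hL1 : ∀ b ∈ L1, b ∈ Δ := fun b hb => hL b (List.mem_cons_of_mem a hb)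
    by_cases hβ : wordProd P L1 • i ∈ posOf P Δ
    · have hind : IsIndiv P (wordProd P L1 • i) :=
        isIndiv_smul _ i (Groth.Agent.S5448.result P Δ hΔ i hi)
      have hneg' : P.reflectionPerm a (wordProd P L1 • i) ∉ posOf P Δ := by
        rw [wordProd_cons, mul_smul] at hneg
        exact hneg
      have hβa := eq_simple_of_refl_neg hΔ a haΔ _ hβ hind hneg'
      have hconj := Groth.Agent.S5503.result P (wordProd P L1) i
      rw [hβa] at hconj
      refine ⟨L1, hL1, by simp, ?_⟩
      have h1 : wordProd P L1 * Equiv.reflection P i = Equiv.reflection P a * wordProd P L1 := by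
        rw [← hconj]
        group
      rw [wordProd_cons, mul_assoc, h1, ← mul_assoc, refl_mul_self, one_mul]
    · obtain ⟨L1', hL1', hlen, hprod⟩ := ih hL1 hβ
      refine ⟨a :: L1', ?_, by simpa using hlen, ?_⟩
      · intro b hb
        rcases List.mem_cons.mp hb with rfl | hb
        · exact haΔ
        · exact hL1' b hb
      · rw [wordProd_cons, wordProd_cons, hprod, mul_assoc]

include hΔ in
theorem wordProd_eq_one_of_pos (L : List ι) (hL : ∀ a ∈ L, a ∈ Δ)
    (hpos : ∀ i ∈ Δ, wordProd P L • i ∈ posOf P Δ) : wordProd P L = 1 := by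
  have key : ∀ n : ℕ, ∀ L : List ι, L.length = n → (∀ a ∈ L, a ∈ Δ) →
      (∀ i ∈ Δ, wordProd P L • i ∈ posOf P Δ) → wordProd P L = 1 := by
    intro n
    induction n using Nat.strong_induction_on with
    | _ n ih =>
      intro L hlen hL hpos
      rcases List.eq_nil_or_concat L with rfl | ⟨L0, i, rfl⟩
      · rfl
      · simp only [List.concat_eq_append] at hlen hL hpos ⊢
        have hiΔ : i ∈ Δ := hL i (by simp)
        have hL0 : ∀ a ∈ L0, a ∈ Δ := fun a ha => hL a (by simp [ha])
        have hw : wordProd P (L0 ++ [i]) = wordProd P L0 * Equiv.reflection P i := by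
          rw [wordProd_append, wordProd_singleton]
        have hneg : wordProd P L0 • i ∉ posOf P Δ := by
          have h1 := hpos i hiΔ
          rw [hw, mul_smul] at h1
          have h2 : Equiv.reflection P i • i = P.reflectionPerm i i := rfl
          rw [h2, smul_negIdx] at h1
          intro h3
          exact (not_mem_posOf_iff hΔ _).mpr h1 h3
        obtain ⟨L0', hL0', hlen', hprod⟩ := deletion hΔ L0 hL0 i hiΔ hneg
        rw [hw, ← hprod]
        refine ih L0'.length ?_ L0' rfl hL0' ?_
        · rw [← hlen]; simp; omega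
        · intro j hj
          rw [hprod, ← hw]
          exact hpos j hj
  exact key _ L rfl hL hpos

/-- The subgroup generated by the simple reflections. -/
noncomputable def simpleWeyl (P : RootPairing ι ℤ M N) (Δ : Set ι) : Subgroup P.Aut :=
  Subgroup.closure ((fun i : ι => Equiv.reflection P i) '' Δ)

theorem exists_word_of_mem_simpleWeyl (g : P.Aut) (hg : g ∈ simpleWeyl P Δ) :
    ∃ L : List ι, (∀ a ∈ L, a ∈ Δ) ∧ wordProd P L = g := by
  unfold simpleWeyl at hg
  induction hg using Subgroup.closure_induction with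
  | mem x hx =>
    obtain ⟨i, hi, rfl⟩ := hx
    exact ⟨[i], by simpa using hi, wordProd_singleton i⟩
  | one => exact ⟨[], by simp, rfl⟩
  | mul x y _ _ hx hy =>
    obtain ⟨L1, h1, rfl⟩ := hx
    obtain ⟨L2, h2, rfl⟩ := hy
    refine ⟨L1 ++ L2, ?_, wordProd_append L1 L2⟩
    intro a ha
    rcases List.mem_append.mp ha with h | h
    · exact h1 a h
    · exact h2 a h
  | inv x _ hx =>
    obtain ⟨L1, h1, rfl⟩ := hx
    exact ⟨L1.reverse, fun a ha => h1 a (List.mem_reverse.mp ha), wordProd_reverse L1⟩

theorem wordProd_mem_simpleWeyl (L : List ι) (hL : ∀ a ∈ L, a ∈ Δ) :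
    wordProd P L ∈ simpleWeyl P Δ := by
  induction L with
  | nil => exact one_mem _
  | cons a L ih =>
    rw [wordProd_cons]
    exact mul_mem (Subgroup.subset_closure ⟨a, hL a List.mem_cons_self, rfl⟩)
      (ih (fun b hb => hL b (List.mem_cons_of_mem a hb)))

theorem simpleWeyl_le_weylGroup : simpleWeyl P Δ ≤ P.weylGroup := by
  unfold simpleWeyl
  rw [Subgroup.closure_le]
  rintro _ ⟨i, _, rfl⟩
  exact P.reflection_mem_weylGroup i

theorem ht_reflection (i : ι) (hi : i ∈ Δ) (k : ι) :
    ht hΔ (P.reflectionPerm i k) = ht hΔ k - P.pairing k i := by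
  classical
  unfold ht
  have h1 : co hΔ k - P.pairing k i • Finsupp.single (⟨i, hi⟩ : Δ) (1 : ℤ) =
      co hΔ k + Finsupp.single (⟨i, hi⟩ : Δ) (-P.pairing k i) := by
    ext l
    simp [sub_eq_add_neg, Finsupp.single_apply]
  rw [co_reflection, co_simple hΔ i hi, h1,
    Finsupp.sum_add_index' (fun _ => rfl) (fun _ _ _ => rfl), Finsupp.sum_single_index rfl]
  ring

include hΔ in
theorem exists_simpleWeyl_conj_of_pos (k : ι) (hk : k ∈ posOf P Δ) (hind : IsIndiv P k) :
    ∃ g : P.Aut, g ∈ simpleWeyl P Δ ∧ ∃ j ∈ Δ, g • j = k := by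
  have key : ∀ n : ℕ, ∀ k ∈ posOf P Δ, IsIndiv P k → (ht hΔ k).toNat = n →
      ∃ g : P.Aut, g ∈ simpleWeyl P Δ ∧ ∃ j ∈ Δ, g • j = k := by
    intro n
    induction n using Nat.strong_induction_on with
    | _ n ih =>
      intro k hk hind hn
      by_cases hkΔ : k ∈ Δ
      · exact ⟨1, one_mem _, k, hkΔ, one_smul _ _⟩
      · obtain ⟨i, hi, hpair, hpos⟩ := Groth.Agent.S5467.result P Δ hΔ k hk hkΔ hind
        have hht := ht_reflection hΔ i hi k
        have h0 := ht_nonneg_of_pos hΔ _ hpos
        have hind' : IsIndiv P (P.reflectionPerm i k) :=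
          isIndiv_smul (Equiv.reflection P i) k hind
        obtain ⟨g, hg, j, hj, hgj⟩ := ih (ht hΔ (P.reflectionPerm i k)).toNat (by omega)
          (P.reflectionPerm i k) hpos hind' rfl
        refine ⟨Equiv.reflection P i * g,
          mul_mem (Subgroup.subset_closure ⟨i, hi, rfl⟩) hg, j, hj, ?_⟩
        rw [mul_smul, hgj]
        change P.reflectionPerm i (P.reflectionPerm i k) = k
        exact P.reflectionPerm_self i k
  exact key _ k hk hind rfl

include hΔ in
theorem exists_simpleWeyl_conj (k : ι) (hind : IsIndiv P k) :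
    ∃ g : P.Aut, g ∈ simpleWeyl P Δ ∧ ∃ j ∈ Δ, g • j = k := by
  by_cases hk : k ∈ posOf P Δ
  · exact exists_simpleWeyl_conj_of_pos hΔ k hk hind
  · have hk' := (not_mem_posOf_iff hΔ k).mp hk
    have hind' : IsIndiv P (P.reflectionPerm k k) :=
      isIndiv_smul (Equiv.reflection P k) k hind
    obtain ⟨g, hg, j, hj, hgj⟩ := exists_simpleWeyl_conj_of_pos hΔ _ hk' hind'
    refine ⟨g * Equiv.reflection P j, mul_mem hg (Subgroup.subset_closure ⟨j, hj, rfl⟩), j, hj, ?_⟩
    rw [mul_smul]
    have h2 : Equiv.reflection P j • j = P.reflectionPerm j j := rfl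
    rw [h2, smul_negIdx, hgj, negIdx_negIdx]

include hΔ in
theorem simpleWeyl_eq_weylGroup : simpleWeyl P Δ = P.weylGroup := by
  apply le_antisymm simpleWeyl_le_weylGroup
  rw [← Groth.Agent.S5488.result P, Subgroup.closure_le]
  rintro _ ⟨k, hk, rfl⟩
  obtain ⟨g, hg, j, hj, rfl⟩ := exists_simpleWeyl_conj hΔ k hk
  change Equiv.reflection P (g • j) ∈ simpleWeyl P Δ
  rw [← Groth.Agent.S5503.result P g j]
  exact mul_mem (mul_mem hg (Subgroup.subset_closure ⟨j, hj, rfl⟩)) (inv_mem hg)

include hΔ in
theorem weyl_eq_one_of_pos (g : P.Aut) (hg : g ∈ P.weylGroup)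
    (hpos : ∀ i ∈ Δ, g • i ∈ posOf P Δ) : g = 1 := by
  rw [← simpleWeyl_eq_weylGroup hΔ] at hg
  obtain ⟨L, hL, rfl⟩ := exists_word_of_mem_simpleWeyl g hg
  exact wordProd_eq_one_of_pos hΔ L hL hpos

end Groth.Agent.Lib.Helper21
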