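import Groth.Agent.Lib.Helper21.RootWeyl
import Mathlib.Tactic

set_option autoImplicit false

namespace Groth.Agent.Lib.Helper21

open RootPairing RootD
open Groth.Agent.Lib.Helper16 (co co_simple co_add co_sub co_sign mem_posOf_iff co_ne_zero
  mem_posOf_iff_exists_pos co_reflection root_smul smul_negIdx pos_dichotomy simple_mem_posOf
  not_mem_posOf_iff root_negIdx negIdx_negIdx coV coV_injective coV_sub coV_zsmul co_def rootV
  bas bas_apply spanΔ)

variable {ι M N : Type*} [AddCommGroup M] [AddCommGroup N] {P : RootPairing ι ℤ M N}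
variable [Finite ι] {Δ : Set ι} (hΔ : IsSimpleSys P Δ)

include hΔ in
theorem deletion_sublist (L : List ι) (hL : ∀ a ∈ L, a ∈ Δ) (i : ι) (hi : i ∈ Δ)
    (hneg : wordProd P L • i ∉ posOf P Δ) :
    ∃ L' : List ι, L'.Sublist L ∧ L'.length < L.length ∧
      wordProd P L' = wordProd P L * Equiv.reflection P i := by
  induction L with
  | nil =>
    exfalso
    apply hneg
    rw [wordProd_nil, one_smul]
    exact simple_mem_posOf i hi
  | cons a L1 ih =>
    have haΔ : a ∈ Δ := hL a (List.mem_cons_self)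
    have hL1 : ∀ b ∈ L1, b ∈ Δ := fun b hb => hL b (List.mem_cons_of_mem a hb)
    by_cases hβ : wordProd P L1 • i ∈ posOf P Δ
    · have hind : IsIndiv P (wordProd P L1 • i) :=
        isIndiv_smul _ i (Groth.Agent.S5448.result P Δ hΔ i hi)
      have hneg' : P.reflectionPerm a (wordProd P L1 • i) ∉ posOf P Δ := by
        rw [wordProd_cons, mul_smul] at hneg
        exact hneg
      have hβa := eq_simple_of_refl_neg hΔ a haΔ _ hβ hind hneg'
      have hconj := Groth.Agent.S5503.result P (wordProd P L1) i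
      rw [hβa] at hconj
      refine ⟨L1, List.sublist_cons_self a L1, by simp, ?_⟩
      have h1 : wordProd P L1 * Equiv.reflection P i = Equiv.reflection P a * wordProd P L1 := by
        rw [← hconj]
        group
      rw [wordProd_cons, mul_assoc, h1, ← mul_assoc, refl_mul_self, one_mul]
    · obtain ⟨L1', hsub, hlen, hprod⟩ := ih hL1 hβ
      refine ⟨a :: L1', hsub.cons₂ a, by simpa using hlen, ?_⟩
      rw [wordProd_cons, wordProd_cons, hprod, mul_assoc]

theorem co_sub_smul {x y z : ι} (p : ℤ) (h : P.root x = P.root y - p • P.root z) :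
    co hΔ x = co hΔ y - p • co hΔ z := by
  rw [co_def, co_def, co_def, ← coV_zsmul, ← coV_sub]
  congr 1
  exact Subtype.ext h

theorem ht_sub_smul {x y z : ι} (p : ℤ) (h : P.root x = P.root y - p • P.root z) :
    ht hΔ x = ht hΔ y - p * ht hΔ z := by
  unfold ht
  rw [co_sub_smul hΔ p h, sub_eq_add_neg, ← neg_smul,
    Finsupp.sum_add_index' (fun _ => rfl) (fun _ _ _ => rfl),
    Finsupp.sum_smul_index' (fun _ => rfl)]
  simp only [smul_eq_mul, ← Finsupp.mul_sum]
  ring

theorem ht_pos_of_pos (k : ι) (hk : k ∈ posOf P Δ) : 0 < ht hΔ k := by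
  obtain ⟨l, hl⟩ := (mem_posOf_iff_exists_pos hΔ k).mp hk
  have h0 := (mem_posOf_iff hΔ k).mp hk
  unfold ht
  rw [Finsupp.sum]
  have hmem : l ∈ (co hΔ k).support := Finsupp.mem_support_iff.mpr hl.ne'
  calc 0 < co hΔ k l := hl
    _ ≤ ∑ a ∈ (co hΔ k).support, co hΔ k a :=
      Finset.single_le_sum (f := fun a => co hΔ k a) (fun a _ => h0 a) hmem

theorem linearCombination_co (x : ι) :
    Finsupp.linearCombination ℤ P.root (Finsupp.mapDomain Subtype.val (co hΔ x)) = P.root x := by
  rw [Finsupp.linearCombination_mapDomain]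
  have h2 := (bas hΔ).linearCombination_repr (rootV hΔ x)
  have h3 := congrArg (spanΔ P Δ).subtype h2
  rw [Finsupp.apply_linearCombination] at h3
  have h4 : (⇑(spanΔ P Δ).subtype ∘ ⇑(bas hΔ)) = P.root ∘ Subtype.val := by
    funext l
    exact bas_apply hΔ l
  rw [h4] at h3
  exact h3

theorem sum_eq_ht_sub (x y : ι) (c : ι →₀ ℤ) (hc : ↑c.support ⊆ Δ)
    (hck : Finsupp.linearCombination ℤ P.root c = P.root x - P.root y) :
    c.sum (fun _ a => a) = ht hΔ x - ht hΔ y := by
  classical
  set d : ι →₀ ℤ := Finsupp.mapDomain Subtype.val (co hΔ x - co hΔ y) with hd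
  have hdsupp : d ∈ Finsupp.supported ℤ ℤ Δ := by
    rw [Finsupp.mem_supported]
    intro l hl
    have := Finsupp.mapDomain_support hl
    rw [Finset.mem_image] at this
    obtain ⟨l', _, rfl⟩ := this
    exact l'.2
  have hdk : Finsupp.linearCombination ℤ P.root d = P.root x - P.root y := by
    rw [hd, Finsupp.mapDomain_sub, map_sub, linearCombination_co, linearCombination_co]
  have hcsupp : c ∈ Finsupp.supported ℤ ℤ Δ := (Finsupp.mem_supported ℤ c).mpr hc
  have hzero : c - d = 0 := by
    apply (linearIndepOn_iff.mp hΔ.linInd) (c - d) (Submodule.sub_mem _ hcsupp hdsupp)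
    rw [map_sub, hck, hdk, sub_self]
  have hcd : c = d := sub_eq_zero.mp hzero
  rw [hcd, hd, Finsupp.sum_mapDomain_index (fun _ => rfl) (fun _ _ _ => rfl)]
  unfold ht
  rw [sub_eq_add_neg, Finsupp.sum_add_index' (fun _ => rfl) (fun _ _ _ => rfl),
    Finsupp.sum_neg_index (fun _ => rfl)]
  simp [Finsupp.sum, sub_eq_add_neg]

end Groth.Agent.Lib.Helper21
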