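import Groth.Agent.Lib.Helper21.SepPull
import Groth.Agent.Lib.Helper21.FinDescent
import Mathlib.AlgebraicGeometry.Morphisms.Flat

set_option autoImplicit false
set_option linter.style.haveILetI false
universe u

open AlgebraicGeometry CategoryTheory Opposite TopologicalSpace

namespace Groth.Agent.Lib.Helper21.SepDescent

open Scheme.Modules TensorProduct Groth.Agent.Lib.Lead.PullbackAff
  Groth.Agent.Lib.Helper21.QCohSections Groth.Agent.Lib.Helper21.PullNat

section Alg

variable {A : Type u} [CommRing A] {J : Type u} (B : J → Type u)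
  [∀ i, CommRing (B i)] [∀ i, Algebra A (B i)] [∀ i, Module.Flat A (B i)]
  (hsurj : ∀ p : PrimeSpectrum A, ∃ (i : J) (q : PrimeSpectrum (B i)),
    PrimeSpectrum.comap (algebraMap A (B i)) q = p)

include hsurj in
/-- An element killed by a jointly faithfully flat family of base changes is zero. -/
theorem eq_zero_of_forall_one_tmul_eq_zero {M : Type u} [AddCommGroup M] [Module A M] (m : M)
    (h : ∀ i, (1 : B i) ⊗ₜ[A] m = 0) : m = 0 := by
  let Q : Submodule A M := Submodule.span A {m}
  haveI : Subsingleton Q := by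
    refine Groth.Agent.Lib.Helper21.FinDescent.subsingleton_of_forall_tensor B hsurj Q (fun i => ?_)
    have hinj : Function.Injective (LinearMap.lTensor (B i) Q.subtype) :=
      Module.Flat.lTensor_preserves_injective_linearMap _ Q.injective_subtype
    have key : ∀ z : B i ⊗[A] Q, LinearMap.lTensor (B i) Q.subtype z = 0 := by
      intro z
      induction z using TensorProduct.induction_on with
      | zero => simp
      | tmul b q =>
        obtain ⟨a, ha⟩ := Submodule.mem_span_singleton.mp q.2
        rw [LinearMap.lTensor_tmul, Submodule.subtype_apply, ← ha, TensorProduct.tmul_smul]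
        have : b ⊗ₜ[A] m = b • ((1 : B i) ⊗ₜ[A] m) := by
          rw [TensorProduct.smul_tmul', smul_eq_mul, mul_one]
        rw [this, h i, smul_zero, smul_zero]
      | add a b ha hb => rw [map_add, ha, hb, add_zero]
    refine ⟨fun x y => hinj ?_⟩
    rw [key, key]
  have : (⟨m, Submodule.mem_span_singleton_self m⟩ : Q) = 0 := Subsingleton.elim _ _
  exact congrArg Subtype.val this

end Alg

variable {X X' : Scheme.{u}} (g : X' ⟶ X) [Flat g] [Surjective g]
  (F : X.Modules) [F.IsQuasicoherent] {ι : Type u}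
  (G : ι → X.Modules) [∀ i, (G i).IsQuasicoherent] (u : ∀ i, F ⟶ G i)

/-- **Faithfully flat descent of separating families** (EGA IV 11.9, case `Z_λ = X`). -/
theorem separating_of_pullback
    (h : ∀ (V : X'.Opens) (t : Γ((pullback g).obj F, V)),
      (∀ i, ((pullback g).map (u i)).app V t = 0) → t = 0)
    (V : X.Opens) (t : Γ(F, V)) (ht : ∀ i, (u i).app V t = 0) : t = 0 := by
  apply TopCat.Presheaf.IsSheaf.section_ext F.isSheaf (U := op V)
  intro x hx
  obtain ⟨_, ⟨W, hW, rfl⟩, hxW, hle⟩ :=
    X.isBasis_affineOpens.exists_subset_of_mem_open hx V.2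
  have hle' : W ≤ V := hle
  refine ⟨W, hle', hxW, ?_⟩
  rw [map_zero]
  change (F.presheaf.map (homOfLE hle').op) t = 0
  generalize hs : (F.presheaf.map (homOfLE hle').op) t = s
  have hs0 : ∀ i, (u i).app W s = 0 := by
    intro i
    rw [← hs, Groth.Agent.Lib.Helper2.KerSec.naturality_apply, ht, map_zero]
  let J : Type u := {U : X'.affineOpens // (U : X'.Opens) ≤ g ⁻¹ᵁ W}
  letI alg : ∀ U : J, Algebra Γ(X, W) Γ(X', (U.1 : X'.Opens)) :=
    fun U => (g.appLE W U.1 U.2).hom.toAlgebra
  haveI : ∀ U : J, Module.Flat Γ(X, W) Γ(X', (U.1 : X'.Opens)) := fun U =>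
    (Flat.flat_appLE g hW U.1.2 U.2 : (g.appLE W U.1 U.2).hom.Flat)
  refine eq_zero_of_forall_one_tmul_eq_zero (A := Γ(X, W)) (J := J)
    (fun U => Γ(X', (U.1 : X'.Opens))) ?_ s ?_
  · intro p
    obtain ⟨y, hy⟩ := g.surjective (hW.fromSpec p)
    have hyU : y ∈ g ⁻¹ᵁ W := by
      change g y ∈ W
      rw [hy]
      have : hW.fromSpec p ∈ Set.range hW.fromSpec := ⟨p, rfl⟩
      rw [hW.range_fromSpec] at this
      exact this
    obtain ⟨_, ⟨U, hU, rfl⟩, hyU', hUle⟩ :=
      X'.isBasis_affineOpens.exists_subset_of_mem_open hyU (g ⁻¹ᵁ W).2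
    obtain ⟨q, hq⟩ : ∃ q, hU.fromSpec q = y := by
      have : y ∈ Set.range hU.fromSpec := by
        rw [hU.range_fromSpec]; exact hyU'
      exact this
    refine ⟨⟨⟨U, hU⟩, hUle⟩, q, ?_⟩
    apply hW.fromSpec.isOpenEmbedding.injective
    have h1 := hW.SpecMap_appLE_fromSpec g hU hUle
    have h2 := congr($(h1) q)
    rw [Scheme.Hom.comp_apply, Scheme.Hom.comp_apply, hq, hy] at h2
    exact h2
  · intro U
    obtain ⟨t', ht'⟩ := (sectionsPullbackEquiv g F U.1.2 hW U.2).surjective
      ((1 : Γ(X', (U.1 : X'.Opens))) ⊗ₜ[Γ(X, W)] s)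
    have h0 : t' = 0 := by
      apply h
      intro i
      apply (sectionsPullbackEquiv g (G i) U.1.2 hW U.2).injective
      rw [map_zero, sectionsPullbackEquiv_naturality, ht', LinearMap.lTensor_tmul]
      have : appL (u i) W s = 0 := hs0 i
      rw [this, TensorProduct.tmul_zero]
    rw [h0, map_zero] at ht'
    exact ht'.symm

end Groth.Agent.Lib.Helper21.SepDescent
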