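import Groth.Agent.Lib.Helper21.FlatPullMono

set_option autoImplicit false
set_option linter.style.haveILetI false
universe u

open AlgebraicGeometry CategoryTheory Opposite TopologicalSpace

namespace Groth.Agent.Lib.Helper21.SepPull

open Scheme.Modules TensorProduct Groth.Agent.Lib.Lead.PullbackAff
  Groth.Agent.Lib.Helper21.QCohSections Groth.Agent.Lib.Helper21.PullNat

section Alg

variable {A B : Type u} [CommRing A] [CommRing B] [Algebra A B] [Module.Flat A B]
  {M : Type u} [AddCommGroup M] [Module A M] {ι : Type u} {N : ι → Type u}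
  [∀ i, AddCommGroup (N i)] [∀ i, Module A (N i)] (v : ∀ i, M →ₗ[A] N i)

/-- Flat base change preserves joint injectivity of a finite family. -/
theorem lTensor_jointly_injective_of_finite [Finite ι]
    (h : ∀ m : M, (∀ i, v i m = 0) → m = 0) (x : B ⊗[A] M)
    (hx : ∀ i, LinearMap.lTensor B (v i) x = 0) : x = 0 := by
  classical
  cases nonempty_fintype ι
  let φ : M →ₗ[A] (∀ i, N i) := LinearMap.pi v
  have hφ : Function.Injective φ := by
    rw [injective_iff_map_eq_zero]
    intro m hm
    exact h m (fun i => congrFun hm i)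
  have h2 : Function.Injective (LinearMap.lTensor B φ) :=
    Module.Flat.lTensor_preserves_injective_linearMap _ hφ
  apply h2
  rw [map_zero]
  apply (TensorProduct.piRight A A B N).injective
  rw [map_zero]
  funext i
  have key : ∀ y : B ⊗[A] M, TensorProduct.piRight A A B N (LinearMap.lTensor B φ y) i =
      LinearMap.lTensor B (v i) y := by
    intro y
    induction y using TensorProduct.induction_on with
    | zero => simp
    | tmul b m => simp [φ]
    | add a b ha hb => simp only [map_add, Pi.add_apply, ha, hb]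
  rw [key, hx]; rfl

end Alg

variable {X X' : Scheme.{u}} (g : X' ⟶ X) (F : X.Modules) [F.IsQuasicoherent] {ι : Type u}
  (G : ι → X.Modules) [∀ i, (G i).IsQuasicoherent] (u : ∀ i, F ⟶ G i)

/-- Generic criterion: the pulled back family is separating as soon as it is so algebraically on
small affine opens. -/
theorem separating_pullback_of_alg
    (hAlg : ∀ (U : X.Opens) (U' : X'.Opens) (_ : IsAffineOpen U) (_ : IsAffineOpen U')
      (e : U' ≤ g ⁻¹ᵁ U), letI := (g.appLE U U' e).hom.toAlgebra
      ∀ x : Γ(X', U') ⊗[Γ(X, U)] Γ(F, U),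
        (∀ i, LinearMap.lTensor Γ(X', U') (appL (u i) U) x = 0) → x = 0)
    (W : X'.Opens) (t : Γ((pullback g).obj F, W))
    (ht : ∀ i, ((pullback g).map (u i)).app W t = 0) : t = 0 := by
  apply TopCat.Presheaf.IsSheaf.section_ext ((pullback g).obj F).isSheaf (U := op W)
  intro x hx
  obtain ⟨V, U, hV, hU, hxU, hUV⟩ := exists_affines g x
  obtain ⟨U', hU', hxU', hle⟩ : ∃ U' : X'.Opens, IsAffineOpen U' ∧ x ∈ U' ∧ U' ≤ U ⊓ W := by
    obtain ⟨_, ⟨U', hU', rfl⟩, hxU', hle⟩ := X'.isBasis_affineOpens.exists_subset_of_mem_open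
      (show x ∈ ((U ⊓ W : X'.Opens) : Set X') from ⟨hxU, hx⟩) (U ⊓ W).2
    exact ⟨U', hU', hxU', hle⟩
  refine ⟨U', hle.trans inf_le_right, hxU', ?_⟩
  have e' : U' ≤ g ⁻¹ᵁ V := (hle.trans inf_le_left).trans hUV
  letI := (g.appLE V U' e').hom.toAlgebra
  rw [map_zero]
  apply (sectionsPullbackEquiv g F hU' hV e').injective
  rw [map_zero]
  apply hAlg V U' hV hU' e'
  intro i
  rw [← sectionsPullbackEquiv_naturality, Groth.Agent.Lib.Helper2.KerSec.naturality_apply, ht,
    map_zero, map_zero]

end Groth.Agent.Lib.Helper21.SepPull
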