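import Groth.Agent.Lib.Helper21.SepPull
import Mathlib.LinearAlgebra.TensorProduct.Finiteness
import Mathlib.RingTheory.Artinian.Module
import Mathlib.AlgebraicGeometry.Artinian

set_option autoImplicit false
set_option linter.style.haveILetI false
universe u

open AlgebraicGeometry CategoryTheory Opposite TopologicalSpace

namespace Groth.Agent.Lib.Helper21.SepPullArt

open Scheme.Modules TensorProduct Groth.Agent.Lib.Helper21.SepPull

variable {A B : Type u} [CommRing A] [CommRing B] [Algebra A B] [Module.Flat A B]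
  {M : Type u} [AddCommGroup M] [Module A M] {ι : Type u} {N : ι → Type u}
  [∀ i, AddCommGroup (N i)] [∀ i, Module A (N i)] (v : ∀ i, M →ₗ[A] N i)

omit [Module.Flat A B] in
/-- In an Artinian module, a jointly injective family has a jointly injective finite subfamily. -/
theorem exists_finset_jointly_injective [IsArtinian A M]
    (h : ∀ m : M, (∀ i, v i m = 0) → m = 0) :
    ∃ S : Finset ι, ∀ m : M, (∀ i ∈ S, v i m = 0) → m = 0 := by
  classical
  let P : Set (Submodule A M) := Set.range fun S : Finset ι => ⨅ i ∈ S, LinearMap.ker (v i)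
  obtain ⟨K, ⟨S₀, rfl⟩, hmin⟩ := IsArtinian.set_has_minimal P ⟨_, ⟨∅, rfl⟩⟩
  refine ⟨S₀, fun m hm => h m (fun j => ?_)⟩
  have hle : (⨅ i ∈ insert j S₀, LinearMap.ker (v i)) ≤ ⨅ i ∈ S₀, LinearMap.ker (v i) := by
    apply le_iInf₂
    intro i hi
    exact iInf₂_le i (Finset.mem_insert_of_mem hi)
  have heq : (⨅ i ∈ insert j S₀, LinearMap.ker (v i)) = ⨅ i ∈ S₀, LinearMap.ker (v i) := by
    by_contra hne
    exact hmin _ ⟨insert j S₀, rfl⟩ (lt_of_le_of_ne hle hne)
  have hm' : m ∈ ⨅ i ∈ S₀, LinearMap.ker (v i) := by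
    simp only [Submodule.mem_iInf, LinearMap.mem_ker]
    exact hm
  rw [← heq] at hm'
  simp only [Submodule.mem_iInf, LinearMap.mem_ker] at hm'
  exact hm' j (Finset.mem_insert_self j S₀)

/-- Flat base change preserves joint injectivity of arbitrary families over an Artinian ring. -/
theorem lTensor_jointly_injective_of_isArtinianRing [IsArtinianRing A]
    (h : ∀ m : M, (∀ i, v i m = 0) → m = 0) (x : B ⊗[A] M)
    (hx : ∀ i, LinearMap.lTensor B (v i) x = 0) : x = 0 := by
  obtain ⟨M₀, hfin, hM₀⟩ := TensorProduct.exists_finite_submodule_right_of_setFinite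
    ({x} : Set (B ⊗[A] M)) (Set.finite_singleton x)
  obtain ⟨x₀, rfl⟩ := hM₀ (Set.mem_singleton x)
  haveI : IsArtinian A M₀ := inferInstance
  obtain ⟨S, hS⟩ := exists_finset_jointly_injective (fun i => (v i).comp M₀.subtype)
    (fun m hm => Subtype.ext (h m hm))
  have hx₀ : x₀ = 0 := by
    refine lTensor_jointly_injective_of_finite (A := A) (B := B) (ι := ↥S)
      (N := fun i => N i.1) (fun i : ↥S => (v i.1).comp M₀.subtype)
      (fun m hm => hS m (fun i hi => hm ⟨i, hi⟩)) x₀ (fun i => ?_)
    rw [LinearMap.lTensor_comp, LinearMap.comp_apply]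
    exact hx i.1
  rw [hx₀, map_zero]

end Groth.Agent.Lib.Helper21.SepPullArt
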