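import Groth.Agent.Lib.Helper21.SepPull

set_option autoImplicit false
set_option linter.style.haveILetI false
universe u

open AlgebraicGeometry CategoryTheory Opposite TopologicalSpace

namespace Groth.Agent.Lib.Helper21.SepPullBasis

open Scheme.Modules TensorProduct Groth.Agent.Lib.Lead.PullbackAff
  Groth.Agent.Lib.Helper21.QCohSections Groth.Agent.Lib.Helper21.PullNat

variable {X X' : Scheme.{u}} (g : X' ⟶ X) (F : X.Modules) [F.IsQuasicoherent] {ι : Type u}
  (G : ι → X.Modules) [∀ i, (G i).IsQuasicoherent] (u : ∀ i, F ⟶ G i)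

/-- Local (basis) form of `SepPull.separating_pullback_of_alg`: it suffices that every point of
every open `W` of `X'` has ONE affine chart `U' ≤ W`, `U' ≤ g⁻¹U` (`U` affine) on which the
algebraic separation holds. -/
theorem separating_pullback_of_alg_basis
    (hAlg : ∀ (W : X'.Opens) (x : X'), x ∈ W →
      ∃ (U : X.Opens) (U' : X'.Opens) (_ : IsAffineOpen U) (_ : IsAffineOpen U')
        (e : U' ≤ g ⁻¹ᵁ U), x ∈ U' ∧ U' ≤ W ∧
        (letI := (g.appLE U U' e).hom.toAlgebra
         ∀ y : Γ(X', U') ⊗[Γ(X, U)] Γ(F, U),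
          (∀ i, LinearMap.lTensor Γ(X', U') (appL (u i) U) y = 0) → y = 0))
    (W : X'.Opens) (t : Γ((pullback g).obj F, W))
    (ht : ∀ i, ((pullback g).map (u i)).app W t = 0) : t = 0 := by
  apply TopCat.Presheaf.IsSheaf.section_ext ((pullback g).obj F).isSheaf (U := op W)
  intro x hx
  obtain ⟨V, U', hV, hU', e', hxU', hle, hsep⟩ := hAlg W x hx
  refine ⟨U', hle, hxU', ?_⟩
  letI := (g.appLE V U' e').hom.toAlgebra
  rw [map_zero]
  apply (sectionsPullbackEquiv g F hU' hV e').injective
  rw [map_zero]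
  apply hsep
  intro i
  rw [← sectionsPullbackEquiv_naturality, Groth.Agent.Lib.Helper2.KerSec.naturality_apply, ht,
    map_zero, map_zero]

end Groth.Agent.Lib.Helper21.SepPullBasis
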