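import Mathlib.RingTheory.SimpleModule.Basic
import Mathlib.RingTheory.Length
import Mathlib.RingTheory.LocalRing.ResidueField.Basic
import Mathlib.RingTheory.Artinian.Module


/-!
# Simple modules over local rings (helper21)
-/

set_option autoImplicit false
set_option linter.style.haveILetI false
universe u

namespace Groth.Agent.Lib.Helper21.SimpleAlg

variable {R : Type*} [CommRing R] [IsLocalRing R]

theorem nonempty_linearEquiv_of_simple (S S' : Type*) [AddCommGroup S] [Module R S]
    [AddCommGroup S'] [Module R S'] [IsSimpleModule R S] [IsSimpleModule R S'] :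
    Nonempty (S ≃ₗ[R] S') := by
  obtain ⟨I, hI, ⟨e⟩⟩ := (isSimpleModule_iff_quot_maximal (R := R) (M := S)).mp inferInstance
  obtain ⟨I', hI', ⟨e'⟩⟩ :=
    (isSimpleModule_iff_quot_maximal (R := R) (M := S')).mp inferInstance
  have h1 : I = IsLocalRing.maximalIdeal R := IsLocalRing.eq_maximalIdeal hI
  have h2 : I' = IsLocalRing.maximalIdeal R := IsLocalRing.eq_maximalIdeal hI'
  subst h1
  subst h2
  exact ⟨e.trans e'.symm⟩

theorem exists_injective_of_simple (S M : Type*) [AddCommGroup S] [Module R S]
    [AddCommGroup M] [Module R M] [IsSimpleModule R S] [Nontrivial M] [IsArtinian R M] :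
    ∃ a : S →ₗ[R] M, Function.Injective a := by
  obtain ⟨N, hN⟩ := IsAtomic.exists_atom (Submodule R M)
  haveI : IsSimpleModule R N := isSimpleModule_iff_isAtom.mpr hN
  obtain ⟨e⟩ := nonempty_linearEquiv_of_simple (R := R) S N
  exact ⟨N.subtype ∘ₗ e.toLinearMap, N.subtype_injective.comp e.injective⟩

instance isSimpleModule_residueField : IsSimpleModule R (IsLocalRing.ResidueField R) := by
  have : IsSimpleModule R (R ⧸ IsLocalRing.maximalIdeal R) :=
    isSimpleModule_iff_isCoatom.mpr (Ideal.isMaximal_def.mp inferInstance)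
  exact this

end Groth.Agent.Lib.Helper21.SimpleAlg
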