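import Groth.Agent.Lib.Lead.QCohAff3
import Groth.Agent.Lib.Helper78.ModStalk

set_option autoImplicit false
set_option linter.style.haveILetI false
universe u
open AlgebraicGeometry CategoryTheory Opposite TopologicalSpace Limits

namespace Groth.Agent.Lib.Helper21.SpanGerm

open Groth.Agent.Lib.Lead.QCohAff

variable {X : Scheme.{u}}

/-- A function germ is a fraction of sections over an affine open neighbourhood. -/
theorem exists_germ_mul_eq_germ {U : X.Opens} (hU : IsAffineOpen U) (x : X) (hx : x ∈ U)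
    (c : X.presheaf.stalk x) :
    ∃ r e : Γ(X, U), x ∈ X.basicOpen r ∧
      X.presheaf.germ U x hx r * c = X.presheaf.germ U x hx e := by
  letI := TopCat.Presheaf.algebra_section_stalk X.presheaf (⟨x, hx⟩ : U)
  haveI := hU.isLocalization_stalk ⟨x, hx⟩
  obtain ⟨⟨e, r⟩, h⟩ := IsLocalization.surj (hU.primeIdealOf ⟨x, hx⟩).asIdeal.primeCompl c
  refine ⟨r.1, e, (mem_basicOpen_iff_notMem_primeIdealOf hU x hx r.1).2 r.2, ?_⟩
  rw [mul_comm]
  exact h

/-- If the germ of `m` lies in the span of the germs of the `m_j`, then a multiple `u • m` with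
`u` invertible at `x` lies in the span of the `m_j`. -/
theorem exists_smul_mem_span (F : X.Modules) [F.IsQuasicoherent] {U : X.Opens}
    (hU : IsAffineOpen U) (x : X) (hx : x ∈ U) {k : ℕ} (mj : Fin k → Γ(F, U)) (m : Γ(F, U))
    (hm : F.presheaf.germ U x hx m ∈ Submodule.span (X.presheaf.stalk x)
      (Set.range fun j => F.presheaf.germ U x hx (mj j))) :
    ∃ u : Γ(X, U), x ∈ X.basicOpen u ∧ u • m ∈ Submodule.span Γ(X, U) (Set.range mj) := by
  have key : ∀ t ∈ Submodule.span (X.presheaf.stalk x)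
      (Set.range fun j => F.presheaf.germ U x hx (mj j)),
      ∃ (u : Γ(X, U)) (m' : Γ(F, U)), x ∈ X.basicOpen u ∧
        m' ∈ Submodule.span Γ(X, U) (Set.range mj) ∧
        X.presheaf.germ U x hx u • t = F.presheaf.germ U x hx m' := by
    intro t ht
    refine Submodule.span_induction (p := fun t _ => ∃ (u : Γ(X, U)) (m' : Γ(F, U)),
      x ∈ X.basicOpen u ∧ m' ∈ Submodule.span Γ(X, U) (Set.range mj) ∧
        X.presheaf.germ U x hx u • t = F.presheaf.germ U x hx m') ?_ ?_ ?_ ?_ ht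
    · rintro _ ⟨j, rfl⟩
      refine ⟨1, mj j, ?_, Submodule.subset_span ⟨j, rfl⟩, ?_⟩
      · rw [Scheme.basicOpen_of_isUnit _ isUnit_one]
        exact hx
      · rw [map_one, one_smul]
    · refine ⟨1, 0, ?_, Submodule.zero_mem _, ?_⟩
      · rw [Scheme.basicOpen_of_isUnit _ isUnit_one]
        exact hx
      · rw [smul_zero, map_zero]
    · rintro t₁ t₂ _ _ ⟨u₁, m₁, hu₁, hm₁, h₁⟩ ⟨u₂, m₂, hu₂, hm₂, h₂⟩
      refine ⟨u₁ * u₂, u₂ • m₁ + u₁ • m₂, ?_, ?_, ?_⟩
      · rw [Scheme.basicOpen_mul]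
        exact ⟨hu₁, hu₂⟩
      · exact Submodule.add_mem _ (Submodule.smul_mem _ _ hm₁) (Submodule.smul_mem _ _ hm₂)
      · rw [map_mul, smul_add, map_add, germ_smul, germ_smul, ← h₁, ← h₂, mul_smul, mul_smul,
          smul_comm (X.presheaf.germ U x hx u₁) (X.presheaf.germ U x hx u₂) t₁]
    · rintro c t _ ⟨u, m', hu, hm', h⟩
      obtain ⟨r, e, hr, hre⟩ := exists_germ_mul_eq_germ hU x hx c
      refine ⟨r * u, e • m', ?_, Submodule.smul_mem _ _ hm', ?_⟩
      · rw [Scheme.basicOpen_mul]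
        exact ⟨hr, hu⟩
      · rw [map_mul, germ_smul, ← h, ← hre, mul_smul, mul_smul,
          smul_comm c (X.presheaf.germ U x hx u) t]
  obtain ⟨u, m', hu, hm', h⟩ := key _ hm
  have h0 : F.presheaf.germ U x hx (u • m - m') = 0 := by
    rw [map_sub, germ_smul, h, sub_self]
  obtain ⟨v, hv, hvz⟩ := (germ_eq_zero_iff F hU x hx _).1 h0
  refine ⟨v * u, ?_, ?_⟩
  · rw [Scheme.basicOpen_mul]
    exact ⟨hv, hu⟩
  · rw [smul_sub, sub_eq_zero] at hvz
    rw [mul_smul, hvz]
    exact Submodule.smul_mem _ _ hm'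

end Groth.Agent.Lib.Helper21.SpanGerm
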