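import Mathlib.Topology.NoetherianSpace
import Mathlib.Topology.Sober
import Mathlib.Topology.Inseparable

set_option autoImplicit false
universe u

open TopologicalSpace

namespace Groth.Agent.Lib.Helper21.SpecClosure

variable {α : Type u} [TopologicalSpace α]

/-- In a Noetherian quasi-sober subspace `V`, every point of the closure (in the ambient space) of a
subset closed in `V` is a specialization of a point of the subset. -/
theorem exists_specializes_of_mem_closure {V : Set α} [NoetherianSpace V] [QuasiSober V]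
    {S : Set α} (hSV : S ⊆ V) (hS : IsClosed ((↑) ⁻¹' S : Set V)) {y : α}
    (hy : y ∈ closure S) : ∃ ξ ∈ S, ξ ⤳ y := by
  obtain ⟨𝒮, hfin, hcl, hirr, hU⟩ := NoetherianSpace.exists_finite_set_isClosed_irreducible hS
  have hS' : S = ⋃ t ∈ 𝒮, ((↑) '' t : Set α) := by
    have h1 : S = (↑) '' ((↑) ⁻¹' S : Set V) := by
      rw [Subtype.image_preimage_coe]
      exact (Set.inter_eq_right.mpr hSV).symm
    rw [h1, hU, Set.sUnion_eq_biUnion, Set.image_iUnion₂]
  rw [hS', hfin.closure_biUnion] at hy
  obtain ⟨t, ht, hyt⟩ := Set.mem_iUnion₂.mp hy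
  obtain ⟨ξ, hξ⟩ := QuasiSober.sober (hirr t ht) (hcl t ht)
  have hξt : ξ ∈ t := hξ.mem
  refine ⟨ξ.1, ?_, ?_⟩
  · have : ξ ∈ ((↑) ⁻¹' S : Set V) := by rw [hU]; exact ⟨t, ht, hξt⟩
    exact this
  · rw [specializes_iff_mem_closure]
    have h2 : ((↑) '' t : Set α) ⊆ closure {ξ.1} := by
      rw [← hξ.def]
      refine (image_closure_subset_closure_image continuous_subtype_val).trans ?_
      rw [Set.image_singleton]
    exact closure_minimal h2 isClosed_closure hyt

/-- Consequence for subsets stable under specialization. -/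
theorem closure_subset_of_stableUnderSpecialization {V : Set α} [NoetherianSpace V]
    [QuasiSober V] {S Z : Set α} (hZ : StableUnderSpecialization Z) (hSV : S ⊆ V)
    (hS : IsClosed ((↑) ⁻¹' S : Set V)) (hSZ : S ⊆ Z) : closure S ⊆ Z := by
  intro y hy
  obtain ⟨ξ, hξ, hsp⟩ := exists_specializes_of_mem_closure hSV hS hy
  exact hZ hsp (hSZ hξ)

end Groth.Agent.Lib.Helper21.SpecClosure
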