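import Mathlib.Topology.NoetherianSpace
import Mathlib.Topology.Sober
import Mathlib.Topology.Inseparable

set_option autoImplicit false
universe u v

open TopologicalSpace

namespace Groth.Agent.Lib.Helper21.SpecClosureMap

variable {α : Type u} {β : Type v} [TopologicalSpace α] [TopologicalSpace β]

/-- For a continuous map `g`, a Noetherian quasi-sober subspace `V` of the source and a subset `S`
closed in `V`, every point of the closure of `g '' S` is a specialization of the image of a point of
`S`. -/
theorem exists_specializes_of_mem_closure_image {V : Set α} [NoetherianSpace V] [QuasiSober V]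
    (g : α → β) (hg : Continuous g) {S : Set α} (hSV : S ⊆ V)
    (hS : IsClosed ((↑) ⁻¹' S : Set V)) {y : β} (hy : y ∈ closure (g '' S)) :
    ∃ ξ ∈ S, g ξ ⤳ y := by
  obtain ⟨𝒮, hfin, hcl, hirr, hU⟩ := NoetherianSpace.exists_finite_set_isClosed_irreducible hS
  have hS' : S = ⋃ t ∈ 𝒮, ((↑) '' t : Set α) := by
    have h1 : S = (↑) '' ((↑) ⁻¹' S : Set V) := by
      rw [Subtype.image_preimage_coe]
      exact (Set.inter_eq_right.mpr hSV).symm
    rw [h1, hU, Set.sUnion_eq_biUnion, Set.image_iUnion₂]
  have hS'' : g '' S = ⋃ t ∈ 𝒮, (g '' ((↑) '' t : Set α)) := by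
    rw [hS', Set.image_iUnion₂]
  rw [hS'', hfin.closure_biUnion] at hy
  obtain ⟨t, ht, hyt⟩ := Set.mem_iUnion₂.mp hy
  obtain ⟨ξ, hξ⟩ := QuasiSober.sober (hirr t ht) (hcl t ht)
  have hξt : ξ ∈ t := hξ.mem
  refine ⟨ξ.1, ?_, ?_⟩
  · have : ξ ∈ ((↑) ⁻¹' S : Set V) := by rw [hU]; exact ⟨t, ht, hξt⟩
    exact this
  · rw [specializes_iff_mem_closure]
    have h2 : ((↑) '' t : Set α) ⊆ closure {ξ.1} := by
      rw [← hξ.def]
      refine (image_closure_subset_closure_image continuous_subtype_val).trans ?_
      rw [Set.image_singleton]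
    have h3 : g '' ((↑) '' t : Set α) ⊆ closure {g ξ.1} := by
      refine (Set.image_mono h2).trans ?_
      refine (image_closure_subset_closure_image hg).trans ?_
      rw [Set.image_singleton]
    exact closure_minimal h3 isClosed_closure hyt

/-- Consequence for subsets stable under specialization. -/
theorem closure_image_subset_of_stableUnderSpecialization {V : Set α} [NoetherianSpace V]
    [QuasiSober V] (g : α → β) (hg : Continuous g) {S : Set α} {Z : Set β}
    (hZ : StableUnderSpecialization Z) (hSV : S ⊆ V)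
    (hS : IsClosed ((↑) ⁻¹' S : Set V)) (hSZ : g '' S ⊆ Z) : closure (g '' S) ⊆ Z := by
  intro y hy
  obtain ⟨ξ, hξ, hsp⟩ := exists_specializes_of_mem_closure_image g hg hSV hS hy
  exact hZ hsp (hSZ ⟨ξ, hξ, rfl⟩)

end Groth.Agent.Lib.Helper21.SpecClosureMap
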