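import Groth.Agent.Lib.Helper21.CohCentre
import Groth.Agent.Lib.Helper21.ClImmUnit2

set_option autoImplicit false
set_option linter.style.haveILetI false
set_option backward.isDefEq.respectTransparency.types false
universe u
open AlgebraicGeometry CategoryTheory Opposite TopologicalSpace Limits

namespace Groth.Agent.Lib.Helper21.StalkSpread

open Scheme.Modules Groth.Agent.Lib.Helper21.SpreadOut Groth.Agent.Lib.Helper78.ModStalk
  Groth.Agent.Lib.Helper21.CohCentre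

variable {X : Scheme.{u}}

theorem exists_hom_restrict [IsLocallyNoetherian X] (F G : X.Modules) (hF : Coh.IsCoh F)
    (hG : Coh.IsCoh G) (x : X)
    (ψ : ↑(G.presheaf.stalk x) →ₗ[X.presheaf.stalk x] ↑(F.presheaf.stalk x)) :
    ∃ (U : X.Opens) (hx : x ∈ U)
      (φ : (Scheme.Modules.restrictFunctor U.ι).obj G ⟶ (Scheme.Modules.restrictFunctor U.ι).obj F),
      ∀ (V' : (U : Scheme.{u}).Opens) (hxV' : (⟨x, hx⟩ : U) ∈ V') (m : Γ(G, U.ι ''ᵁ V')),
        F.presheaf.germ (U.ι ''ᵁ V') x ⟨⟨x, hx⟩, hxV', rfl⟩ (φ.app V' m) =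
          ψ (G.presheaf.germ (U.ι ''ᵁ V') x ⟨⟨x, hx⟩, hxV', rfl⟩ m) := by
  haveI : F.IsQuasicoherent := hF.1
  haveI : G.IsQuasicoherent := hG.1
  obtain ⟨H, p₁, p₂, c, hHq, hHf, hc, hbij, hp₂, -, -, U₀, hxU₀, hU₀⟩ :=
    exists_spread G F hG.2 hF.2 x ψ
  obtain ⟨W₁, hxW₁, t, ht⟩ := X.presheaf.exists_germ_eq (x := x) (↑hc.unit⁻¹ : X.presheaf.stalk x)
  let U : X.Opens := U₀ ⊓ W₁
  have hx : x ∈ U := ⟨hxU₀, hxW₁⟩
  let r := Scheme.Modules.restrictFunctor U.ι
  have hle : ∀ V : (U : Scheme.{u}).Opens, U.ι ''ᵁ V ≤ U := by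
    intro V y hy
    obtain ⟨z, -, rfl⟩ := hy
    exact z.2
  haveI : IsIso (r.map p₁) :=
    Groth.Agent.Lib.Helper21.ClImmUnit.isIso_of_app_bijective_of_isAffineOpen _
      (fun V _ => hU₀ (U.ι ''ᵁ V) ((hle V).trans inf_le_left))
  let t' : Coh.Γtop (U : Scheme.{u}) :=
    X.presheaf.map (homOfLE ((hle ⊤).trans inf_le_right)).op t
  let φ : r.obj G ⟶ r.obj F := inv (r.map p₁) ≫ r.map p₂ ≫ Formal.smulModΓ (r.obj F) t'
  refine ⟨U, hx, φ, fun V' hxV' m => ?_⟩
  let W : X.Opens := U.ι ''ᵁ V'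
  have hxW : x ∈ W := ⟨⟨x, hx⟩, hxV', rfl⟩
  let h : Γ(H, W) := (inv (r.map p₁)).app V' m
  have hh : p₁.app W h = m := by
    have h2 : (inv (r.map p₁) ≫ r.map p₁) = 𝟙 _ := IsIso.inv_hom_id _
    have := congr(Scheme.Modules.Hom.app $h2 V')
    exact congr($this m)
  have hφ : φ.app V' m = (X.presheaf.map (homOfLE ((hle V').trans inf_le_right)).op t : Γ(X, W)) •
      p₂.app W h := by
    change (Formal.smulModΓ (r.obj F) t').app V' ((r.map p₂).app V' h) = _
    rw [smulModΓ_app]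
    have e1 : res t' V' = (X.presheaf.map (homOfLE ((hle V').trans inf_le_right)).op t : Γ(X, W)) := by
      change X.presheaf.map _ (X.presheaf.map _ t) = _
      rw [← ConcreteCategory.comp_apply, ← Functor.map_comp]
      rfl
    have e3 : ∀ (a : Γ((U : Scheme.{u}), V')) (s : Γ(r.obj F, V')),
        a • s = (((U.ι.appIso V').inv a : Γ(X, W)) • (show Γ(F, W) from s) : Γ(F, W)) :=
      fun a s => rfl
    rw [e3, e1]
    simp only [Scheme.Opens.ι_appIso]
    rfl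
  change F.presheaf.germ W x hxW (φ.app V' m) = ψ (G.presheaf.germ W x hxW m)
  rw [hφ]
  have e2 := Groth.Agent.Lib.Helper78.ModStalk.germ_smul F x W hxW
    (X.presheaf.map (homOfLE ((hle V').trans inf_le_right)).op t) (p₂.app W h)
  rw [e2, TopCat.Presheaf.germ_res_apply, ht, ← stalkMap_germ, hp₂, stalkMap_germ, hh, smul_smul,
    IsUnit.val_inv_mul, one_smul]

end Groth.Agent.Lib.Helper21.StalkSpread
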