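import Groth.Agent.Lib.Lead.PullbackAff6
import Groth.Agent.Lib.Helper29.QCohLoc
import Groth.Prelude.Def_BlowUp2
import Mathlib.RingTheory.Flat.TorsionFree

/-!
# Pullback of a flat module is its own strict transform (helper21)

`isStrictTransform_id`: if `𝓘.comap b` is effective Cartier and `F` is quasi-coherent and flat at the
points of `V(𝓘)`, no nonzero section of `b^* F` over an affine open is killed by a power of the
exceptional ideal.
-/

set_option autoImplicit false
set_option linter.style.haveILetI false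
universe u
open AlgebraicGeometry CategoryTheory Opposite TopologicalSpace Limits TensorProduct

namespace Groth.Agent.Lib.Helper21.StrictTransFlat

open Groth.Agent.Lib.Helper29.QCohLoc

theorem isStrictTransform_id {S S' : Scheme.{u}} (𝓘 : S.IdealSheafData) (b : S' ⟶ S)
    (hb : BlowUp.IsEffCartierIdeal (𝓘.comap b))
    (F : S.Modules) [F.IsQuasicoherent]
    (hflat : ∀ s : ↥S, s ∈ 𝓘.support → FlatMod.IsFlatAt F s) :
    BlowUp.IsStrictTransform b 𝓘 F ((Scheme.Modules.pullback b).obj F) (𝟙 _) := by
  refine ⟨inferInstance, fun V m => ⟨fun h => ?_, fun h => ?_⟩⟩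
  · have hm : m = 0 := h
    subst hm
    exact ⟨0, fun a _ => smul_zero a⟩
  · obtain ⟨n, hn⟩ := h
    change m = 0
    refine TopCat.Presheaf.section_ext ⟨((Scheme.Modules.pullback b).obj F).presheaf,
      ((Scheme.Modules.pullback b).obj F).isSheaf⟩ V.1 m 0 (fun s' hs' => ?_)
    rw [map_zero]
    obtain ⟨W, hs'W, t, ht, hWt⟩ := hb s'
    obtain ⟨W', hW', hs'W', hW'sub⟩ := exists_isAffineOpen_mem_and_subset (X := S') (x := s')
      (U := V.1 ⊓ W.1) ⟨hs', hs'W⟩
    have hW'V : W' ≤ V.1 := fun y hy => (hW'sub hy).1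
    have hW'W : W' ≤ W.1 := fun y hy => (hW'sub hy).2
    let t' : Γ(S', W') := (S'.presheaf.map (homOfLE hW'W).op).hom t
    have ht'mem : t' ∈ (𝓘.comap b).ideal ⟨W', hW'⟩ := by
      rw [← (𝓘.comap b).map_ideal (U := ⟨W', hW'⟩) (V := W) hW'W, hWt]
      exact Ideal.mem_map_of_mem _ (Ideal.mem_span_singleton_self t)
    have ht'pow : t' ^ n ∈ ((𝓘.comap b) ^ n).ideal ⟨W', hW'⟩ := by
      rw [Scheme.IdealSheafData.ideal_pow]
      exact Ideal.pow_mem_pow ht'mem n
    have hkillall : ∀ c ∈ ((𝓘.comap b) ^ n).ideal ⟨W', hW'⟩,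
        c • ((Scheme.Modules.pullback b).obj F).presheaf.map (homOfLE hW'V).op m = 0 := by
      intro c hc
      rw [← ((𝓘.comap b) ^ n).map_ideal (U := ⟨W', hW'⟩) (V := V) hW'V, Ideal.map] at hc
      refine Submodule.span_induction ?_ ?_ ?_ ?_ hc
      · rintro _ ⟨a, ha, rfl⟩
        have := res_smul ((Scheme.Modules.pullback b).obj F) hW'V a m
        rw [hn a ha, map_zero] at this
        exact this.symm
      · exact zero_smul _ _
      · intro x y _ _ hx hy
        rw [add_smul, hx, hy, add_zero]
      · intro a x _ hx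
        rw [smul_eq_mul, mul_smul, hx, smul_zero]
    have hkill := hkillall _ ht'pow
    have hg : (S'.presheaf.germ W.1 s' hs'W t) ^ n •
        ((Scheme.Modules.pullback b).obj F).presheaf.germ V.1 s' hs' m = 0 := by
      have h1 := congrArg (((Scheme.Modules.pullback b).obj F).presheaf.germ W' s' hs'W') hkill
      rw [germ_smul, map_pow, germ_res, map_zero] at h1
      have h2 : S'.presheaf.germ W' s' hs'W' t' = S'.presheaf.germ W.1 s' hs'W t :=
        TopCat.Presheaf.germ_res_apply S'.presheaf (homOfLE hW'W) s' hs'W' t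
      rw [h2] at h1
      exact h1
    by_cases hsE : s' ∈ (𝓘.comap b).support
    · have hsI : b s' ∈ 𝓘.support := by
        rw [Scheme.IdealSheafData.support_comap] at hsE
        exact hsE
      have hfl : Module.Flat (S.presheaf.stalk (b s')) (F.presheaf.stalk (b s')) := hflat _ hsI
      letI := (b.stalkMap s').hom.toAlgebra
      obtain ⟨e⟩ := Groth.Agent.Lib.Lead.PullbackAff.nonempty_stalk_pullback_equiv b F s'
      haveI : Module.Flat (S'.presheaf.stalk s')
          (((Scheme.Modules.pullback b).obj F).presheaf.stalk s') :=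
        Module.Flat.of_linearEquiv e
      have hreg : S'.presheaf.germ W.1 s' hs'W t ∈ nonZeroDivisors (S'.presheaf.stalk s') := by
        let _ := S'.presheaf.algebra_section_stalk ⟨s', hs'W⟩
        have hloc := W.2.isLocalization_stalk ⟨s', hs'W⟩
        exact IsLocalization.map_nonZeroDivisors_le
          (W.2.primeIdealOf ⟨s', hs'W⟩).asIdeal.primeCompl (S'.presheaf.stalk s')
          ⟨t, ht, rfl⟩
      have hsm := (Module.Flat.isSMulRegular_of_nonZeroDivisors
        (M := ((Scheme.Modules.pullback b).obj F).presheaf.stalk s') hreg).pow n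
      have h0 : (S'.presheaf.germ W.1 s' hs'W t) ^ n •
          ((Scheme.Modules.pullback b).obj F).presheaf.germ V.1 s' hs' m =
          (S'.presheaf.germ W.1 s' hs'W t) ^ n • 0 := by
        rw [smul_zero]
        exact hg
      exact hsm h0
    · have hunit : IsUnit (S'.presheaf.germ W.1 s' hs'W t) := by
        rw [Scheme.IdealSheafData.mem_support_iff_of_mem (U := W) hs'W, hWt,
          Scheme.zeroLocus_span, Scheme.zeroLocus_singleton] at hsE
        have hmem : s' ∈ S'.basicOpen t := by
          by_contra hcon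
          exact hsE hcon
        exact (Scheme.mem_basicOpen S' t s' hs'W).mp hmem
      exact (hunit.pow n).smul_eq_zero.mp hg

end Groth.Agent.Lib.Helper21.StrictTransFlat
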