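import Groth.Agent.Lib.Helper21.StrictTransQCoh
import Groth.Agent.Lib.Helper82.EffCartier

/-!
# Strict transforms along locally principal inverse image ideals (helper21)

Variants of `StrictTransQCoh` where the inverse image ideal is only assumed to be locally
principal (no nonzerodivisor condition), plus: the inverse image of a locally principal ideal is
locally principal.
-/

set_option autoImplicit false
set_option linter.style.haveILetI false
universe u

open AlgebraicGeometry CategoryTheory Limits Opposite TopologicalSpace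

namespace Groth.Agent.Lib.Helper21.StrictTransQCoh2

open Scheme.Modules Groth.Agent.Lib.Lead.QCohAff Groth.Agent.Lib.Lead
  Groth.Agent.Lib.Helper2.KerSec Groth.Agent.Lib.Helper21.QCohSections
  Groth.Agent.Lib.Helper21.StrictTransQCoh

/-- The ideal sheaf `𝓔` is locally principal. -/
def IsLocPrincipal {X : Scheme.{u}} (𝓔 : X.IdealSheafData) : Prop :=
  ∀ x : X, ∃ W : X.affineOpens, x ∈ W.1 ∧ ∃ t : Γ(X, W.1), 𝓔.ideal W = Ideal.span {t}

theorem isLocPrincipal_of_isEffCartier {X : Scheme.{u}} {𝓔 : X.IdealSheafData}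
    (h : BlowUp.IsEffCartierIdeal 𝓔) : IsLocPrincipal 𝓔 := fun x => by
  obtain ⟨W, hxW, t, -, ht⟩ := h x
  exact ⟨W, hxW, t, ht⟩

theorem isLocPrincipal_comap {X Y : Scheme.{u}} (f : X ⟶ Y) {𝓔 : Y.IdealSheafData}
    (h : IsLocPrincipal 𝓔) : IsLocPrincipal (𝓔.comap f) := fun x => by
  obtain ⟨W, hxW, t, ht⟩ := h (f x)
  obtain ⟨_, ⟨W', hW', rfl⟩, hxW', hW'le⟩ :=
    X.isBasis_affineOpens.exists_subset_of_mem_open
      (show x ∈ ((f ⁻¹ᵁ W.1 : X.Opens) : Set X) from hxW) (f ⁻¹ᵁ W.1).isOpen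
  refine ⟨⟨W', hW'⟩, hxW', (f.appLE W.1 W' hW'le).hom t, ?_⟩
  rw [Groth.Agent.Lib.Helper82.ideal_comap_of_le f 𝓔 W' hW' W.1 W.2 hW'le, ht, Ideal.map_span,
    Set.image_singleton]

variable {X X' : Scheme.{u}} (b : X' ⟶ X) (𝓘 : X.IdealSheafData) (F : X.Modules)
  (G : X'.Modules) (π : (Scheme.Modules.pullback b).obj F ⟶ G)

theorem isQuasicoherent_kernel [F.IsQuasicoherent] (hE : IsLocPrincipal (𝓘.comap b))
    (hG : BlowUp.IsStrictTransform b 𝓘 F G π) : (kernel π).IsQuasicoherent := by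
  apply QCohCrit.isQuasicoherent_of_locOn
  intro x
  obtain ⟨W, hxW, t, ht⟩ := hE x
  exact ⟨W.1, W.2, hxW, locOn_kernel b 𝓘 F G π hG W t ht⟩

theorem isQuasicoherent [F.IsQuasicoherent] (hE : IsLocPrincipal (𝓘.comap b))
    (hG : BlowUp.IsStrictTransform b 𝓘 F G π) : G.IsQuasicoherent := by
  haveI := isQuasicoherent_kernel b 𝓘 F G π hE hG
  haveI : Epi π := hG.1
  haveI : (cokernel (kernel.ι π)).IsQuasicoherent :=
    Groth.Agent.Lib.Helper21.QCohKernel.isQuasicoherent_cokernel (kernel.ι π)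
  have e : cokernel (kernel.ι π) ≅ G :=
    (cokernelIsCokernel (kernel.ι π)).coconePointUniqueUpToIso
      (Abelian.epiIsCokernelOfKernel (limit.cone (parallelPair π 0)) (limit.isLimit _))
  exact PullbackAff.isQuasicoherent_of_iso e

theorem app_surjective [F.IsQuasicoherent] (hE : IsLocPrincipal (𝓘.comap b))
    (hG : BlowUp.IsStrictTransform b 𝓘 F G π) {V : X'.Opens} (hV : IsAffineOpen V) :
    Function.Surjective (π.app V) := by
  haveI := isQuasicoherent b 𝓘 F G π hE hG
  haveI : Epi π := hG.1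
  exact app_surjective_of_epi π hV

end Groth.Agent.Lib.Helper21.StrictTransQCoh2
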