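import Groth.Agent.Lib.Helper40.AffBC3
import Groth.Agent.Lib.Helper48.Conormal1
import Groth.Agent.Lib.Helper21.StrictTransQCoh2

/-!
# Strict transforms and affine pushforward (helper21)

For a pullback square with `g : X ⟶ Y` affine, the pushforward of a strict transform of `F` along
`pX` is a strict transform of `g_* F` along `pY`.
-/

set_option autoImplicit false
set_option linter.style.haveILetI false
universe u

open AlgebraicGeometry CategoryTheory Limits Opposite TopologicalSpace

namespace Groth.Agent.Lib.Helper21.StrictTransPush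

open Groth.Agent.Lib.Helper21.StrictTransQCoh2

theorem app_bijective_of_isIso {X : Scheme.{u}} {M N : X.Modules} (β : M ⟶ N) [IsIso β]
    (V : X.Opens) : Function.Bijective (β.app V) := by
  rw [Function.bijective_iff_has_inverse]
  refine ⟨(inv β).app V, fun x => ?_, fun x => ?_⟩
  · have h1 : β.app V ≫ (inv β).app V = 𝟙 _ := by
      rw [← Scheme.Modules.Hom.comp_app, IsIso.hom_inv_id]; rfl
    exact ConcreteCategory.congr_hom h1 x
  · have h1 : (inv β).app V ≫ β.app V = 𝟙 _ := by
      rw [← Scheme.Modules.Hom.comp_app, IsIso.inv_hom_id]; rfl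
    exact ConcreteCategory.congr_hom h1 x

theorem exists_strictTransform_pushforward {X Y X' Y' : Scheme.{u}} (g : X ⟶ Y) [IsAffineHom g]
    (pY : Y' ⟶ Y) (pX : X' ⟶ X) (g' : X' ⟶ Y') (hsq : IsPullback pX g' g pY)
    (𝓘 : Y.IdealSheafData) (hLP : IsLocPrincipal ((𝓘.comap g).comap pX))
    (F : X.Modules) [F.IsQuasicoherent] (F' : X'.Modules)
    (π : (Scheme.Modules.pullback pX).obj F ⟶ F')
    (hπ : BlowUp.IsStrictTransform pX (𝓘.comap g) F F' π) :
    ∃ π' : (Scheme.Modules.pullback pY).obj ((Scheme.Modules.pushforward g).obj F) ⟶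
        (Scheme.Modules.pushforward g').obj F',
      BlowUp.IsStrictTransform pY 𝓘 ((Scheme.Modules.pushforward g).obj F)
        ((Scheme.Modules.pushforward g').obj F') π' := by
  classical
  let β := Groth.Agent.Lib.Helper40.AffBC.baseChangeMap g pY pX g' hsq.w F
  haveI hβ : IsIso β := Groth.Agent.Lib.Helper40.AffBC.isIso_baseChangeMap hsq F
  have hEX : BlowUp.exceptional pX (𝓘.comap g) = (BlowUp.exceptional pY 𝓘).comap g' := by
    unfold BlowUp.exceptional
    rw [← Scheme.IdealSheafData.comap_comp, ← Scheme.IdealSheafData.comap_comp, hsq.w]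
  haveI hF'q : F'.IsQuasicoherent :=
    Groth.Agent.Lib.Helper21.StrictTransQCoh2.isQuasicoherent pX (𝓘.comap g) F F' π hLP hπ
  haveI : Epi π := hπ.1
  haveI : IsAffineHom g' := MorphismProperty.of_isPullback hsq inferInstance
  refine ⟨β ≫ (Scheme.Modules.pushforward g').map π, ?_, ?_⟩
  · -- epimorphism
    haveI : Epi ((Scheme.Modules.pushforward g').map π) := by
      apply Groth.Agent.Lib.Helper48.Conormal.epi_of_basis _ _ Y'.isBasis_affineOpens
      rintro V hV
      rw [Scheme.Modules.pushforward_map_app]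
      exact Groth.Agent.Lib.Helper21.QCohSections.app_surjective_of_epi π
        (IsAffineOpen.preimage hV g')
    exact epi_comp _ _
  · -- the kernel condition
    intro V m
    have hV' : IsAffineOpen (g' ⁻¹ᵁ V.1) := IsAffineOpen.preimage V.2 g'
    have hideal : ∀ n : ℕ, ((BlowUp.exceptional pX (𝓘.comap g)) ^ n).ideal ⟨g' ⁻¹ᵁ V.1, hV'⟩ =
        (((BlowUp.exceptional pY 𝓘) ^ n).ideal V).map (g'.app V.1).hom := by
      intro n
      rw [Scheme.IdealSheafData.ideal_pow, Scheme.IdealSheafData.ideal_pow, Pi.pow_apply,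
        Pi.pow_apply, Ideal.map_pow, hEX,
        Groth.Agent.Lib.Helper82.ideal_comap_of_le g' _ (g' ⁻¹ᵁ V.1) hV' V.1 V.2 le_rfl,
        Scheme.Hom.app_eq_appLE]
    have hsmul : ∀ (a : Γ(Y', V.1))
        (x : Γ((Scheme.Modules.pullback pY).obj ((Scheme.Modules.pushforward g).obj F), V.1)),
        (show Γ((Scheme.Modules.pullback pX).obj F, g' ⁻¹ᵁ V.1) from β.app V.1 (a • x)) =
          ((g'.app V.1).hom a) •
            (show Γ((Scheme.Modules.pullback pX).obj F, g' ⁻¹ᵁ V.1) from β.app V.1 x) := by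
      intro a x
      rw [Scheme.Modules.Hom.app_smul]
      rfl
    have hcomp : (β ≫ (Scheme.Modules.pushforward g').map π).app V.1 m =
        π.app (g' ⁻¹ᵁ V.1) (β.app V.1 m) := rfl
    rw [hcomp]
    refine (hπ.2 ⟨g' ⁻¹ᵁ V.1, hV'⟩ (β.app V.1 m)).trans ?_
    constructor
    · rintro ⟨n, hn⟩
      refine ⟨n, fun a ha => ?_⟩
      apply (app_bijective_of_isIso β V.1).1
      rw [map_zero]
      refine (hsmul a m).trans ?_
      apply hn
      rw [hideal n]
      exact Ideal.mem_map_of_mem _ ha
    · rintro ⟨n, hn⟩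
      refine ⟨n, fun a ha => ?_⟩
      rw [hideal n] at ha
      refine Submodule.span_induction
        (p := fun a _ => a • (show Γ((Scheme.Modules.pullback pX).obj F, g' ⁻¹ᵁ V.1) from
          β.app V.1 m) = 0) ?_ ?_ ?_ ?_ ha
      · rintro _ ⟨a', ha', rfl⟩
        refine (hsmul a' m).symm.trans ?_
        rw [hn a' ha', map_zero]
        rfl
      · exact zero_smul _ _
      · intro x y _ _ hx hy
        rw [add_smul, hx, hy, add_zero]
      · intro c x _ hx
        rw [smul_eq_mul, mul_smul, hx, smul_zero]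

end Groth.Agent.Lib.Helper21.StrictTransPush
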