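import Groth.Agent.Lib.Helper2.KerSec
import Groth.Agent.Lib.Helper21.QCohKernel
import Groth.Agent.Lib.Helper21.QCohSections
import Groth.Agent.Lib.Lead.CohAff3
import Groth.Prelude.Def_BlowUp2
import Groth.Prelude.Def_FlatCA

/-!
# Strict transforms of quasi-coherent modules are quasi-coherent (helper21)

For `π : b^*F ⟶ G` a strict transform (`BlowUp.IsStrictTransform b 𝓘 F G π`) with `F` quasi-coherent
and `𝓘.comap b` locally principal, the kernel of `π` and `G` are quasi-coherent, `π` is surjective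
on affine sections, and over an affine open `V` on which `𝓘.comap b` is generated by `t` the kernel
of `π.app V` is the `t`-power torsion.
-/

set_option autoImplicit false
set_option linter.style.haveILetI false
universe u

open AlgebraicGeometry CategoryTheory Limits Opposite TopologicalSpace

namespace Groth.Agent.Lib.Helper21.StrictTransQCoh

open Scheme.Modules Groth.Agent.Lib.Lead.QCohAff Groth.Agent.Lib.Lead
  Groth.Agent.Lib.Helper2.KerSec Groth.Agent.Lib.Helper21.QCohSections

variable {X : Scheme.{u}}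

/-- On an affine open where the ideal sheaf is generated by `t`, being killed by a power of the
ideal sheaf means being killed by a power of `t`. -/
theorem killedByPowerNear_iff (𝓔 : X.IdealSheafData) (M : X.Modules) (V : X.affineOpens)
    (t : Γ(X, V.1)) (ht : 𝓔.ideal V = Ideal.span {t}) (m : Γ(M, V.1)) :
    BlowUp.KilledByPowerNear 𝓔 M V m ↔ ∃ n : ℕ, t ^ n • m = 0 := by
  constructor
  · rintro ⟨n, hn⟩
    refine ⟨n, hn (t ^ n) ?_⟩
    rw [Scheme.IdealSheafData.ideal_pow, Pi.pow_apply, ht, Ideal.span_singleton_pow]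
    exact Ideal.mem_span_singleton_self _
  · rintro ⟨n, hn⟩
    refine ⟨n, fun a ha => ?_⟩
    rw [Scheme.IdealSheafData.ideal_pow, Pi.pow_apply, ht, Ideal.span_singleton_pow,
      Ideal.mem_span_singleton'] at ha
    obtain ⟨c, rfl⟩ := ha
    rw [mul_smul, hn, smul_zero]

/-- The generator restricts to a generator on basic opens. -/
theorem ideal_basicOpen_eq (𝓔 : X.IdealSheafData) (V : X.affineOpens)
    (t : Γ(X, V.1)) (ht : 𝓔.ideal V = Ideal.span {t}) (f : Γ(X, V.1)) :
    𝓔.ideal (X.affineBasicOpen f) =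
      Ideal.span {(X.presheaf.map (homOfLE (X.basicOpen_le f)).op).hom t} := by
  rw [← 𝓔.map_ideal_basicOpen V f, ht, Ideal.map_span, Set.image_singleton]

section

variable {X' : Scheme.{u}} (b : X' ⟶ X) (𝓘 : X.IdealSheafData) (F : X.Modules)
  (G : X'.Modules) (π : (Scheme.Modules.pullback b).obj F ⟶ G)

theorem locOn_kernel [F.IsQuasicoherent] (hG : BlowUp.IsStrictTransform b 𝓘 F G π)
    (W : X'.affineOpens) (t : Γ(X', W.1)) (ht : (𝓘.comap b).ideal W = Ideal.span {t}) :
    LocOn (kernel π) W.1 := by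
  obtain ⟨hP1, hP2⟩ := LocOn.of_isQuasicoherent ((Scheme.Modules.pullback b).obj F) W.2
  constructor
  · intro f s hs
    have h1 : ((Scheme.Modules.pullback b).obj F).presheaf.map (homOfLE (X'.basicOpen_le f)).op
        ((kernel.ι π).app W.1 s) = 0 := by
      rw [← naturality_apply, hs, map_zero]
    obtain ⟨n, hn⟩ := hP1 f _ h1
    refine ⟨n, app_kernelι_injective π W.1 ?_⟩
    rw [Hom.app_smul, hn, map_zero]
  · intro f τ
    set m' := (kernel.ι π).app (X'.basicOpen f) τ with hm'
    have hπm' : π.app (X'.basicOpen f) m' = 0 := app_kernelι_comp π _ τ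
    have hk := (hG.2 (X'.affineBasicOpen f) m').1 hπm'
    obtain ⟨N, hN⟩ := (killedByPowerNear_iff (BlowUp.exceptional b 𝓘) _ (X'.affineBasicOpen f) _
      (ideal_basicOpen_eq (𝓘.comap b) W t ht f) m').1 hk
    obtain ⟨n, s, hs⟩ := hP2 f m'
    have h2 : ((Scheme.Modules.pullback b).obj F).presheaf.map (homOfLE (X'.basicOpen_le f)).op
        (t ^ N • s) = 0 := by
      have hN' : ((X'.presheaf.map (homOfLE (X'.basicOpen_le f)).op).hom t) ^ N • m' = 0 := hN
      rw [Scheme.Modules.map_smul, hs, map_pow, smul_comm, hN', smul_zero]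
    obtain ⟨l, hl⟩ := hP1 f _ h2
    have h3 : t ^ N • (f ^ l • s) = 0 := by rw [smul_comm, hl]
    have h4 : π.app W.1 (f ^ l • s) = 0 :=
      (hG.2 W (f ^ l • s)).2
        ((killedByPowerNear_iff (BlowUp.exceptional b 𝓘) _ W t ht _).2 ⟨N, h3⟩)
    obtain ⟨σ, hσ⟩ := exists_of_app_eq_zero π W.1 _ h4
    refine ⟨l + n, σ, app_kernelι_injective π _ ?_⟩
    rw [naturality_apply, hσ, Hom.app_smul, Scheme.Modules.map_smul, hs, ← mul_smul, map_pow,
      pow_add]

theorem isQuasicoherent_kernel [F.IsQuasicoherent] (hE : BlowUp.IsEffCartierIdeal (𝓘.comap b))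
    (hG : BlowUp.IsStrictTransform b 𝓘 F G π) : (kernel π).IsQuasicoherent := by
  apply QCohCrit.isQuasicoherent_of_locOn
  intro x
  obtain ⟨W, hxW, t, -, ht⟩ := hE x
  exact ⟨W.1, W.2, hxW, locOn_kernel b 𝓘 F G π hG W t ht⟩

theorem isQuasicoherent [F.IsQuasicoherent] (hE : BlowUp.IsEffCartierIdeal (𝓘.comap b))
    (hG : BlowUp.IsStrictTransform b 𝓘 F G π) : G.IsQuasicoherent := by
  haveI := isQuasicoherent_kernel b 𝓘 F G π hE hG
  haveI : Epi π := hG.1
  haveI : (cokernel (kernel.ι π)).IsQuasicoherent :=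
    Groth.Agent.Lib.Helper21.QCohKernel.isQuasicoherent_cokernel (kernel.ι π)
  have e : cokernel (kernel.ι π) ≅ G :=
    (cokernelIsCokernel (kernel.ι π)).coconePointUniqueUpToIso
      (Abelian.epiIsCokernelOfKernel (limit.cone (parallelPair π 0)) (limit.isLimit _))
  exact PullbackAff.isQuasicoherent_of_iso e

theorem app_surjective [F.IsQuasicoherent] (hE : BlowUp.IsEffCartierIdeal (𝓘.comap b))
    (hG : BlowUp.IsStrictTransform b 𝓘 F G π) {V : X'.Opens} (hV : IsAffineOpen V) :
    Function.Surjective (π.app V) := by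
  haveI := isQuasicoherent b 𝓘 F G π hE hG
  haveI : Epi π := hG.1
  exact app_surjective_of_epi π hV

theorem ker_appL_eq [F.IsQuasicoherent] (hG : BlowUp.IsStrictTransform b 𝓘 F G π)
    (W : X'.affineOpens) (t : Γ(X', W.1)) (ht : (𝓘.comap b).ideal W = Ideal.span {t}) :
    LinearMap.ker (appL π W.1) =
      FlatCA.powTorsion Γ(X', W.1) t Γ((Scheme.Modules.pullback b).obj F, W.1) := by
  ext m
  rw [LinearMap.mem_ker, appL_apply, hG.2 W m,
    killedByPowerNear_iff (BlowUp.exceptional b 𝓘) _ W t ht m]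
  unfold FlatCA.powTorsion
  rw [Submodule.mem_iSup_of_directed]
  · simp only [Submodule.mem_torsionBy_iff]
  · intro i j
    refine ⟨i + j, ?_, ?_⟩
    · intro x hx
      rw [Submodule.mem_torsionBy_iff] at hx ⊢
      rw [pow_add, mul_comm, mul_smul, hx, smul_zero]
    · intro x hx
      rw [Submodule.mem_torsionBy_iff] at hx ⊢
      rw [pow_add, mul_smul, hx, smul_zero]

/-- sections of the strict transform over an affine chart of the exceptional divisor. -/
noncomputable def sectionsEquiv [F.IsQuasicoherent] (hE : BlowUp.IsEffCartierIdeal (𝓘.comap b))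
    (hG : BlowUp.IsStrictTransform b 𝓘 F G π)
    (W : X'.affineOpens) (t : Γ(X', W.1)) (ht : (𝓘.comap b).ideal W = Ideal.span {t}) :
    (Γ((Scheme.Modules.pullback b).obj F, W.1) ⧸
      FlatCA.powTorsion Γ(X', W.1) t Γ((Scheme.Modules.pullback b).obj F, W.1)) ≃ₗ[Γ(X', W.1)]
      Γ(G, W.1) :=
  (Submodule.quotEquivOfEq _ _ (ker_appL_eq b 𝓘 F G π hG W t ht).symm).trans
    ((appL π W.1).quotKerEquivOfSurjective (app_surjective b 𝓘 F G π hE hG W.2))

theorem finite_sections [F.IsQuasicoherent] (hE : BlowUp.IsEffCartierIdeal (𝓘.comap b))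
    (hG : BlowUp.IsStrictTransform b 𝓘 F G π) {V : X'.Opens} (hV : IsAffineOpen V)
    [Module.Finite Γ(X', V) Γ((Scheme.Modules.pullback b).obj F, V)] :
    Module.Finite Γ(X', V) Γ(G, V) :=
  Module.Finite.of_surjective (appL π V) (app_surjective b 𝓘 F G π hE hG hV)

end

end Groth.Agent.Lib.Helper21.StrictTransQCoh
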