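import Groth.Agent.Lib.Helper21.SyzygyFree
import Groth.Agent.Lib.Helper77.AuslanderBuchsbaum

/-!
# Kernels of surjections from free modules onto modules of positive depth (helper21)

* `free_of_exact_of_one_le_depth`: over a regular local ring of dimension `≤ 2`, if
  `0 → K → P → Q → 0` is exact with `P` finite free and `depth Q ≥ 1`, then `K` is free.
-/

set_option autoImplicit false
set_option linter.style.haveILetI false
universe u

namespace Groth.Agent.Lib.Helper21.SyzygyDepth

open IsLocalRing LocCoh CategoryTheory

theorem free_of_exact_of_one_le_depth (R : Type u) [CommRing R] [IsRegularLocalRing R]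
    (hdim : ringKrullDim R ≤ 2) {K P Q : Type u} [AddCommGroup K] [Module R K]
    [AddCommGroup P] [Module R P] [AddCommGroup Q] [Module R Q]
    [Module.Finite R P] [Module.Free R P] [Module.Finite R Q]
    (i : K →ₗ[R] P) (g : P →ₗ[R] Q) (hi : Function.Injective i) (hg : Function.Surjective g)
    (hex : Function.Exact i g) (hQ : 1 ≤ LocCoh.depth R Q) : Module.Free R K := by
  haveI : Module.Finite R K := Module.Finite.of_injective i hi
  rcases subsingleton_or_nontrivial P with hP | hP
  · haveI : Subsingleton K := hi.subsingleton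
    exact Module.Free.of_subsingleton R K
  apply Groth.Agent.Lib.Helper21.SyzygyFree.free_of_min_two_depth_le R hdim K
  have h1 := Groth.Agent.Lib.Helper67.idealDepth_left_ge (maximalIdeal R) K P Q i g hi hg hex
  have h2 : LocCoh.depth R P = LocCoh.depth R R :=
    Groth.Agent.Lib.Helper77.AuslanderBuchsbaum.depth_of_free R P
  have h1' : min (LocCoh.depth R P) (LocCoh.depth R Q + 1) ≤ LocCoh.depth R K := h1
  rw [h2] at h1'
  refine le_trans ?_ h1'
  rw [le_min_iff]
  refine ⟨min_le_right _ _, le_trans (min_le_left _ _) ?_⟩
  calc (2 : ℕ∞) = 1 + 1 := by norm_num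
    _ ≤ LocCoh.depth R Q + 1 := by gcongr

end Groth.Agent.Lib.Helper21.SyzygyDepth
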