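import Groth.Agent.Lib.Helper21.ReflexiveFree
import Groth.Agent.Lib.Helper24.BezoutFP

/-!
# First syzygies of torsion-free modules over regular local rings of dimension `≤ 2` are free
(helper21)

* `free_of_min_two_depth_le`: over a regular local ring of dimension `≤ 2`, a finite module with
  `depth M ≥ min(2, depth R)` is free (Auslander–Buchsbaum).
* `free_of_exact_torsionFree`: if `0 → K → P → N` is exact with `P` finite free and `N` finite
  torsion-free over a regular local ring of dimension `≤ 2`, then `K` is free.
-/

set_option autoImplicit false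
set_option linter.style.haveILetI false
universe u

namespace Groth.Agent.Lib.Helper21.SyzygyFree

open IsLocalRing LocCoh CategoryTheory

/-- Over a regular local ring of dimension at most two, a finite module of depth
`≥ min(2, depth R)` is free. -/
theorem free_of_min_two_depth_le (R : Type u) [CommRing R]
    [IsRegularLocalRing R] (hdim : ringKrullDim R ≤ 2) (M : Type u) [AddCommGroup M] [Module R M]
    [Module.Finite R M] (hdepth : min (2 : ℕ∞) (LocCoh.depth R R) ≤ LocCoh.depth R M) :
    Module.Free R M := by
  rcases subsingleton_or_nontrivial M with hM | hM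
  · exact Module.Free.of_subsingleton R M
  obtain ⟨e, hpd, hAB⟩ := Groth.Agent.Lib.Helper77.RegularAB.exists_pd_add_depth_eq_dim R M
  have hreg := Groth.Agent.Lib.Helper77.RegularCM.depth_eq_dim R
  have hrefl := hdepth
  obtain ⟨d, hd⟩ := Groth.Agent.Lib.Helper77.RegularAB.exists_ringKrullDim_eq R
  have hdR : LocCoh.depth R R = d := by
    rw [hd] at hreg
    exact_mod_cast hreg
  have hd2 : d ≤ 2 := by
    rw [hd] at hdim
    exact_mod_cast hdim
  rw [hdR, min_eq_right (by exact_mod_cast hd2)] at hrefl
  have hsum : (e : ℕ∞) + LocCoh.depth R M = d := by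
    rw [hd] at hAB
    exact_mod_cast hAB.symm
  have he : e = 0 := by
    have h1 : (e : ℕ∞) + d ≤ d := by
      calc (e : ℕ∞) + d ≤ e + LocCoh.depth R M := by gcongr
        _ = d := hsum
    have h2 : e + d ≤ d := by exact_mod_cast h1
    omega
  subst he
  have hlt : projectiveDimension (ModuleCat.of R M) < (1 : ℕ) := by
    rw [hpd]
    decide
  rw [projectiveDimension_lt_iff, ← projective_iff_hasProjectiveDimensionLT_one,
    ← IsProjective.iff_projective] at hlt
  haveI : Module.Projective R M := hlt
  exact Module.free_of_flat_of_isLocalRing

/-- A first syzygy of a finite torsion-free module over a regular local ring of dimension `≤ 2`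
is free. -/
theorem free_of_exact_torsionFree (R : Type u) [CommRing R] [IsRegularLocalRing R]
    (hdim : ringKrullDim R ≤ 2) {K P N : Type u} [AddCommGroup K] [Module R K]
    [AddCommGroup P] [Module R P] [AddCommGroup N] [Module R N]
    [Module.Finite R P] [Module.Free R P] [Module.Finite R N] [Module.IsTorsionFree R N]
    (i : K →ₗ[R] P) (g : P →ₗ[R] N) (hi : Function.Injective i) (hex : Function.Exact i g) :
    Module.Free R K := by
  haveI : IsDomain R := Groth.Agent.Lib.Helper76.isDomain_of_isRegularLocalRing R
  obtain ⟨r, ε, hε⟩ := Groth.Agent.Lib.Helper24.RDProj.exists_injective_fin_of_torsionFree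
    (R := R) N
  haveI : Module.Finite R K := Module.Finite.of_injective i hi
  have hex' : Function.Exact i (ε ∘ₗ g) := by
    intro y
    rw [← hex y]
    constructor
    · intro h
      apply hε
      rw [map_zero]
      exact h
    · intro h
      change ε (g y) = 0
      rw [h, map_zero]
  exact free_of_min_two_depth_le R hdim K
    (Groth.Agent.Lib.Helper21.PushDepthAlg.min_two_depth_le_of_exact_flat i (ε ∘ₗ g) hi hex')

end Groth.Agent.Lib.Helper21.SyzygyFree
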