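import Groth.Agent.Lib.Helper29.AssNoeth
import Groth.Agent.Lib.Helper64.HomSh1
import Mathlib.RingTheory.Ideal.AssociatedPrime.Finiteness

/-!
# Associated points of torsion-free modules on reduced schemes (helper21)

* `isField_of_isAssociatedPrime_of_torsionFree`: over a reduced Noetherian local ring, if the
  maximal ideal is associated to a torsion-free module then the ring is a field.
* `germ_injective_of_torsionFree`: on a reduced locally Noetherian scheme, sections of a torsion-free
  quasi-coherent module over an open `U` all of whose "generic" points specialize to `x` inject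
  into the stalk at `x`.
-/

set_option autoImplicit false
set_option linter.style.haveILetI false
universe u
open CategoryTheory AlgebraicGeometry TopologicalSpace

namespace Groth.Agent.Lib.Helper21.TorsionFreeAss

open IsLocalRing in
theorem isField_of_isAssociatedPrime_of_torsionFree (R : Type*) [CommRing R] [IsLocalRing R]
    [IsNoetherianRing R] [IsReduced R] (M : Type*) [AddCommGroup M] [Module R M]
    [Module.IsTorsionFree R M] (h : IsAssociatedPrime (maximalIdeal R) M) : IsField R := by
  rw [isAssociatedPrime_iff] at h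
  obtain ⟨-, v, hv⟩ := h
  have hv0 : v ≠ 0 := by
    rintro rfl
    have h1 : (1 : R) ∈ maximalIdeal R := by
      rw [hv, Submodule.mem_colon_singleton]
      simp
    exact (Ideal.ne_top_iff_one _).mp (maximalIdeal.isMaximal R).ne_top h1
  have hsub : ((maximalIdeal R : Ideal R) : Set R) ⊆ ⋃ p ∈ associatedPrimes R R, (p : Set R) := by
    rw [biUnion_associatedPrimes_eq_compl_nonZeroDivisors]
    intro r hr hreg
    have h1 : r • v = 0 := by
      have : r ∈ (⊥ : Submodule R M).colon {v} := hv ▸ hr
      simpa [Submodule.mem_colon_singleton] using this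
    have h2 : IsRegular r := isRegular_iff_mem_nonZeroDivisors.mpr hreg
    exact hv0 ((h2.isSMulRegular (M := M)) (show r • v = r • 0 by rw [h1, smul_zero]))
  obtain ⟨p, hp, hle⟩ := ((maximalIdeal R).subset_union_prime_finite
    (associatedPrimes.finite R R) (f := id) 0 0 fun _ h _ _ ↦ h.1).1 hsub
  have hpm : p = maximalIdeal R :=
    le_antisymm (le_maximalIdeal hp.1.ne_top) hle
  have hass : IsAssociatedPrime (maximalIdeal R) R := hpm ▸ hp
  rw [isAssociatedPrime_iff] at hass
  obtain ⟨-, a, ha⟩ := hass
  have hmem : ∀ r : R, r ∈ maximalIdeal R ↔ r * a = 0 := by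
    intro r
    rw [ha, Submodule.mem_colon_singleton]
    simp
  have ha0 : a ≠ 0 := by
    rintro rfl
    have h1 : (1 : R) ∈ maximalIdeal R := (hmem 1).mpr (by simp)
    exact (Ideal.ne_top_iff_one _).mp (maximalIdeal.isMaximal R).ne_top h1
  have hau : IsUnit a := by
    by_contra hna
    have h1 : a ∈ maximalIdeal R := (mem_maximalIdeal a).mpr hna
    have h2 : a * a = 0 := (hmem a).mp h1
    exact ha0 (IsReduced.eq_zero a ⟨2, by rw [pow_two, h2]⟩)
  rw [isField_iff_maximalIdeal_eq, eq_bot_iff]
  intro r hr
  have h1 : r * a = 0 := (hmem r).mp hr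
  exact (hau.mul_left_eq_zero).mp h1

variable {X : Scheme.{u}}

open Groth.Agent.Lib.Helper29.QCohLoc in
/-- injectivity of germs for torsion-free quasi-coherent modules on reduced locally Noetherian
schemes -/
theorem germ_injective_of_torsionFree [IsLocallyNoetherian X] [IsReduced X] (F : X.Modules)
    [F.IsQuasicoherent] (htF : TorSh.IsTorsionFree F) (x : X) (U : X.Opens) (hxU : x ∈ U)
    (hU : ∀ y : X, y ∈ U → IsField (X.presheaf.stalk y) → x ∈ closure ({y} : Set X))
    (s : Γ(F, U)) (hs : F.presheaf.germ U x hxU s = 0) : s = 0 := by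
  obtain ⟨W, hWU, hxW, hW⟩ :=
    Groth.Agent.Lib.Helper64.HomSh.exists_res_eq_zero_of_germ_eq_zero F s x hxU hs
  refine Groth.Agent.Lib.Helper64.HomSh.sec_ext F s 0 (fun y hy => ?_)
  rw [map_zero]
  by_contra hne
  obtain ⟨_, ⟨V, hV : IsAffineOpen V, rfl⟩, hyV, hVU⟩ :=
    X.isBasis_affineOpens.exists_subset_of_mem_open hy U.isOpen
  have hVU' : V ≤ U := hVU
  set s' := F.presheaf.map (homOfLE hVU').op s with hs'
  have hne' : F.presheaf.germ V y hyV s' ≠ 0 := by
    rw [hs', germ_res]
    exact hne
  obtain ⟨z, hzV, hzass, hzy, hzne⟩ := exists_isAssPoint_specializes F hV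
    (LocAt.of_isQuasicoherent F hV) y hyV s' hne'
  haveI := htF z
  haveI : IsNoetherianRing (X.presheaf.stalk z) := inferInstance
  have hfld : IsField (X.presheaf.stalk z) :=
    isField_of_isAssociatedPrime_of_torsionFree (X.presheaf.stalk z) (F.presheaf.stalk z) hzass
  have hzx : z ⤳ x := specializes_iff_mem_closure.mpr (hU z (hVU' hzV) hfld)
  have hzW : z ∈ W := hzx.mem_open W.isOpen hxW
  apply hzne
  rw [hs', germ_res, ← germ_res F U W hWU z hzW s, hW, map_zero]

end Groth.Agent.Lib.Helper21.TorsionFreeAss
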