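import Groth.Agent.Lib.Helper21.ZClosSupp

set_option autoImplicit false
set_option linter.style.haveILetI false
universe u

open AlgebraicGeometry CategoryTheory Opposite TopologicalSpace Limits

namespace Groth.Agent.Lib.Helper21.ZClosLocal

open ZClos Groth.Agent.Lib.Helper21.FiltColimSec Groth.Agent.Lib.Helper21.ModBasis
  Groth.Agent.Lib.Helper21.ZClosCore Groth.Agent.Lib.Helper21.ZClosPure
  Groth.Agent.Lib.Helper21.ZClosIdem Groth.Agent.Lib.Helper21.ZClosStalk
  Groth.Agent.Lib.Helper21.ZClosSupp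

variable {X : Scheme.{u}} [IsLocallyNoetherian X]

/-- For `W₀ ≤ W` with `W` compact and `W ∖ W₀ ⊆ Z`, the open `W₀` is `W ∖ T` for some closed
`T ⊆ Z`. -/
theorem exists_cl_cap_eq {Z : Set X} (hZ : StableUnderSpecialization Z) {W W₀ : X.Opens}
    (hW : IsCompact (W : Set X)) (h : W₀ ≤ W) (hZW : (W : Set X) \ W₀ ⊆ Z) :
    ∃ T : Cl Z, cap T.U W = W₀ := by
  have hopen : IsOpen ((W : Set X) \ ((W : Set X) \ W₀)) := by
    have : (W : Set X) \ ((W : Set X) \ W₀) = W₀ := by
      ext x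
      constructor
      · rintro ⟨hxW, hx⟩
        by_contra hx0
        exact hx ⟨hxW, hx0⟩
      · intro hx
        exact ⟨h hx, fun hx' => hx'.2 hx⟩
    rw [this]
    exact W₀.2
  refine ⟨clOf hZ hW ((W : Set X) \ W₀) Set.diff_subset hopen hZW, ?_⟩
  rw [cap_eq]
  ext x
  constructor
  · rintro ⟨hxT, hxW⟩
    by_contra hx0
    exact hxT (subset_clOf hZ hW _ Set.diff_subset hopen hZW ⟨hxW, hx0⟩)
  · intro hx
    refine ⟨?_, h hx⟩
    intro hxT
    have hxT' : x ∈ closure ((W : Set X) \ W₀) := hxT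
    rw [mem_closure_iff] at hxT'
    obtain ⟨y, hy0, hyW, hy⟩ := hxT' W₀ W₀.2 hx
    exact hy hy0

/-- Purity in terms of arbitrary opens with complement in `Z`. -/
theorem isZPure_iff {Z : Set X} (hZ : StableUnderSpecialization Z) (F : X.Modules) :
    IsZPure Z F ↔ ∀ (W W₀ : X.Opens) (h : W₀ ≤ W), IsCompact (W : Set X) →
      (W : Set X) \ W₀ ⊆ Z → Function.Injective (res F h) := by
  rw [isZPure_iff_injective]
  constructor
  · intro hF W W₀ h hW hZW
    obtain ⟨T, hT⟩ := exists_cl_cap_eq hZ hW h hZW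
    exact (injective_res_of_eq F hT _ h).mp (hF T W hW)
  · intro hF T W hW
    apply hF (W) (cap T.U W) (cap_le_right _ _) hW
    rintro x ⟨hxW, hx⟩
    by_contra hxZ
    exact hx (mem_cap_of_not_mem T hxZ hxW)

/-- Closedness in terms of arbitrary opens with complement in `Z`. -/
theorem isZClosed_iff {Z : Set X} (hZ : StableUnderSpecialization Z) (F : X.Modules) :
    IsZClosed Z F ↔ ∀ (W W₀ : X.Opens) (h : W₀ ≤ W), IsCompact (W : Set X) →
      (W : Set X) \ W₀ ⊆ Z → Function.Bijective (res F h) := by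
  rw [isZClosed_iff_bijective]
  constructor
  · intro hF W W₀ h hW hZW
    obtain ⟨T, hT⟩ := exists_cl_cap_eq hZ hW h hZW
    exact (bijective_res_of_eq F hT _ h).mp (hF T W hW)
  · intro hF T W hW
    apply hF (W) (cap T.U W) (cap_le_right _ _) hW
    rintro x ⟨hxW, hx⟩
    by_contra hxZ
    exact hx (mem_cap_of_not_mem T hxZ hxW)

end Groth.Agent.Lib.Helper21.ZClosLocal
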