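import Groth.Prelude.Def_FDesc
import Groth.Agent.Lib.Helper21.ZClosLocal
import Groth.Agent.Lib.Helper21.QCohColim
import Groth.Agent.Lib.Helper21.CohNoeth
import Groth.Agent.Lib.Helper29.QCohLoc

set_option autoImplicit false
set_option linter.style.haveILetI false
set_option linter.unusedSectionVars false
universe u

open AlgebraicGeometry CategoryTheory Opposite TopologicalSpace Limits

namespace Groth.Agent.Lib.Helper21.ZClosAss

open ZClos Groth.Agent.Lib.Helper21.FiltColimSec Groth.Agent.Lib.Helper21.ModBasis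
  Groth.Agent.Lib.Helper21.ZClosCore Groth.Agent.Lib.Helper21.ZClosPure
  Groth.Agent.Lib.Helper21.ZClosIdem Groth.Agent.Lib.Helper21.ZClosStalk
  Groth.Agent.Lib.Helper21.ZClosSupp Groth.Agent.Lib.Helper21.ZClosLocal

variable {X : Scheme.{u}} [IsLocallyNoetherian X]

/-- A quasi-coherent module none of whose associated points lies in `Z` is `Z`-pure. -/
theorem isZPure_of_ass {Z : Set X} (hZ : StableUnderSpecialization Z) (F : X.Modules)
    [F.IsQuasicoherent] (hass : ∀ x ∈ AssSch.Ass F, x ∉ Z) : IsZPure Z F := by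
  rw [isZPure_iff hZ]
  intro W W₀ hle hW hZW
  rw [injective_iff_map_eq_zero]
  intro s hs
  by_contra hne
  obtain ⟨y, hy, hy1, hy2⟩ :=
    Groth.Agent.Lib.Helper29.QCohLoc.exists_isWeakAssPoint_of_section_ne_zero F W s hne
  have hyass : y ∈ AssSch.Ass F :=
    (Groth.Agent.Lib.Helper29.QCohLoc.isAssPoint_iff_isWeakAssPoint F y).mpr hy1
  have hyW₀ : y ∉ W₀ := by
    intro hy0
    apply hy2
    rw [← germ_res F hle y hy0 s, hs, map_zero]
  exact hass y hyass (hZW ⟨hy, hyW₀⟩)

/-- For a `Z`-pure module the colimit injections `j_*(F|_{X∖T}) ⟶ H⁰_{X/Z}(F)` are monomorphisms. -/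
theorem mono_inj_of_isZPure {Z : Set X} (hZ : StableUnderSpecialization Z) (F : X.Modules)
    (hF : IsZPure Z F) (T : Cl Z) : Mono (inj Z F T) := by
  apply mono_of_injective_compact
  intro V hV
  rw [injective_iff_map_eq_zero]
  intro t ht
  obtain ⟨T'', a, h0⟩ := exists_of_inj_eq_zero Z F hV t ht
  have hW : IsCompact ((cap T.U V : X.Opens) : Set X) := isCompact_of_le hV (cap_le_right _ _)
  refine (injective_iff_map_eq_zero _).mp ((isZPure_iff hZ F).mp hF _ _
    (cap_mono (Cl.U_anti a) (le_refl V)) hW ?_) t h0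
  rintro x ⟨hxW, hx⟩
  by_contra hxZ
  exact hx (mem_cap_of_not_mem T'' hxZ (cap_le_right _ _ hxW))

/-- a) ⇒ d): if `H⁰_{X/Z}(F)` is coherent and no associated point of the coherent `F` lies in `Z`,
every `j_*(F|_{X∖T})` is coherent. -/
theorem isCoh_resPush {Z : Set X} (hZ : StableUnderSpecialization Z) (F : X.Modules)
    (hF : Coh.IsCoh F) (hass : ∀ x ∈ AssSch.Ass F, x ∉ Z) (hH : Coh.IsCoh ((H0 Z).obj F))
    (T : Cl Z) : Coh.IsCoh ((resPush T.U).obj F) := by
  haveI : F.IsQuasicoherent := hF.1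
  haveI : ((H0 Z).obj F).IsQuasicoherent := hH.1
  have hq : ((resPush T.U).obj F).IsQuasicoherent := by
    change ((Scheme.Modules.pushforward T.U.ι).obj
      ((Scheme.Modules.restrictFunctor T.U.ι).obj F)).IsQuasicoherent
    haveI : ((Scheme.Modules.restrictFunctor T.U.ι).obj F).IsQuasicoherent :=
      Groth.Agent.Lib.Helper21.QCohKernel.isQuasicoherent_restrict T.U.ι F
    exact Groth.Agent.Lib.Helper2.KerSec.isQuasicoherent_pushforward_of_qcqs T.U.ι _
  haveI := hq
  haveI : Mono (inj Z F T) := mono_inj_of_isZPure hZ F (isZPure_of_ass hZ F hass) T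
  exact ⟨hq, Groth.Agent.Lib.Helper21.CohNoeth.isFiniteType_of_mono (inj Z F T) hH.2⟩

end Groth.Agent.Lib.Helper21.ZClosAss
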