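import Groth.Agent.Lib.Helper21.ZClosAss
import Groth.Agent.Lib.Helper21.DepthOne
import Groth.Agent.Lib.Helper29.AssNoeth
import Groth.Agent.Lib.Helper64.FinTypeStalk

set_option autoImplicit false
set_option linter.style.haveILetI false
set_option linter.unusedSectionVars false
universe u

open AlgebraicGeometry CategoryTheory Opposite TopologicalSpace Limits

namespace Groth.Agent.Lib.Helper21.ZClosDepth

open ZClos Groth.Agent.Lib.Helper21.FiltColimSec Groth.Agent.Lib.Helper21.ModBasis
  Groth.Agent.Lib.Helper21.ZClosCore Groth.Agent.Lib.Helper21.ZClosPure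
  Groth.Agent.Lib.Helper21.ZClosIdem Groth.Agent.Lib.Helper21.ZClosStalk
  Groth.Agent.Lib.Helper21.ZClosSupp Groth.Agent.Lib.Helper21.ZClosLocal
  Groth.Agent.Lib.Helper29.QCohLoc

variable {X : Scheme.{u}} [IsLocallyNoetherian X]

/-- Closure of a point of `Z` as a member of `Cl Z`. -/
def clPoint {Z : Set X} (hZ : StableUnderSpecialization Z) (x' : X) (hx' : x' ∈ Z) : Cl Z :=
  ⟨⟨closure {x'}, isClosed_closure⟩, fun y hy => hZ (specializes_iff_mem_closure.mpr hy) hx'⟩

theorem primeIdealOf_le_of_specializes {U : X.Opens} (hU : IsAffineOpen U) {x x' : X}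
    (hx : x ∈ U) (hx' : x' ∈ U) (h : x' ⤳ x) :
    (hU.primeIdealOf ⟨x', hx'⟩).asIdeal ≤ (hU.primeIdealOf ⟨x, hx⟩).asIdeal := by
  intro a ha
  rw [mem_primeIdealOf_iff] at ha ⊢
  intro hxa
  exact ha (h.mem_open (X.basicOpen a).2 hxa)

omit [IsLocallyNoetherian X] in
theorem exists_germ_affine (F : X.Modules) (x : X) (a : F.presheaf.stalk x) :
    ∃ (V : X.Opens) (_ : IsAffineOpen V) (hx : x ∈ V) (s : Γ(F, V)),
      F.presheaf.germ V x hx s = a := by
  obtain ⟨W, hxW, t, rfl⟩ := TopCat.Presheaf.exists_germ_eq F.presheaf a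
  obtain ⟨_, ⟨V, hV : IsAffineOpen V, rfl⟩, hxV, hle⟩ :=
    X.isBasis_affineOpens.exists_subset_of_mem_open hxW W.2
  have hle' : V ≤ W := hle
  exact ⟨V, hV, hxV, res F hle' t, ZClosStalk.germ_res F hle' x hxV t⟩

/-- Pointwise purity in terms of associated points. -/
theorem isZPureAt_iff_ass {Z : Set X} (hZ : StableUnderSpecialization Z) (F : X.Modules)
    [F.IsQuasicoherent] (x : X) :
    IsZPureAt Z F x ↔ ∀ x' : X, x' ⤳ x → x' ∈ Z → ¬ Curv2.IsAssPoint F x' := by
  constructor
  · intro hpure x' hsp hx'Z hass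
    obtain ⟨_, ⟨U, hU : IsAffineOpen U, rfl⟩, hxU, -⟩ :=
      X.isBasis_affineOpens.exists_subset_of_mem_open (Set.mem_univ x) isOpen_univ
    have hx'U : x' ∈ U := hsp.mem_open U.2 hxU
    have hF := LocAt.of_isQuasicoherent F hU
    obtain ⟨s, hs⟩ := exists_section_ann_eq F hU hF x' hx'U hass
    -- the germ of `s` at `x` is nonzero
    have hne : F.presheaf.germ U x hxU s ≠ 0 := by
      apply germ_ne_zero_of_ann_le F hU hF x hxU s
      rw [hs]
      exact primeIdealOf_le_of_specializes hU hxU hx'U hsp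
    apply hne
    apply hpure
    rw [rhoStalk_germ, map_zero]
    -- `ρ(s) = 0`
    have h0 : (rhoApp Z F).app U s = 0 := by
      rw [rhoApp_app Z F (clPoint hZ x' hx'Z) U s]
      have : res F (cap_le_right (clPoint hZ x' hx'Z).U U) s = 0 := by
        apply eq_zero_of_germ
        intro y hy
        rw [ZClosStalk.germ_res]
        have hyU : y ∈ U := cap_le_right _ _ hy
        rw [germ_eq_zero_iff F hU hF y hyU s]
        -- `y` is not a specialization of `x'`
        have hny : ¬ x' ⤳ y := by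
          intro hsp'
          exact (cap_le_left _ _ hy) (specializes_iff_mem_closure.mp hsp')
        have hnle : ¬ (hU.primeIdealOf ⟨x', hx'U⟩).asIdeal ≤ (hU.primeIdealOf ⟨y, hyU⟩).asIdeal :=
          fun hle => hny (specializes_of_primeIdealOf_le hU hyU hx'U hle)
        obtain ⟨a, ha1, ha2⟩ := Set.not_subset.mp hnle
        refine ⟨a, ?_, ?_⟩
        · by_contra hya
          exact ha2 ((mem_primeIdealOf_iff hU y hyU a).mpr hya)
        · rw [← mem_ann, hs]
          exact ha1
      rw [this]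
      exact inj_zero Z F _ U
    rw [h0, map_zero]
  · intro h
    intro a b hab
    rw [← sub_eq_zero]
    have hab' : rhoStalk Z F x (a - b) = 0 := by rw [map_sub, hab, sub_self]
    generalize a - b = c at hab'
    by_contra hc
    obtain ⟨V, hV, hxV, s, rfl⟩ := exists_germ_affine F x c
    rw [rhoStalk_germ] at hab'
    obtain ⟨W, -, hxW, hWV, heq⟩ := exists_res_eq_zero_of_germ_eq_zero _ x hxV _ hab'
    obtain ⟨_, ⟨W', hW' : IsAffineOpen W', rfl⟩, hxW', hle⟩ :=
      X.isBasis_affineOpens.exists_subset_of_mem_open hxW W.2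
    have hle' : W' ≤ W := hle
    have heq' : (rhoApp Z F).app W' (res F (hle'.trans hWV) s) = 0 := by
      rw [ModBasis.app_res, ← ModBasis.res_res _ hle' hWV, heq, map_zero]
    rw [rhoApp_app Z F ⊥ W'] at heq'
    obtain ⟨T'', a, h1⟩ := exists_of_inj_eq_zero Z F hW'.isCompact _ heq'
    rw [ModBasis.res_res, ModBasis.res_res] at h1
    have hF := LocAt.of_isQuasicoherent F hW'
    have hne : F.presheaf.germ W' x hxW' (res F (hle'.trans hWV) s) ≠ 0 := by
      rw [ZClosStalk.germ_res]
      exact hc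
    obtain ⟨y, hy, hyass, hysp, hyne⟩ :=
      exists_isAssPoint_specializes F hW' hF x hxW' _ hne
    have hyZ : y ∈ Z := by
      by_contra hyZ
      apply hyne
      have hy' : y ∈ cap T''.U W' := mem_cap_of_not_mem T'' hyZ hy
      have e1 : F.presheaf.germ W' y hy (res F (hle'.trans hWV) s) =
          F.presheaf.germ (cap T''.U W') y hy'
            (res F ((cap_le_right T''.U W').trans (hle'.trans hWV)) s) := by
        rw [ZClosStalk.germ_res, ZClosStalk.germ_res]
      rw [e1]
      have h2 : res F ((cap_le_right T''.U W').trans (hle'.trans hWV)) s = 0 := h1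
      rw [h2, map_zero]
    exact h y hysp hyZ hyass

/-- Pointwise purity in terms of depth. -/
theorem isZPureAt_iff_depth {Z : Set X} (hZ : StableUnderSpecialization Z) (F : X.Modules)
    (hF : Coh.IsCoh F) (x : X) :
    IsZPureAt Z F x ↔ ∀ x' : X, x' ⤳ x → x' ∈ Z →
      (1 : ℕ∞) ≤ LocCoh.depth (X.presheaf.stalk x') (F.presheaf.stalk x') := by
  haveI : F.IsQuasicoherent := hF.1
  rw [isZPureAt_iff_ass hZ F x]
  refine forall_congr' fun x' => forall_congr' fun _ => forall_congr' fun _ => ?_
  haveI : Module.Finite (X.presheaf.stalk x') (F.presheaf.stalk x') :=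
    Groth.Agent.Lib.Helper64.FinTypeStalk.finite_stalk F hF.2 x'
  exact (Groth.Agent.Lib.Helper21.DepthOne.one_le_depth_iff (X.presheaf.stalk x')
    (F.presheaf.stalk x')).symm

end Groth.Agent.Lib.Helper21.ZClosDepth
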