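import Groth.Agent.Lib.Helper21.ZClosIdem

set_option autoImplicit false
set_option linter.style.haveILetI false
universe u

open AlgebraicGeometry CategoryTheory Opposite TopologicalSpace Limits

namespace Groth.Agent.Lib.Helper21.ZClosStalk

open ZClos Groth.Agent.Lib.Helper21.FiltColimSec Groth.Agent.Lib.Helper21.ModBasis
  Groth.Agent.Lib.Helper21.ZClosCore Groth.Agent.Lib.Helper21.ZClosPure
  Groth.Agent.Lib.Helper21.ZClosIdem

variable {X : Scheme.{u}}

theorem mem_cap_of_not_mem {Z : Set X} (T : Cl Z) {V : X.Opens} {x : X} (hx : x ∉ Z)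
    (hxV : x ∈ V) : x ∈ cap T.U V := by
  rw [cap_eq]
  exact ⟨fun hT => hx (T.2 hT), hxV⟩

theorem germ_res (F : X.Modules) {U V : X.Opens} (h : U ≤ V) (x : X) (hx : x ∈ U) (s : Γ(F, V)) :
    F.presheaf.germ U x hx (res F h s) = F.presheaf.germ V x (h hx) s :=
  TopCat.Presheaf.germ_res_apply F.presheaf (homOfLE h) x hx s

theorem exists_germ_compact (F : X.Modules) (x : X) (a : F.presheaf.stalk x) :
    ∃ (V : X.Opens) (_ : IsCompact (V : Set X)) (hx : x ∈ V) (s : Γ(F, V)),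
      F.presheaf.germ V x hx s = a := by
  obtain ⟨V, hxV, hVB, s, hs⟩ :=
    TopCat.Presheaf.exists_mem_germ_eq_of_isBasis (isBasis_compactOpens X) F.presheaf x a
  obtain ⟨⟨V', hV'⟩, rfl⟩ := hVB
  exact ⟨V', hV', hxV, s, hs⟩

theorem exists_res_eq_zero_of_germ_eq_zero (F : X.Modules) (x : X) {V : X.Opens} (hx : x ∈ V)
    (s : Γ(F, V)) (h : F.presheaf.germ V x hx s = 0) :
    ∃ (W : X.Opens) (_ : IsCompact (W : Set X)) (_ : x ∈ W) (hWV : W ≤ V), res F hWV s = 0 := by
  have h0 : F.presheaf.germ V x hx s = F.presheaf.germ V x hx 0 := by rw [h, map_zero]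
  obtain ⟨W, hxW, ⟨⟨W', hW'⟩, rfl⟩, hWV, _, heq'⟩ :=
    TopCat.Presheaf.germ_eq_of_isBasis (isBasis_compactOpens X) F.presheaf x hx hx h0
  refine ⟨W', hW', hxW, hWV, ?_⟩
  rw [map_zero] at heq'
  exact heq'

theorem rhoStalk_germ (Z : Set X) (F : X.Modules) (x : X) {V : X.Opens} (hx : x ∈ V)
    (s : Γ(F, V)) :
    rhoStalk Z F x (F.presheaf.germ V x hx s) =
      ((H0 Z).obj F).presheaf.germ V x hx ((rhoApp Z F).app V s) :=
  TopCat.Presheaf.stalkFunctor_map_germ_apply V x hx (rhoApp Z F).mapPresheaf s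

variable [IsLocallyNoetherian X]

/-- At a point outside `Z` the map `ρ_{X/Z}` is bijective on stalks. -/
theorem isZClosedAt_of_not_mem (Z : Set X) (F : X.Modules) (x : X) (hx : x ∉ Z) :
    IsZClosedAt Z F x := by
  constructor
  · rw [injective_iff_map_eq_zero]
    intro a ha
    obtain ⟨V, hV, hxV, s, rfl⟩ := exists_germ_compact F x a
    rw [rhoStalk_germ] at ha
    obtain ⟨W, hW, hxW, hWV, heq⟩ := exists_res_eq_zero_of_germ_eq_zero _ x hxV _ ha
    rw [← app_res, rhoApp_app Z F ⊥ W] at heq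
    obtain ⟨T'', a, h1⟩ := exists_of_inj_eq_zero Z F hW _ heq
    rw [res_res, res_res] at h1
    have := germ_res F ((cap_le_right T''.U W).trans hWV) x (mem_cap_of_not_mem T'' hx hxW) s
    rw [← this, h1, map_zero]
  · intro b
    obtain ⟨V, hV, hxV, g, rfl⟩ := exists_germ_compact ((H0 Z).obj F) x b
    obtain ⟨T, t, rfl⟩ := exists_rep_H0 Z F hV g
    refine ⟨F.presheaf.germ (cap T.U V) x (mem_cap_of_not_mem T hx hxV) t, ?_⟩
    rw [rhoStalk_germ, ← res_inj_cap, germ_res]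

end Groth.Agent.Lib.Helper21.ZClosStalk
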