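import Groth.Agent.Lib.Helper21.ZClosHartogs
import Groth.Agent.Lib.Helper21.ZClosStalk
import Groth.Agent.Lib.Helper21.ZClosDepth
import Groth.Agent.Lib.Helper29.AssNoeth
import Groth.Agent.Lib.Helper67.CM
import Groth.Prelude.Def_RefHull

/-!
# Associated points outside `Z` and codimension `≥ 2` of their specializations in `Z`
-/

set_option autoImplicit false
set_option linter.style.haveILetI false
universe u

open AlgebraicGeometry CategoryTheory Opposite TopologicalSpace Limits ZClos

namespace Groth.Agent.Lib.Helper21.ZClosAssDim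

open Groth.Agent.Lib.Helper21.ModBasis Groth.Agent.Lib.Helper21.ZClosCore
  Groth.Agent.Lib.Helper21.ZClosStalk Groth.Agent.Lib.Helper29.QCohLoc

variable {X : Scheme.{u}}

/-- Transport of an associated point along a morphism which is injective on the stalk. -/
theorem isAssPoint_of_injective {F G : X.Modules} (φ : F ⟶ G) (x : X)
    (hφ : Function.Injective
      ((TopCat.Presheaf.stalkFunctor (C := Ab.{u}) x).map φ.mapPresheaf))
    (h : Curv2.IsAssPoint F x) : Curv2.IsAssPoint G x :=
  IsAssociatedPrime.map_of_injective (f := RefHull.stalkMapₗ φ x) h hφ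

variable [IsLocallyNoetherian X]

/-- An associated point of `F` outside `Z` is an associated point of `H⁰_{X/Z}(F)`. -/
theorem isAssPoint_H0 (Z : Set X) (F : X.Modules) (x : X) (hxZ : x ∉ Z)
    (h : Curv2.IsAssPoint F x) : Curv2.IsAssPoint ((H0 Z).obj F) x :=
  isAssPoint_of_injective (rhoApp Z F) x (isZClosedAt_of_not_mem Z F x hxZ).1 h

/-- If `x` is an associated point of the quasi-coherent module `H` and `x ⤳ y`, the prime of
`O_{X,y}` corresponding to `x` is an associated prime of `H_y`. -/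
theorem comap_mem_associatedPrimes (H : X.Modules) [H.IsQuasicoherent] {x y : X} (h : x ⤳ y)
    (hx : Curv2.IsAssPoint H x) :
    (IsLocalRing.maximalIdeal (X.presheaf.stalk x)).comap (X.presheaf.stalkSpecializes h).hom ∈
      associatedPrimes (X.presheaf.stalk y) (H.presheaf.stalk y) := by
  obtain ⟨_, ⟨W, hW : IsAffineOpen W, rfl⟩, hyW, -⟩ :=
    (X.isBasis_affineOpens).exists_subset_of_mem_open (Set.mem_univ y) isOpen_univ
  have hyW : y ∈ W := hyW
  have hxW : x ∈ W := h.mem_open W.isOpen hyW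
  have hHl := LocAt.of_isQuasicoherent H hW
  obtain ⟨σ, hσ⟩ := exists_section_ann_eq H hW hHl x hxW hx
  change IsAssociatedPrime _ _
  rw [isAssociatedPrime_iff]
  refine ⟨Ideal.comap_isPrime _ _, H.presheaf.germ W y hyW σ, ?_⟩
  ext r
  rw [Submodule.mem_colon_singleton, Submodule.mem_bot,
    smul_germ_eq_zero_iff H hW hHl y hyW σ r, hσ]
  letI := X.presheaf.algebra_section_stalk ⟨y, hyW⟩
  haveI := hW.isLocalization_stalk ⟨y, hyW⟩
  obtain ⟨⟨α, β⟩, hαβ⟩ := IsLocalization.surj (hW.primeIdealOf ⟨y, hyW⟩).asIdeal.primeCompl r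
  -- hαβ : r * germ β = germ α
  have hαβ' : r * X.presheaf.germ W y hyW β.1 = X.presheaf.germ W y hyW α := hαβ
  have hβy : y ∈ X.basicOpen β.1 := by
    by_contra hcon
    exact β.2 ((mem_primeIdealOf_iff hW y hyW β.1).2 hcon)
  have hβx : x ∈ X.basicOpen β.1 := h.mem_open (X.basicOpen β.1).isOpen hβy
  have hβux : IsUnit (X.presheaf.germ W x hxW β.1) := (Scheme.mem_basicOpen X β.1 x hxW).1 hβx
  have hsp : ∀ a : Γ(X, W), (X.presheaf.stalkSpecializes h).hom (X.presheaf.germ W y hyW a) =
      X.presheaf.germ W x hxW a := fun a =>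
    TopCat.Presheaf.germ_stalkSpecializes_apply X.presheaf hyW h a
  have hL : r ∈ (IsLocalRing.maximalIdeal (X.presheaf.stalk x)).comap
      (X.presheaf.stalkSpecializes h).hom ↔ α ∈ (hW.primeIdealOf ⟨x, hxW⟩).asIdeal := by
    rw [Ideal.mem_comap, mem_primeIdealOf_iff hW x hxW α, Scheme.mem_basicOpen X α x hxW]
    have e : (X.presheaf.stalkSpecializes h).hom r * X.presheaf.germ W x hxW β.1 =
        X.presheaf.germ W x hxW α := by
      rw [← hsp, ← hsp, ← map_mul, hαβ']
    rw [IsLocalRing.mem_maximalIdeal, mem_nonunits_iff, not_iff_not, ← e, IsUnit.mul_iff]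
    exact ⟨fun hu => ⟨hu, hβux⟩, fun hu => hu.1⟩
  have hR : r ∈ Ideal.map (X.presheaf.germ W y hyW).hom (hW.primeIdealOf ⟨x, hxW⟩).asIdeal ↔
      α ∈ (hW.primeIdealOf ⟨x, hxW⟩).asIdeal := by
    have hr : r = IsLocalization.mk' (X.presheaf.stalk y) α β :=
      (IsLocalization.eq_mk'_iff_mul_eq).2 hαβ
    rw [hr]
    change IsLocalization.mk' (X.presheaf.stalk y) α β ∈
      Ideal.map (algebraMap Γ(X, W) (X.presheaf.stalk y)) _ ↔ _
    rw [IsLocalization.mk'_mem_map_algebraMap_iff]
    constructor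
    · rintro ⟨s', hs', hmem⟩
      refine ((hW.primeIdealOf ⟨x, hxW⟩).isPrime.mem_or_mem hmem).resolve_left fun hs'x => hs' ?_
      exact Groth.Agent.Lib.Helper21.ZClosDepth.primeIdealOf_le_of_specializes hW hyW hxW h hs'x
    · intro hα
      exact ⟨1, Submonoid.one_mem _, by rwa [one_mul]⟩
  rw [hL, hR]

end Groth.Agent.Lib.Helper21.ZClosAssDim
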