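import Groth.Prelude.Def_ZClos
import Groth.Agent.Lib.Helper21.ModBasis

set_option autoImplicit false
set_option linter.style.haveILetI false
universe u

open AlgebraicGeometry CategoryTheory Opposite TopologicalSpace Limits

namespace Groth.Agent.Lib.Helper21.ZClosCore

open ZClos Groth.Agent.Lib.Helper21.FiltColimSec Groth.Agent.Lib.Helper21.ModBasis

variable {X : Scheme.{u}}

/-- The open `U ∩ V` in the form used by `resPush`. -/
abbrev cap (U V : X.Opens) : X.Opens := U.ι ''ᵁ U.ι ⁻¹ᵁ V

theorem cap_eq (U V : X.Opens) : cap U V = U ⊓ V := ι_image_preimage U V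

theorem cap_le_right (U V : X.Opens) : cap U V ≤ V := U.ι.image_preimage_le V

theorem cap_le_left (U V : X.Opens) : cap U V ≤ U := by rw [cap_eq]; exact inf_le_left

theorem cap_mono {U U' V V' : X.Opens} (h : U' ≤ U) (h' : V' ≤ V) : cap U' V' ≤ cap U V := by
  rw [cap_eq, cap_eq]; exact inf_le_inf h h'

/-- The colimit injection `j_*(F|_{X∖T}) ⟶ H⁰_{X/Z}(F)`. -/
noncomputable abbrev inj (Z : Set X) (F : X.Modules) (T : Cl Z) :
    (resPush T.U).obj F ⟶ (H0 Z).obj F := colimit.ι ((diagram Z).obj F) T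

theorem toDiagram_app (Z : Set X) (F : X.Modules) (T : Cl Z) (V : X.Opens) (s : Γ(F, V)) :
    (toDiagram Z F T).app V s = res F (cap_le_right T.U V) s := rfl

theorem rhoApp_app (Z : Set X) (F : X.Modules) (T : Cl Z) (V : X.Opens) (s : Γ(F, V)) :
    (rhoApp Z F).app V s = (inj Z F T).app V (res F (cap_le_right T.U V) s) := by
  rw [rhoApp_eq Z F T]
  rfl

theorem trans_app (Z : Set X) (F : X.Modules) {T T' : Cl Z} (h : T ≤ T') (V : X.Opens)
    (t : Γ((resPush T.U).obj F, V)) :
    (((diagram Z).obj F).map (homOfLE h)).app V t =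
      res F (cap_mono (Cl.U_anti h) le_rfl) t := by
  change (resPushMapApp (Cl.U_anti h) F).app V t = _
  rw [resPushMapApp_app]
  rfl

theorem inj_trans (Z : Set X) (F : X.Modules) {T T' : Cl Z} (h : T ≤ T') (V : X.Opens)
    (t : Γ((resPush T.U).obj F, V)) :
    (inj Z F T').app V (res F (cap_mono (Cl.U_anti h) le_rfl) t) = (inj Z F T).app V t := by
  rw [← trans_app Z F h V t]
  have := colimit.w ((diagram Z).obj F) (homOfLE h)
  exact congr($(congrArg (fun φ => Scheme.Modules.Hom.app φ V) this) t)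

theorem resPush_res (U : X.Opens) (F : X.Modules) {V W : X.Opens} (h : V ≤ W)
    (t : Γ((resPush U).obj F, W)) :
    res ((resPush U).obj F) h t = res F (cap_mono le_rfl h) t := rfl

variable [IsLocallyNoetherian X]

/-- Every section of `H⁰_{X/Z}(F)` over a compact open comes from some `F(V ∖ T)`. -/
theorem exists_rep_H0 (Z : Set X) (F : X.Modules) {V : X.Opens} (hV : IsCompact (V : Set X))
    (g : Γ((H0 Z).obj F, V)) :
    ∃ (T : Cl Z) (t : Γ(F, cap T.U V)), (inj Z F T).app V t = g :=
  exists_rep ((diagram Z).obj F) hV g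

/-- Two representatives give the same section of `H⁰_{X/Z}(F)` over a compact open iff they agree
after removing a larger closed subset. -/
theorem exists_of_inj_eq (Z : Set X) (F : X.Modules) {V : X.Opens} (hV : IsCompact (V : Set X))
    {T T' : Cl Z} (t : Γ(F, cap T.U V)) (t' : Γ(F, cap T'.U V))
    (h : (inj Z F T).app V t = (inj Z F T').app V t') :
    ∃ (T'' : Cl Z) (a : T ≤ T'') (b : T' ≤ T''),
      res F (cap_mono (Cl.U_anti a) le_rfl) t = res F (cap_mono (Cl.U_anti b) le_rfl) t' := by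
  obtain ⟨T'', a, b, hab⟩ := exists_of_rep_eq ((diagram Z).obj F) hV t t' h
  refine ⟨T'', leOfHom a, leOfHom b, ?_⟩
  rw [← trans_app Z F (leOfHom a) V t, ← trans_app Z F (leOfHom b) V t']
  exact hab

theorem exists_of_inj_eq_zero (Z : Set X) (F : X.Modules) {V : X.Opens}
    (hV : IsCompact (V : Set X)) {T : Cl Z} (t : Γ(F, cap T.U V))
    (h : (inj Z F T).app V t = 0) :
    ∃ (T'' : Cl Z) (a : T ≤ T''), res F (cap_mono (Cl.U_anti a) le_rfl) t = 0 := by
  have h0 : (inj Z F T).app V (0 : Γ((resPush T.U).obj F, V)) = 0 := map_zero _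
  obtain ⟨T'', a, b, hab⟩ := exists_of_inj_eq Z F hV t (0 : Γ((resPush T.U).obj F, V))
    (by rw [h, h0])
  exact ⟨T'', a, by rw [hab]; exact map_zero _⟩

end Groth.Agent.Lib.Helper21.ZClosCore
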