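import Groth.Agent.Lib.Helper21.ZClosLocal
import Mathlib.Topology.Sheaves.SheafCondition.UniqueGluing

set_option autoImplicit false
set_option linter.style.haveILetI false
set_option linter.unusedSectionVars false
universe u

open AlgebraicGeometry CategoryTheory Opposite TopologicalSpace Limits

namespace Groth.Agent.Lib.Helper21.ZClosCover

open ZClos Groth.Agent.Lib.Helper21.FiltColimSec Groth.Agent.Lib.Helper21.ModBasis
  Groth.Agent.Lib.Helper21.ZClosCore Groth.Agent.Lib.Helper21.ZClosPure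
  Groth.Agent.Lib.Helper21.ZClosIdem Groth.Agent.Lib.Helper21.ZClosStalk
  Groth.Agent.Lib.Helper21.ZClosSupp Groth.Agent.Lib.Helper21.ZClosLocal

variable {X : Scheme.{u}}

/-- Restriction maps of the restricted module. -/
theorem res_restrict (U : X.Opens) (F : X.Modules) {W₀ W : (U : Scheme.{u}).Opens} (h : W₀ ≤ W)
    (s : Γ((Scheme.Modules.restrictFunctor U.ι).obj F, W)) :
    res ((Scheme.Modules.restrictFunctor U.ι).obj F) h s =
      res F (U.ι.image_mono h : U.ι ''ᵁ W₀ ≤ U.ι ''ᵁ W) s := rfl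

theorem isCompact_image (U : X.Opens) {W : (U : Scheme.{u}).Opens}
    (hW : IsCompact (W : Set (U : Scheme.{u}))) : IsCompact ((U.ι ''ᵁ W : X.Opens) : Set X) := by
  have := hW.image U.ι.continuous
  exact this

theorem diff_image_subset (U : X.Opens) {Z : Set X} {W₀ W : (U : Scheme.{u}).Opens}
    (h : (W : Set (U : Scheme.{u})) \ W₀ ⊆ U.ι.base ⁻¹' Z) :
    ((U.ι ''ᵁ W : X.Opens) : Set X) \ (U.ι ''ᵁ W₀ : X.Opens) ⊆ Z := by
  rintro x ⟨⟨y, hyW, rfl⟩, hx⟩
  apply h
  refine ⟨hyW, fun hy0 => hx ⟨y, hy0, rfl⟩⟩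

variable [IsLocallyNoetherian X]

theorem isCompact_preimage (U : X.Opens) {W : X.Opens} (hW : IsCompact (W : Set X)) :
    IsCompact ((U.ι ⁻¹ᵁ W : (U : Scheme.{u}).Opens) : Set (U : Scheme.{u})) := by
  have h1 : IsCompact ((cap U W : X.Opens) : Set X) := isCompact_of_le hW (cap_le_right _ _)
  have h2 : ((cap U W : X.Opens) : Set X) = U.ι.base '' ((U.ι ⁻¹ᵁ W : (U : Scheme.{u}).Opens) :
      Set (U : Scheme.{u})) := rfl
  rw [h2] at h1
  exact U.ι.isOpenEmbedding.isInducing.isCompact_iff.mpr h1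

theorem stable_preimage (U : X.Opens) {Z : Set X} (hZ : StableUnderSpecialization Z) :
    StableUnderSpecialization (U.ι.base ⁻¹' Z) := hZ.preimage U.ι.continuous

/-- Restriction to an open subscheme preserves purity. -/
theorem isZPure_restrict {Z : Set X} (hZ : StableUnderSpecialization Z) (F : X.Modules)
    (hF : IsZPure Z F) (U : X.Opens) :
    IsZPure (U.ι.base ⁻¹' Z) ((Scheme.Modules.restrictFunctor U.ι).obj F) := by
  rw [isZPure_iff (stable_preimage U hZ)]
  intro W W₀ h hW hZW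
  exact (isZPure_iff hZ F).mp hF _ _ (U.ι.image_mono h) (isCompact_image U hW)
    (diff_image_subset U hZW)

/-- Restriction to an open subscheme preserves closedness. -/
theorem isZClosed_restrict {Z : Set X} (hZ : StableUnderSpecialization Z) (F : X.Modules)
    (hF : IsZClosed Z F) (U : X.Opens) :
    IsZClosed (U.ι.base ⁻¹' Z) ((Scheme.Modules.restrictFunctor U.ι).obj F) := by
  rw [isZClosed_iff (stable_preimage U hZ)]
  intro W W₀ h hW hZW
  exact (isZClosed_iff hZ F).mp hF _ _ (U.ι.image_mono h) (isCompact_image U hW)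
    (diff_image_subset U hZW)

theorem diff_preimage_subset (U : X.Opens) {Z : Set X} {W₀ W : X.Opens}
    (hZW : (W : Set X) \ W₀ ⊆ Z) :
    ((U.ι ⁻¹ᵁ W : (U : Scheme.{u}).Opens) : Set (U : Scheme.{u})) \
      (U.ι ⁻¹ᵁ W₀ : (U : Scheme.{u}).Opens) ⊆ U.ι.base ⁻¹' Z := by
  rintro y ⟨hyW, hy0⟩
  exact hZW ⟨hyW, hy0⟩

/-- Injectivity of restriction on the piece `U ∩ W`, from purity of the restricted module. -/
theorem injective_res_cap {Z : Set X} (hZ : StableUnderSpecialization Z) (F : X.Modules)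
    (U : X.Opens) (hU : IsZPure (U.ι.base ⁻¹' Z) ((Scheme.Modules.restrictFunctor U.ι).obj F))
    {W₀ W : X.Opens} (h : W₀ ≤ W) (hW : IsCompact (W : Set X)) (hZW : (W : Set X) \ W₀ ⊆ Z) :
    Function.Injective (res F (cap_mono (le_refl U) h)) :=
  (isZPure_iff (stable_preimage U hZ) _).mp hU (U.ι ⁻¹ᵁ W) (U.ι ⁻¹ᵁ W₀)
    (fun _ hy => h hy) (isCompact_preimage U hW) (diff_preimage_subset U hZW)

theorem bijective_res_cap {Z : Set X} (hZ : StableUnderSpecialization Z) (F : X.Modules)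
    (U : X.Opens) (hU : IsZClosed (U.ι.base ⁻¹' Z) ((Scheme.Modules.restrictFunctor U.ι).obj F))
    {W₀ W : X.Opens} (h : W₀ ≤ W) (hW : IsCompact (W : Set X)) (hZW : (W : Set X) \ W₀ ⊆ Z) :
    Function.Bijective (res F (cap_mono (le_refl U) h)) :=
  (isZClosed_iff (stable_preimage U hZ) _).mp hU (U.ι ⁻¹ᵁ W) (U.ι ⁻¹ᵁ W₀)
    (fun _ hy => h hy) (isCompact_preimage U hW) (diff_preimage_subset U hZW)

theorem mem_cap_of_mem {U W : X.Opens} {x : X} (hU : x ∈ U) (hW : x ∈ W) : x ∈ cap U W := by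
  rw [cap_eq]; exact ⟨hU, hW⟩

/-- Purity is local on an open cover. -/
theorem isZPure_of_cover {Z : Set X} (hZ : StableUnderSpecialization Z) (F : X.Modules)
    {ι : Type u} (V : ι → X.Opens) (hV : iSup V = ⊤)
    (h : ∀ i, IsZPure ((V i).ι.base ⁻¹' Z) ((Scheme.Modules.restrictFunctor (V i).ι).obj F)) :
    IsZPure Z F := by
  rw [isZPure_iff hZ]
  intro W W₀ hle hW hZW
  rw [injective_iff_map_eq_zero]
  intro s hs
  apply TopCat.Presheaf.IsSheaf.section_ext F.isSheaf (U := op W)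
  intro x hx
  have hx' : x ∈ iSup V := by rw [hV]; trivial
  obtain ⟨i, hi⟩ := Opens.mem_iSup.mp hx'
  refine ⟨cap (V i) W, cap_le_right _ _, mem_cap_of_mem hi hx, ?_⟩
  rw [map_zero]
  apply injective_res_cap hZ F (V i) (h i) hle hW hZW
  change res F _ (res F _ s) = _
  rw [res_res, map_zero]
  have : res F ((cap_mono (le_refl (V i)) hle).trans (cap_le_right _ _)) s =
      res F (cap_le_right (V i) W₀) (res F hle s) := by rw [res_res]
  rw [this, hs, map_zero]

/-- Closedness is local on an open cover. -/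
theorem isZClosed_of_cover {Z : Set X} (hZ : StableUnderSpecialization Z) (F : X.Modules)
    {ι : Type u} (V : ι → X.Opens) (hV : iSup V = ⊤)
    (h : ∀ i, IsZClosed ((V i).ι.base ⁻¹' Z) ((Scheme.Modules.restrictFunctor (V i).ι).obj F)) :
    IsZClosed Z F := by
  have hpure : IsZPure Z F := isZPure_of_cover hZ F V hV (fun i => by
    haveI : IsIso (rhoApp ((V i).ι.base ⁻¹' Z) ((Scheme.Modules.restrictFunctor (V i).ι).obj F)) :=
      h i
    exact (inferInstance : Mono (rhoApp ((V i).ι.base ⁻¹' Z)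
      ((Scheme.Modules.restrictFunctor (V i).ι).obj F))))
  rw [isZClosed_iff hZ]
  intro W W₀ hle hW hZW
  refine ⟨(isZPure_iff hZ F).mp hpure W W₀ hle hW hZW, ?_⟩
  intro t
  -- local extensions
  have hloc : ∀ i, ∃ s : Γ(F, cap (V i) W), res F (cap_mono (le_refl (V i)) hle) s =
      res F (cap_le_right (V i) W₀) t := fun i =>
    (bijective_res_cap hZ F (V i) (h i) hle hW hZW).2 _
  choose sf hsf using hloc
  let Fs : TopCat.Sheaf Ab X := ⟨F.presheaf, F.isSheaf⟩
  have hcompat : TopCat.Presheaf.IsCompatible Fs.1 (fun i => cap (V i) W) sf := by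
    intro i j
    change res F (inf_le_left : cap (V i) W ⊓ cap (V j) W ≤ cap (V i) W) (sf i) =
      res F (inf_le_right : cap (V i) W ⊓ cap (V j) W ≤ cap (V j) W) (sf j)
    -- injectivity of restriction to the part inside `W₀`
    have hWij : IsCompact ((cap (V i) W ⊓ cap (V j) W : X.Opens) : Set X) :=
      isCompact_of_le hW (inf_le_left.trans (cap_le_right _ _))
    have hle' : cap (V i) W₀ ⊓ cap (V j) W₀ ≤ cap (V i) W ⊓ cap (V j) W :=
      inf_le_inf (cap_mono le_rfl hle) (cap_mono le_rfl hle)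
    have hinj := (isZPure_iff hZ F).mp hpure _ _ hle' hWij (by
      rintro x ⟨⟨hxi, hxj⟩, hx0⟩
      apply hZW
      refine ⟨cap_le_right _ _ hxi, fun hxW₀ => hx0 ⟨?_, ?_⟩⟩
      · exact mem_cap_of_mem (cap_le_left _ _ hxi) hxW₀
      · exact mem_cap_of_mem (cap_le_left _ _ hxj) hxW₀)
    apply hinj
    rw [res_res, res_res]
    have e1 : res F (hle'.trans inf_le_left) (sf i) =
        res F (inf_le_left : cap (V i) W₀ ⊓ cap (V j) W₀ ≤ cap (V i) W₀)
          (res F (cap_mono (le_refl (V i)) hle) (sf i)) := by rw [res_res]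
    have e2 : res F (hle'.trans inf_le_right) (sf j) =
        res F (inf_le_right : cap (V i) W₀ ⊓ cap (V j) W₀ ≤ cap (V j) W₀)
          (res F (cap_mono (le_refl (V j)) hle) (sf j)) := by rw [res_res]
    rw [e1, e2, hsf i, hsf j, res_res, res_res]
  have hcover : W ≤ ⨆ i, cap (V i) W := by
    intro x hx
    have hx' : x ∈ iSup V := by rw [hV]; trivial
    obtain ⟨i, hi⟩ := Opens.mem_iSup.mp hx'
    exact Opens.mem_iSup.mpr ⟨i, mem_cap_of_mem hi hx⟩
  obtain ⟨s, hs, -⟩ := Fs.existsUnique_gluing' (fun i => cap (V i) W) W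
    (fun i => homOfLE (cap_le_right _ _)) hcover sf hcompat
  refine ⟨s, ?_⟩
  apply TopCat.Presheaf.IsSheaf.section_ext F.isSheaf (U := op W₀)
  intro x hx
  have hx' : x ∈ iSup V := by rw [hV]; trivial
  obtain ⟨i, hi⟩ := Opens.mem_iSup.mp hx'
  refine ⟨cap (V i) W₀, cap_le_right _ _, mem_cap_of_mem hi hx, ?_⟩
  change res F _ (res F _ s) = res F _ t
  rw [← hsf i, res_res]
  have : res F ((cap_le_right (V i) W₀).trans hle) s =
      res F (cap_mono (le_refl (V i)) hle) (res F (cap_le_right (V i) W) s) := by rw [res_res]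
  rw [this]
  congr 1
  exact hs i

end Groth.Agent.Lib.Helper21.ZClosCover
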