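import Groth.Agent.Lib.Helper21.ZClosIdem

set_option autoImplicit false
set_option linter.style.haveILetI false
universe u

open AlgebraicGeometry CategoryTheory Opposite TopologicalSpace Limits

namespace Groth.Agent.Lib.Helper21.ZClosUniv

open ZClos Groth.Agent.Lib.Helper21.FiltColimSec Groth.Agent.Lib.Helper21.ModBasis
  Groth.Agent.Lib.Helper21.ZClosCore Groth.Agent.Lib.Helper21.ZClosPure
  Groth.Agent.Lib.Helper21.ZClosIdem

variable {X : Scheme.{u}} [IsLocallyNoetherian X]

/-- Maps out of `H⁰_{X/Z}(F)` into a `Z`-pure module are determined by their composite with `ρ`. -/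
theorem hom_ext_of_isZPure (Z : Set X) (F F' : X.Modules) (hF' : IsZPure Z F')
    (v v' : (H0 Z).obj F ⟶ F') (h : rhoApp Z F ≫ v = rhoApp Z F ≫ v') : v = v' := by
  apply hom_ext_compact
  intro V hV g
  obtain ⟨T, t, rfl⟩ := exists_rep_H0 Z F hV g
  apply injective_of_isZPure Z F' hF' T V
  have e1 : ∀ w : (H0 Z).obj F ⟶ F', res F' (cap_le_right T.U V) (w.app V ((inj Z F T).app V t)) =
      w.app _ ((rhoApp Z F).app _ t) := by
    intro w
    rw [← res_inj_cap, app_res]
  rw [e1 v, e1 v']
  exact congr($(congrArg (fun φ => Scheme.Modules.Hom.app φ (cap T.U V)) h) t)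

/-- Universal property of `ρ : F ⟶ H⁰_{X/Z}(F)` with respect to `Z`-closed modules. -/
theorem existsUnique_lift (Z : Set X) (F F' : X.Modules) (hF' : IsZClosed Z F') (u : F ⟶ F') :
    ∃! v : (H0 Z).obj F ⟶ F', rhoApp Z F ≫ v = u := by
  haveI : IsIso (rhoApp Z F') := hF'
  have hpure : IsZPure Z F' := (inferInstance : Mono (rhoApp Z F'))
  refine ⟨(H0 Z).map u ≫ inv (rhoApp Z F'), ?_, ?_⟩
  · have := (rho Z).naturality u
    change u ≫ rhoApp Z F' = rhoApp Z F ≫ (H0 Z).map u at this
    change rhoApp Z F ≫ (H0 Z).map u ≫ inv (rhoApp Z F') = u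
    rw [← Category.assoc, ← this, Category.assoc, IsIso.hom_inv_id, Category.comp_id]
  · intro v' hv'
    apply hom_ext_of_isZPure Z F F' hpure
    rw [hv']
    have := (rho Z).naturality u
    change u ≫ rhoApp Z F' = rhoApp Z F ≫ (H0 Z).map u at this
    rw [← Category.assoc, ← this, Category.assoc, IsIso.hom_inv_id, Category.comp_id]

end Groth.Agent.Lib.Helper21.ZClosUniv
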