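import Groth.Agent.Lib.Helper21.ZClosSupp

set_option autoImplicit false
set_option linter.style.haveILetI false
universe u

open AlgebraicGeometry CategoryTheory Opposite TopologicalSpace Limits

namespace Groth.Agent.Lib.Helper21.ZClosZero

open ZClos Groth.Agent.Lib.Helper21.FiltColimSec Groth.Agent.Lib.Helper21.ModBasis
  Groth.Agent.Lib.Helper21.ZClosCore Groth.Agent.Lib.Helper21.ZClosPure
  Groth.Agent.Lib.Helper21.ZClosIdem Groth.Agent.Lib.Helper21.ZClosStalk
  Groth.Agent.Lib.Helper21.ZClosSupp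

variable {X : Scheme.{u}}

theorem section_eq_zero_of_isZero {G : X.Modules} (hG : IsZero G) {V : X.Opens} (s : Γ(G, V)) :
    s = 0 := by
  have h : (𝟙 G : G ⟶ G) = 0 := (IsZero.iff_id_eq_zero G).mp hG
  have h1 : (𝟙 G : G ⟶ G).app V s = (0 : G ⟶ G).app V s := by rw [h]
  exact h1

theorem isZero_of_sections_compact {G : X.Modules}
    (h : ∀ (V : X.Opens), IsCompact (V : Set X) → ∀ s : Γ(G, V), s = 0) : IsZero G := by
  rw [IsZero.iff_id_eq_zero]
  apply hom_ext_compact
  intro V hV s
  rw [h V hV s]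
  rw [map_zero, map_zero]

variable [IsLocallyNoetherian X]

/-- A represented section whose representative has germs vanishing outside `Z` is zero. -/
theorem inj_eq_zero_of_germ {Z : Set X} (hZ : StableUnderSpecialization Z) (F : X.Modules)
    {V : X.Opens} (hV : IsCompact (V : Set X)) (T : Cl Z) (t : Γ(F, cap T.U V))
    (ht : ∀ (x : X) (hx : x ∈ cap T.U V), x ∉ Z → F.presheaf.germ (cap T.U V) x hx t = 0) :
    (inj Z F T).app V t = 0 := by
  have hW : IsCompact ((cap T.U V : X.Opens) : Set X) := isCompact_of_le hV (cap_le_right _ _)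
  obtain ⟨T', hT'⟩ := exists_res_eq_zero hZ F hW t ht
  have a : T ≤ T ⊔ T' := le_sup_left
  have b : T' ≤ T ⊔ T' := le_sup_right
  rw [← inj_trans Z F a V t, hT' _ _ ((cap_le_left _ _).trans (Cl.U_anti b))]
  exact inj_zero Z F _ V

theorem isZero_H0_iff {Z : Set X} (hZ : StableUnderSpecialization Z) (F : X.Modules) :
    IsZero ((H0 Z).obj F) ↔ ∀ x : X, x ∉ Z → Subsingleton (F.presheaf.stalk x) := by
  constructor
  · intro h x hx
    have hbij := isZClosedAt_of_not_mem Z F x hx
    refine ⟨fun a b => hbij.1 ?_⟩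
    have h0 : ∀ c : ((H0 Z).obj F).presheaf.stalk x, c = 0 := by
      intro c
      obtain ⟨V, -, hxV, g, rfl⟩ := exists_germ_compact ((H0 Z).obj F) x c
      rw [section_eq_zero_of_isZero h g, map_zero]
    rw [h0 (rhoStalk Z F x a), h0 (rhoStalk Z F x b)]
  · intro h
    apply isZero_of_sections_compact
    intro V hV g
    obtain ⟨T, t, rfl⟩ := exists_rep_H0 Z F hV g
    apply inj_eq_zero_of_germ hZ F hV T t
    intro x hx hxZ
    haveI := h x hxZ
    exact Subsingleton.elim _ _

end Groth.Agent.Lib.Helper21.ZClosZero
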