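import Groth.Agent.Lib.Helper21.ZClosCover
import Groth.Agent.Lib.Helper21.ZClosZero
import Groth.Agent.Lib.Helper21.ZClosUniv

set_option autoImplicit false
set_option linter.style.haveILetI false
set_option linter.unusedSectionVars false
universe u

open AlgebraicGeometry CategoryTheory Opposite TopologicalSpace Limits

namespace Groth.Agent.Lib.Helper21.ZClosIso

open ZClos Groth.Agent.Lib.Helper21.FiltColimSec Groth.Agent.Lib.Helper21.ModBasis
  Groth.Agent.Lib.Helper21.ZClosCore Groth.Agent.Lib.Helper21.ZClosPure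
  Groth.Agent.Lib.Helper21.ZClosIdem Groth.Agent.Lib.Helper21.ZClosStalk
  Groth.Agent.Lib.Helper21.ZClosSupp Groth.Agent.Lib.Helper21.ZClosLocal
  Groth.Agent.Lib.Helper21.ZClosCover Groth.Agent.Lib.Helper21.ZClosZero

variable {X : Scheme.{u}}

/-- The stalk map of a morphism of modules, on germs. -/
theorem stalkMap_germ {F F' : X.Modules} (u : F ⟶ F') (x : X) {W : X.Opens} (hx : x ∈ W)
    (s : Γ(F, W)) :
    (TopCat.Presheaf.stalkFunctor (C := Ab.{u}) x).map u.mapPresheaf (F.presheaf.germ W x hx s) =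
      F'.presheaf.germ W x hx (u.app W s) :=
  TopCat.Presheaf.stalkFunctor_map_germ_apply W x hx u.mapPresheaf s

/-- Stalkwise surjectivity gives local lifts of sections. -/
theorem exists_local_lift {F F' : X.Modules} (u : F ⟶ F') (x : X)
    (hsurj : Function.Surjective
      ((TopCat.Presheaf.stalkFunctor (C := Ab.{u}) x).map u.mapPresheaf))
    {V : X.Opens} (hxV : x ∈ V) (f' : Γ(F', V)) :
    ∃ (W' : X.Opens) (hW'V : W' ≤ V) (_ : x ∈ W') (s : Γ(F, W')),
      u.app W' s = res F' hW'V f' := by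
  obtain ⟨a, ha⟩ := hsurj (F'.presheaf.germ V x hxV f')
  obtain ⟨W₁, hxW₁, s₁, rfl⟩ := TopCat.Presheaf.exists_germ_eq F.presheaf a
  rw [stalkMap_germ] at ha
  obtain ⟨W, hxW, iU, iV, heq⟩ := TopCat.Presheaf.germ_eq F'.presheaf x hxW₁ hxV _ _ ha
  refine ⟨W, leOfHom iV, hxW, res F (leOfHom iU) s₁, ?_⟩
  rw [app_res]
  exact heq

/-- Stalkwise injectivity kills germs of sections in the kernel. -/
theorem germ_eq_zero_of_app_eq_zero {F F' : X.Modules} (u : F ⟶ F') (x : X)
    (hinj : Function.Injective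
      ((TopCat.Presheaf.stalkFunctor (C := Ab.{u}) x).map u.mapPresheaf))
    {W : X.Opens} (hx : x ∈ W) (t : Γ(F, W)) (ht : u.app W t = 0) :
    F.presheaf.germ W x hx t = 0 := by
  apply hinj
  rw [stalkMap_germ, ht, map_zero]
  exact (map_zero ((TopCat.Presheaf.stalkFunctor (C := Ab.{u}) x).map u.mapPresheaf).hom).symm

variable [IsLocallyNoetherian X]

/-- `v : H⁰_{X/Z}(F) ⟶ F'` is an isomorphism when `F'` is `Z`-closed and `u = v ∘ ρ` is bijective on
stalks outside `Z`. -/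
theorem isIso_of_stalk_bijective {Z : Set X} (hZ : StableUnderSpecialization Z) (F F' : X.Modules)
    (hF' : IsZClosed Z F') (u : F ⟶ F')
    (hu : ∀ x : X, x ∉ Z → Function.Bijective
      ((TopCat.Presheaf.stalkFunctor (C := Ab.{u}) x).map u.mapPresheaf))
    (v : (H0 Z).obj F ⟶ F') (hv : rhoApp Z F ≫ v = u) : IsIso v := by
  haveI : IsIso (rhoApp Z F') := hF'
  have hpure : IsZPure Z F' := (inferInstance : Mono (rhoApp Z F'))
  have key : ∀ (V : X.Opens) (T : Cl Z) (t : Γ(F, cap T.U V)),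
      res F' (cap_le_right T.U V) (v.app V ((inj Z F T).app V t)) = u.app _ t := by
    intro V T t
    rw [← app_res, res_inj_cap, ← hv]
    rfl
  apply isIso_of_bijective_compact
  intro V hV
  constructor
  · rw [injective_iff_map_eq_zero]
    intro g hg
    obtain ⟨T, t, rfl⟩ := exists_rep_H0 Z F hV g
    have hut : u.app _ t = 0 := by rw [← key, hg, map_zero]
    apply inj_eq_zero_of_germ hZ F hV T t
    intro x hx hxZ
    exact germ_eq_zero_of_app_eq_zero u x (hu x hxZ).1 hx t hut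
  · intro f'
    -- the open locus where `f'` lifts locally
    let P : Set X := {x | ∃ (W' : X.Opens) (hW'V : W' ≤ V) (_ : x ∈ W') (s : Γ(F, W')),
      u.app W' s = res F' hW'V f'}
    have hPopen : IsOpen P := by
      rw [isOpen_iff_forall_mem_open]
      rintro x ⟨W', hW'V, hxW', s, hs⟩
      exact ⟨W', fun y hy => ⟨W', hW'V, hy, s, hs⟩, W'.2, hxW'⟩
    have hPV : P ⊆ V := by
      rintro x ⟨W', hW'V, hxW', -⟩
      exact hW'V hxW'
    let P' : X.Opens := ⟨P, hPopen⟩
    have hP'V : P' ≤ V := hPV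
    have hZP : (V : Set X) \ P' ⊆ Z := by
      rintro x ⟨hxV, hxP⟩
      by_contra hxZ
      exact hxP (exists_local_lift u x (hu x hxZ).2 hxV f')
    obtain ⟨T₀, hT₀⟩ := exists_cl_cap_eq hZ hV hP'V hZP
    have hP'c : IsCompact (P' : Set X) := isCompact_of_le hV hP'V
    have hloc : ∀ x : P', ∃ (W' : X.Opens) (hW'V : W' ≤ V) (_ : (x : X) ∈ W') (s : Γ(F, W')),
        u.app W' s = res F' hW'V f' := fun x => x.2
    choose Wx hWxV hxWx sx hsx using hloc
    obtain ⟨fin, hfin⟩ := hP'c.elim_finite_subcover (fun x : P' => ((Wx x : X.Opens) : Set X))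
      (fun x => (Wx x).2) (fun x hx => Set.mem_iUnion.mpr ⟨⟨x, hx⟩, hxWx ⟨x, hx⟩⟩)
    -- differences on overlaps die after removing a closed subset of `Z`
    have hd : ∀ k l : P', ∃ T' : Cl Z, ∀ (W' : X.Opens) (hW' : W' ≤ Wx k ⊓ Wx l), W' ≤ T'.U →
        res F (hW'.trans inf_le_left) (sx k) = res F (hW'.trans inf_le_right) (sx l) := by
      intro k l
      have hc : IsCompact ((Wx k ⊓ Wx l : X.Opens) : Set X) :=
        isCompact_of_le hV (inf_le_left.trans (hWxV k))
      have hud : u.app _ (res F (inf_le_left : Wx k ⊓ Wx l ≤ Wx k) (sx k) -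
          res F (inf_le_right : Wx k ⊓ Wx l ≤ Wx l) (sx l)) = 0 := by
        rw [map_sub, app_res, app_res, hsx, hsx, res_res, res_res, sub_self]
      obtain ⟨T', hT'⟩ := exists_res_eq_zero hZ F hc _
        (fun x hx hxZ => germ_eq_zero_of_app_eq_zero u x (hu x hxZ).1 hx _ hud)
      refine ⟨T', fun W' hW' hW'T => ?_⟩
      have := hT' W' hW' hW'T
      rw [map_sub, res_res, res_res] at this
      exact sub_eq_zero.mp this
    choose Tkl hTkl using hd
    let T₁ : Cl Z := T₀ ⊔ fin.sup (fun k => fin.sup (fun l => Tkl k l))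
    have hT₀₁ : T₀ ≤ T₁ := le_sup_left
    have hTkl₁ : ∀ k ∈ fin, ∀ l ∈ fin, Tkl k l ≤ T₁ := by
      intro k hk l hl
      refine le_trans ?_ (le_sup_right : _ ≤ T₁)
      exact le_trans (Finset.le_sup (f := fun l => Tkl k l) hl)
        (Finset.le_sup (f := fun k => fin.sup (fun l => Tkl k l)) hk)
    have hW₁P : cap T₁.U V ≤ P' := by
      rw [← hT₀]
      exact cap_mono (Cl.U_anti hT₀₁) le_rfl
    let Fs : TopCat.Sheaf Ab X := ⟨F.presheaf, F.isSheaf⟩
    let Uk : ↥fin → X.Opens := fun k => Wx k.1 ⊓ cap T₁.U V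
    let sf : ∀ k : ↥fin, Γ(F, Uk k) := fun k => res F inf_le_left (sx k.1)
    have hcompat : TopCat.Presheaf.IsCompatible Fs.1 Uk sf := by
      intro k l
      change res F (inf_le_left : Uk k ⊓ Uk l ≤ Uk k) (sf k) =
        res F (inf_le_right : Uk k ⊓ Uk l ≤ Uk l) (sf l)
      rw [res_res, res_res]
      have hle : Uk k ⊓ Uk l ≤ Wx k.1 ⊓ Wx l.1 := inf_le_inf inf_le_left inf_le_left
      have hleT : Uk k ⊓ Uk l ≤ (Tkl k.1 l.1).U :=
        (inf_le_left.trans inf_le_right).trans ((cap_le_left _ _).trans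
          (Cl.U_anti (hTkl₁ k.1 k.2 l.1 l.2)))
      exact hTkl k.1 l.1 _ hle hleT
    have hcover : cap T₁.U V ≤ ⨆ k, Uk k := by
      intro x hx
      have hxP : x ∈ (P' : Set X) := hW₁P hx
      obtain ⟨k, hk⟩ := Set.mem_iUnion.mp (hfin hxP)
      obtain ⟨hk', hxk⟩ := Set.mem_iUnion.mp hk
      exact Opens.mem_iSup.mpr ⟨⟨k, hk'⟩, ⟨hxk, hx⟩⟩
    obtain ⟨t, ht, -⟩ := Fs.existsUnique_gluing' Uk (cap T₁.U V)
      (fun k => homOfLE inf_le_right) hcover sf hcompat
    have hut : u.app _ t = res F' (cap_le_right T₁.U V) f' := by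
      apply TopCat.Presheaf.IsSheaf.section_ext F'.isSheaf (U := op (cap T₁.U V))
      intro x hx
      have hxP : x ∈ (P' : Set X) := hW₁P hx
      obtain ⟨k, hk⟩ := Set.mem_iUnion.mp (hfin hxP)
      obtain ⟨hk', hxk⟩ := Set.mem_iUnion.mp hk
      refine ⟨Uk ⟨k, hk'⟩, inf_le_right, ⟨hxk, hx⟩, ?_⟩
      change res F' _ (u.app _ t) = res F' _ (res F' _ f')
      rw [← app_res]
      have e1 : res F (inf_le_right : Uk ⟨k, hk'⟩ ≤ cap T₁.U V) t = sf ⟨k, hk'⟩ := ht ⟨k, hk'⟩
      rw [e1]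
      change u.app _ (res F _ (sx k)) = _
      rw [app_res, hsx, res_res, res_res]
    refine ⟨(inj Z F T₁).app V t, ?_⟩
    apply injective_of_isZPure Z F' hpure T₁ V
    rw [key, hut]

end Groth.Agent.Lib.Helper21.ZClosIso
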