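import Groth.Agent.Lib.Helper21.ZClosHartogs
import Groth.Agent.Lib.Helper21.ZClosStalk
import Groth.Agent.Lib.Helper21.ZClosDepth
import Groth.Agent.Lib.Helper21.ZClosIso
import Groth.Agent.Lib.Helper21.QCohColim
import Groth.Agent.Lib.Helper64.DepthIso
import Groth.Prelude.Def_RefHull

/-!
# `Z`-closedness at a point and depth `≥ 2` at the generizations lying in `Z`
-/

set_option autoImplicit false
set_option linter.style.haveILetI false
universe u

open AlgebraicGeometry CategoryTheory Opposite TopologicalSpace Limits ZClos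

namespace Groth.Agent.Lib.Helper21.ZClosDepth2

open Groth.Agent.Lib.Helper21.ModBasis Groth.Agent.Lib.Helper21.ZClosCore
  Groth.Agent.Lib.Helper21.ZClosStalk Groth.Agent.Lib.Helper29.QCohLoc
  Groth.Agent.Lib.Helper21.ZClosDepth Groth.Agent.Lib.Helper21.ZClosHartogs
  Groth.Agent.Lib.Helper64.HartogsConv

variable {X : Scheme.{u}}

/-- A `Z`-closed module is `Z`-closed at every point. -/
theorem isZClosedAt_of_isZClosed (Z : Set X) (F : X.Modules) (h : IsZClosed Z F) (x : X) :
    IsZClosedAt Z F x := by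
  haveI : IsIso (rhoApp Z F) := h
  haveI : IsIso ((Scheme.Modules.toPresheaf X).map (rhoApp Z F)) := inferInstance
  haveI : IsIso ((TopCat.Presheaf.stalkFunctor (C := Ab.{u}) x).map
      ((Scheme.Modules.toPresheaf X).map (rhoApp Z F))) := inferInstance
  exact ConcreteCategory.bijective_of_isIso
    ((TopCat.Presheaf.stalkFunctor (C := Ab.{u}) x).map
      ((Scheme.Modules.toPresheaf X).map (rhoApp Z F)))

variable [IsLocallyNoetherian X]

/-- A quasi-coherent `Z`-closed module has no associated point in `Z`. -/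
theorem not_isAssPoint_of_isZClosed {Z : Set X} (hZ : StableUnderSpecialization Z)
    (H : X.Modules) [H.IsQuasicoherent] (hcl : IsZClosed Z H) (y : X) (hy : y ∈ Z) :
    ¬ Curv2.IsAssPoint H y :=
  (isZPureAt_iff_ass hZ H y).1 (isZClosedAt_of_isZClosed Z H hcl y).1 y specializes_rfl hy

/-- `Z`-closedness at a point passes to generizations (for quasi-coherent modules). -/
theorem isZClosedAt_of_specializes {Z : Set X} (hZ : StableUnderSpecialization Z) (F : X.Modules)
    [F.IsQuasicoherent] {x x' : X} (h : x' ⤳ x) (hx : IsZClosedAt Z F x) :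
    IsZClosedAt Z F x' := by
  refine ⟨?_, ?_⟩
  · have h1 := (isZPureAt_iff_ass hZ F x).1 hx.1
    exact (isZPureAt_iff_ass hZ F x').2 (fun x'' hs hz => h1 x'' (hs.trans h) hz)
  · intro g
    obtain ⟨_, ⟨W, hW : IsAffineOpen W, rfl⟩, hxW, -⟩ :=
      (X.isBasis_affineOpens).exists_subset_of_mem_open (Set.mem_univ x) isOpen_univ
    have hxW : x ∈ W := hxW
    have hx'W : x' ∈ W := h.mem_open W.isOpen hxW
    haveI : ((H0 Z).obj F).IsQuasicoherent :=
      Groth.Agent.Lib.Helper21.QCohColim.isQuasicoherent_H0 Z F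
    have hHl := LocAt.of_isQuasicoherent ((H0 Z).obj F) hW
    obtain ⟨a, σ, hxa, hσ⟩ := exists_germ_eq_smul ((H0 Z).obj F) hW hHl x' hx'W g
    obtain ⟨W', hW'W, hxW', s, hs⟩ :=
      Groth.Agent.Lib.Helper21.ZClosIso.exists_local_lift (rhoApp Z F) x hx.2 hxW σ
    have hx'W' : x' ∈ W' := h.mem_open W'.isOpen hxW'
    have hu : IsUnit (X.presheaf.germ W x' hx'W a) := (Scheme.mem_basicOpen X a x' hx'W).1 hxa
    obtain ⟨u, hu'⟩ := hu
    refine ⟨(↑u⁻¹ : X.presheaf.stalk x') • F.presheaf.germ W' x' hx'W' s, ?_⟩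
    change RefHull.stalkMapₗ (rhoApp Z F) x' _ = g
    rw [map_smul, RefHull.stalkMapₗ_germ, hs,
      Groth.Agent.Lib.Helper21.ZClosStalk.germ_res, hσ, ← hu', smul_smul, Units.inv_mul, one_smul]

/-- **Necessity**: if `F` (coherent) is `Z`-closed at `x`, then `depth F_{x'} ≥ 2` at every
generization `x'` of `x` lying in `Z`. -/
theorem two_le_depth_of_isZClosedAt {Z : Set X} (hZ : StableUnderSpecialization Z) (F : X.Modules)
    (hF : Coh.IsCoh F) {x x' : X} (h : x' ⤳ x) (hx' : x' ∈ Z) (hx : IsZClosedAt Z F x) :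
    (2 : ℕ∞) ≤ LocCoh.depth (X.presheaf.stalk x') (F.presheaf.stalk x') := by
  haveI : F.IsQuasicoherent := hF.1
  haveI : ((H0 Z).obj F).IsQuasicoherent :=
    Groth.Agent.Lib.Helper21.QCohColim.isQuasicoherent_H0 Z F
  have hb := isZClosedAt_of_specializes hZ F h hx
  have hH : HartogsAt ((H0 Z).obj F) x' :=
    hartogsAt_of_isZClosed hZ _ (Groth.Agent.Lib.Helper21.ZClosIdem.isZClosed_H0 Z F) x' hx'
  haveI : Module.Finite (X.presheaf.stalk x') (F.presheaf.stalk x') :=
    Groth.Agent.Lib.Helper64.FinTypeStalk.finite_stalk F hF.2 x'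
  have hψ : Function.Bijective (RefHull.stalkMapₗ (rhoApp Z F) x') := hb
  apply Groth.Agent.Lib.Helper64.HartogsConvAlg.two_le_depth_of_socle_free
  · intro n hn
    apply hψ.1
    rw [map_zero]
    apply eq_zero_of_forall_smul_eq_zero ((H0 Z).obj F) x' hH
    intro t ht
    rw [← map_smul, hn t ht, map_zero]
  · intro a _ hreg n hn
    have hreg' : ∀ z : ((H0 Z).obj F).presheaf.stalk x', a • z = 0 → z = 0 := by
      intro z hz
      obtain ⟨w, rfl⟩ := hψ.2 z
      rw [← map_smul] at hz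
      have h0 : a • w = 0 := hψ.1 (hz.trans (map_zero _).symm)
      rw [hreg w h0, map_zero]
    obtain ⟨n'', hn''⟩ := exists_eq_smul_of_forall ((H0 Z).obj F) x' hH a hreg'
      (RefHull.stalkMapₗ (rhoApp Z F) x' n) (fun t ht => by
        obtain ⟨n', hn'⟩ := hn t ht
        exact ⟨RefHull.stalkMapₗ (rhoApp Z F) x' n', by rw [← map_smul, hn', map_smul]⟩)
    obtain ⟨w, rfl⟩ := hψ.2 n''
    exact ⟨w, hψ.1 (by rw [hn'', map_smul])⟩

open Groth.Agent.Lib.Helper64.DepthIso Groth.Agent.Lib.Helper64.DepthIsoAlg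
  Groth.Agent.Lib.Helper64.HartogsDepth Groth.Agent.Lib.Helper64.DepthOne in
/-- **Sufficiency**: if `depth F_{x'} ≥ 2` at every generization `x'` of `x` lying in `Z`, then
`F` (coherent) is `Z`-closed at `x`. -/
theorem isZClosedAt_of_depth {Z : Set X} (hZ : StableUnderSpecialization Z) (F : X.Modules)
    (hF : Coh.IsCoh F) (x : X)
    (h : ∀ x' : X, x' ⤳ x → x' ∈ Z →
      (2 : ℕ∞) ≤ LocCoh.depth (X.presheaf.stalk x') (F.presheaf.stalk x')) :
    IsZClosedAt Z F x := by
  haveI : F.IsQuasicoherent := hF.1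
  haveI : ((H0 Z).obj F).IsQuasicoherent :=
    Groth.Agent.Lib.Helper21.QCohColim.isQuasicoherent_H0 Z F
  have hcl : IsZClosed Z ((H0 Z).obj F) := Groth.Agent.Lib.Helper21.ZClosIdem.isZClosed_H0 Z F
  have key : ∀ x' : X, x' ⤳ x → Function.Bijective (RefHull.stalkMapₗ (rhoApp Z F) x') := by
    by_contra hcon
    push Not at hcon
    obtain ⟨x₁, hx₁s, hx₁⟩ := hcon
    obtain ⟨y, ⟨hyx, hyS⟩, -, hmax⟩ := exists_maximal_generization_mem
      {x' : X | x' ⤳ x ∧ ¬ Function.Bijective (RefHull.stalkMapₗ (rhoApp Z F) x')} x₁ ⟨hx₁s, hx₁⟩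
    have IH : ∀ y' : X, y' ⤳ y → y' ≠ y →
        Function.Bijective (RefHull.stalkMapₗ (rhoApp Z F) y') := by
      intro y' hs hne
      by_contra hnb
      exact hne (hmax y' ⟨hs.trans hyx, hnb⟩ hs)
    apply hyS
    by_cases hyZ : y ∈ Z
    · obtain ⟨_, ⟨U, hU : IsAffineOpen U, rfl⟩, hyU, -⟩ :=
        (X.isBasis_affineOpens).exists_subset_of_mem_open (Set.mem_univ y) isOpen_univ
      haveI : Module.Finite (X.presheaf.stalk y) (F.presheaf.stalk y) :=
        Groth.Agent.Lib.Helper64.FinTypeStalk.finite_stalk F hF.2 y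
      obtain ⟨a, ha, b, hb, hreg, hreg2⟩ := exists_pair_of_two_le_depth (h y hyx hyZ)
      exact bijective_of_local (RefHull.stalkMapₗ (rhoApp Z F) y) a b ha hb hreg hreg2
        (fun k hk Q hQp hQ => exists_smul_eq_zero_of_injective (rhoApp Z F) hU y hyU
          (fun y' hs hne => (IH y' hs hne).1) k hk Q hQ)
        (fun n₀ Q hQp hQ => exists_smul_mem_range_of_surjective (rhoApp Z F) hU y hyU
          (fun y' hs hne => (IH y' hs hne).2) n₀ Q hQ)
        (not_isAssPoint_of_isZClosed hZ _ hcl y hyZ)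
    · exact isZClosedAt_of_not_mem Z F y hyZ
  exact key x specializes_rfl

/-- The pointwise criterion: `F` coherent is `Z`-closed at `x` iff `depth F_{x'} ≥ 2` at all
generizations `x'` of `x` lying in `Z`. -/
theorem isZClosedAt_iff_depth {Z : Set X} (hZ : StableUnderSpecialization Z) (F : X.Modules)
    (hF : Coh.IsCoh F) (x : X) :
    IsZClosedAt Z F x ↔ ∀ x' : X, x' ⤳ x → x' ∈ Z →
      (2 : ℕ∞) ≤ LocCoh.depth (X.presheaf.stalk x') (F.presheaf.stalk x') :=
  ⟨fun hx x' h hx' => two_le_depth_of_isZClosedAt hZ F hF h hx' hx,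
    isZClosedAt_of_depth hZ F hF x⟩

end Groth.Agent.Lib.Helper21.ZClosDepth2
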