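import Groth.Prelude.Def_ZClos
import Groth.Agent.Lib.Helper21.QCohKernel
import Groth.Agent.Lib.Helper42.ModSheaf

set_option autoImplicit false
set_option linter.style.haveILetI false
universe u

open AlgebraicGeometry CategoryTheory Opposite TopologicalSpace Limits

namespace Groth.Agent.Lib.Helper21.ZClosExact

open ZClos

variable {X : Scheme.{u}}

instance (U : X.Opens) : PreservesFiniteLimits (resPush U) := by
  haveI : PreservesFiniteLimits (Scheme.Modules.pushforward U.ι) := by
    haveI : (Scheme.Modules.pushforward U.ι).IsRightAdjoint :=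
      (Scheme.Modules.restrictAdjunction U.ι).isRightAdjoint
    infer_instance
  exact comp_preservesFiniteLimits _ _

theorem preservesFiniteLimits_diagram (Z : Set X) : PreservesFiniteLimits (diagram Z) := by
  constructor
  intro J _ _
  constructor
  intro K
  apply preservesLimit_of_evaluation
  intro T
  exact (inferInstance : PreservesLimit K (resPush T.U))

theorem preservesFiniteLimits_H0 (Z : Set X) : PreservesFiniteLimits (H0 Z) := by
  haveI : HasExactColimitsOfShape (Cl Z) (SheafOfModules.{u} X.ringCatSheaf) :=
    Groth.Agent.Lib.Helper42.ModSheaf.hasExactColimitsOfShape_of_isFiltered X.ringCatSheaf (Cl Z)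
  haveI : PreservesFiniteLimits (colim : (Cl Z ⥤ X.Modules) ⥤ X.Modules) :=
    (inferInstance : PreservesFiniteLimits
      (colim : (Cl Z ⥤ SheafOfModules.{u} X.ringCatSheaf) ⥤ SheafOfModules.{u} X.ringCatSheaf))
  haveI := preservesFiniteLimits_diagram Z
  exact comp_preservesFiniteLimits (diagram Z) colim

end Groth.Agent.Lib.Helper21.ZClosExact
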