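import Groth.Agent.Lib.Helper21.ZClosDepth2
import Groth.Agent.Lib.Helper21.ZClosCover
import Groth.Agent.Lib.Helper21.IsoLocusGen

/-!
# The open locus where a coherent module is `Z`-closed
-/

set_option autoImplicit false
set_option linter.style.haveILetI false
universe u

open AlgebraicGeometry CategoryTheory Opposite TopologicalSpace Limits ZClos

namespace Groth.Agent.Lib.Helper21.ZClosOpenLocus

open Groth.Agent.Lib.Helper21.ModBasis Groth.Agent.Lib.Helper21.ZClosCore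
  Groth.Agent.Lib.Helper21.ZClosStalk Groth.Agent.Lib.Helper21.ZClosLocal
  Groth.Agent.Lib.Helper21.ZClosCover Groth.Agent.Lib.Helper21.FiltColimSec

variable {X : Scheme.{u}}

theorem bijective_res_congr (F : X.Modules) {U U' V V' : X.Opens} (eU : U = U') (eV : V = V')
    (h : U ≤ V) (h' : U' ≤ V') :
    Function.Bijective (res F h) ↔ Function.Bijective (res F h') := by
  subst eU; subst eV; rfl

/-- `ρ` is bijective on sections over an open all of whose points are points of `Z`-closedness. -/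
theorem bijective_app_of_closedAt (Z : Set X) (F : X.Modules) (W : X.Opens)
    (hW : ∀ x ∈ W, IsZClosedAt Z F x) : Function.Bijective ((rhoApp Z F).app W) := by
  let F' : TopCat.Sheaf Ab X := ⟨F.presheaf, F.isSheaf⟩
  let G' : TopCat.Sheaf Ab X := ⟨((H0 Z).obj F).presheaf, ((H0 Z).obj F).isSheaf⟩
  let f : F' ⟶ G' := ⟨(Scheme.Modules.toPresheaf X).map (rhoApp Z F)⟩
  exact TopCat.Presheaf.app_bijective_of_stalkFunctor_map_bijective f W hW

variable [IsLocallyNoetherian X]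

theorem bijective_res_of_closedAt {Z : Set X} (hZ : StableUnderSpecialization Z) (F : X.Modules)
    {W₀ W : X.Opens} (h : W₀ ≤ W) (hWc : IsCompact (W : Set X)) (hZW : (W : Set X) \ W₀ ⊆ Z)
    (hW : ∀ x ∈ W, IsZClosedAt Z F x) : Function.Bijective (res F h) := by
  have b1 := bijective_app_of_closedAt Z F W hW
  have b0 := bijective_app_of_closedAt Z F W₀ (fun x hx => hW x (h hx))
  have bH := (isZClosed_iff hZ _).1 (Groth.Agent.Lib.Helper21.ZClosIdem.isZClosed_H0 Z F)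
    W W₀ h hWc hZW
  have nat : ∀ s, (rhoApp Z F).app W₀ (res F h s) = res _ h ((rhoApp Z F).app W s) :=
    fun s => app_res (rhoApp Z F) h s
  constructor
  · intro s s' hss
    apply b1.1
    apply bH.1
    rw [← nat, ← nat, hss]
  · intro t
    obtain ⟨g, hg⟩ := bH.2 ((rhoApp Z F).app W₀ t)
    obtain ⟨s, hs⟩ := b1.2 g
    refine ⟨s, b0.1 ?_⟩
    rw [nat, hs, hg]

theorem isZClosed_restrict_of_closedAt {Z : Set X} (hZ : StableUnderSpecialization Z)
    (F : X.Modules) (U : X.Opens) (hU : ∀ x ∈ U, IsZClosedAt Z F x) :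
    IsZClosed (U.ι.base ⁻¹' Z) ((Scheme.Modules.restrictFunctor U.ι).obj F) := by
  rw [isZClosed_iff (stable_preimage U hZ)]
  intro W W₀ h hW hZW
  exact bijective_res_of_closedAt hZ F (U.ι.image_mono h) (isCompact_image U hW)
    (diff_image_subset U hZW) (fun x hx => by
      obtain ⟨y, -, rfl⟩ := hx
      exact hU _ y.2)

theorem isZClosedAt_of_bijective_res {Z : Set X} (F : X.Modules) (x : X) (V : X.Opens)
    (hxV : x ∈ V)
    (hb : ∀ (W W₀ : X.Opens) (h : W₀ ≤ W), W ≤ V → IsCompact (W : Set X) →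
      (W : Set X) \ W₀ ⊆ Z → Function.Bijective (res F h)) : IsZClosedAt Z F x := by
  have hsub : ∀ (T : Cl Z) (W : X.Opens), (W : Set X) \ (cap T.U W : X.Opens) ⊆ Z := by
    rintro T W y ⟨hyW, hyn⟩
    apply T.2
    by_contra hyT
    exact hyn (by rw [cap_eq]; exact ⟨hyT, hyW⟩)
  constructor
  · rw [injective_iff_map_eq_zero]
    intro f hf
    obtain ⟨W₁, hW₁c, hxW₁, s₁, rfl⟩ := exists_germ_compact F x f
    rw [rhoStalk_germ] at hf
    obtain ⟨W₂, hW₂c, hxW₂, hW₂W₁, h0⟩ :=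
      exists_res_eq_zero_of_germ_eq_zero ((H0 Z).obj F) x hxW₁ _ hf
    have hW₃c : IsCompact ((W₂ ⊓ V : X.Opens) : Set X) := isCompact_of_le hW₂c inf_le_left
    have hxW₃ : x ∈ W₂ ⊓ V := ⟨hxW₂, hxV⟩
    have hle : W₂ ⊓ V ≤ W₁ := inf_le_left.trans hW₂W₁
    have h1 : (rhoApp Z F).app (W₂ ⊓ V) (res F hle s₁) = 0 := by
      rw [app_res, ← res_res _ (inf_le_left : W₂ ⊓ V ≤ W₂) hW₂W₁, h0, map_zero]
    rw [rhoApp_app Z F ⊥ (W₂ ⊓ V)] at h1
    obtain ⟨T'', a, h2⟩ := exists_of_inj_eq_zero Z F hW₃c _ h1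
    rw [res_res] at h2
    have hb' := hb (W₂ ⊓ V) (cap T''.U (W₂ ⊓ V)) (cap_le_right _ _) inf_le_right hW₃c
      (hsub T'' _)
    have h3 : res F hle s₁ = 0 := hb'.1 (by rw [h2, map_zero])
    rw [← germ_res F hle x hxW₃ s₁, h3, map_zero]
  · intro g
    obtain ⟨W₁, hW₁c, hxW₁, γ₁, rfl⟩ := exists_germ_compact ((H0 Z).obj F) x g
    have hWc : IsCompact ((W₁ ⊓ V : X.Opens) : Set X) := isCompact_of_le hW₁c inf_le_left
    have hxW : x ∈ W₁ ⊓ V := ⟨hxW₁, hxV⟩
    obtain ⟨T, t, ht⟩ := exists_rep_H0 Z F hWc (res _ (inf_le_left : W₁ ⊓ V ≤ W₁) γ₁)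
    have hb' := hb (W₁ ⊓ V) (cap T.U (W₁ ⊓ V)) (cap_le_right _ _) inf_le_right hWc (hsub T _)
    obtain ⟨s, hs⟩ := hb'.2 t
    refine ⟨F.presheaf.germ (W₁ ⊓ V) x hxW s, ?_⟩
    rw [rhoStalk_germ, rhoApp_app Z F T (W₁ ⊓ V) s, hs, ht, germ_res]

theorem isZClosedAt_of_isZClosed_restrict {Z : Set X} (hZ : StableUnderSpecialization Z)
    (F : X.Modules) (V : X.Opens)
    (hV : IsZClosed (V.ι.base ⁻¹' Z) ((Scheme.Modules.restrictFunctor V.ι).obj F)) (x : X)
    (hx : x ∈ V) : IsZClosedAt Z F x := by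
  apply isZClosedAt_of_bijective_res F x V hx
  intro W W₀ h hWV hWc hZW
  have h1 := bijective_res_cap hZ F V hV h hWc hZW
  have e : cap V W = W := by rw [cap_eq]; exact inf_eq_right.2 hWV
  have e₀ : cap V W₀ = W₀ := by rw [cap_eq]; exact inf_eq_right.2 (h.trans hWV)
  rwa [bijective_res_congr F e₀ e _ h] at h1

/-- The open locus of `Z`-closedness of a coherent module with coherent `Z`-closure. -/
theorem exists_open_locus {Z : Set X} (hZ : StableUnderSpecialization Z) (F : X.Modules)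
    (hF : Coh.IsCoh F) (hH : Coh.IsCoh ((H0 Z).obj F)) :
    ∃ U : X.Opens, (U : Set X) = {x | ∀ x' : X, x' ⤳ x → x' ∈ Z →
        (2 : ℕ∞) ≤ LocCoh.depth (X.presheaf.stalk x') (F.presheaf.stalk x')} ∧
      (U : Set X)ᶜ ⊆ Z ∧
      IsZClosed (U.ι.base ⁻¹' Z) ((Scheme.Modules.restrictFunctor U.ι).obj F) ∧
      ∀ V : X.Opens, IsZClosed (V.ι.base ⁻¹' Z) ((Scheme.Modules.restrictFunctor V.ι).obj F) →
        V ≤ U := by
  haveI : F.IsQuasicoherent := hF.1
  haveI : SheafOfModules.IsFiniteType (R := X.ringCatSheaf) F := hF.2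
  haveI : ((H0 Z).obj F).IsQuasicoherent := hH.1
  haveI : SheafOfModules.IsFiniteType (R := X.ringCatSheaf) ((H0 Z).obj F) := hH.2
  have hopen : IsOpen {x : X | IsZClosedAt Z F x} :=
    Groth.Agent.Lib.Helper21.IsoLocusGen.isOpen_bijLocus F ((H0 Z).obj F) (rhoApp Z F)
  refine ⟨⟨_, hopen⟩, ?_, ?_, ?_, ?_⟩
  · ext x
    exact Groth.Agent.Lib.Helper21.ZClosDepth2.isZClosedAt_iff_depth hZ F hF x
  · intro x hx
    by_contra hxZ
    exact hx (isZClosedAt_of_not_mem Z F x hxZ)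
  · exact isZClosed_restrict_of_closedAt hZ F _ (fun x hx => hx)
  · intro V hV x hx
    exact isZClosedAt_of_isZClosed_restrict hZ F V hV x hx

end Groth.Agent.Lib.Helper21.ZClosOpenLocus
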