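import Groth.Agent.Lib.Helper21.ZClosStalk
import Groth.Agent.Lib.Helper21.SpecClosure
import Mathlib.AlgebraicGeometry.Properties

set_option autoImplicit false
set_option linter.style.haveILetI false
universe u

open AlgebraicGeometry CategoryTheory Opposite TopologicalSpace Limits

namespace Groth.Agent.Lib.Helper21.ZClosSupp

open ZClos Groth.Agent.Lib.Helper21.FiltColimSec Groth.Agent.Lib.Helper21.ModBasis
  Groth.Agent.Lib.Helper21.ZClosCore Groth.Agent.Lib.Helper21.ZClosPure
  Groth.Agent.Lib.Helper21.ZClosIdem Groth.Agent.Lib.Helper21.ZClosStalk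

variable {X : Scheme.{u}}

/-- Germs detect vanishing of sections. -/
theorem eq_zero_of_germ (F : X.Modules) {U : X.Opens} (s : Γ(F, U))
    (h : ∀ (x : X) (hx : x ∈ U), F.presheaf.germ U x hx s = 0) : s = 0 := by
  refine TopCat.Presheaf.section_ext (⟨F.presheaf, F.isSheaf⟩ : TopCat.Sheaf Ab X) U s 0 ?_
  intro x hx
  rw [map_zero]
  exact h x hx

/-- The support of a section. -/
def supp (F : X.Modules) {W : X.Opens} (t : Γ(F, W)) : Set X :=
  {x | ∃ hx : x ∈ W, F.presheaf.germ W x hx t ≠ 0}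

theorem supp_subset (F : X.Modules) {W : X.Opens} (t : Γ(F, W)) : supp F t ⊆ W :=
  fun _ hx => hx.1

theorem isOpen_diff_supp (F : X.Modules) {W : X.Opens} (t : Γ(F, W)) :
    IsOpen ((W : Set X) \ supp F t) := by
  rw [isOpen_iff_forall_mem_open]
  rintro x ⟨hxW, hx⟩
  have h0 : F.presheaf.germ W x hxW t = 0 := by
    by_contra hne
    exact hx ⟨hxW, hne⟩
  obtain ⟨W', -, hxW', hW'W, hres⟩ := exists_res_eq_zero_of_germ_eq_zero F x hxW t h0
  refine ⟨W', ?_, W'.2, hxW'⟩
  intro y hy
  refine ⟨hW'W hy, ?_⟩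
  rintro ⟨hyW, hne⟩
  apply hne
  rw [← germ_res F hW'W y hy t, hres, map_zero]

variable [IsLocallyNoetherian X]

theorem noetherianSpace_of_isCompact {V : X.Opens} (hV : IsCompact (V : Set X)) :
    NoetherianSpace ((V : Set X) : Type u) := by
  haveI : CompactSpace (V : Scheme.{u}) := isCompact_iff_compactSpace.mp hV
  haveI : IsNoetherian (V : Scheme.{u}) := ⟨⟩
  exact (inferInstance : NoetherianSpace (V : Scheme.{u}))

theorem quasiSober_opens (V : X.Opens) : QuasiSober ((V : Set X) : Type u) :=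
  (inferInstance : QuasiSober (V : Scheme.{u}))

/-- The closure of a subset of `Z`, closed in a compact open, as a member of `Cl Z`. -/
noncomputable def clOf {Z : Set X} (hZ : StableUnderSpecialization Z) {V : X.Opens}
    (hV : IsCompact (V : Set X)) (S : Set X) (hSV : S ⊆ V) (hS : IsOpen ((V : Set X) \ S))
    (hSZ : S ⊆ Z) : Cl Z :=
  ⟨⟨closure S, isClosed_closure⟩, by
    haveI := noetherianSpace_of_isCompact hV
    haveI := quasiSober_opens V
    refine Groth.Agent.Lib.Helper21.SpecClosure.closure_subset_of_stableUnderSpecialization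
      (V := (V : Set X)) hZ hSV ?_ hSZ
    rw [← isOpen_compl_iff]
    convert hS.preimage (continuous_subtype_val (p := fun x => x ∈ (V : Set X))) using 1
    ext x
    simp [x.2]⟩

theorem subset_clOf {Z : Set X} (hZ : StableUnderSpecialization Z) {V : X.Opens}
    (hV : IsCompact (V : Set X)) (S : Set X) (hSV : S ⊆ V) (hS : IsOpen ((V : Set X) \ S))
    (hSZ : S ⊆ Z) : S ⊆ ((clOf hZ hV S hSV hS hSZ).1 : Set X) := subset_closure

/-- A section over `V ∖ T` whose germs vanish outside `Z` dies after removing a larger closed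
subset of `Z`. -/
theorem exists_res_eq_zero {Z : Set X} (hZ : StableUnderSpecialization Z) (F : X.Modules)
    {W : X.Opens} (hW : IsCompact (W : Set X)) (t : Γ(F, W))
    (ht : ∀ (x : X) (hx : x ∈ W), x ∉ Z → F.presheaf.germ W x hx t = 0) :
    ∃ T' : Cl Z, ∀ (W' : X.Opens) (hW' : W' ≤ W), W' ≤ T'.U → res F hW' t = 0 := by
  have hSZ : supp F t ⊆ Z := by
    rintro x ⟨hxW, hne⟩
    by_contra hxZ
    exact hne (ht x hxW hxZ)
  refine ⟨clOf hZ hW (supp F t) (supp_subset F t) (isOpen_diff_supp F t) hSZ, ?_⟩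
  intro W' hW' hW'T
  apply eq_zero_of_germ
  intro x hx
  rw [germ_res F hW' x hx t]
  by_contra hne
  exact hW'T hx (subset_clOf hZ hW (supp F t) (supp_subset F t) (isOpen_diff_supp F t) hSZ
    ⟨hW' hx, hne⟩)

end Groth.Agent.Lib.Helper21.ZClosSupp
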