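import Groth.Agent.Lib.Helper21.FlatResBC
import Groth.Agent.Lib.Helper21.SpecClosureMap
import Groth.Agent.Lib.Helper21.ZClosLocal
import Groth.Agent.Lib.Helper21.ZClosSupp
import Groth.Agent.Lib.Helper21.ZClosOpenLocus
import Groth.Agent.Lib.Helper64.HartogsGlue
import Groth.Agent.Lib.Helper64.HartogsInj

/-!
# Flat pullback preserves `Z`-closedness of quasi-coherent modules
-/

set_option autoImplicit false
set_option linter.style.haveILetI false
universe u

open AlgebraicGeometry CategoryTheory Opposite TopologicalSpace Limits ZClos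

namespace Groth.Agent.Lib.Helper21.ZClosFlat

open Groth.Agent.Lib.Helper21.ModBasis Groth.Agent.Lib.Helper21.ZClosCore
  Groth.Agent.Lib.Helper21.ZClosLocal Groth.Agent.Lib.Helper21.ZClosSupp
  Groth.Agent.Lib.Helper21.ZClosPure Groth.Agent.Lib.Helper21.FiltColimSec
  Groth.Agent.Lib.Helper21.FlatResBC Groth.Agent.Lib.Helper21.SpecClosureMap
  Groth.Agent.Lib.Helper21.ZClosOpenLocus

variable {X' X : Scheme.{u}} (f : X' ⟶ X)

/-- The preimage of a closed subset contained in `Z`, as an index for `f⁻¹ Z`. -/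
def pullCl {Z : Set X} (T : Cl Z) : Cl (f.base ⁻¹' Z) :=
  ⟨⟨f.base ⁻¹' (T.1 : Set X), T.1.isClosed.preimage f.continuous⟩, fun _ hy => T.2 hy⟩

theorem pullCl_U {Z : Set X} (T : Cl Z) : (pullCl f T).U = f ⁻¹ᵁ T.U := rfl

/-- The closure of the image of `T' ∩ V'` is a closed subset of `X` contained in `Z`. -/
theorem exists_cl_image [IsLocallyNoetherian X'] {Z : Set X} (hZ : StableUnderSpecialization Z)
    (T' : Cl (f.base ⁻¹' Z)) {V' : X'.Opens} (hV' : IsCompact (V' : Set X')) :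
    ∃ T : Cl Z, V' ⊓ f ⁻¹ᵁ T.U ≤ V' ⊓ T'.U := by
  haveI := noetherianSpace_of_isCompact hV'
  haveI := quasiSober_opens V'
  have hSV : (T'.1 : Set X') ∩ V' ⊆ V' := Set.inter_subset_right
  have hS : IsClosed ((↑) ⁻¹' ((T'.1 : Set X') ∩ V') : Set ((V' : Set X') : Type u)) := by
    have e : ((↑) ⁻¹' ((T'.1 : Set X') ∩ V') : Set ((V' : Set X') : Type u)) =
        (↑) ⁻¹' (T'.1 : Set X') := by
      ext y
      simp [y.2]
    rw [e]
    exact T'.1.isClosed.preimage continuous_subtype_val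
  have hcl := closure_image_subset_of_stableUnderSpecialization (V := (V' : Set X'))
    f.base f.continuous hZ hSV hS (by
      rintro _ ⟨y, hy, rfl⟩
      exact T'.2 hy.1)
  refine ⟨⟨⟨closure (f.base '' ((T'.1 : Set X') ∩ V')), isClosed_closure⟩, hcl⟩, ?_⟩
  rintro y ⟨hyV, hyT⟩
  refine ⟨hyV, ?_⟩
  intro hyT'
  exact hyT (subset_closure ⟨y, ⟨hyT', hyV⟩, rfl⟩)

/-- A compact open contained in an affine open is a finite union of basic opens. -/
theorem exists_finite_basicOpen_cover {U U₀ : X.Opens} (hU : IsAffineOpen U) (hle : U₀ ≤ U)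
    (hc : IsCompact (U₀ : Set X)) :
    ∃ (ι : Type u) (_ : Fintype ι) (a : ι → Γ(X, U)), U₀ = ⨆ i, X.basicOpen (a i) := by
  have h : ∀ x : U₀, ∃ g : Γ(X, U), X.basicOpen g ≤ U₀ ∧ (x : X) ∈ X.basicOpen g :=
    fun x => hU.exists_basicOpen_le x (hle x.2)
  choose g hg1 hg2 using h
  obtain ⟨t, ht⟩ := hc.elim_finite_subcover (fun x : U₀ => (X.basicOpen (g x) : Set X))
    (fun x => (X.basicOpen (g x)).isOpen)
    (fun y hy => Set.mem_iUnion.2 ⟨⟨y, hy⟩, hg2 ⟨y, hy⟩⟩)
  refine ⟨t, inferInstance, fun i => g i.1, ?_⟩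
  apply le_antisymm
  · intro y hy
    obtain ⟨x, hxt, hxy⟩ := Set.mem_iUnion₂.1 (ht hy)
    exact Opens.mem_iSup.2 ⟨⟨x, hxt⟩, hxy⟩
  · exact iSup_le (fun i => hg1 i.1)

/-- Affine opens of `X'` mapping into an affine open of `X`. -/
def goodOpens : Set X'.Opens :=
  {V' | IsAffineOpen V' ∧ ∃ U : X.Opens, IsAffineOpen U ∧ V' ≤ f ⁻¹ᵁ U}

theorem isBasis_goodOpens : Opens.IsBasis (goodOpens f) := by
  rw [Opens.isBasis_iff_nbhd]
  intro W x hx
  obtain ⟨_, ⟨U, hU : IsAffineOpen U, rfl⟩, hxU, -⟩ :=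
    X.isBasis_affineOpens.exists_subset_of_mem_open (Set.mem_univ (f.base x)) isOpen_univ
  obtain ⟨_, ⟨V', hV' : IsAffineOpen V', rfl⟩, hxV', hV'W⟩ :=
    X'.isBasis_affineOpens.exists_subset_of_mem_open
      (show x ∈ ((W ⊓ f ⁻¹ᵁ U : X'.Opens) : Set X') from ⟨hx, hxU⟩) (W ⊓ f ⁻¹ᵁ U).isOpen
  exact ⟨V', ⟨hV', U, hU, fun y hy => (hV'W hy).2⟩, hxV', fun y hy => (hV'W hy).1⟩

section Closed

variable [Flat f] [IsLocallyNoetherian X] [IsLocallyNoetherian X'] {Z : Set X}
  (hZ : StableUnderSpecialization Z) (H : X.Modules) [H.IsQuasicoherent] (hcl : IsZClosed Z H)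

include hZ hcl in
theorem bijective_res_pull {V' : X'.Opens} (hV' : V' ∈ goodOpens f) (T : Cl Z) :
    Function.Bijective (res ((Scheme.Modules.pullback f).obj H)
      (inf_le_left : V' ⊓ f ⁻¹ᵁ T.U ≤ V')) := by
  obtain ⟨hV'a, U, hU, e⟩ := hV'
  have hc : IsCompact ((U ⊓ T.U : X.Opens) : Set X) := isCompact_of_le hU.isCompact inf_le_left
  obtain ⟨ι, _, a, ha⟩ := exists_finite_basicOpen_cover hU inf_le_left hc
  have hb : Function.Bijective (res H (inf_le_left : U ⊓ T.U ≤ U)) :=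
    (isZClosed_iff hZ H).1 hcl U (U ⊓ T.U) inf_le_left hU.isCompact (by
      rintro y ⟨hyU, hyn⟩
      apply T.2
      by_contra hyT
      exact hyn ⟨hyU, hyT⟩)
  have h1 := bijective_res_pullback f H hU hV'a e a ha inf_le_left hb
  have eq : V' ⊓ f ⁻¹ᵁ (U ⊓ T.U) = V' ⊓ f ⁻¹ᵁ T.U := by
    apply le_antisymm
    · intro y hy
      exact ⟨hy.1, hy.2.2⟩
    · intro y hy
      exact ⟨hy.1, e hy.1, hy.2⟩
  rwa [bijective_res_congr _ eq rfl _ inf_le_left] at h1

include hZ hcl in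
theorem injective_res_good {V' : X'.Opens} (hV' : V' ∈ goodOpens f) (T' : Cl (f.base ⁻¹' Z)) :
    Function.Injective (res ((Scheme.Modules.pullback f).obj H)
      (inf_le_left : V' ⊓ T'.U ≤ V')) := by
  obtain ⟨T, hT⟩ := exists_cl_image f hZ T' hV'.1.isCompact
  have h1 := (bijective_res_pull f hZ H hcl hV' T).1
  intro s s' hss
  apply h1
  have h2 := congrArg (res ((Scheme.Modules.pullback f).obj H) hT) hss
  rwa [ModBasis.res_res, ModBasis.res_res] at h2

include hZ hcl in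
theorem injective_res_all (T' : Cl (f.base ⁻¹' Z)) (V : X'.Opens) :
    Function.Injective (res ((Scheme.Modules.pullback f).obj H)
      (inf_le_left : V ⊓ T'.U ≤ V)) :=
  Groth.Agent.Lib.Helper64.HartogsInj.injective_res_inf_of_basis
    (⟨((Scheme.Modules.pullback f).obj H).presheaf, ((Scheme.Modules.pullback f).obj H).isSheaf⟩ :
      TopCat.Sheaf Ab X') T'.U (goodOpens f) (isBasis_goodOpens f)
    (fun _ hV' => injective_res_good f hZ H hcl hV' T') V

include hZ hcl in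
theorem bijective_res_good {V' : X'.Opens} (hV' : V' ∈ goodOpens f) (T' : Cl (f.base ⁻¹' Z)) :
    Function.Bijective (res ((Scheme.Modules.pullback f).obj H)
      (inf_le_left : V' ⊓ T'.U ≤ V')) := by
  obtain ⟨T, hT⟩ := exists_cl_image f hZ T' hV'.1.isCompact
  have h1 := bijective_res_pull f hZ H hcl hV' T
  have h2 : Function.Injective (res ((Scheme.Modules.pullback f).obj H) hT) := by
    have h3 := injective_res_all f hZ H hcl (pullCl f T) (V' ⊓ T'.U)
    have eq : (V' ⊓ T'.U) ⊓ (pullCl f T).U = V' ⊓ f ⁻¹ᵁ T.U := by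
      apply le_antisymm
      · intro y hy
        exact ⟨hy.1.1, hy.2⟩
      · intro y hy
        exact ⟨hT hy, hy.2⟩
    rwa [injective_res_of_eq _ eq _ hT] at h3
  refine ⟨injective_res_good f hZ H hcl hV' T', ?_⟩
  intro t
  obtain ⟨s, hs⟩ := h1.2 (res ((Scheme.Modules.pullback f).obj H) hT t)
  refine ⟨s, h2 ?_⟩
  rw [ModBasis.res_res]
  exact hs

include hZ hcl in
/-- **Flat pullback preserves `Z`-closedness.** -/
theorem isZClosed_pullback :
    IsZClosed (f.base ⁻¹' Z) ((Scheme.Modules.pullback f).obj H) := by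
  apply isZClosed_of_bijective
  intro T' V _
  have h := Groth.Agent.Lib.Helper64.HartogsGlue.bijective_res_inf_of_basis
    (⟨((Scheme.Modules.pullback f).obj H).presheaf, ((Scheme.Modules.pullback f).obj H).isSheaf⟩ :
      TopCat.Sheaf Ab X') T'.U (goodOpens f) (isBasis_goodOpens f)
    (fun _ hV' => bijective_res_good f hZ H hcl hV' T') V
  rwa [bijective_res_of_eq _ (cap_eq' T'.U V) _ inf_le_left]

end Closed

end Groth.Agent.Lib.Helper21.ZClosFlat
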