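import Groth.Agent.Lib.Helper21.ZClosPure

set_option autoImplicit false
set_option linter.style.haveILetI false
universe u

open AlgebraicGeometry CategoryTheory Opposite TopologicalSpace Limits

namespace Groth.Agent.Lib.Helper21.ZClosIdem

open ZClos Groth.Agent.Lib.Helper21.FiltColimSec Groth.Agent.Lib.Helper21.ModBasis
  Groth.Agent.Lib.Helper21.ZClosCore Groth.Agent.Lib.Helper21.ZClosPure

variable {X : Scheme.{u}}

/-- Restriction of a represented section of `H⁰_{X/Z}(F)`. -/
theorem res_inj (Z : Set X) (F : X.Modules) (T : Cl Z) {W V : X.Opens} (h : W ≤ V)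
    (t : Γ(F, cap T.U V)) :
    res ((H0 Z).obj F) h ((inj Z F T).app V t) =
      (inj Z F T).app W (res F (cap_mono le_rfl h) t) := by
  have := app_res (inj Z F T) h t
  rw [← this]
  rfl

/-- The restriction of a represented section to `V ∖ T` is `ρ` of the representative. -/
theorem res_inj_cap (Z : Set X) (F : X.Modules) (T : Cl Z) (V : X.Opens)
    (t : Γ(F, cap T.U V)) :
    res ((H0 Z).obj F) (cap_le_right T.U V) ((inj Z F T).app V t) = (rhoApp Z F).app _ t := by
  rw [res_inj, rhoApp_app Z F T]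

theorem inj_zero (Z : Set X) (F : X.Modules) (T : Cl Z) (V : X.Opens) :
    (inj Z F T).app V (0 : Γ(F, cap T.U V)) = 0 := map_zero ((inj Z F T).app V).hom

theorem cap_cap_le {Z : Set X} {T T' : Cl Z} (h : T ≤ T') (V : X.Opens) :
    cap T'.U V ≤ cap T'.U (cap T.U V) := by
  rw [cap_eq, cap_eq, cap_eq]
  exact le_inf inf_le_left (le_inf (inf_le_left.trans (Cl.U_anti h)) inf_le_right)

variable [IsLocallyNoetherian X]

/-- `H⁰_{X/Z}(F)` is `Z`-closed. -/
theorem isZClosed_H0 (Z : Set X) (F : X.Modules) : IsZClosed Z ((H0 Z).obj F) := by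
  apply isZClosed_of_bijective
  intro T V hV
  have hW : IsCompact ((cap T.U V : X.Opens) : Set X) := isCompact_of_le hV (cap_le_right _ _)
  constructor
  · rw [injective_iff_map_eq_zero]
    intro g hg
    obtain ⟨T', t, rfl⟩ := exists_rep_H0 Z F hV g
    have a : T' ≤ T ⊔ T' := le_sup_right
    have b : T ≤ T ⊔ T' := le_sup_left
    rw [← inj_trans Z F a V t, res_inj] at hg
    obtain ⟨T3, c, h0⟩ := exists_of_inj_eq_zero Z F hW _ hg
    rw [res_res, res_res] at h0
    rw [← inj_trans Z F (a.trans c) V t]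
    have h1 := congrArg (res F (cap_cap_le (b.trans c) V)) h0
    rw [res_res, map_zero] at h1
    rw [h1]
    exact inj_zero Z F T3 V
  · intro h
    obtain ⟨T', t, rfl⟩ := exists_rep_H0 Z F hW h
    have a : T' ≤ T ⊔ T' := le_sup_right
    have b : T ≤ T ⊔ T' := le_sup_left
    refine ⟨(inj Z F (T ⊔ T')).app V (res F ((cap_cap_le b V).trans
      (cap_mono (Cl.U_anti a) le_rfl)) t), ?_⟩
    rw [res_inj, res_res, ← inj_trans Z F a (cap T.U V) t]

end Groth.Agent.Lib.Helper21.ZClosIdem
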