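import Groth.Agent.Lib.Helper21.ZClosFlat
import Groth.Agent.Lib.Helper21.FlatStalkBij
import Groth.Agent.Lib.Helper21.ZClosUniv
import Groth.Agent.Lib.Helper21.ZClosIso
import Groth.Agent.Lib.Helper21.ZClosIdem
import Groth.Agent.Lib.Helper21.QCohColim

/-!
# Flat base change for the `Z`-closure: `f^* H⁰_{X/Z}(F) ≅ H⁰_{X'/f⁻¹Z}(f^* F)`
-/

set_option autoImplicit false
set_option linter.style.haveILetI false
universe u

open AlgebraicGeometry CategoryTheory Opposite TopologicalSpace Limits ZClos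

namespace Groth.Agent.Lib.Helper21.ZClosFlatBC

open Groth.Agent.Lib.Helper21.ZClosFlat Groth.Agent.Lib.Helper21.FlatStalkBij
  Groth.Agent.Lib.Helper21.ZClosStalk

variable {X X' : Scheme.{u}} [IsLocallyNoetherian X] [IsLocallyNoetherian X'] (f : X' ⟶ X) [Flat f]

/-- The base change isomorphism as the lift of `f^*ρ` along `ρ'`. -/
theorem exists_iso (Z : Set X) (hZ : StableUnderSpecialization Z) (F : X.Modules)
    [F.IsQuasicoherent] :
    ∃ v : (H0 (f.base ⁻¹' Z)).obj ((Scheme.Modules.pullback f).obj F) ⟶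
        (Scheme.Modules.pullback f).obj ((H0 Z).obj F),
      IsIso v ∧ rhoApp (f.base ⁻¹' Z) ((Scheme.Modules.pullback f).obj F) ≫ v =
        (Scheme.Modules.pullback f).map (rhoApp Z F) := by
  haveI : ((H0 Z).obj F).IsQuasicoherent :=
    Groth.Agent.Lib.Helper21.QCohColim.isQuasicoherent_H0 Z F
  have hZ' : StableUnderSpecialization (f.base ⁻¹' Z) := hZ.preimage f.continuous
  have hcl : IsZClosed (f.base ⁻¹' Z) ((Scheme.Modules.pullback f).obj ((H0 Z).obj F)) :=
    isZClosed_pullback f hZ _ (Groth.Agent.Lib.Helper21.ZClosIdem.isZClosed_H0 Z F)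
  obtain ⟨v, hv, -⟩ := Groth.Agent.Lib.Helper21.ZClosUniv.existsUnique_lift (f.base ⁻¹' Z)
    ((Scheme.Modules.pullback f).obj F) _ hcl ((Scheme.Modules.pullback f).map (rhoApp Z F))
  refine ⟨v, ?_, hv⟩
  exact Groth.Agent.Lib.Helper21.ZClosIso.isIso_of_stalk_bijective hZ' _ _ hcl
    ((Scheme.Modules.pullback f).map (rhoApp Z F))
    (fun x' hx' => bijective_stalkMap_pullback f (rhoApp Z F) x'
      (isZClosedAt_of_not_mem Z F (f.base x') hx')) v hv

theorem nonempty_iso (Z : Set X) (hZ : StableUnderSpecialization Z) (F : X.Modules)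
    (hF : Coh.IsQCoh F) :
    Nonempty ((Scheme.Modules.pullback f).obj ((ZClos.H0 Z).obj F) ≅
      (ZClos.H0 (f.base ⁻¹' Z)).obj ((Scheme.Modules.pullback f).obj F)) := by
  haveI : F.IsQuasicoherent := hF
  obtain ⟨v, hv, -⟩ := exists_iso f Z hZ F
  haveI := hv
  exact ⟨(asIso v).symm⟩

end Groth.Agent.Lib.Helper21.ZClosFlatBC
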