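import Groth.Agent.Lib.Helper21.ZClosLocal
import Groth.Agent.Lib.Helper21.ZClosIdem
import Groth.Agent.Lib.Helper64.HartogsConv
import Groth.Agent.Lib.Helper64.HartogsGlue
import Groth.Agent.Lib.Helper64.FinTypeStalk

/-!
# `Z`-closed modules have the Hartogs property at the points of `Z`, hence depth `≥ 2` there
-/

set_option autoImplicit false
set_option linter.style.haveILetI false
universe u

open AlgebraicGeometry CategoryTheory Opposite TopologicalSpace Limits ZClos

namespace Groth.Agent.Lib.Helper21.ZClosHartogs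

open Groth.Agent.Lib.Helper21.ModBasis Groth.Agent.Lib.Helper21.ZClosCore
  Groth.Agent.Lib.Helper21.ZClosLocal Groth.Agent.Lib.Helper64.HartogsConv

variable {X : Scheme.{u}} [IsLocallyNoetherian X]

/-- For a `Z`-closed module, restriction `H(V) → H(V ∖ closure {x})` is bijective for every open `V`
and every `x ∈ Z`. -/
theorem bijective_res_complClosure {Z : Set X} (hZ : StableUnderSpecialization Z) (H : X.Modules)
    (hcl : IsZClosed Z H) (x : X) (hx : x ∈ Z) (V : X.Opens) :
    Function.Bijective (H.presheaf.map (homOfLE (inf_le_left : V ⊓ complClosure x ≤ V)).op) := by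
  refine Groth.Agent.Lib.Helper64.HartogsGlue.bijective_res_inf_of_basis
    (⟨H.presheaf, H.isSheaf⟩ : TopCat.Sheaf Ab X) (complClosure x)
    X.affineOpens X.isBasis_affineOpens ?_ V
  intro W hW
  refine (isZClosed_iff hZ H).1 hcl W (W ⊓ complClosure x) inf_le_left hW.isCompact ?_
  rintro y ⟨hyW, hyn⟩
  have hxy : x ⤳ y := by
    by_contra hcon
    exact hyn ⟨hyW, (mem_complClosure_iff x y).2 hcon⟩
  exact hZ hxy hx

theorem hartogsAt_of_isZClosed {Z : Set X} (hZ : StableUnderSpecialization Z) (H : X.Modules)
    (hcl : IsZClosed Z H) (x : X) (hx : x ∈ Z) : HartogsAt H x where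
  inj V _ σ hσ := by
    have h := (bijective_res_complClosure hZ H hcl x hx V).1
    exact h (by rw [hσ, map_zero])
  surj V _ s := (bijective_res_complClosure hZ H hcl x hx V).2 s

/-- A coherent `Z`-closed module has depth at least `2` at every point of `Z`. -/
theorem two_le_depth_of_isZClosed {Z : Set X} (hZ : StableUnderSpecialization Z) (H : X.Modules)
    (hH : Coh.IsCoh H) (hcl : IsZClosed Z H) (x : X) (hx : x ∈ Z) :
    (2 : ℕ∞) ≤ LocCoh.depth (X.presheaf.stalk x) (H.presheaf.stalk x) := by
  haveI : H.IsQuasicoherent := hH.1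
  haveI : Module.Finite (X.presheaf.stalk x) (H.presheaf.stalk x) :=
    Groth.Agent.Lib.Helper64.FinTypeStalk.finite_stalk H hH.2 x
  exact two_le_depth_of_hartogsAt H x (hartogsAt_of_isZClosed hZ H hcl x hx)

end Groth.Agent.Lib.Helper21.ZClosHartogs
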