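import Groth.Agent.Lib.Helper21.ZClosCore

set_option autoImplicit false
set_option linter.style.haveILetI false
universe u

open AlgebraicGeometry CategoryTheory Opposite TopologicalSpace Limits

namespace Groth.Agent.Lib.Helper21.ZClosPure

open ZClos Groth.Agent.Lib.Helper21.FiltColimSec Groth.Agent.Lib.Helper21.ModBasis
  Groth.Agent.Lib.Helper21.ZClosCore

variable {X : Scheme.{u}}

theorem injective_res_of_eq (F : X.Modules) {U U' V : X.Opens} (e : U = U') (h : U ≤ V)
    (h' : U' ≤ V) : Function.Injective (res F h) ↔ Function.Injective (res F h') := by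
  subst e; rfl

theorem bijective_res_of_eq (F : X.Modules) {U U' V : X.Opens} (e : U = U') (h : U ≤ V)
    (h' : U' ≤ V) : Function.Bijective (res F h) ↔ Function.Bijective (res F h') := by
  subst e; rfl

theorem cap_eq' (U V : X.Opens) : cap U V = V ⊓ U := by rw [cap_eq, inf_comm]

/-- Purity gives injectivity of the restrictions (no finiteness hypothesis needed). -/
theorem injective_of_isZPure (Z : Set X) (F : X.Modules) (h : IsZPure Z F) (T : Cl Z)
    (V : X.Opens) : Function.Injective (res F (cap_le_right T.U V)) := by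
  haveI : Mono (rhoApp Z F) := h
  rw [injective_iff_map_eq_zero]
  intro s hs
  have h1 : (rhoApp Z F).app V s = 0 := by
    rw [rhoApp_app Z F T V s, hs]
    exact map_zero ((inj Z F T).app V).hom
  apply Groth.Agent.Lib.Helper78.ModStalk.app_injective_of_mono (rhoApp Z F) V
  rw [h1, map_zero]

variable [IsLocallyNoetherian X]

theorem isZPure_of_injective (Z : Set X) (F : X.Modules)
    (h : ∀ (T : Cl Z) (V : X.Opens), IsCompact (V : Set X) →
      Function.Injective (res F (cap_le_right T.U V))) : IsZPure Z F := by
  apply mono_of_injective_compact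
  intro V hV
  rw [injective_iff_map_eq_zero]
  intro s hs
  rw [rhoApp_app Z F ⊥ V s] at hs
  obtain ⟨T'', a, h0⟩ := exists_of_inj_eq_zero Z F hV _ hs
  rw [res_res] at h0
  exact (injective_iff_map_eq_zero _).mp (h T'' V hV) s h0

/-- a) ⇔ b') (injective case). -/
theorem isZPure_iff_injective (Z : Set X) (F : X.Modules) :
    IsZPure Z F ↔ ∀ (T : Cl Z) (V : X.Opens), IsCompact (V : Set X) →
      Function.Injective (res F (cap_le_right T.U V)) :=
  ⟨fun h T V _ => injective_of_isZPure Z F h T V, isZPure_of_injective Z F⟩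

/-- a) ⇔ a') (injective case). -/
theorem isZPure_iff_mono_toDiagram (Z : Set X) (F : X.Modules) :
    IsZPure Z F ↔ ∀ T : Cl Z, Mono (toDiagram Z F T) := by
  constructor
  · intro h T
    haveI : Mono (toDiagram Z F T ≫ colimit.ι ((diagram Z).obj F) T) := by
      rw [← rhoApp_eq Z F T]; exact h
    exact mono_of_mono (toDiagram Z F T) (colimit.ι ((diagram Z).obj F) T)
  · intro h
    apply isZPure_of_injective
    intro T V _
    haveI := h T
    exact Groth.Agent.Lib.Helper78.ModStalk.app_injective_of_mono (toDiagram Z F T) V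

/-- Closedness gives bijectivity of restrictions over compact opens. -/
theorem bijective_of_isZClosed (Z : Set X) (F : X.Modules) (h : IsZClosed Z F) (T : Cl Z)
    (V : X.Opens) (hV : IsCompact (V : Set X)) :
    Function.Bijective (res F (cap_le_right T.U V)) := by
  haveI : IsIso (rhoApp Z F) := h
  have hpure : IsZPure Z F := (inferInstance : Mono (rhoApp Z F))
  refine ⟨injective_of_isZPure Z F hpure T V, ?_⟩
  intro t
  obtain ⟨s, hs⟩ := (bijective_app_of_isIso (rhoApp Z F) V).2 ((inj Z F T).app V t)
  rw [rhoApp_app Z F T V s] at hs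
  obtain ⟨T'', a, b, hab⟩ := exists_of_inj_eq Z F hV _ _ hs
  refine ⟨s, ?_⟩
  -- the two sections agree after restriction to the complement of `T''`
  have hc : IsCompact ((cap T.U V : X.Opens) : Set X) := isCompact_of_le hV (cap_le_right _ _)
  have hinj := injective_of_isZPure Z F hpure T'' (cap T.U V)
  apply hinj
  have e1 : cap T''.U (cap T.U V) ≤ cap T''.U V := cap_mono le_rfl (cap_le_right _ _)
  have e2 : cap T''.U V ≤ cap T''.U (cap T.U V) := by
    rw [cap_eq, cap_eq, cap_eq]
    exact le_inf inf_le_left (le_inf (inf_le_left.trans (Cl.U_anti a)) inf_le_right)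
  have h3 := congrArg (res F e1) hab
  rw [res_res, res_res, res_res] at h3
  rw [res_res]
  exact h3

theorem isZClosed_of_bijective (Z : Set X) (F : X.Modules)
    (h : ∀ (T : Cl Z) (V : X.Opens), IsCompact (V : Set X) →
      Function.Bijective (res F (cap_le_right T.U V))) : IsZClosed Z F := by
  have hpure : IsZPure Z F := isZPure_of_injective Z F (fun T V hV => (h T V hV).1)
  haveI : Mono (rhoApp Z F) := hpure
  apply isIso_of_bijective_compact
  intro V hV
  refine ⟨Groth.Agent.Lib.Helper78.ModStalk.app_injective_of_mono (rhoApp Z F) V, ?_⟩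
  intro g
  obtain ⟨T, t, ht⟩ := exists_rep_H0 Z F hV g
  obtain ⟨s, hs⟩ := (h T V hV).2 t
  refine ⟨s, ?_⟩
  rw [rhoApp_app Z F T V s, hs, ht]

/-- a) ⇔ b') (bijective case). -/
theorem isZClosed_iff_bijective (Z : Set X) (F : X.Modules) :
    IsZClosed Z F ↔ ∀ (T : Cl Z) (V : X.Opens), IsCompact (V : Set X) →
      Function.Bijective (res F (cap_le_right T.U V)) :=
  ⟨fun h T V hV => bijective_of_isZClosed Z F h T V hV, isZClosed_of_bijective Z F⟩

/-- a) ⇔ a') (bijective case). -/
theorem isZClosed_iff_isIso_toDiagram (Z : Set X) (F : X.Modules) :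
    IsZClosed Z F ↔ ∀ T : Cl Z, IsIso (toDiagram Z F T) := by
  constructor
  · intro h T
    apply isIso_of_bijective_compact
    intro V hV
    exact bijective_of_isZClosed Z F h T V hV
  · intro h
    apply isZClosed_of_bijective
    intro T V _
    haveI := h T
    exact bijective_app_of_isIso (toDiagram Z F T) V

end Groth.Agent.Lib.Helper21.ZClosPure
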