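import Groth.Agent.Lib.Helper21.ZClosOpenLocus
import Groth.Agent.Lib.Helper21.ZClosAssDim
import Groth.Agent.Lib.Helper21.DepthOne
import Groth.Agent.Lib.Helper67.Depth2
import Mathlib.RingTheory.KrullDimension.Module

/-!
# `Z^(2)`-closure and Serre's condition `(S_2)`
-/

set_option autoImplicit false
set_option linter.style.haveILetI false
universe u

open AlgebraicGeometry CategoryTheory Opposite TopologicalSpace Limits ZClos

namespace Groth.Agent.Lib.Helper21.ZClosS2

open Groth.Agent.Lib.Helper21.ZClosStalk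

theorem le_one_of_not_two_le (d : WithBot ℕ∞) (h : ¬ (2 : WithBot ℕ∞) ≤ d) : d ≤ 1 := by
  induction d with
  | bot => exact bot_le
  | coe d =>
    have h' : ¬ (2 : ℕ∞) ≤ d := fun h2 => h (WithBot.coe_le_coe.2 h2)
    have h1 : d ≤ 1 := by
      induction d with
      | top => exact absurd le_top h'
      | coe n =>
        have h2 : ¬ (2 : ℕ) ≤ n := fun h2 => h' (by exact_mod_cast h2)
        have h3 : n ≤ 1 := by omega
        exact_mod_cast h3
    exact WithBot.coe_le_coe.2 h1

theorem le_zero_of_le_one_of_ne (d : WithBot ℕ∞) (h : d ≤ 1) (h1 : d ≠ 1) : d ≤ 0 := by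
  induction d with
  | bot => exact bot_le
  | coe d =>
    have h' : d ≤ 1 := WithBot.coe_le_coe.1 h
    have h1' : d ≠ 1 := fun e => h1 (by rw [e]; rfl)
    have h2 : d ≤ 0 := by
      induction d with
      | top => simp at h'
      | coe n =>
        have h3 : n ≤ 1 := by exact_mod_cast h'
        have h4 : n ≠ 1 := fun e => h1' (by rw [e]; rfl)
        have h5 : n ≤ 0 := by omega
        exact_mod_cast h5
    exact WithBot.coe_le_coe.2 h2

variable {X : Scheme.{u}}

/-- The set of points whose local ring has dimension at least `n` is stable under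
specialization. -/
theorem stable_dimGe (X : Scheme.{u}) (n : ℕ) : StableUnderSpecialization (ZClos.dimGe X n) := by
  intro x y hxy hx
  change (n : WithBot ℕ∞) ≤ ringKrullDim (X.presheaf.stalk y)
  refine le_trans hx ?_
  rw [ringKrullDim_stalk_eq_coheight, ringKrullDim_stalk_eq_coheight]
  exact_mod_cast Order.coheight_anti (show y ≤ x from hxy)

variable [IsLocallyNoetherian X]

/-- `(S_2)` at a point whose local ring has dimension `< 2`, for a coherent module none of whose
associated points has a local ring of dimension `1`. -/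
theorem s2_of_not_two_le (G : X.Modules) (hG : Coh.IsCoh G) (x : X)
    (hx : ¬ (2 : WithBot ℕ∞) ≤ ringKrullDim (X.presheaf.stalk x))
    (hass : Curv2.IsAssPoint G x → ringKrullDim (X.presheaf.stalk x) ≠ 1) :
    min (2 : WithBot ℕ∞) (Module.supportDim (X.presheaf.stalk x) (G.presheaf.stalk x)) ≤
      ((LocCoh.depth (X.presheaf.stalk x) (G.presheaf.stalk x) : ℕ∞) : WithBot ℕ∞) := by
  haveI : Module.Finite (X.presheaf.stalk x) (G.presheaf.stalk x) :=
    Groth.Agent.Lib.Helper64.FinTypeStalk.finite_stalk G hG.2 x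
  have hd1 := le_one_of_not_two_le _ hx
  have hsd : Module.supportDim (X.presheaf.stalk x) (G.presheaf.stalk x) ≤
      ringKrullDim (X.presheaf.stalk x) := Module.supportDim_le_ringKrullDim _ _
  by_cases h1 : (1 : ℕ∞) ≤ LocCoh.depth (X.presheaf.stalk x) (G.presheaf.stalk x)
  · calc min (2 : WithBot ℕ∞) (Module.supportDim (X.presheaf.stalk x) (G.presheaf.stalk x))
        ≤ Module.supportDim (X.presheaf.stalk x) (G.presheaf.stalk x) := min_le_right _ _
      _ ≤ ringKrullDim (X.presheaf.stalk x) := hsd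
      _ ≤ 1 := hd1
      _ ≤ _ := WithBot.coe_le_coe.2 h1
  · have hassx : Curv2.IsAssPoint G x := by
      by_contra hna
      exact h1 ((Groth.Agent.Lib.Helper21.DepthOne.one_le_depth_iff _ _).2 hna)
    have hd0 := le_zero_of_le_one_of_ne _ hd1 (hass hassx)
    calc min (2 : WithBot ℕ∞) (Module.supportDim (X.presheaf.stalk x) (G.presheaf.stalk x))
        ≤ Module.supportDim (X.presheaf.stalk x) (G.presheaf.stalk x) := min_le_right _ _
      _ ≤ ringKrullDim (X.presheaf.stalk x) := hsd
      _ ≤ 0 := hd0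
      _ ≤ _ := WithBot.coe_le_coe.2 bot_le

/-- Transport of associated points backwards along a stalkwise bijective morphism. -/
theorem isAssPoint_of_bijective' {F G : X.Modules} (φ : F ⟶ G) (x : X)
    (hφ : Function.Bijective
      ((TopCat.Presheaf.stalkFunctor (C := Ab.{u}) x).map φ.mapPresheaf))
    (h : Curv2.IsAssPoint G x) : Curv2.IsAssPoint F x := by
  let e : F.presheaf.stalk x ≃ₗ[X.presheaf.stalk x] G.presheaf.stalk x :=
    LinearEquiv.ofBijective (RefHull.stalkMapₗ φ x) hφ
  exact IsAssociatedPrime.map_of_injective (f := e.symm.toLinearMap) h e.symm.injective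

/-- **`(S_2)` for the `Z^(2)`-closure.** -/
theorem s2_H0 (F : X.Modules) (hF : Coh.IsCoh F)
    (hass : ∀ x ∈ AssSch.Ass F, ringKrullDim (X.presheaf.stalk x) ≠ 1)
    (hH : Coh.IsCoh ((ZClos.H0 (ZClos.dimGe X 2)).obj F)) (x : X) :
    min (2 : WithBot ℕ∞) (Module.supportDim (X.presheaf.stalk x)
        (((ZClos.H0 (ZClos.dimGe X 2)).obj F).presheaf.stalk x)) ≤
      ((LocCoh.depth (X.presheaf.stalk x)
        (((ZClos.H0 (ZClos.dimGe X 2)).obj F).presheaf.stalk x) : ℕ∞) : WithBot ℕ∞) := by
  by_cases hx : x ∈ ZClos.dimGe X 2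
  · have h2 := Groth.Agent.Lib.Helper21.ZClosHartogs.two_le_depth_of_isZClosed
      (stable_dimGe X 2) _ hH (Groth.Agent.Lib.Helper21.ZClosIdem.isZClosed_H0 _ F) x hx
    refine le_trans (min_le_left _ _) ?_
    exact (WithBot.coe_le_coe.2 h2 : ((2 : ℕ∞) : WithBot ℕ∞) ≤ _)
  · refine s2_of_not_two_le _ hH x hx (fun hassH => hass x ?_)
    exact isAssPoint_of_bijective' (rhoApp (ZClos.dimGe X 2) F) x
      (isZClosedAt_of_not_mem _ F x hx) hassH

end Groth.Agent.Lib.Helper21.ZClosS2
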