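import Groth.Agent.Lib.Helper21.ZClosS2
import Mathlib.RingTheory.Support

/-!
# The `(S_2)` locus of a coherent module with full support and coherent `Z^(2)`-closure
-/

set_option autoImplicit false
set_option linter.style.haveILetI false
universe u

open AlgebraicGeometry CategoryTheory Opposite TopologicalSpace Limits ZClos

namespace Groth.Agent.Lib.Helper21.ZClosS2Locus

open Groth.Agent.Lib.Helper29.QCohLoc Groth.Agent.Lib.Helper21.ZClosS2

variable {X : Scheme.{u}}

/-- If all stalks of the quasi-coherent module `F` are nonzero, the support of a (finite) stalk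
`F_y` is the whole spectrum of `O_{X,y}`. -/
theorem mem_support_stalk (F : X.Modules) [F.IsQuasicoherent]
    (hsupp : ∀ x : X, Nontrivial (F.presheaf.stalk x)) (y : X)
    [Module.Finite (X.presheaf.stalk y) (F.presheaf.stalk y)]
    (p : PrimeSpectrum (X.presheaf.stalk y)) :
    p ∈ Module.support (X.presheaf.stalk y) (F.presheaf.stalk y) := by
  rw [Module.mem_support_iff_of_finite]
  intro r hr
  obtain ⟨_, ⟨W, hW : IsAffineOpen W, rfl⟩, hyW, -⟩ :=
    (X.isBasis_affineOpens).exists_subset_of_mem_open (Set.mem_univ y) isOpen_univ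
  have hyW : y ∈ W := hyW
  have hFl := LocAt.of_isQuasicoherent F hW
  let q : Ideal Γ(X, W) := p.asIdeal.comap (X.presheaf.germ W y hyW).hom
  haveI : q.IsPrime := Ideal.comap_isPrime _ _
  obtain ⟨y', hy'W, hy'q⟩ := exists_point_of_prime hW q
  haveI := hsupp y'
  obtain ⟨n, hn⟩ := exists_ne (0 : F.presheaf.stalk y')
  obtain ⟨a, s, hy'a, hs⟩ := exists_germ_eq_smul F hW hFl y' hy'W n
  have hs0 : F.presheaf.germ W y' hy'W s ≠ 0 := by
    rw [hs]
    intro h0
    exact hn (((Scheme.mem_basicOpen X a y' hy'W).1 hy'a).smul_eq_zero.1 h0)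
  have hann : ann F s ≤ q := by
    intro a' ha'
    by_contra hna
    apply hs0
    rw [germ_eq_zero_iff F hW hFl y' hy'W s]
    refine ⟨a', ?_, (mem_ann F s a').1 ha'⟩
    by_contra hc
    exact hna (hy'q ▸ (mem_primeIdealOf_iff hW y' hy'W a').2 hc)
  have h1 : r • F.presheaf.germ W y hyW s = 0 := Module.mem_annihilator.1 hr _
  rw [smul_germ_eq_zero_iff F hW hFl y hyW s r] at h1
  exact Ideal.map_comap_le (Ideal.map_mono hann h1)

theorem ringKrullDim_le_supportDim_stalk (F : X.Modules) [F.IsQuasicoherent]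
    (hsupp : ∀ x : X, Nontrivial (F.presheaf.stalk x)) (y : X)
    [Module.Finite (X.presheaf.stalk y) (F.presheaf.stalk y)] :
    ringKrullDim (X.presheaf.stalk y) ≤
      Module.supportDim (X.presheaf.stalk y) (F.presheaf.stalk y) :=
  Order.krullDim_le_of_strictMono
    (fun p : PrimeSpectrum (X.presheaf.stalk y) =>
      (⟨p, mem_support_stalk F hsupp y p⟩ :
        Module.support (X.presheaf.stalk y) (F.presheaf.stalk y)))
    (fun _ _ h => h)

variable [IsLocallyNoetherian X]

/-- The `(S_2)` locus is open with complement of codimension at least `2`. -/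
theorem s2_locus (F : X.Modules) (hF : Coh.IsCoh F)
    (hsupp : ∀ x : X, Nontrivial (F.presheaf.stalk x))
    (hass : ∀ x ∈ AssSch.Ass F, ringKrullDim (X.presheaf.stalk x) ≠ 1)
    (hH : Coh.IsCoh ((ZClos.H0 (ZClos.dimGe X 2)).obj F)) :
    IsOpen {x : X | ∀ x' : X, x' ⤳ x →
        min (2 : WithBot ℕ∞) (Module.supportDim (X.presheaf.stalk x') (F.presheaf.stalk x')) ≤
          ((LocCoh.depth (X.presheaf.stalk x') (F.presheaf.stalk x') : ℕ∞) : WithBot ℕ∞)} ∧
      ∀ x : X, (¬ ∀ x' : X, x' ⤳ x →
        min (2 : WithBot ℕ∞) (Module.supportDim (X.presheaf.stalk x') (F.presheaf.stalk x')) ≤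
          ((LocCoh.depth (X.presheaf.stalk x') (F.presheaf.stalk x') : ℕ∞) : WithBot ℕ∞)) →
        (2 : WithBot ℕ∞) ≤ ringKrullDim (X.presheaf.stalk x) := by
  haveI : F.IsQuasicoherent := hF.1
  obtain ⟨U, hU, hUc, -, -⟩ :=
    Groth.Agent.Lib.Helper21.ZClosOpenLocus.exists_open_locus (stable_dimGe X 2) F hF hH
  have claim : {x : X | ∀ x' : X, x' ⤳ x →
        min (2 : WithBot ℕ∞) (Module.supportDim (X.presheaf.stalk x') (F.presheaf.stalk x')) ≤
          ((LocCoh.depth (X.presheaf.stalk x') (F.presheaf.stalk x') : ℕ∞) : WithBot ℕ∞)} =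
      (U : Set X) := by
    rw [hU]
    ext x
    constructor
    · intro h x' hs hx'Z
      haveI : Module.Finite (X.presheaf.stalk x') (F.presheaf.stalk x') :=
        Groth.Agent.Lib.Helper64.FinTypeStalk.finite_stalk F hF.2 x'
      have h1 := h x' hs
      have h2 : (2 : WithBot ℕ∞) ≤
          Module.supportDim (X.presheaf.stalk x') (F.presheaf.stalk x') :=
        le_trans hx'Z (ringKrullDim_le_supportDim_stalk F hsupp x')
      rw [min_eq_left h2] at h1
      exact WithBot.coe_le_coe.1 h1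
    · intro h x' hs
      by_cases hx' : x' ∈ ZClos.dimGe X 2
      · refine le_trans (min_le_left _ _) ?_
        exact (WithBot.coe_le_coe.2 (h x' hs hx') : ((2 : ℕ∞) : WithBot ℕ∞) ≤ _)
      · exact s2_of_not_two_le F hF x' hx' (fun ha => hass x' ha)
  refine ⟨by rw [claim]; exact U.isOpen, ?_⟩
  intro x hx
  have hxU : x ∉ (U : Set X) := by
    rw [← claim]
    exact hx
  exact hUc hxU

end Groth.Agent.Lib.Helper21.ZClosS2Locus
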