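import Groth.Agent.Lib.Helper21.ZHullLocal
import Groth.Agent.Lib.Helper85.ZClosedCoh
import Groth.Agent.Lib.Helper39.PushCompl.Coh

/-!
# Codimension two from the coherence of `j_*(F|_U)` (helper21)

`X` locally Noetherian, `V` an affine open with ring `A`, `F` coherent and `U` an open with
`j_*(F|_U)` coherent: for an associated prime `p` of `Γ(F, V)` whose point lies in `U`, every prime
`y ⊇ p` of `A` whose point is outside `U` has height at least two over `p`.
-/

set_option autoImplicit false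
set_option linter.style.haveILetI false
set_option linter.unusedSectionVars false
universe u

open AlgebraicGeometry CategoryTheory CategoryTheory.Limits TopologicalSpace Opposite

namespace Groth.Agent.Lib.Helper21.ZHullCodim

open ZClos Groth.Agent.Lib.Lead.PullbackAff Groth.Agent.Lib.Lead.QCohAff
  Groth.Agent.Lib.Helper21.ZHullPhi Groth.Agent.Lib.Helper21.ZHullMain
  Groth.Agent.Lib.Helper21.ZHullLocal Groth.Agent.Lib.Helper21.ZClosCore
  Groth.Agent.Lib.Helper48 Groth.Agent.Lib.Helper85.ZClosed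

variable {X : Scheme.{u}} [IsLocallyNoetherian X] {V : X.Opens} (hV : IsAffineOpen V)
  (F : X.Modules) (U : X.Opens)

/-- the preimage of `U` in `Spec Γ(X, V)` -/
noncomputable abbrev W : (Spec Γ(X, V)).Opens := hV.fromSpec ⁻¹ᵁ U

theorem image_W : hV.fromSpec ''ᵁ (W hV U) = V ⊓ U := by
  rw [Scheme.Hom.image_preimage_eq_opensRange_inf, hV.opensRange_fromSpec]

theorem image_W_le : hV.fromSpec ''ᵁ (W hV U) ≤ V := by
  rw [image_W]; exact inf_le_left

theorem cap_eq_image : cap U V = hV.fromSpec ''ᵁ (W hV U) := by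
  rw [image_W, cap_eq, inf_comm]

theorem key_ring (r : Γ(X, V)) :
    (hV.fromSpec.appIso (W hV U)).inv (cst (A := Γ(X, V)) (W hV U) r) =
      X.presheaf.map (homOfLE (image_W_le hV U)).op r := by
  have nat := congr($(Scheme.Hom.appIso_inv_naturality hV.fromSpec (W hV U).leTop.op)
    ((Scheme.ΓSpecIso Γ(X, V)).inv r))
  rw [ConcreteCategory.comp_apply, ConcreteCategory.comp_apply,
    appIso_inv_ΓSpecIso_inv_apply] at nat
  refine nat.trans ?_
  rw [← ConcreteCategory.comp_apply, ← Functor.map_comp]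
  congr 2

variable [F.IsQuasicoherent]

/-- the isomorphism `M₀~ ≅ F|_{Spec Γ(X,V)}` -/
noncomputable def eTilde : tilde (M₀ hV F) ≅ F.restrict hV.fromSpec :=
  haveI : (F.restrict hV.fromSpec).IsQuasicoherent := inferInstance
  @asIso _ _ _ _ (Scheme.Modules.fromTildeΓ (R := Γ(X, V)) (F.restrict hV.fromSpec))
    (Scheme.Modules.isIso_fromTildeΓ_of_isQuasicoherent (R := Γ(X, V)) (F.restrict hV.fromSpec))

/-- sections of `M₀~` over `W` as sections of `j_*(F|_U)` over `V` -/
noncomputable def L : Γ(tilde (M₀ hV F), W hV U) →ₗ[Γ(X, V)] Γ((resPush U).obj F, V) where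
  toFun s := F.presheaf.map (homOfLE (cap_eq_image hV U).le).op
    (show Γ(F, hV.fromSpec ''ᵁ (W hV U)) from (eTilde hV F).hom.app (W hV U) s)
  map_add' a b := by
    rw [map_add]
    exact map_add _ _ _
  map_smul' r s := by
    have h1 : (eTilde hV F).hom.app (W hV U) (r • s) =
        r • (eTilde hV F).hom.app (W hV U) s :=
      app_smulA (A := Γ(X, V)) (eTilde hV F).hom (W hV U) r s
    have h2 : (show Γ(F, hV.fromSpec ''ᵁ (W hV U)) from
        (r • (eTilde hV F).hom.app (W hV U) s : Γ(F.restrict hV.fromSpec, W hV U))) =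
        ((hV.fromSpec.appIso (W hV U)).inv (cst (A := Γ(X, V)) (W hV U) r) •
          (show Γ(F, hV.fromSpec ''ᵁ (W hV U)) from (eTilde hV F).hom.app (W hV U) s) :
          Γ(F, hV.fromSpec ''ᵁ (W hV U))) := rfl
    rw [RingHom.id_apply, h1, h2, key_ring, res_smul, res_resX]
    exact (resPush_smul U F V r _).symm

theorem L_injective : Function.Injective (L hV F U) := by
  intro a b hab
  have h1 := res_injective_of_eq F (cap_eq_image hV U) hab
  exact (Groth.Agent.Lib.Helper21.ModBasis.bijective_app_of_isIso (eTilde hV F).hom (W hV U)).1 h1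

theorem finite_sections_tilde (hU : Coh.IsCoh ((resPush U).obj F)) :
    Module.Finite Γ(X, V) Γ(tilde (M₀ hV F), W hV U) := by
  haveI : IsNoetherianRing Γ(X, V) := IsLocallyNoetherian.component_noetherian ⟨V, hV⟩
  haveI := hU.1
  haveI : SheafOfModules.IsFiniteType (R := X.ringCatSheaf) ((resPush U).obj F) := hU.2
  haveI : Module.Finite Γ(X, V) Γ((resPush U).obj F, V) :=
    Groth.Agent.Lib.Helper2.FinTypeAff.finite_sections _ hV
  haveI : IsNoetherian Γ(X, V) Γ((resPush U).obj F, V) :=
    isNoetherian_of_isNoetherianRing_of_finite _ _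
  exact Module.Finite.of_injective (L hV F U) (L_injective hV F U)

/-- concrete sections of `M₀~` -/
abbrev SecM (W' : Opens (PrimeSpectrum.Top (Γ(X, V) : Type u))) : Type u :=
  @Sec (Γ(X, V) : Type u) (M₀ hV F : Type u) _ _ (M₀ hV F).isModule W'

/-- sections of `M₀~` as concrete sections, linearly -/
noncomputable def secOfL : Γ(tilde (M₀ hV F), W hV U) →ₗ[Γ(X, V)]
    SecM hV F (W hV U) where
  toFun s := @secOf (Γ(X, V) : Type u) _ (M₀ hV F : Type u) _ (M₀ hV F).isModule (W hV U) s
  map_add' _ _ := rfl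
  map_smul' r s :=
    @secOf_smul (Γ(X, V) : Type u) _ (M₀ hV F : Type u) _ (M₀ hV F).isModule (W hV U) r s

/-- **(C)** codimension two from the coherence of `j_*(F|_U)` -/
theorem two_le_height (hU : Coh.IsCoh ((resPush U).obj F)) (p : Ideal Γ(X, V)) [hp : p.IsPrime]
    (hpAss : p ∈ associatedPrimes Γ(X, V) (M₀ hV F))
    (hpU : hV.fromSpec (⟨p, hp⟩ : PrimeSpectrum Γ(X, V)) ∈ U)
    (y : PrimeSpectrum Γ(X, V)) (hyU : hV.fromSpec y ∉ U) :
    (2 : ℕ∞) ≤ (y.asIdeal.map (Ideal.Quotient.mk p)).height := by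
  haveI : IsNoetherianRing Γ(X, V) := IsLocallyNoetherian.component_noetherian ⟨V, hV⟩
  let C : Set (PrimeSpectrum Γ(X, V)) := {z | hV.fromSpec z ∉ U}
  have hC : IsClosed C := (W hV U).isOpen.isClosed_compl
  have hJ : PrimeSpectrum.zeroLocus ((PrimeSpectrum.vanishingIdeal C : Ideal Γ(X, V)) :
        Set Γ(X, V)) = C := by
    rw [PrimeSpectrum.zeroLocus_vanishingIdeal_eq_closure, hC.closure_eq]
  set J : Ideal Γ(X, V) := PrimeSpectrum.vanishingIdeal C with hJdef
  have hW : openC (Γ(X, V) : Type u) J = W hV U := by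
    apply Opens.ext
    apply Set.ext
    intro z
    change z ∉ PrimeSpectrum.zeroLocus (J : Set Γ(X, V)) ↔ hV.fromSpec z ∈ U
    rw [hJ]
    exact not_not
  have hfin0 : Module.Finite Γ(X, V) (SecM hV F (W hV U)) := by
    haveI := finite_sections_tilde hV F U hU
    exact Module.Finite.of_surjective (secOfL hV F U) (fun s => ⟨s, rfl⟩)
  have hfin : Module.Finite Γ(X, V) (SecM hV F (openC (Γ(X, V) : Type u) J)) := by
    rw [hW]
    exact hfin0
  have h := Groth.Agent.Lib.Helper85.ZClosed.height_ge_two_of_isCoherentPushCompl J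
    (Groth.Agent.Lib.Helper39.PushCompl.isCoherentPushCompl_of_finite J hfin) p hpAss ?_
  · refine h.trans (Ideal.height_mono (Ideal.map_mono ?_))
    have hy : y ∈ PrimeSpectrum.zeroLocus (J : Set Γ(X, V)) := by
      rw [hJ]
      exact hyU
    exact hy
  · intro hle
    have hp' : (⟨p, hp⟩ : PrimeSpectrum Γ(X, V)) ∈ PrimeSpectrum.zeroLocus (J : Set Γ(X, V)) :=
      hle
    rw [hJ] at hp'
    exact hp' hpU

end Groth.Agent.Lib.Helper21.ZHullCodim
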