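import Groth.Agent.Lib.Helper39.H1Fin.Basic

/-!
# helper21: a generic dévissage on associated primes (after `Helper39.H1Fin.Main`)

For a property `P` of modules over a Noetherian ring which is stable under isomorphism, submodules
and extensions, holds for zero modules and for modules killed by a prime `p` with `Zc p`: `P M`
holds for a finite module `M` as soon as `P (A ⧸ p)` holds for the associated primes `p` of `M`
with `¬ Zc p`.  The proof is the one of `Helper39.H1Fin.main` with `P I` replaced by `P`.
-/

set_option autoImplicit false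
universe u
open CategoryTheory

namespace Groth.Agent.Lib.Helper21.ZHullDev

open Groth.Agent.Lib.Helper39.H1Fin (devissage)

variable {A : Type u} [CommRing A] [IsNoetherianRing A]

/-- the formal properties used by the dévissage -/
structure DevProps (P : ∀ (M : Type u) [AddCommGroup M] [Module A M], Prop)
    (Zc : Ideal A → Prop) : Prop where
  equiv : ∀ (M M' : Type u) [AddCommGroup M] [Module A M] [AddCommGroup M'] [Module A M']
    [Module.Finite A M], (M ≃ₗ[A] M') → P M → P M'
  zero : ∀ (M : Type u) [AddCommGroup M] [Module A M] [Subsingleton M], P M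
  ext : ∀ (M : Type u) [AddCommGroup M] [Module A M] (L : Submodule A M), P L → P (M ⧸ L) → P M
  inj : ∀ (M M' : Type u) [AddCommGroup M] [Module A M] [AddCommGroup M'] [Module A M']
    [Module.Finite A M] (e : M' →ₗ[A] M), Function.Injective e → P M → P M'
  kill : ∀ (p : Ideal A), Zc p → ∀ (N : Type u) [AddCommGroup N] [Module A N],
    (∀ a ∈ p, ∀ n : N, a • n = 0) → P N

/-- `N` is killed by `p` and elements outside `p` are nonzerodivisors on `N`. -/
def TF (p : Ideal A) (N : Type u) [AddCommGroup N] [Module A N] : Prop :=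
  (∀ a ∈ p, ∀ n : N, a • n = 0) ∧ ∀ d : A, d ∉ p → ∀ n : N, d • n = 0 → n = 0

section StageOne

variable {P : ∀ (M : Type u) [AddCommGroup M] [Module A M], Prop} {Zc : Ideal A → Prop}
  (hD : DevProps P Zc) (p : Ideal A) [hp : p.IsPrime]
include hD

theorem TF_step (N : Type u) [AddCommGroup N] [Module A N] [Module.Finite A N] [Nontrivial N]
    (hP : P (A ⧸ p)) (hN : TF p N) :
    ∃ L : Submodule A N, L ≠ ⊥ ∧ P L ∧ TF p (N ⧸ L) := by
  classical
  obtain ⟨hkill, htf⟩ := hN
  obtain ⟨x, hx⟩ := exists_ne (0 : N)
  have hker : p = LinearMap.ker (LinearMap.toSpanSingleton A N x) := by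
    apply le_antisymm
    · intro a ha
      rw [LinearMap.mem_ker, LinearMap.toSpanSingleton_apply]
      exact hkill a ha x
    · intro d hd
      rw [LinearMap.mem_ker, LinearMap.toSpanSingleton_apply] at hd
      by_contra hdp
      exact hx (htf d hdp x hd)
  let f : A ⧸ p →ₗ[A] N := Submodule.liftQ p (LinearMap.toSpanSingleton A N x) hker.le
  have hf : Function.Injective f := LinearMap.ker_eq_bot.mp (Submodule.ker_liftQ_eq_bot' _ _ hker)
  have hfx : f (Submodule.Quotient.mk 1) = x := by
    change LinearMap.toSpanSingleton A N x 1 = x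
    rw [LinearMap.toSpanSingleton_apply, one_smul]
  let L : Submodule A N :=
    { carrier := {n | ∃ d : A, d ∉ p ∧ d • n ∈ LinearMap.range f}
      zero_mem' := ⟨1, fun h => hp.ne_top ((Ideal.eq_top_iff_one p).2 h), by
        rw [smul_zero]; exact Submodule.zero_mem _⟩
      add_mem' := by
        rintro n n' ⟨d, hd, hn⟩ ⟨d', hd', hn'⟩
        refine ⟨d * d', fun h => (hp.mem_or_mem h).elim hd hd', ?_⟩
        rw [smul_add]
        apply Submodule.add_mem
        · rw [mul_comm, mul_smul]
          exact Submodule.smul_mem _ _ hn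
        · rw [mul_smul]
          exact Submodule.smul_mem _ _ hn'
      smul_mem' := by
        rintro c n ⟨d, hd, hn⟩
        refine ⟨d, hd, ?_⟩
        rw [smul_comm]
        exact Submodule.smul_mem _ _ hn }
  have hmemL : ∀ n : N, n ∈ L ↔ ∃ d : A, d ∉ p ∧ d • n ∈ LinearMap.range f := fun n => Iff.rfl
  have hone : (1 : A) ∉ p := fun h => hp.ne_top ((Ideal.eq_top_iff_one p).2 h)
  have hxL : x ∈ L := ⟨1, hone, by rw [one_smul]; exact ⟨_, hfx⟩⟩
  refine ⟨L, ?_, ?_, ?_, ?_⟩
  · intro h0
    rw [h0, Submodule.mem_bot] at hxL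
    exact hx hxL
  · -- `P L`: embed `L` into `A ⧸ p`
    have hNoeth : IsNoetherian A N := isNoetherian_of_isNoetherianRing_of_finite A N
    obtain ⟨s, hs⟩ := (IsNoetherian.noetherian L : L.FG)
    have hsL : ∀ n ∈ s, n ∈ L := fun n hn => by
      rw [← hs]; exact Submodule.subset_span hn
    choose! dd hdd hddr using fun n (hn : n ∈ s) => (hmemL n).1 (hsL n hn)
    let d : A := ∏ n ∈ s, dd n
    have hd : d ∉ p := by
      intro h
      obtain ⟨n, hn, hnp⟩ := (Ideal.IsPrime.prod_mem_iff).1 h
      exact hdd n hn hnp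
    have hdL : ∀ n ∈ L, d • n ∈ LinearMap.range f := by
      intro n hn
      rw [← hs] at hn
      induction hn using Submodule.span_induction with
      | mem m hm =>
        change (∏ n ∈ s, dd n) • m ∈ LinearMap.range f
        rw [← Finset.mul_prod_erase s dd hm, mul_comm, mul_smul]
        exact Submodule.smul_mem _ _ (hddr m hm)
      | zero => rw [smul_zero]; exact Submodule.zero_mem _
      | add m m' _ _ h1 h2 => rw [smul_add]; exact Submodule.add_mem _ h1 h2
      | smul r m _ h1 => rw [smul_comm]; exact Submodule.smul_mem _ _ h1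
    let ψ : L →ₗ[A] LinearMap.range f :=
      ((LinearMap.lsmul A N d).comp L.subtype).codRestrict (LinearMap.range f)
        (fun n => hdL n.1 n.2)
    have hψ : Function.Injective ψ := by
      rw [injective_iff_map_eq_zero]
      intro n hn
      have h1 : d • (n : N) = 0 := congrArg Subtype.val hn
      exact Subtype.ext (htf d hd n h1)
    let e : (A ⧸ p) ≃ₗ[A] LinearMap.range f := LinearEquiv.ofInjective f hf
    have hPr : P (LinearMap.range f) := hD.equiv _ _ e hP
    exact hD.inj _ _ ψ hψ hPr
  · intro a ha n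
    obtain ⟨m, rfl⟩ := Submodule.Quotient.mk_surjective L n
    rw [← Submodule.Quotient.mk_smul, hkill a ha m, Submodule.Quotient.mk_zero]
  · intro d hd n hn
    obtain ⟨m, rfl⟩ := Submodule.Quotient.mk_surjective L n
    rw [← Submodule.Quotient.mk_smul, Submodule.Quotient.mk_eq_zero] at hn
    obtain ⟨d', hd', hm⟩ := hn
    rw [Submodule.Quotient.mk_eq_zero]
    refine ⟨d' * d, fun h => (hp.mem_or_mem h).elim hd' hd, ?_⟩
    rw [mul_smul]
    exact hm

theorem P_of_TF (hP : P (A ⧸ p)) (N : Type u) [AddCommGroup N] [Module A N]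
    [Module.Finite A N] (hN : TF p N) : P N := by
  refine devissage (fun N [AddCommGroup N] [Module A N] => TF p N)
    (fun N [AddCommGroup N] [Module A N] => P N) ?_ ?_ ?_ ?_ ?_ N hN
  · intro M M' _ _ _ _ _ e h
    exact hD.equiv _ _ e h
  · intro M M' _ _ _ _ e h
    obtain ⟨h1, h2⟩ := h
    constructor
    · intro a ha n
      obtain ⟨m, rfl⟩ := e.surjective n
      rw [← map_smul, h1 a ha m, map_zero]
    · intro d hd n hn
      obtain ⟨m, rfl⟩ := e.surjective n
      rw [← map_smul] at hn
      have := e.injective (hn.trans (map_zero e).symm)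
      rw [h2 d hd m this, map_zero]
  · intro M _ _ _
    exact hD.zero _
  · intro M _ _ L h1 h3
    exact hD.ext _ L h1 h3
  · intro M _ _ _ _ h
    exact TF_step hD p M hP h

end StageOne

section StageTwo

variable {P : ∀ (M : Type u) [AddCommGroup M] [Module A M], Prop} {Zc : Ideal A → Prop}
  (hD : DevProps P Zc)

/-- the class: `P (A/q)` for all `q ∈ Ass M` with `¬ Zc q`. -/
def C (P : ∀ (M : Type u) [AddCommGroup M] [Module A M], Prop) (Zc : Ideal A → Prop)
    (M : Type u) [AddCommGroup M] [Module A M] : Prop :=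
  ∀ q ∈ associatedPrimes A M, ¬ Zc q → P (A ⧸ q)

omit [IsNoetherianRing A] in
theorem mem_torsionBySet_iff' {M : Type u} [AddCommGroup M] [Module A M] (p : Ideal A) (m : M) :
    m ∈ Submodule.torsionBySet A M (p : Set A) ↔ ∀ a ∈ p, a • m = 0 := by
  rw [Submodule.mem_torsionBySet_iff]
  constructor
  · intro h a ha
    exact h ⟨a, ha⟩
  · intro h a
    exact h a.1 a.2

theorem ass_quot_torsionBySet_subset (M : Type u) [AddCommGroup M] [Module A M] (p : Ideal A) :
    associatedPrimes A (M ⧸ Submodule.torsionBySet A M (p : Set A)) ⊆ associatedPrimes A M := by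
  classical
  intro q hq
  rw [AssociatedPrimes.mem_iff, isAssociatedPrime_iff] at hq ⊢
  obtain ⟨hqp, y, hy⟩ := hq
  obtain ⟨m, rfl⟩ := Submodule.Quotient.mk_surjective _ y
  have hmem : ∀ b : A, b ∈ q ↔ ∀ a ∈ p, a • b • m = 0 := by
    intro b
    rw [hy, Submodule.mem_colon_singleton, Submodule.mem_bot, ← Submodule.Quotient.mk_smul,
      Submodule.Quotient.mk_eq_zero, mem_torsionBySet_iff']
  obtain ⟨s, hs⟩ := (IsNoetherian.noetherian p : p.FG)
  have hsp : ∀ a ∈ s, a ∈ p := fun a ha => by rw [← hs]; exact Submodule.subset_span ha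
  have claim : ∃ a ∈ s, ∀ c : A, c • a • m = 0 → c ∈ q := by
    by_contra hcon
    push_neg at hcon
    choose! c hc0 hcq using hcon
    have hprod : (∏ a ∈ s, c a) ∉ q := by
      intro h
      obtain ⟨a, ha, haq⟩ := (Ideal.IsPrime.prod_mem_iff).1 h
      exact hcq a ha haq
    apply hprod
    rw [hmem]
    intro a' ha'
    rw [← hs] at ha'
    induction ha' using Submodule.span_induction with
    | mem a ha =>
      rw [← Finset.mul_prod_erase s c ha, smul_comm, mul_comm, mul_smul, hc0 a ha, smul_zero]
    | zero => rw [zero_smul]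
    | add a a' _ _ h1 h2 => rw [add_smul, h1, h2, add_zero]
    | smul r a _ h1 => rw [smul_assoc, h1, smul_zero]
  obtain ⟨a, ha, hca⟩ := claim
  refine ⟨hqp, a • m, ?_⟩
  ext b
  rw [Submodule.mem_colon_singleton, Submodule.mem_bot]
  constructor
  · intro hb
    rw [smul_comm]
    exact (hmem b).1 hb a (hsp a ha)
  · intro hb
    exact hca b hb

include hD in
theorem C_step (M : Type u) [AddCommGroup M] [Module A M] [Module.Finite A M] [Nontrivial M]
    (hC : C P Zc M) : ∃ L : Submodule A M, L ≠ ⊥ ∧ P L ∧ C P Zc (M ⧸ L) := by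
  obtain ⟨p, hpmax⟩ := (associatedPrimes.finite A M).exists_maximal (associatedPrimes.nonempty A M)
  have hpA : p ∈ associatedPrimes A M := hpmax.1
  have hpA' := hpA
  rw [AssociatedPrimes.mem_iff, isAssociatedPrime_iff] at hpA'
  obtain ⟨hp, x, hx⟩ := hpA'
  have hNoeth : IsNoetherian A M := isNoetherian_of_isNoetherianRing_of_finite A M
  refine ⟨Submodule.torsionBySet A M (p : Set A), ?_, ?_, ?_⟩
  · intro h0
    have hxL : x ∈ Submodule.torsionBySet A M (p : Set A) := by
      rw [mem_torsionBySet_iff']
      intro a ha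
      rw [hx, Submodule.mem_colon_singleton, Submodule.mem_bot] at ha
      exact ha
    rw [h0, Submodule.mem_bot] at hxL
    apply hp.ne_top
    rw [hx, hxL, Ideal.eq_top_iff_one, Submodule.mem_colon_singleton, smul_zero]
    exact Submodule.zero_mem _
  · have hTF : TF p (Submodule.torsionBySet A M (p : Set A)) := by
      constructor
      · intro a ha n
        exact Subtype.ext ((mem_torsionBySet_iff' p n.1).1 n.2 a ha)
      · intro d hd n hn
        by_contra hn0
        have hn0' : (n : M) ≠ 0 := fun h => hn0 (Subtype.ext h)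
        obtain ⟨q, hq, hle⟩ := exists_le_isAssociatedPrime_of_isNoetherianRing A (n : M) hn0'
        have hpq : p ≤ q := by
          intro a ha
          apply hle
          rw [Submodule.mem_colon_singleton, Submodule.mem_bot]
          exact (mem_torsionBySet_iff' p n.1).1 n.2 a ha
        have hqp : q ≤ p := hpmax.2 hq hpq
        apply hd
        apply hqp
        apply hle
        rw [Submodule.mem_colon_singleton, Submodule.mem_bot]
        exact congrArg Subtype.val hn
    by_cases hIp : Zc p
    · exact hD.kill p hIp _ hTF.1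
    · exact P_of_TF hD p (hC p hpA hIp) _ hTF
  · intro q hq hIq
    exact hC q (ass_quot_torsionBySet_subset M p hq) hIq

include hD in
theorem main (M : Type u) [AddCommGroup M] [Module A M] [Module.Finite A M]
    (h : ∀ p : Ideal A, p ∈ associatedPrimes A M → ¬ Zc p → P (A ⧸ p)) : P M := by
  · refine devissage (fun N [AddCommGroup N] [Module A N] => C P Zc N)
      (fun N [AddCommGroup N] [Module A N] => P N) ?_ ?_ ?_ ?_ ?_ M h
    · intro M M' _ _ _ _ _ e h
      exact hD.equiv _ _ e h
    · intro M M' _ _ _ _ e h q hq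
      rw [← LinearEquiv.AssociatedPrimes.eq e] at hq
      exact h q hq
    · intro M _ _ _
      exact hD.zero _
    · intro M _ _ L h1 h3
      exact hD.ext _ L h1 h3
    · intro M _ _ _ _ h
      exact C_step hD M h

end StageTwo

end Groth.Agent.Lib.Helper21.ZHullDev
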