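import Groth.Prelude.Def_EGA4b
import Groth.Agent.Lib.Helper85.ZClosedEv

/-!
# Evaluation of sections of `(A/p)~` at the generic point, into `Frac (A/p)` (helper21)
-/

set_option autoImplicit false
set_option linter.style.haveILetI false
universe u

open AlgebraicGeometry StructureSheaf TopologicalSpace Opposite CategoryTheory

namespace Groth.Agent.Lib.Helper21.ZHullEv

open Groth.Agent.Lib.Helper48 Groth.Agent.Lib.Helper85.ZClosed

variable {A : Type u} [CommRing A] (p : Ideal A) [hp : p.IsPrime]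

/-- the fraction field of `A ⧸ p` -/
abbrev K : Type u := FractionRing (A ⧸ p)

/-- `A ⧸ p → Frac (A ⧸ p)` as an `A`-linear map -/
noncomputable def toK : (A ⧸ p) →ₗ[A] K p :=
  (Algebra.linearMap (A ⧸ p) (K p)).restrictScalars A

theorem toK_apply (b : A ⧸ p) : toK p b = algebraMap (A ⧸ p) (K p) b := rfl

theorem smul_K (a : A) (x : K p) :
    a • x = algebraMap (A ⧸ p) (K p) (Ideal.Quotient.mk p a) * x := by
  rw [Algebra.smul_def, IsScalarTower.algebraMap_apply A (A ⧸ p) (K p)]
  rfl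

theorem algebraMap_mk_ne_zero {s : A} (hs : s ∉ p) :
    algebraMap (A ⧸ p) (K p) (Ideal.Quotient.mk p s) ≠ 0 := by
  intro h
  have h1 : Ideal.Quotient.mk p s = 0 :=
    (IsFractionRing.injective (A ⧸ p) (K p)) (h.trans (map_zero _).symm)
  exact hs (Ideal.Quotient.eq_zero_iff_mem.1 h1)

theorem smul_K_injective {s : A} (hs : s ∉ p) {x y : K p} (h : s • x = s • y) : x = y := by
  rw [smul_K, smul_K] at h
  exact mul_left_cancel₀ (algebraMap_mk_ne_zero p hs) h

theorem units_K (s : p.primeCompl) : IsUnit (algebraMap A (Module.End A (K p)) s) := by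
  rw [Module.End.isUnit_iff]
  constructor
  · intro x y h
    exact smul_K_injective p s.2 h
  · intro y
    refine ⟨(algebraMap (A ⧸ p) (K p) (Ideal.Quotient.mk p s))⁻¹ * y, ?_⟩
    rw [Module.algebraMap_end_apply, smul_K, ← mul_assoc,
      mul_inv_cancel₀ (algebraMap_mk_ne_zero p s.2), one_mul]

/-- the comparison `(A ⧸ p)_p → Frac (A ⧸ p)` -/
noncomputable def ψ : LocalizedModule p.primeCompl (A ⧸ p) →ₗ[A] K p :=
  LocalizedModule.lift p.primeCompl (toK p) (units_K p)

theorem smul_ψ_mk (b : A ⧸ p) (s : p.primeCompl) :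
    (s : A) • ψ p (LocalizedModule.mk b s) = algebraMap (A ⧸ p) (K p) b := by
  have : ψ p (LocalizedModule.mk b s) = ψ p (LocalizedModule.mk b s) := rfl
  unfold ψ at this ⊢
  rw [LocalizedModule.lift_mk, Module.End.algebraMap_isUnit_inv_apply_eq_iff] at this
  exact this.symm

theorem ψ_injective : Function.Injective (ψ p) := by
  rw [injective_iff_map_eq_zero]
  intro z hz
  induction z using LocalizedModule.induction_on with | h b s =>
  have h1 := smul_ψ_mk p b s
  rw [hz, smul_zero] at h1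
  have hb : b = 0 := (IsFractionRing.injective (A ⧸ p) (K p)) (h1.symm.trans (map_zero _).symm)
  rw [hb, LocalizedModule.zero_mk]

/-- the point `p` of the spectrum -/
abbrev η : PrimeSpectrum A := ⟨p, hp⟩

/-- evaluation of sections of `(A ⧸ p)~` at the generic point of `V(p)`, in `Frac (A ⧸ p)` -/
noncomputable def evK (U : Opens (PrimeSpectrum.Top A)) (hη : η p ∈ U) :
    Sec A (A ⧸ p) U →ₗ[A] K p :=
  (ψ p).comp (ev U ⟨η p, hη⟩)

theorem evK_res {U V : Opens (PrimeSpectrum.Top A)} (h : V ≤ U) (hη : η p ∈ V)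
    (s : Sec A (A ⧸ p) U) :
    evK p V hη ((structureSheafInType A (A ⧸ p)).obj.map (homOfLE h).op s) = evK p U (h hη) s :=
  rfl

/-- a section which is `b / g` near a point `y ⊇ p` evaluates to `b / g` -/
theorem smul_evK (U : Opens (PrimeSpectrum.Top A)) (hη : η p ∈ U) (s : Sec A (A ⧸ p) U)
    (g : A) (b : A ⧸ p) (hg : g ∉ p)
    (h : s.1 ⟨η p, hη⟩ = LocalizedModule.mk b ⟨g, hg⟩) :
    g • evK p U hη s = algebraMap (A ⧸ p) (K p) b := by
  change g • ψ p (s.1 ⟨η p, hη⟩) = _
  rw [h]
  exact smul_ψ_mk p b ⟨g, hg⟩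

theorem localizedModule_eq_zero_of_mem {y : PrimeSpectrum A} {g : A} (hgp : g ∈ p)
    (hgy : g ∉ y.asIdeal) (z : LocalizedModule y.asIdeal.primeCompl (A ⧸ p)) : z = 0 := by
  induction z using LocalizedModule.induction_on with | h b s =>
  rw [← LocalizedModule.zero_mk s, LocalizedModule.mk_eq]
  refine ⟨⟨g, hgy⟩, ?_⟩
  simp only [Submonoid.smul_def, smul_zero]
  have hgb : g • b = 0 := by
    rw [Algebra.smul_def, Ideal.Quotient.algebraMap_eq, Ideal.Quotient.eq_zero_iff_mem.2 hgp,
      zero_mul]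
  rw [smul_comm, hgb, smul_zero]

theorem evK_injective (U : Opens (PrimeSpectrum.Top A)) (hη : η p ∈ U) :
    Function.Injective (evK p U hη) := by
  rw [injective_iff_map_eq_zero]
  intro s hs
  apply section_ext
  intro y
  obtain ⟨g, b, hgy, hgU, hval⟩ := exists_fraction U s y.1 y.2
  refine Eq.trans ?_ (Groth.Agent.Lib.Helper48.zero_apply y).symm
  by_cases hgp : g ∈ p
  · exact localizedModule_eq_zero_of_mem p hgp hgy _
  · have h1 := smul_evK p U hη s g b hgp (hval ⟨η p, hη⟩ hgp)
    rw [hs, smul_zero] at h1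
    have hb : b = 0 := (IsFractionRing.injective (A ⧸ p) (K p)) (h1.symm.trans (map_zero _).symm)
    rw [hval y hgy, hb, LocalizedModule.zero_mk]

/-- evaluation lands in the height-one hull when `U` contains all primes of height one over `p` -/
theorem evK_mem_hull (U : Opens (PrimeSpectrum.Top A)) (hη : η p ∈ U)
    (hU : ∀ y : PrimeSpectrum A, p ≤ y.asIdeal →
      (y.asIdeal.map (Ideal.Quotient.mk p)).height = 1 → y ∈ U)
    (s : Sec A (A ⧸ p) U) : evK p U hη s ∈ EGA4.heightOneHull (A ⧸ p) := by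
  intro P hP hP1
  let y : PrimeSpectrum A := ⟨P.comap (Ideal.Quotient.mk p), inferInstance⟩
  have hmap : y.asIdeal.map (Ideal.Quotient.mk p) = P :=
    Ideal.map_comap_of_surjective _ Ideal.Quotient.mk_surjective P
  have hpy : p ≤ y.asIdeal := by
    intro a ha
    change Ideal.Quotient.mk p a ∈ P
    rw [Ideal.Quotient.eq_zero_iff_mem.2 ha]
    exact P.zero_mem
  have hyU : y ∈ U := hU y hpy (by rw [hmap]; exact hP1)
  obtain ⟨g, b, hgy, hgU, hval⟩ := exists_fraction U s y hyU
  have hgp : g ∉ p := fun h => hgy (hpy h)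
  have h1 := smul_evK p U hη s g b hgp (hval ⟨η p, hη⟩ hgp)
  refine ⟨Ideal.Quotient.mk p g, hgy, b, ?_⟩
  rw [← h1, smul_K]

end Groth.Agent.Lib.Helper21.ZHullEv
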