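import Groth.Prelude.Def_EGA4c
import Groth.Agent.Lib.Helper21.ZHullDev
import Groth.Agent.Lib.Helper21.ZClosAss
import Groth.Agent.Lib.Helper21.ZClosZero
import Groth.Agent.Lib.Helper21.ZClosExact
import Groth.Agent.Lib.Helper21.Devissage
import Groth.Agent.Lib.Helper21.QCohSections
import Groth.Agent.Lib.Lead.CohAff3
import Groth.Agent.S9498

/-!
# Formal properties of `M ↦ H⁰_{X/Z}(M~)` being coherent, `X = Spec A` (helper21)

The property `P M := Coh.IsCoh (H⁰_{X/Z}(M~))` of `A`-modules satisfies the hypotheses of the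
dévissage `ZHullDev.main`.
-/

set_option autoImplicit false
set_option linter.style.haveILetI false
universe u

open AlgebraicGeometry CategoryTheory CategoryTheory.Limits TopologicalSpace Opposite

namespace Groth.Agent.Lib.Helper21.ZHullFormal

open ZClos Groth.Agent.Lib.Helper21.QCohSections Groth.Agent.Lib.Lead.CohAff
  Groth.Agent.Lib.Helper21.Devissage

section general

variable {X : Scheme.{u}} [IsLocallyNoetherian X]

/-- middle term of an exact sequence `0 → X₁ → X₂ → X₃` with coherent ends -/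
theorem isCoh_of_exact (S : ShortComplex X.Modules) (hS : S.Exact) [Mono S.f]
    (h1 : Coh.IsCoh S.X₁) (h3 : Coh.IsCoh S.X₃) [S.X₂.IsQuasicoherent] : Coh.IsCoh S.X₂ := by
  haveI := h1.1
  haveI := h3.1
  refine ⟨inferInstance, ?_⟩
  rw [isFiniteType_iff_finite_sections]
  intro U hU
  haveI : IsNoetherianRing Γ(X, U) := IsLocallyNoetherian.component_noetherian ⟨U, hU⟩
  haveI := finite_sections_of_isFiniteType S.X₁ h1.2 hU
  haveI := finite_sections_of_isFiniteType S.X₃ h3.2 hU
  haveI : IsNoetherian Γ(X, U) Γ(S.X₁, U) := isNoetherian_of_isNoetherianRing_of_finite _ _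
  haveI : IsNoetherian Γ(X, U) Γ(S.X₃, U) := isNoetherian_of_isNoetherianRing_of_finite _ _
  have hex : Function.Exact (appL S.f U) (appL S.g U) := by
    have h : (S.map (secF U)).Exact :=
      hS.map_of_mono_of_preservesKernel (secF U) inferInstance inferInstance
    exact (ShortComplex.ab_exact_iff_function_exact _).mp h
  haveI : IsNoetherian Γ(X, U) Γ(S.X₂, U) :=
    isNoetherian_of_range_eq_ker (appL S.f U) (appL S.g U) (LinearMap.exact_iff.mp hex).symm
  infer_instance

end general

section stalk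

/-- the stalk of `M~` at `x` vanishes when every element of `M` is killed by an element outside
`x` -/
theorem subsingleton_stalk_tilde {R : CommRingCat.{u}} (M : ModuleCat.{u} R)
    (x : PrimeSpectrum.Top R) (h : ∀ n : M, ∃ s : R, s ∉ x.asIdeal ∧ s • n = 0) :
    Subsingleton ((tilde M).presheaf.stalk x) := by
  have h0 : ∀ z : (tilde M).presheaf.stalk x, z = 0 := by
    intro z
    obtain ⟨⟨n, s⟩, hz⟩ := IsLocalizedModule.surj x.asIdeal.primeCompl (tilde.toStalk M x).hom z
    obtain ⟨t, ht, htn⟩ := h n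
    have h1 : (tilde.toStalk M x).hom n = 0 :=
      (IsLocalizedModule.eq_zero_iff x.asIdeal.primeCompl (tilde.toStalk M x).hom).2
        ⟨⟨t, ht⟩, htn⟩
    rw [h1] at hz
    exact IsLocalizedModule.smul_injective (tilde.toStalk M x).hom s (hz.trans (smul_zero s).symm)
  exact ⟨fun a b => (h0 a).trans (h0 b).symm⟩

end stalk

variable {A : Type u} [CommRing A] [IsNoetherianRing A] (Z : Set (PrimeSpectrum A))

instance : IsLocallyNoetherian (Spec (CommRingCat.of A)) := inferInstance

/-- the property: the `Z`-closure of `M~` is coherent -/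
def P (M : Type u) [AddCommGroup M] [Module A M] : Prop :=
  Coh.IsCoh ((ZClos.H0 (X := Spec (CommRingCat.of A)) Z).obj (EGA4.tildeOf A M))

/-- `Z` contains the prime `p` -/
def Zc (p : Ideal A) : Prop := ∃ hp : p.IsPrime, (⟨p, hp⟩ : PrimeSpectrum A) ∈ Z

instance isQuasicoherent_H0_tilde (M : Type u) [AddCommGroup M] [Module A M] :
    ((ZClos.H0 (X := Spec (CommRingCat.of A)) Z).obj (EGA4.tildeOf A M)).IsQuasicoherent :=
  Groth.Agent.Lib.Helper21.QCohColim.isQuasicoherent_H0 _ _

theorem P_of_stalk (hZ : StableUnderSpecialization Z) (M : Type u) [AddCommGroup M] [Module A M]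
    (h : ∀ x : PrimeSpectrum A, x ∉ Z → ∀ n : M, ∃ s : A, s ∉ x.asIdeal ∧ s • n = 0) : P Z M := by
  apply isCoh_of_isZero
  rw [Groth.Agent.Lib.Helper21.ZClosZero.isZero_H0_iff hZ]
  intro x hx
  exact subsingleton_stalk_tilde (ModuleCat.of (CommRingCat.of A) M) x (h x hx)

/-- the functor `M ↦ H⁰_{X/Z}(M~)` -/
noncomputable abbrev Φ : ModuleCat.{u} (CommRingCat.of A) ⥤ (Spec (CommRingCat.of A)).Modules :=
  tilde.functor (CommRingCat.of A) ⋙ ZClos.H0 (X := Spec (CommRingCat.of A)) Z

instance : PreservesFiniteLimits (Φ Z) := by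
  haveI : PreservesFiniteLimits (tilde.functor (CommRingCat.of A)) :=
    (Groth.Agent.S9498.key (CommRingCat.of A)).1
  haveI := Groth.Agent.Lib.Helper21.ZClosExact.preservesFiniteLimits_H0
    (X := Spec (CommRingCat.of A)) Z
  exact comp_preservesFiniteLimits _ _

theorem devProps (hZ : StableUnderSpecialization Z) : ZHullDev.DevProps (P Z) (Zc Z) where
  equiv M M' _ _ _ _ _ e h := by
    have i : (Φ Z).obj (ModuleCat.of (CommRingCat.of A) M) ≅
        (Φ Z).obj (ModuleCat.of (CommRingCat.of A) M') := (Φ Z).mapIso e.toModuleIso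
    exact isCoh_of_iso i h
  zero M _ _ _ := P_of_stalk Z hZ M (fun x _ n => ⟨1, fun h1 =>
    x.isPrime.ne_top ((Ideal.eq_top_iff_one _).2 h1), by rw [Subsingleton.elim n 0, smul_zero]⟩)
  ext M _ _ L h1 h3 := by
    have hS : (ModuleCat.shortComplexOfCompEqZero (R := (CommRingCat.of A)) L.subtype L.mkQ
        (by ext; simp)).ShortExact :=
      ModuleCat.shortComplex_shortExact _ (LinearMap.exact_subtype_mkQ L) L.injective_subtype
        (Submodule.mkQ_surjective L)
    haveI := hS.mono_f
    have hex := hS.exact.map_of_mono_of_preservesKernel (Φ Z) inferInstance inferInstance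
    haveI : Mono ((ModuleCat.shortComplexOfCompEqZero (R := (CommRingCat.of A)) L.subtype L.mkQ
        (by ext; simp)).map (Φ Z)).f := by
      change Mono ((Φ Z).map _)
      infer_instance
    haveI : ((ModuleCat.shortComplexOfCompEqZero (R := (CommRingCat.of A)) L.subtype L.mkQ
        (by ext; simp)).map (Φ Z)).X₂.IsQuasicoherent := isQuasicoherent_H0_tilde Z M
    exact isCoh_of_exact _ hex h1 h3
  inj M M' _ _ _ _ _ e he h := by
    haveI : Mono (ModuleCat.ofHom (R := (CommRingCat.of A)) e) :=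
      (ModuleCat.mono_iff_injective _).2 he
    let φ : (Φ Z).obj (ModuleCat.of (CommRingCat.of A) M') ⟶
        (Φ Z).obj (ModuleCat.of (CommRingCat.of A) M) :=
      (Φ Z).map (ModuleCat.ofHom (R := (CommRingCat.of A)) e)
    have hφ : Mono φ := Functor.map_mono (Φ Z) _
    exact ⟨isQuasicoherent_H0_tilde Z M',
      @Groth.Agent.Lib.Helper21.CohNoeth.isFiniteType_of_mono _ _ _ _ φ hφ
        (isQuasicoherent_H0_tilde Z M) (isQuasicoherent_H0_tilde Z M') h.2⟩
  kill p hp N _ _ hk := by
    obtain ⟨hp', hpZ⟩ := hp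
    refine P_of_stalk Z hZ N (fun x hx n => ?_)
    have hnle : ¬ p ≤ x.asIdeal := by
      intro hle
      apply hx
      have hs : (⟨p, hp'⟩ : PrimeSpectrum A) ⤳ x :=
        (PrimeSpectrum.le_iff_specializes _ _).1 hle
      exact hZ hs hpZ
    obtain ⟨a, hap, hax⟩ := Set.not_subset.1 hnle
    exact ⟨a, hax, hk a hap n⟩

end Groth.Agent.Lib.Helper21.ZHullFormal
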