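import Groth.Agent.Lib.Helper21.ZHullEv
import Mathlib.RingTheory.Ideal.Height

/-!
# Gluing an element of the height-one hull to a section of `(A/p)~` (helper21)

For `x ∈ Frac (A/p)` with conductor `J = (A/p : x)` (pulled back to `A`), the fractions
`(s x)/s`, `s ∈ J`, glue to a section of `(A/p)~` over the complement of `V(J)`, whose value at
the generic point is `x`.  When `x` lies in the height-one hull, `V(J)` consists of primes of
height at least two over `p`.
-/

set_option autoImplicit false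
set_option linter.style.haveILetI false
set_option linter.unusedSectionVars false
universe u

open AlgebraicGeometry StructureSheaf TopologicalSpace Opposite CategoryTheory

namespace Groth.Agent.Lib.Helper21.ZHullGlue

open Groth.Agent.Lib.Helper48 Groth.Agent.Lib.Helper85.ZClosed Groth.Agent.Lib.Helper21.ZHullEv

variable {A : Type u} [CommRing A] (p : Ideal A) [hp : p.IsPrime]

/-- the conductor of `x` into `A ⧸ p`, as an ideal of `A` -/
def cond (x : K p) : Ideal A where
  carrier := {a | ∃ b : A ⧸ p,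
    algebraMap (A ⧸ p) (K p) b = algebraMap (A ⧸ p) (K p) (Ideal.Quotient.mk p a) * x}
  add_mem' := by
    rintro a a' ⟨b, hb⟩ ⟨b', hb'⟩
    exact ⟨b + b', by rw [map_add, map_add, map_add, add_mul, hb, hb']⟩
  zero_mem' := ⟨0, by rw [map_zero, map_zero, map_zero, zero_mul]⟩
  smul_mem' := by
    rintro c a ⟨b, hb⟩
    refine ⟨Ideal.Quotient.mk p c * b, ?_⟩
    rw [smul_eq_mul, map_mul, map_mul, map_mul, hb, mul_assoc]

theorem mem_cond {x : K p} {a : A} : a ∈ cond p x ↔ ∃ b : A ⧸ p,
    algebraMap (A ⧸ p) (K p) b = algebraMap (A ⧸ p) (K p) (Ideal.Quotient.mk p a) * x := Iff.rfl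

theorem le_cond (x : K p) : p ≤ cond p x := by
  intro a ha
  refine ⟨0, ?_⟩
  rw [Ideal.Quotient.eq_zero_iff_mem.2 ha, map_zero, zero_mul]

/-- the numerator attached to a denominator in the conductor -/
noncomputable def num (x : K p) (s : A) (hs : s ∈ cond p x) : A ⧸ p := hs.choose

theorem num_spec (x : K p) (s : A) (hs : s ∈ cond p x) :
    algebraMap (A ⧸ p) (K p) (num p x s hs) =
      algebraMap (A ⧸ p) (K p) (Ideal.Quotient.mk p s) * x := hs.choose_spec

theorem mk_num_eq (x : K p) (y : PrimeSpectrum A) (s s' : A) (hs : s ∈ cond p x)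
    (hs' : s' ∈ cond p x) (hsy : s ∉ y.asIdeal) (hsy' : s' ∉ y.asIdeal) :
    (LocalizedModule.mk (num p x s hs) ⟨s, hsy⟩ : LocalizedModule y.asIdeal.primeCompl (A ⧸ p)) =
      LocalizedModule.mk (num p x s' hs') ⟨s', hsy'⟩ := by
  rw [LocalizedModule.mk_eq]
  refine ⟨1, ?_⟩
  simp only [one_smul, Submonoid.smul_def]
  apply IsFractionRing.injective (A ⧸ p) (K p)
  rw [Algebra.smul_def, Algebra.smul_def, map_mul, map_mul, num_spec, num_spec,
    Ideal.Quotient.algebraMap_eq]
  ring

theorem exists_notMem_cond (x : K p) (y : PrimeSpectrum A) (hy : ¬ cond p x ≤ y.asIdeal) :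
    ∃ s ∈ cond p x, s ∉ y.asIdeal := by
  by_contra h
  push_neg at h
  exact hy (fun s hs => h s hs)

variable (V : Opens (PrimeSpectrum.Top A)) (x : K p)
  (hV : ∀ y : PrimeSpectrum A, y ∈ V → ¬ cond p x ≤ y.asIdeal)

/-- the chosen denominator at a point -/
noncomputable def pick (y : V) : A := (exists_notMem_cond p x y.1 (hV y.1 y.2)).choose

theorem pick_mem (y : V) : pick p V x hV y ∈ cond p x :=
  (exists_notMem_cond p x y.1 (hV y.1 y.2)).choose_spec.1

theorem pick_notMem (y : V) : pick p V x hV y ∉ (PrimeSpectrum.asIdeal (R := A) y.1) :=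
  (exists_notMem_cond p x y.1 (hV y.1 y.2)).choose_spec.2

/-- the underlying function of the glued section -/
noncomputable def glueFun (y : V) : Localizations (A ⧸ p) y.1 :=
  LocalizedModule.mk (num p x (pick p V x hV y) (pick_mem p V x hV y))
    ⟨pick p V x hV y, pick_notMem p V x hV y⟩

theorem glueFun_eq (y : V) (s : A) (hs : s ∈ cond p x)
    (hsy : s ∉ (PrimeSpectrum.asIdeal (R := A) y.1)) :
    glueFun p V x hV y = LocalizedModule.mk (num p x s hs) ⟨s, hsy⟩ :=
  mk_num_eq p x y.1 _ _ _ hs _ hsy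

/-- the glued section: it is `(s x)/s` on `D(s)`, `s` in the conductor -/
noncomputable def glue : Sec A (A ⧸ p) V :=
  ⟨glueFun p V x hV, by
    intro y
    refine ⟨PrimeSpectrum.basicOpen (pick p V x hV y) ⊓ V, ⟨pick_notMem p V x hV y, y.2⟩,
      Opens.infLERight _ _, num p x (pick p V x hV y) (pick_mem p V x hV y), pick p V x hV y, ?_⟩
    intro z
    have hz : pick p V x hV y ∉ (PrimeSpectrum.asIdeal (R := A) z.1) := z.2.1
    exact ⟨hz, glueFun_eq p V x hV ⟨z.1, z.2.2⟩ _ (pick_mem p V x hV y) hz⟩⟩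

theorem evK_glue (hη : η p ∈ V) : evK p V hη (glue p V x hV) = x := by
  have hs := pick_mem p V x hV ⟨η p, hη⟩
  have hsp : pick p V x hV ⟨η p, hη⟩ ∉ p := pick_notMem p V x hV ⟨η p, hη⟩
  have h1 := smul_evK p V hη (glue p V x hV) (pick p V x hV ⟨η p, hη⟩)
    (num p x _ hs) hsp rfl
  rw [num_spec, ← smul_K] at h1
  exact smul_K_injective p hsp h1

section hull

variable [IsNoetherianRing A]

/-- a prime of height zero in a domain is zero -/
theorem eq_bot_of_height_eq_zero {B : Type u} [CommRing B] [IsDomain B] (P : Ideal B)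
    [P.IsPrime] (h : P.height = 0) : P = ⊥ := by
  exact Ideal.height_eq_zero_iff_eq_bot.1 h

omit [IsNoetherianRing A] in
/-- for `x` in the height-one hull, the zero locus of the conductor consists of primes of height
at least two over `p` -/
theorem two_le_height_of_cond_le {x : K p} (hx : x ∈ EGA4.heightOneHull (A ⧸ p))
    (y : PrimeSpectrum A) (hy : cond p x ≤ y.asIdeal) :
    p ≤ y.asIdeal ∧ (2 : ℕ∞) ≤ (y.asIdeal.map (Ideal.Quotient.mk p)).height := by
  have hpy : p ≤ y.asIdeal := (le_cond p x).trans hy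
  refine ⟨hpy, ?_⟩
  have hker : RingHom.ker (Ideal.Quotient.mk p) ≤ y.asIdeal := by
    rw [Ideal.mk_ker]; exact hpy
  haveI hP : (y.asIdeal.map (Ideal.Quotient.mk p)).IsPrime :=
    Ideal.map_isPrime_of_surjective Ideal.Quotient.mk_surjective hker
  have hnotmem : ∀ s : A, s ∉ y.asIdeal →
      Ideal.Quotient.mk p s ∉ y.asIdeal.map (Ideal.Quotient.mk p) := by
    intro s hs hmem
    apply hs
    have h1 : s ∈ (y.asIdeal.map (Ideal.Quotient.mk p)).comap (Ideal.Quotient.mk p) := hmem
    rw [Ideal.comap_map_of_surjective _ Ideal.Quotient.mk_surjective, ← RingHom.ker_eq_comap_bot,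
      sup_eq_left.2 hker] at h1
    exact h1
  by_contra hlt
  rw [not_le] at hlt
  have hle1 : (y.asIdeal.map (Ideal.Quotient.mk p)).height ≤ 1 := by
    have : (2 : ℕ∞) = 1 + 1 := by norm_num
    rw [this] at hlt
    exact Order.le_of_lt_add_one hlt
  rcases lt_or_eq_of_le hle1 with h0 | h1
  · -- height zero: `y = p`
    have h0' : (y.asIdeal.map (Ideal.Quotient.mk p)).height = 0 := Order.lt_one_iff.1 h0
    have hbot := eq_bot_of_height_eq_zero _ h0'
    obtain ⟨⟨a, s⟩, hxs⟩ := IsLocalization.surj (nonZeroDivisors (A ⧸ p)) x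
    obtain ⟨s', hs'⟩ := Ideal.Quotient.mk_surjective (s : A ⧸ p)
    have hs'c : s' ∈ cond p x := ⟨a, by rw [hs', ← hxs, mul_comm]⟩
    have hs'y : s' ∈ y.asIdeal := hy hs'c
    have : Ideal.Quotient.mk p s' ∈ y.asIdeal.map (Ideal.Quotient.mk p) :=
      Ideal.mem_map_of_mem _ hs'y
    rw [hbot, Ideal.mem_bot, hs'] at this
    exact nonZeroDivisors.coe_ne_zero s this
  · obtain ⟨s, hsP, a, ha⟩ := hx (y.asIdeal.map (Ideal.Quotient.mk p)) h1
    obtain ⟨s', rfl⟩ := Ideal.Quotient.mk_surjective s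
    have hs'c : s' ∈ cond p x := ⟨a, ha⟩
    exact hsP (Ideal.mem_map_of_mem _ (hy hs'c))

end hull

end Groth.Agent.Lib.Helper21.ZHullGlue
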