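import Groth.Agent.Lib.Helper21.ZHullMain
import Groth.Agent.Lib.Helper21.ZClosFlatBC
import Groth.Agent.Lib.Lead.PullbackAff3
import Groth.Agent.Lib.Lead.QCohAff5
import Groth.Agent.Lib.Helper29.QCohLoc
import Groth.Agent.Lib.Helper15.DCohLocal

/-!
# Local reduction of the coherence of `H⁰_{X/Z}(F)` to affine schemes (helper21)
-/

set_option autoImplicit false
set_option linter.style.haveILetI false
set_option linter.unusedSectionVars false
universe u

open AlgebraicGeometry CategoryTheory CategoryTheory.Limits TopologicalSpace Opposite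

namespace Groth.Agent.Lib.Helper21.ZHullLocal

open ZClos Groth.Agent.Lib.Lead.PullbackAff Groth.Agent.Lib.Lead.QCohAff
  Groth.Agent.Lib.Helper21.ZHullPhi Groth.Agent.Lib.Helper21.ZHullMain
  Groth.Agent.Lib.Helper21.Devissage

variable {X : Scheme.{u}} [IsLocallyNoetherian X] {V : X.Opens} (hV : IsAffineOpen V)
  (F : X.Modules)

/-- global sections of `F|_{Spec Γ(X,V)}` -/
noncomputable abbrev M₀ : ModuleCat.{u} Γ(X, V) :=
  moduleSpecΓFunctor.obj (F.restrict hV.fromSpec)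

/-- **(B)** an associated prime of `Γ(F, V)` gives an associated point of `F` -/
theorem mem_ass_of_mem_associatedPrimes [F.IsQuasicoherent] (p : Ideal Γ(X, V))
    (hp : p ∈ associatedPrimes Γ(X, V) (M₀ hV F)) :
    ∃ hpp : p.IsPrime, hV.fromSpec (⟨p, hpp⟩ : PrimeSpectrum Γ(X, V)) ∈ AssSch.Ass F := by
  haveI : IsNoetherianRing Γ(X, V) := IsLocallyNoetherian.component_noetherian ⟨V, hV⟩
  have hp' : p ∈ associatedPrimes Γ(X, V) Γ(F, V) := by
    rw [← LinearEquiv.AssociatedPrimes.eq (secEquiv hV F)]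
    exact hp
  obtain ⟨hpp, s, hs⟩ := (isAssociatedPrime_iff (R := Γ(X, V))).1 hp'
  refine ⟨hpp, ?_⟩
  have hxV : hV.fromSpec (⟨p, hpp⟩ : PrimeSpectrum Γ(X, V)) ∈ V := fromSpec_mem hV _
  have hprime : hV.primeIdealOf ⟨hV.fromSpec (⟨p, hpp⟩ : PrimeSpectrum Γ(X, V)), hxV⟩ =
      ⟨p, hpp⟩ := primeIdealOf_fromSpec hV _ hxV
  change Curv2.IsAssPoint F _
  rw [Groth.Agent.Lib.Helper29.QCohLoc.isAssPoint_iff_isWeakAssPoint,
    Groth.Agent.Lib.Helper29.QCohLoc.isWeakAssPoint_iff F hV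
      (Groth.Agent.Lib.Helper29.QCohLoc.LocAt.of_isQuasicoherent F hV) _ hxV]
  refine ⟨s, ?_⟩
  rw [hprime]
  have hann : Groth.Agent.Lib.Helper29.QCohLoc.ann F s = p := by
    ext a
    rw [Groth.Agent.Lib.Helper29.QCohLoc.mem_ann, hs, Submodule.mem_colon_singleton,
      Submodule.mem_bot]
  rw [hann, Ideal.minimalPrimes_eq_subsingleton_self]
  exact Set.mem_singleton _

/-- **(A)** finiteness of the sections of `H⁰_{X/Z}(F)` over an affine open, from the case of the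
quotients `A/p` on `Spec A`, `A = Γ(X, V)` -/
theorem finite_sections_H0 (Z : Set X) (hZ : StableUnderSpecialization Z) (hF : Coh.IsCoh F)
    (hbase : ∀ (p : Ideal Γ(X, V)), p ∈ associatedPrimes Γ(X, V) (M₀ hV F) →
      ¬ Groth.Agent.Lib.Helper21.ZHullFormal.Zc (A := Γ(X, V)) (hV.fromSpec.base ⁻¹' Z) p →
      Groth.Agent.Lib.Helper21.ZHullFormal.P (A := Γ(X, V)) (hV.fromSpec.base ⁻¹' Z)
        (Γ(X, V) ⧸ p)) :
    Module.Finite Γ(X, V) Γ((H0 Z).obj F, V) := by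
  haveI : IsNoetherianRing Γ(X, V) := IsLocallyNoetherian.component_noetherian ⟨V, hV⟩
  haveI : F.IsQuasicoherent := hF.1
  haveI : SheafOfModules.IsFiniteType (R := X.ringCatSheaf) F := hF.2
  have hZ' : StableUnderSpecialization (hV.fromSpec.base ⁻¹' Z) :=
    hZ.preimage hV.fromSpec.continuous
  -- the module
  haveI : Module.Finite Γ(X, V) Γ(F, V) :=
    Groth.Agent.Lib.Helper2.FinTypeAff.finite_sections F hV
  haveI : Module.Finite Γ(X, V) (M₀ hV F) := Module.Finite.equiv (secEquiv hV F).symm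
  have hP : Groth.Agent.Lib.Helper21.ZHullFormal.P (A := Γ(X, V)) (hV.fromSpec.base ⁻¹' Z)
      (M₀ hV F) :=
    Groth.Agent.Lib.Helper21.ZHullDev.main
      (Groth.Agent.Lib.Helper21.ZHullFormal.devProps (A := Γ(X, V)) _ hZ') (M₀ hV F) hbase
  -- the chain of isomorphisms
  haveI : ((H0 Z).obj F).IsQuasicoherent :=
    Groth.Agent.Lib.Helper21.QCohColim.isQuasicoherent_H0 Z F
  let e1 : ((H0 Z).obj F).restrict hV.fromSpec ≅
      (Scheme.Modules.pullback hV.fromSpec).obj ((H0 Z).obj F) :=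
    (Scheme.Modules.restrictFunctorIsoPullback hV.fromSpec).app _
  obtain ⟨e2⟩ := Groth.Agent.Lib.Helper21.ZClosFlatBC.nonempty_iso hV.fromSpec Z hZ F hF.1
  let e3 : (H0 (hV.fromSpec.base ⁻¹' Z)).obj ((Scheme.Modules.pullback hV.fromSpec).obj F) ≅
      (H0 (hV.fromSpec.base ⁻¹' Z)).obj (F.restrict hV.fromSpec) :=
    (H0 (hV.fromSpec.base ⁻¹' Z)).mapIso
      ((Scheme.Modules.restrictFunctorIsoPullback hV.fromSpec).app F).symm
  let e4 : (H0 (hV.fromSpec.base ⁻¹' Z)).obj (F.restrict hV.fromSpec) ≅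
      (H0 (hV.fromSpec.base ⁻¹' Z)).obj (tilde (M₀ hV F)) :=
    (H0 (hV.fromSpec.base ⁻¹' Z)).mapIso (asIso (F.restrict hV.fromSpec).fromTildeΓ).symm
  have hcoh : Coh.IsCoh (((H0 Z).obj F).restrict hV.fromSpec) :=
    isCoh_of_iso (e1 ≪≫ e2 ≪≫ e3 ≪≫ e4).symm hP
  haveI := hcoh.1
  haveI : SheafOfModules.IsFiniteType (R := (Spec Γ(X, V)).ringCatSheaf)
    (((H0 Z).obj F).restrict hV.fromSpec) := hcoh.2
  have hΓ : Module.Finite Γ(Spec Γ(X, V), ⊤) Γ(((H0 Z).obj F).restrict hV.fromSpec, ⊤) :=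
    Groth.Agent.Lib.Helper2.FinTypeAff.finite_sections _ (isAffineOpen_top _)
  have hA : Module.Finite Γ(X, V) (moduleSpecΓFunctor.obj (((H0 Z).obj F).restrict hV.fromSpec)) :=
    finiteA_of_finite (A := Γ(X, V)) _ hΓ
  exact Module.Finite.equiv (secEquiv hV ((H0 Z).obj F))

end Groth.Agent.Lib.Helper21.ZHullLocal
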