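import Groth.Prelude.Def_EGA4c
import Groth.Prelude.Def_ZClos
import Groth.Agent.Lib.Helper21.ZHullEv
import Groth.Agent.Lib.Helper21.ZClosCore
import Groth.Agent.Lib.Helper21.ZClosStalk
import Groth.Agent.Lib.Helper21.ZClosIdem
import Groth.Agent.Lib.Lead.Inv2

/-!
# The map `Γ(X, H⁰_{X/Z}((A/p)~)) → Frac (A/p)` (helper21)

For `p ∉ Z` the global sections of the `Z`-closure of `(A/p)~` embed `A`-linearly into the
fraction field of `A/p`, by evaluation of a representative at the generic point of `V(p)`.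
-/

set_option autoImplicit false
set_option linter.style.haveILetI false
set_option linter.unusedSectionVars false
universe u

open AlgebraicGeometry StructureSheaf TopologicalSpace Opposite CategoryTheory

namespace Groth.Agent.Lib.Helper21.ZHullPhi

open Groth.Agent.Lib.Helper48 Groth.Agent.Lib.Helper85.ZClosed Groth.Agent.Lib.Helper21.ModBasis
  Groth.Agent.Lib.Helper21.ZClosCore Groth.Agent.Lib.Helper21.ZClosStalk ZClos
  Groth.Agent.Lib.Helper21.ZHullEv Groth.Agent.Lib.Helper21.ZClosIdem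

/-- the action of functions on sections of `j_*(F|_U)` -/
theorem resPush_smul {X : Scheme.{u}} (U : X.Opens) (F : X.Modules) (V : X.Opens) (c : Γ(X, V))
    (t : Γ((resPush U).obj F, V)) :
    (c • t : Γ((resPush U).obj F, V)) =
      ((X.presheaf.map (homOfLE (cap_le_right U V)).op c) • (show Γ(F, cap U V) from t) :
        Γ(F, cap U V)) := by
  have h1 : (c • t : Γ((resPush U).obj F, V)) =
      ((U.ι.app V).hom c • (show Γ(F.restrict U.ι, U.ι ⁻¹ᵁ V) from t) :
        Γ(F.restrict U.ι, U.ι ⁻¹ᵁ V)) := rfl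
  rw [h1, Groth.Agent.Lib.Lead.Inv.restrict_smul]
  congr 1
  all_goals first | rfl | rw [Scheme.Opens.ι_app]

variable {A : Type u} [CommRing A]

/-- the `A`-module structure on sections of a module on `Spec A` (Mathlib's instance, which is not
found by unification for `CommRingCat.of A`) -/
noncomputable instance instModA (F : (Spec (CommRingCat.of A)).Modules)
    (V : (Spec (CommRingCat.of A)).Opens) : Module A Γ(F, V) :=
  Scheme.Modules.instModuleCarrierCarrierObjOppositeOpensCarrierCarrierCommRingCatSpecAbPresheafOp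
    (R := CommRingCat.of A) (M := F) (U := V)

/-- the global function acting as `r` -/
noncomputable abbrev cst (V : (Spec (CommRingCat.of A)).Opens) (r : A) :
    Γ(Spec (CommRingCat.of A), V) :=
  ((Spec (CommRingCat.of A)).presheaf.map V.leTop.op) ((Scheme.ΓSpecIso (CommRingCat.of A)).inv r)

theorem smul_def' (F : (Spec (CommRingCat.of A)).Modules) (V : (Spec (CommRingCat.of A)).Opens)
    (r : A) (x : Γ(F, V)) : r • x = cst V r • x := rfl

theorem app_smulA {F G : (Spec (CommRingCat.of A)).Modules} (φ : F ⟶ G)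
    (V : (Spec (CommRingCat.of A)).Opens) (r : A) (x : Γ(F, V)) :
    φ.app V (r • x) = r • φ.app V x :=
  Scheme.Modules.Hom.app_smul φ (cst V r) x

variable {M : Type u} [AddCommGroup M] [Module A M]

/-- sections of `M~` as concrete functions -/
def secOf {V : (Spec (CommRingCat.of A)).Opens} (s : Γ(EGA4.tildeOf A M, V)) : Sec A M V := s

/-- concrete functions as sections of `M~` -/
def ofSec {V : (Spec (CommRingCat.of A)).Opens} (s : Sec A M V) : Γ(EGA4.tildeOf A M, V) := s

theorem secOf_ofSec {V : (Spec (CommRingCat.of A)).Opens} (s : Sec A M V) :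
    secOf (ofSec s) = s := rfl

theorem secOf_add {V : (Spec (CommRingCat.of A)).Opens} (s t : Γ(EGA4.tildeOf A M, V)) :
    secOf (s + t) = secOf s + secOf t := rfl

theorem secOf_zero {V : (Spec (CommRingCat.of A)).Opens} :
    secOf (0 : Γ(EGA4.tildeOf A M, V)) = 0 := rfl

theorem secOf_smul {V : (Spec (CommRingCat.of A)).Opens} (r : A)
    (s : Γ(EGA4.tildeOf A M, V)) : secOf (r • s) = r • secOf s := by
  apply section_ext
  intro y
  exact IsScalarTower.algebraMap_smul (StructureSheaf.Localizations A y.1) r ((secOf s).1 y)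

section main

variable [IsNoetherianRing A] (p : Ideal A) [hp : p.IsPrime]
  (Z : Set (Spec (CommRingCat.of A)))

/-- `(A ⧸ p)~` -/
noncomputable abbrev F : (Spec (CommRingCat.of A)).Modules := EGA4.tildeOf A (A ⧸ p)

/-- the `Z`-closure of `(A ⧸ p)~` -/
noncomputable abbrev H : (Spec (CommRingCat.of A)).Modules :=
  (ZClos.H0 (X := Spec (CommRingCat.of A)) Z).obj (F p)

/-- the point `p` of `Spec A` -/
abbrev ηX : (Spec (CommRingCat.of A)) := η p

/-- evaluation at the generic point of `V(p)` of a section of `(A ⧸ p)~` -/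
noncomputable def evΓ (V : (Spec (CommRingCat.of A)).Opens) (hV : ηX p ∈ V) (t : Γ(F p, V)) :
    K p :=
  evK p V hV (secOf t)

theorem evΓ_add (V : (Spec (CommRingCat.of A)).Opens) (hV : ηX p ∈ V) (t t' : Γ(F p, V)) :
    evΓ p V hV (t + t') = evΓ p V hV t + evΓ p V hV t' :=
  map_add (evK p V hV) (secOf t) (secOf t')

theorem evΓ_smul (V : (Spec (CommRingCat.of A)).Opens) (hV : ηX p ∈ V) (r : A) (t : Γ(F p, V)) :
    evΓ p V hV (r • t) = r • evΓ p V hV t := by
  unfold evΓ
  rw [secOf_smul, map_smul]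

theorem evΓ_res {V W : (Spec (CommRingCat.of A)).Opens} (h : V ≤ W) (hV : ηX p ∈ V)
    (t : Γ(F p, W)) : evΓ p V hV (res (F p) h t) = evΓ p W (h hV) t := rfl

theorem evΓ_eq_zero (V : (Spec (CommRingCat.of A)).Opens) (hV : ηX p ∈ V) (t : Γ(F p, V))
    (h : evΓ p V hV t = 0) : t = 0 := by
  have h0 : secOf t = 0 := evK_injective p V hV (h.trans (map_zero _).symm)
  exact h0

theorem evΓ_mem_hull (V : (Spec (CommRingCat.of A)).Opens) (hV : ηX p ∈ V)
    (hU : ∀ y : PrimeSpectrum A, p ≤ y.asIdeal →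
      (y.asIdeal.map (Ideal.Quotient.mk p)).height = 1 → (y : Spec (CommRingCat.of A)) ∈ V)
    (t : Γ(F p, V)) : evΓ p V hV t ∈ EGA4.heightOneHull (A ⧸ p) :=
  evK_mem_hull p V hV hU (secOf t)

theorem mem_cap (hη : ηX p ∉ Z) (T : Cl Z) :
    ηX p ∈ cap T.U (⊤ : (Spec (CommRingCat.of A)).Opens) :=
  mem_cap_of_not_mem T hη (Opens.mem_top _)

theorem smul_resPush (T : Cl Z) (r : A) (t : Γ((resPush T.U).obj (F p), ⊤)) :
    secOf (M := A ⧸ p) (V := cap T.U ⊤) (r • t) = r • secOf (M := A ⧸ p) (V := cap T.U ⊤) t := by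
  have h := resPush_smul T.U (F p) ⊤ (cst ⊤ r) t
  have h' : (r • t : Γ((resPush T.U).obj (F p), ⊤)) = cst ⊤ r • t := rfl
  rw [h', h]
  apply section_ext
  intro y
  exact IsScalarTower.algebraMap_smul (StructureSheaf.Localizations A y.1) r
    ((secOf (M := A ⧸ p) (V := cap T.U ⊤) t).1 y)

variable (hη : ηX p ∉ Z)

/-- `k` is the value at the generic point of a representative of `n` -/
def Rel (n : Γ(H p Z, ⊤)) (k : K p) : Prop :=
  ∃ (T : Cl Z) (t : Γ(F p, cap T.U ⊤)),
    (inj Z (F p) T).app ⊤ t = n ∧ evΓ p (cap T.U ⊤) (mem_cap p Z hη T) t = k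

theorem isCompact_top :
    IsCompact ((⊤ : (Spec (CommRingCat.of A)).Opens) : Set (Spec (CommRingCat.of A))) :=
  isCompact_univ

theorem rel_exists (n : Γ(H p Z, ⊤)) : ∃ k, Rel p Z hη n k := by
  obtain ⟨T, t, ht⟩ := exists_rep_H0 Z (F p) isCompact_top n
  exact ⟨_, T, t, ht, rfl⟩

theorem rel_unique {n : Γ(H p Z, ⊤)} {k k' : K p} (h : Rel p Z hη n k) (h' : Rel p Z hη n k') :
    k = k' := by
  obtain ⟨T, t, ht, rfl⟩ := h
  obtain ⟨T', t', ht', rfl⟩ := h'
  obtain ⟨T'', a, b, hab⟩ := exists_of_inj_eq Z (F p) isCompact_top t t' (ht.trans ht'.symm)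
  rw [← evΓ_res p (cap_mono (Cl.U_anti a) le_rfl) (mem_cap p Z hη T'') t,
    ← evΓ_res p (cap_mono (Cl.U_anti b) le_rfl) (mem_cap p Z hη T'') t', hab]

theorem rel_add {n n' : Γ(H p Z, ⊤)} {k k' : K p} (h : Rel p Z hη n k) (h' : Rel p Z hη n' k') :
    Rel p Z hη (n + n') (k + k') := by
  obtain ⟨T, t, ht, rfl⟩ := h
  obtain ⟨T', t', ht', rfl⟩ := h'
  have a : T ≤ T ⊔ T' := le_sup_left
  have b : T' ≤ T ⊔ T' := le_sup_right
  refine ⟨T ⊔ T', res (F p) (cap_mono (Cl.U_anti a) le_rfl) t +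
    res (F p) (cap_mono (Cl.U_anti b) le_rfl) t', ?_, ?_⟩
  · refine (map_add (ConcreteCategory.hom ((inj Z (F p) (T ⊔ T')).app ⊤))
      (show Γ((resPush (T ⊔ T').U).obj (F p), ⊤) from res (F p) (cap_mono (Cl.U_anti a) le_rfl) t)
      (show Γ((resPush (T ⊔ T').U).obj (F p), ⊤) from
        res (F p) (cap_mono (Cl.U_anti b) le_rfl) t')).trans ?_
    rw [inj_trans Z (F p) a ⊤ t, inj_trans Z (F p) b ⊤ t', ht, ht']
  · rw [evΓ_add, evΓ_res, evΓ_res]

theorem rel_smul (r : A) {n : Γ(H p Z, ⊤)} {k : K p} (h : Rel p Z hη n k) :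
    Rel p Z hη (r • n) (r • k) := by
  obtain ⟨T, t, ht, rfl⟩ := h
  refine ⟨T, (r • (show Γ((resPush T.U).obj (F p), ⊤) from t) : Γ((resPush T.U).obj (F p), ⊤)),
    ?_, ?_⟩
  · rw [← ht]
    exact app_smulA (inj Z (F p) T) ⊤ r t
  · unfold evΓ
    rw [← map_smul]
    exact congrArg _ (smul_resPush p Z T r t)

/-- the evaluation map -/
noncomputable def Φ : Γ(H p Z, ⊤) →ₗ[A] K p where
  toFun n := (rel_exists p Z hη n).choose
  map_add' n n' := rel_unique p Z hη (rel_exists p Z hη (n + n')).choose_spec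
    (rel_add p Z hη (rel_exists p Z hη n).choose_spec (rel_exists p Z hη n').choose_spec)
  map_smul' r n := rel_unique p Z hη (rel_exists p Z hη (r • n)).choose_spec
    (rel_smul p Z hη r (rel_exists p Z hη n).choose_spec)

theorem rel_Φ (n : Γ(H p Z, ⊤)) : Rel p Z hη n (Φ p Z hη n) :=
  (rel_exists p Z hη n).choose_spec

theorem Φ_eq {n : Γ(H p Z, ⊤)} {k : K p} (h : Rel p Z hη n k) : Φ p Z hη n = k :=
  rel_unique p Z hη (rel_Φ p Z hη n) h

theorem Φ_injective : Function.Injective (Φ p Z hη) := by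
  rw [injective_iff_map_eq_zero]
  intro n hn
  obtain ⟨T, t, ht, hk⟩ := rel_Φ p Z hη n
  rw [hn] at hk
  have ht0 : t = 0 := evΓ_eq_zero p _ _ t hk
  rw [← ht, ht0]
  exact map_zero _

/-- the image lies in the height-one hull under the codimension condition -/
theorem Φ_mem_hull
    (hcodim : ∀ y : PrimeSpectrum A, (y : Spec (CommRingCat.of A)) ∈ Z → p ≤ y.asIdeal →
      (2 : ℕ∞) ≤ (y.asIdeal.map (Ideal.Quotient.mk p)).height)
    (n : Γ(H p Z, ⊤)) : Φ p Z hη n ∈ EGA4.heightOneHull (A ⧸ p) := by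
  obtain ⟨T, t, ht, hk⟩ := rel_Φ p Z hη n
  rw [← hk]
  apply evΓ_mem_hull
  intro y hpy hy1
  refine mem_cap_of_not_mem T ?_ (Opens.mem_top _)
  intro hyZ
  have := hcodim y hyZ hpy
  rw [hy1] at this
  exact absurd this (by decide)

end main

end Groth.Agent.Lib.Helper21.ZHullPhi
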