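import Groth.Agent.Lib.Helper21.ZHullFormal
import Groth.Agent.Lib.Helper21.ZHullPhi
import Groth.Agent.Lib.Helper21.ZHullGlue
import Groth.Agent.Lib.Helper2.FinTypeAff

/-!
# `B^(1)` finite ⇔ `H⁰_{X/Z}` coherent: the two key cases for `A/p` (helper21)
-/

set_option autoImplicit false
set_option linter.style.haveILetI false
set_option linter.unusedSectionVars false
universe u

open AlgebraicGeometry StructureSheaf TopologicalSpace Opposite CategoryTheory

namespace Groth.Agent.Lib.Helper21.ZHullMain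

open Groth.Agent.Lib.Helper48 Groth.Agent.Lib.Helper85.ZClosed Groth.Agent.Lib.Helper21.ModBasis
  Groth.Agent.Lib.Helper21.ZClosCore Groth.Agent.Lib.Helper21.ZClosStalk ZClos
  Groth.Agent.Lib.Helper21.ZHullEv Groth.Agent.Lib.Helper21.ZHullPhi
  Groth.Agent.Lib.Helper21.ZHullGlue

/-- the height-one hull as a subalgebra of the fraction field -/
def hullAlg (B : Type u) [CommRing B] [IsDomain B] : Subalgebra B (FractionRing B) where
  carrier := EGA4.heightOneHull B
  mul_mem' := by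
    intro x y hx hy P _ hP
    obtain ⟨s, hs, a, ha⟩ := hx P hP
    obtain ⟨s', hs', a', ha'⟩ := hy P hP
    refine ⟨s * s', fun h => (Ideal.IsPrime.mem_or_mem ‹_› h).elim hs hs', a * a', ?_⟩
    rw [map_mul, map_mul, ha, ha']
    ring
  add_mem' := by
    intro x y hx hy P _ hP
    obtain ⟨s, hs, a, ha⟩ := hx P hP
    obtain ⟨s', hs', a', ha'⟩ := hy P hP
    refine ⟨s * s', fun h => (Ideal.IsPrime.mem_or_mem ‹_› h).elim hs hs', a * s' + a' * s, ?_⟩
    rw [map_add, map_mul, map_mul, map_mul, ha, ha']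
    ring
  algebraMap_mem' := by
    intro r P _ hP
    exact ⟨1, fun h => (Ideal.IsPrime.ne_top ‹_›) ((Ideal.eq_top_iff_one P).2 h), r,
      by rw [map_one, one_mul]⟩

theorem coe_hullAlg (B : Type u) [CommRing B] [IsDomain B] :
    (hullAlg B : Set (FractionRing B)) = EGA4.heightOneHull B := rfl

variable {A : Type u} [CommRing A]

/-- finiteness over `A` gives finiteness over the ring of functions -/
theorem finite_of_finiteA (G : (Spec (CommRingCat.of A)).Modules)
    (V : (Spec (CommRingCat.of A)).Opens) (h : Module.Finite A Γ(G, V)) :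
    Module.Finite Γ(Spec (CommRingCat.of A), V) Γ(G, V) := by
  obtain ⟨S, hS⟩ := h.fg_top
  refine ⟨⟨S, ?_⟩⟩
  rw [eq_top_iff]
  intro n _
  have hn : n ∈ Submodule.span A (S : Set Γ(G, V)) := by rw [hS]; trivial
  induction hn using Submodule.span_induction with
  | mem x hx => exact Submodule.subset_span hx
  | zero => exact Submodule.zero_mem _
  | add x y _ _ hx hy => exact Submodule.add_mem _ (hx trivial) (hy trivial)
  | smul a x _ hx =>
    rw [smul_def']
    exact Submodule.smul_mem _ _ (hx trivial)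

theorem exists_cst_top (γ : Γ(Spec (CommRingCat.of A), ⊤)) : ∃ a : A, cst ⊤ a = γ := by
  refine ⟨(Scheme.ΓSpecIso (CommRingCat.of A)).hom γ, ?_⟩
  have h1 : (Scheme.ΓSpecIso (CommRingCat.of A)).inv
      ((Scheme.ΓSpecIso (CommRingCat.of A)).hom γ) = γ := by
    have := congrArg (fun f => (ConcreteCategory.hom f) γ)
      (Scheme.ΓSpecIso (CommRingCat.of A)).hom_inv_id
    simpa using this
  have h2 : ((Spec (CommRingCat.of A)).presheaf.map
      (⊤ : (Spec (CommRingCat.of A)).Opens).leTop.op) γ = γ := by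
    have : ((⊤ : (Spec (CommRingCat.of A)).Opens).leTop.op) = 𝟙 _ := Subsingleton.elim _ _
    rw [this, CategoryTheory.Functor.map_id]
    rfl
  change ((Spec (CommRingCat.of A)).presheaf.map (⊤ : (Spec (CommRingCat.of A)).Opens).leTop.op)
    ((Scheme.ΓSpecIso (CommRingCat.of A)).inv ((Scheme.ΓSpecIso (CommRingCat.of A)).hom γ)) = γ
  rw [h1, h2]

/-- finiteness of global sections over the ring of functions gives finiteness over `A` -/
theorem finiteA_of_finite (G : (Spec (CommRingCat.of A)).Modules)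
    (h : Module.Finite Γ(Spec (CommRingCat.of A), ⊤) Γ(G, ⊤)) : Module.Finite A Γ(G, ⊤) := by
  obtain ⟨S, hS⟩ := h.fg_top
  refine ⟨⟨S, ?_⟩⟩
  rw [eq_top_iff]
  intro n _
  have hn : n ∈ Submodule.span Γ(Spec (CommRingCat.of A), ⊤) (S : Set Γ(G, ⊤)) := by
    rw [hS]; trivial
  induction hn using Submodule.span_induction with
  | mem x hx => exact Submodule.subset_span hx
  | zero => exact Submodule.zero_mem _
  | add x y _ _ hx hy => exact Submodule.add_mem _ (hx trivial) (hy trivial)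
  | smul γ x _ hx =>
    obtain ⟨a, rfl⟩ := exists_cst_top γ
    rw [← smul_def']
    exact Submodule.smul_mem _ _ (hx trivial)

variable [IsNoetherianRing A] (p : Ideal A) [hp : p.IsPrime]

/-- **(a) ⇒ (b), the case of `A/p`.** -/
theorem isCoh_H0_quot (Z : Set (Spec (CommRingCat.of A))) (hη : ηX p ∉ Z)
    (hcodim : ∀ y : PrimeSpectrum A, (y : Spec (CommRingCat.of A)) ∈ Z → p ≤ y.asIdeal →
      (2 : ℕ∞) ≤ (y.asIdeal.map (Ideal.Quotient.mk p)).height)
    (hfin : EGA4.HeightOneHullFinite (A ⧸ p)) : Coh.IsCoh (H p Z) := by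
  obtain ⟨𝔅, h𝔅, hfin𝔅⟩ := hfin
  haveI : Module.Finite A 𝔅 := Module.Finite.trans (A ⧸ p) 𝔅
  haveI : IsNoetherian A 𝔅 := isNoetherian_of_isNoetherianRing_of_finite A 𝔅
  have hmem : ∀ n : Γ(H p Z, ⊤), Φ p Z hη n ∈ 𝔅 := by
    intro n
    have := Φ_mem_hull p Z hη hcodim n
    rw [← h𝔅] at this
    exact this
  let Φ' : Γ(H p Z, ⊤) →ₗ[A] 𝔅 :=
    { toFun := fun n => ⟨Φ p Z hη n, hmem n⟩
      map_add' := fun n n' => Subtype.ext (map_add (Φ p Z hη) n n')
      map_smul' := fun r n => Subtype.ext (map_smul (Φ p Z hη) r n) }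
  have hinj : Function.Injective Φ' := by
    intro n n' h
    exact Φ_injective p Z hη (congrArg Subtype.val h)
  have hA : Module.Finite A Γ(H p Z, ⊤) := Module.Finite.of_injective Φ' hinj
  have hΓ := finite_of_finiteA (H p Z) ⊤ hA
  haveI : (H p Z).IsQuasicoherent := Groth.Agent.Lib.Helper21.QCohColim.isQuasicoherent_H0 _ _
  refine ⟨inferInstance, ?_⟩
  apply Groth.Agent.Lib.Lead.CohAff.isFiniteType_of_finite_sections
  intro x
  exact ⟨⊤, isAffineOpen_top _, Opens.mem_top _, hΓ⟩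

/-- the set of primes of height at least two over `p` -/
def Zq : Set (Spec (CommRingCat.of A)) :=
  {y | p ≤ (y : PrimeSpectrum A).asIdeal ∧
    (2 : ℕ∞) ≤ ((y : PrimeSpectrum A).asIdeal.map (Ideal.Quotient.mk p)).height}

theorem η_notMem_Zq : ηX p ∉ Zq p := by
  rintro ⟨-, h⟩
  change (2 : ℕ∞) ≤ (p.map (Ideal.Quotient.mk p)).height at h
  rw [Ideal.map_quotient_self, Ideal.height_bot] at h
  exact absurd h (by decide)

theorem stable_Zq : StableUnderSpecialization (Zq p) := by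
  intro y y' hyy' hy
  have hle : (y : PrimeSpectrum A).asIdeal ≤ (y' : PrimeSpectrum A).asIdeal :=
    (PrimeSpectrum.le_iff_specializes (y : PrimeSpectrum A) y').2 hyy'
  exact ⟨hy.1.trans hle, hy.2.trans (Ideal.height_mono (Ideal.map_mono hle))⟩

/-- **(b) ⇒ (a), the case of `A/p`.** -/
theorem heightOneHullFinite_of_isCoh (h : Coh.IsCoh (H p (Zq p))) :
    EGA4.HeightOneHullFinite (A ⧸ p) := by
  refine ⟨hullAlg (A ⧸ p), coe_hullAlg _, ?_⟩
  have hη := η_notMem_Zq p
  haveI := h.1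
  haveI : SheafOfModules.IsFiniteType (R := (Spec (CommRingCat.of A)).ringCatSheaf)
    (H p (Zq p)) := h.2
  have hΓ : Module.Finite Γ(Spec (CommRingCat.of A), ⊤) Γ(H p (Zq p), ⊤) :=
    Groth.Agent.Lib.Helper2.FinTypeAff.finite_sections (H p (Zq p)) (isAffineOpen_top _)
  have hA : Module.Finite A Γ(H p (Zq p), ⊤) := finiteA_of_finite _ hΓ
  have hmem : ∀ n : Γ(H p (Zq p), ⊤), Φ p (Zq p) hη n ∈ hullAlg (A ⧸ p) :=
    fun n => Φ_mem_hull p (Zq p) hη (fun y hy _ => hy.2) n
  let Φ' : Γ(H p (Zq p), ⊤) →ₗ[A] hullAlg (A ⧸ p) :=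
    { toFun := fun n => ⟨Φ p (Zq p) hη n, hmem n⟩
      map_add' := fun n n' => Subtype.ext (map_add (Φ p (Zq p) hη) n n')
      map_smul' := fun r n => Subtype.ext (map_smul (Φ p (Zq p) hη) r n) }
  have hsurj : Function.Surjective Φ' := by
    rintro ⟨x, hx⟩
    have hx' : x ∈ EGA4.heightOneHull (A ⧸ p) := hx
    let T : Cl (Zq p) := ⟨⟨PrimeSpectrum.zeroLocus (cond p x : Set A),
      PrimeSpectrum.isClosed_zeroLocus _⟩, fun y hy =>
        two_le_height_of_cond_le p hx' y (by
          intro a ha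
          exact hy ha)⟩
    have hV : ∀ y : PrimeSpectrum A, y ∈ cap T.U (⊤ : (Spec (CommRingCat.of A)).Opens) →
        ¬ cond p x ≤ y.asIdeal := by
      intro y hy hle
      have hyU : (y : Spec (CommRingCat.of A)) ∈ T.U := cap_le_left T.U ⊤ hy
      exact hyU (fun a ha => hle ha)
    let t : Γ(F p, cap T.U ⊤) := ofSec (glue p (cap T.U ⊤) x hV)
    refine ⟨(inj (Zq p) (F p) T).app ⊤ t, Subtype.ext ?_⟩
    change Φ p (Zq p) hη _ = x
    exact Φ_eq p (Zq p) hη ⟨T, t, rfl, evK_glue p (cap T.U ⊤) x hV (mem_cap p (Zq p) hη T)⟩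
  haveI : Module.Finite A (hullAlg (A ⧸ p)) := Module.Finite.of_surjective Φ' hsurj
  exact Module.Finite.of_restrictScalars_finite A (A ⧸ p) (hullAlg (A ⧸ p))

end Groth.Agent.Lib.Helper21.ZHullMain
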