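import Groth.Agent.Lib.Helper26.AffineVanishing
import Groth.Agent.Lib.Helper21.Devissage

/-!
# Cohomology of quasi-coherent modules with finite closed support vanishes (helper21)

* `res_eq_zero_biSup`: gluing the vanishing of a cohomology class along a finite union.
* `subsingleton_HU_of_sections`: on a Noetherian space, a sheaf without sections below `W` has no
  cohomology below `W`.
* `subsingleton_HU_of_finite_support`: a quasi-coherent module supported in a finite set of closed
  points has no higher cohomology over any open.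
-/

set_option autoImplicit false
set_option linter.style.haveILetI false
universe u

open CategoryTheory TopologicalSpace Opposite CategoryTheory.Limits AlgebraicGeometry

namespace Groth.Agent.Lib.Helper21.ZeroDimCoh

open Groth.Agent.Lib.Helper26.MVTop

section top

variable {X : TopCat.{u}} (F : CohTop.Ab X)

/-- gluing vanishing of a class along a finite union, when lower cohomology vanishes below `W` -/
theorem res_eq_zero_biSup (n : ℕ) (W : Opens X)
    (hlow : ∀ T : Opens X, T ≤ W → Subsingleton (CohTop.HU F n T))
    (α : CohTop.HU F (n + 1) W) {ι : Type*} [DecidableEq ι] (s : Finset ι) (V : ι → Opens X)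
    (hV : ∀ i ∈ s, V i ≤ W)
    (hz : ∀ i (hi : i ∈ s), CohTop.res F (n + 1) (hV i hi) α = 0) :
    ∀ (hle : (⨆ i ∈ s, V i) ≤ W), CohTop.res F (n + 1) hle α = 0 := by
  induction s using Finset.induction_on with
  | empty =>
    intro hle
    have h0 : (⨆ i ∈ (∅ : Finset ι), V i) = ⊥ := by simp
    haveI : Subsingleton (CohTop.HU F (n + 1) (⨆ i ∈ (∅ : Finset ι), V i)) := by
      rw [h0]
      exact subsingleton_HU_bot F (n + 1)
    exact Subsingleton.elim _ _
  | insert j s hj ih =>
    intro hle
    have hA : V j ≤ W := hV j (Finset.mem_insert_self j s)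
    have hB : (⨆ i ∈ s, V i) ≤ W :=
      iSup₂_le fun i hi => hV i (Finset.mem_insert_of_mem hi)
    have hW : (⨆ i ∈ insert j s, V i) = V j ⊔ ⨆ i ∈ s, V i := Finset.iSup_insert j s V
    haveI : Subsingleton (CohTop.HU F n (V j ⊓ ⨆ i ∈ s, V i)) :=
      hlow _ (inf_le_left.trans hA)
    refine eq_zero_of_eq_sup F _ (V j) (⨆ i ∈ s, V i) hW n
      (exists_sub_of_subsingleton F _ _ n) _ ?_ ?_
    · rw [res_res]
      exact hz j (Finset.mem_insert_self j s)
    · rw [res_res]
      exact ih (fun i hi => hV i (Finset.mem_insert_of_mem hi))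
        (fun i hi => hz i (Finset.mem_insert_of_mem hi)) hB

/-- On a Noetherian space, a sheaf without sections below `W` has no cohomology below `W`. -/
theorem subsingleton_HU_of_sections [NoetherianSpace X] (W : Opens X)
    (hF : ∀ T : Opens X, T ≤ W → Subsingleton (F.obj.obj (op T))) :
    ∀ (n : ℕ) (T : Opens X), T ≤ W → Subsingleton (CohTop.HU F n T) := by
  classical
  intro n
  induction n with
  | zero =>
    intro T hT
    haveI := hF T hT
    refine ⟨fun a b => ?_⟩
    obtain ⟨s, rfl⟩ := cls_surjective F T a
    obtain ⟨t, rfl⟩ := cls_surjective F T b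
    rw [Subsingleton.elim s t]
  | succ n ih =>
    intro T hT
    suffices h0 : ∀ α : CohTop.HU F (n + 1) T, α = 0 from ⟨fun a b => by rw [h0 a, h0 b]⟩
    intro α
    choose V hVT hxV hVz using fun x : T => exists_nhd_res_eq_zero F n T α x.1 x.2
    have hc : IsCompact (T : Set X) := NoetherianSpace.isCompact _
    obtain ⟨s, hs⟩ := hc.elim_finite_subcover (fun x : T => ((V x : Opens X) : Set X))
      (fun x => (V x).2) (fun x hx => Set.mem_iUnion.mpr ⟨⟨x, hx⟩, hxV ⟨x, hx⟩⟩)
    have hle : (⨆ i ∈ s, V i) ≤ T := iSup₂_le fun i _ => hVT i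
    have hge : T ≤ ⨆ i ∈ s, V i := by
      intro x hx
      have := hs hx
      simp only [Set.mem_iUnion] at this
      obtain ⟨i, hi, hxi⟩ := this
      exact Opens.mem_iSup.mpr ⟨i, Opens.mem_iSup.mpr ⟨hi, hxi⟩⟩
    have h1 := res_eq_zero_biSup F n T (fun T' hT' => ih T' (hT'.trans hT)) α s V
      (fun i _ => hVT i) (fun i _ => hVz i) hle
    have h2 := congrArg (CohTop.res F (n + 1) hge) h1
    rwa [res_res, res_self, map_zero] at h2

end top

section scheme

variable {X : Scheme.{u}}

/-- sections of a module vanish over opens missing the support -/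
theorem subsingleton_sections_of_disjoint_support (F : X.Modules) (T : X.Opens)
    (h : ∀ x ∈ T, x ∉ CohB1.support F) : Subsingleton ((Coh.toAb F).obj.obj (op T)) := by
  refine ⟨fun s t => ?_⟩
  refine TopCat.Presheaf.section_ext ⟨F.presheaf, F.isSheaf⟩ T s t (fun y hy => ?_)
  have : Subsingleton (F.presheaf.stalk y) := not_not.mp (h y hy)
  exact Subsingleton.elim _ _

open scoped Classical in
/-- A quasi-coherent module supported in a finite set of closed points has no higher cohomology
over any open. -/
theorem subsingleton_HU_of_finite_support [NoetherianSpace X] (F : X.Modules)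
    [F.IsQuasicoherent] (Z : Finset X) (hZc : ∀ z ∈ Z, IsClosed ({z} : Set X))
    (hsupp : CohB1.support F ⊆ (Z : Set X)) :
    ∀ (m : ℕ) (W : X.Opens), (Z.filter (fun z => z ∈ W)).card = m →
      ∀ n : ℕ, Subsingleton (CohTop.HU (Coh.toAb F) (n + 1) W) := by
  classical
  intro m
  induction m using Nat.strong_induction_on with
  | _ m ih =>
  intro W hm n
  by_cases hne : (Z.filter (fun z => z ∈ W)).Nonempty
  · obtain ⟨z, hz⟩ := hne
    rw [Finset.mem_filter] at hz
    obtain ⟨hzZ, hzW⟩ := hz
    have hcl : IsClosed (((Z.erase z : Finset X) : Set X)) := by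
      rw [← Set.biUnion_of_singleton ((Z.erase z : Finset X) : Set X)]
      exact (Z.erase z).finite_toSet.isClosed_biUnion
        (fun w hw => hZc w (Finset.mem_of_mem_erase hw))
    let O : X.Opens := W ⊓ ⟨(((Z.erase z : Finset X) : Set X))ᶜ, hcl.isOpen_compl⟩
    have hzO : z ∈ (O : Set X) := ⟨hzW, fun h => (Finset.notMem_erase z Z) h⟩
    obtain ⟨_, ⟨U, hU, rfl⟩, hzU, hUO⟩ :=
      X.isBasis_affineOpens.exists_subset_of_mem_open hzO O.2
    let V : X.Opens := W ⊓ ⟨({z} : Set X)ᶜ, (hZc z hzZ).isOpen_compl⟩
    have hUW : U ≤ W := fun x hx => (hUO hx).1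
    have hVW : V ≤ W := inf_le_left
    have hW : W = U ⊔ V := by
      apply le_antisymm
      · intro x hx
        by_cases hxz : x = z
        · exact Or.inl (hxz ▸ hzU)
        · exact Or.inr ⟨hx, hxz⟩
      · exact sup_le hUW hVW
    have hUV : ∀ x ∈ U ⊓ V, x ∉ CohB1.support F := by
      intro x hx hxs
      have hxZ : x ∈ Z := hsupp hxs
      have hxz : x ≠ z := hx.2.2
      exact (hUO hx.1).2 (Finset.mem_coe.mpr (Finset.mem_erase.mpr ⟨hxz, hxZ⟩))
    have low : ∀ k : ℕ, Subsingleton (CohTop.HU (Coh.toAb F) k (U ⊓ V)) := fun k =>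
      subsingleton_HU_of_sections (Coh.toAb F) (U ⊓ V)
        (fun T hT => subsingleton_sections_of_disjoint_support F T
          (fun x hx => hUV x (hT hx))) k (U ⊓ V) le_rfl
    haveI := low n
    haveI hsU : Subsingleton (CohTop.HU (Coh.toAb F) (n + 1) U) :=
      Groth.Agent.Lib.Helper26.AffineVanishing.subsingleton_HU_succ F n hU
    have hlt : (Z.filter (fun w => w ∈ V)).card < m := by
      rw [← hm]
      apply Finset.card_lt_card
      rw [Finset.ssubset_iff_of_subset]
      · exact ⟨z, Finset.mem_filter.mpr ⟨hzZ, hzW⟩,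
          fun h => (Finset.mem_filter.mp h).2.2 rfl⟩
      · intro w hw
        rw [Finset.mem_filter] at hw ⊢
        exact ⟨hw.1, hVW hw.2⟩
    haveI hsV : Subsingleton (CohTop.HU (Coh.toAb F) (n + 1) V) := ih _ hlt V rfl n
    suffices h0 : ∀ α : CohTop.HU (Coh.toAb F) (n + 1) W, α = 0 from
      ⟨fun a b => by rw [h0 a, h0 b]⟩
    intro α
    exact eq_zero_of_eq_sup (Coh.toAb F) W U V hW n
      (exists_sub_of_subsingleton (Coh.toAb F) U V n) α (Subsingleton.elim _ _)
      (Subsingleton.elim _ _)
  · rw [Finset.not_nonempty_iff_eq_empty] at hne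
    refine subsingleton_HU_of_sections (Coh.toAb F) W
      (fun T hT => subsingleton_sections_of_disjoint_support F T (fun x hx hxs => ?_))
      (n + 1) W le_rfl
    have : x ∈ Z.filter (fun z => z ∈ W) := Finset.mem_filter.mpr ⟨hsupp hxs, hT hx⟩
    rw [hne] at this
    exact absurd this (Finset.notMem_empty x)

open scoped Classical in
/-- A quasi-coherent module supported in a finite set of closed points has no higher cohomology. -/
theorem subsingleton_HH_of_finite_support [NoetherianSpace X] (F : X.Modules)
    [F.IsQuasicoherent] (Z : Finset X) (hZc : ∀ z ∈ Z, IsClosed ({z} : Set X))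
    (hsupp : CohB1.support F ⊆ (Z : Set X)) (n : ℕ) : Subsingleton (Coh.HH X F (n + 1)) := by
  haveI := subsingleton_HU_of_finite_support F Z hZc hsupp _ ⊤ rfl n
  exact subsingleton_H_of_subsingleton_HU_top (Coh.toAb F) (n + 1)

end scheme

section dim

theorem closure_singleton_of_dim_le_zero {T : Type*} [TopologicalSpace T] [T0Space T]
    (hdim : topologicalKrullDim T ≤ 0) (s : T) : closure ({s} : Set T) = {s} := by
  have hmin := Order.krullDim_nonpos_iff_forall_isMin.mp hdim
  apply Set.Subset.antisymm _ subset_closure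
  intro w hw
  let c : IrreducibleCloseds T :=
    ⟨closure {s}, isIrreducible_singleton.closure, isClosed_closure⟩
  let cw : IrreducibleCloseds T :=
    ⟨closure {w}, isIrreducible_singleton.closure, isClosed_closure⟩
  have h1 : cw ≤ c := fun x hx =>
    closure_minimal (Set.singleton_subset_iff.mpr hw) isClosed_closure hx
  have h2 : c ≤ cw := hmin c h1
  have hs : s ∈ closure ({w} : Set T) := h2 (subset_closure rfl)
  have e : Inseparable s w :=
    (specializes_iff_mem_closure.mpr hw).antisymm (specializes_iff_mem_closure.mpr hs)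
  rw [e.eq]
  rfl

theorem finite_of_dim_le_zero {T : Type*} [TopologicalSpace T] [T0Space T] [NoetherianSpace T]
    (hdim : topologicalKrullDim T ≤ 0) : Finite T := by
  have hmax := Order.krullDim_nonpos_iff_forall_isMax.mp hdim
  have hfin : (irreducibleComponents T).Finite := NoetherianSpace.finite_irreducibleComponents
  have key : ∀ s : T, irreducibleComponent s = {s} := by
    intro s
    let c : IrreducibleCloseds T := ⟨{s}, isIrreducible_singleton, by
      rw [← closure_singleton_of_dim_le_zero hdim s]; exact isClosed_closure⟩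
    let d : IrreducibleCloseds T :=
      ⟨irreducibleComponent s, isIrreducible_irreducibleComponent, isClosed_irreducibleComponent⟩
    have h1 : c ≤ d := fun x hx => by
      rw [Set.mem_singleton_iff.mp hx]
      exact mem_irreducibleComponent
    have h2 : d ≤ c := hmax c h1
    exact Set.Subset.antisymm h2 h1
  haveI := hfin.to_subtype
  exact Finite.of_injective
    (fun s : T => (⟨irreducibleComponent s, irreducibleComponent_mem_irreducibleComponents s⟩ :
      irreducibleComponents T))
    (fun s t h => by
      have h1 := congrArg Subtype.val h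
      simp only [key] at h1
      exact Set.singleton_injective h1)

/-- A closed subset of dimension `≤ 0` of a Noetherian scheme is a finite set of closed points. -/
theorem exists_finset_of_dim_le_zero {X : Scheme.{u}} [NoetherianSpace X] (S : Set X)
    (hS : IsClosed S) (hdim : topologicalKrullDim S ≤ 0) :
    ∃ Z : Finset X, (∀ z ∈ Z, IsClosed ({z} : Set X)) ∧ S ⊆ (Z : Set X) := by
  haveI : NoetherianSpace S := NoetherianSpace.set S
  haveI : Finite S := finite_of_dim_le_zero hdim
  have hSf : S.Finite := Set.toFinite S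
  refine ⟨hSf.toFinset, fun z hz => ?_, fun x hx => by simpa using hx⟩
  have hzS : z ∈ S := by simpa using hz
  have h1 : IsClosed ({(⟨z, hzS⟩ : S)} : Set S) := by
    rw [← closure_singleton_of_dim_le_zero hdim (⟨z, hzS⟩ : S)]
    exact isClosed_closure
  have h2 := hS.isClosedEmbedding_subtypeVal.isClosedMap _ h1
  rwa [Set.image_singleton] at h2

end dim

end Groth.Agent.Lib.Helper21.ZeroDimCoh
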